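import Mathlib

set_option autoImplicit false

namespace Cfsg.Agent.Helper45

section Dih
variable {S : Type*} [Group S]

/-- The homomorphism `i ↦ a ^ i` from `ZMod n`, for `a ^ n = 1`. -/
noncomputable def zpowHom (n : ℕ) (a : S) (han : a ^ n = 1) : ZMod n →+ Additive S :=
  ZMod.lift n ⟨zmultiplesHom (Additive S) (Additive.ofMul a), by
    show (n : ℤ) • Additive.ofMul a = 0
    rw [natCast_zsmul, ← ofMul_pow, han, ofMul_one]⟩

theorem zpowHom_intCast (n : ℕ) (a : S) (han : a ^ n = 1) (k : ℤ) :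
    (zpowHom n a han (k : ZMod n)).toMul = a ^ k := by
  rw [zpowHom, ZMod.lift_coe]
  show (k • Additive.ofMul a).toMul = a ^ k
  rw [← ofMul_zpow, toMul_ofMul]

theorem zpowHom_mem (n : ℕ) (a : S) (han : a ^ n = 1) (i : ZMod n) :
    (zpowHom n a han i).toMul ∈ Subgroup.zpowers a := by
  obtain ⟨k, rfl⟩ := ZMod.intCast_surjective i
  rw [zpowHom_intCast]
  exact Subgroup.zpow_mem_zpowers a k

theorem zpowHom_eq_one (a : S) (i : ZMod (orderOf a))
    (h : (zpowHom (orderOf a) a (pow_orderOf_eq_one a) i).toMul = 1) : i = 0 := by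
  obtain ⟨k, rfl⟩ := ZMod.intCast_surjective i
  rw [zpowHom_intCast, ← orderOf_dvd_iff_zpow_eq_one] at h
  exact (ZMod.intCast_zmod_eq_zero_iff_dvd k (orderOf a)).mpr h

theorem zpowHom_add (n : ℕ) (a : S) (han : a ^ n = 1) (i j : ZMod n) :
    (zpowHom n a han (i + j)).toMul = (zpowHom n a han i).toMul * (zpowHom n a han j).toMul := by
  rw [map_add, toMul_add]

theorem zpowHom_sub (n : ℕ) (a : S) (han : a ^ n = 1) (i j : ZMod n) :
    (zpowHom n a han (j - i)).toMul = ((zpowHom n a han i).toMul)⁻¹ * (zpowHom n a han j).toMul := by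
  rw [sub_eq_neg_add, map_add, toMul_add, map_neg, toMul_neg]

theorem zpowHom_conj (n : ℕ) (a x : S) (han : a ^ n = 1) (hrel : x * a * x⁻¹ = a⁻¹) (i : ZMod n) :
    x * (zpowHom n a han i).toMul = ((zpowHom n a han i).toMul)⁻¹ * x := by
  obtain ⟨k, rfl⟩ := ZMod.intCast_surjective i
  rw [zpowHom_intCast]
  have : x * a ^ k * x⁻¹ = (a ^ k)⁻¹ := by
    rw [← conj_zpow, hrel, inv_zpow]
  rw [← this]; group

theorem zpowHom_conj' (n : ℕ) (a x : S) (han : a ^ n = 1) (hrel : x * a * x⁻¹ = a⁻¹) (i : ZMod n) :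
    (zpowHom n a han i).toMul * x = x * ((zpowHom n a han i).toMul)⁻¹ := by
  have h := zpowHom_conj n a x han hrel i
  rw [eq_mul_inv_iff_mul_eq, mul_assoc, h, mul_inv_cancel_left]

/-- The homomorphism from the dihedral group determined by `a` and an involution `x` inverting
it. -/
noncomputable def dihHom (n : ℕ) (a x : S) (han : a ^ n = 1) (hx2 : x * x = 1)
    (hrel : x * a * x⁻¹ = a⁻¹) : DihedralGroup n →* S where
  toFun
    | .r i => (zpowHom n a han i).toMul
    | .sr i => x * (zpowHom n a han i).toMul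
  map_one' := by
    show (zpowHom n a han 0).toMul = 1
    rw [map_zero, toMul_zero]
  map_mul' := by
    rintro (i | i) (j | j)
    · show (zpowHom n a han (i + j)).toMul = _
      rw [zpowHom_add]
    · show x * (zpowHom n a han (j - i)).toMul = (zpowHom n a han i).toMul * (x * (zpowHom n a han j).toMul)
      rw [zpowHom_sub, ← mul_assoc, ← mul_assoc, zpowHom_conj' n a x han hrel i]
    · show x * (zpowHom n a han (i + j)).toMul = x * (zpowHom n a han i).toMul * (zpowHom n a han j).toMul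
      rw [zpowHom_add, mul_assoc]
    · show (zpowHom n a han (j - i)).toMul = x * (zpowHom n a han i).toMul * (x * (zpowHom n a han j).toMul)
      rw [zpowHom_sub, zpowHom_conj n a x han hrel i, mul_assoc, ← mul_assoc x x, hx2, one_mul]

/-- Recognition of dihedral groups: a cyclic subgroup `⟨a⟩` of order `n`, an involution `x ∉ ⟨a⟩`
inverting `a`, with `S = ⟨a⟩ ∪ x⟨a⟩`. -/
theorem nonempty_mulEquiv_dihedral (n : ℕ) (a x : S) (hn : orderOf a = n) (hx2 : x * x = 1)
    (hrel : x * a * x⁻¹ = a⁻¹) (hxa : x ∉ Subgroup.zpowers a)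
    (hgen : ∀ g : S, g ∈ Subgroup.zpowers a ∨ x * g ∈ Subgroup.zpowers a) :
    Nonempty (S ≃* DihedralGroup n) := by
  subst hn
  set f := dihHom (orderOf a) a x (pow_orderOf_eq_one a) hx2 hrel with hf
  have hinj : Function.Injective f := by
    rw [injective_iff_map_eq_one]
    rintro (i | i) hy
    · have hy' : (zpowHom (orderOf a) a (pow_orderOf_eq_one a) i).toMul = 1 := hy
      rw [zpowHom_eq_one a i hy']; rfl
    · exfalso
      have hy' : x * (zpowHom (orderOf a) a (pow_orderOf_eq_one a) i).toMul = 1 := hy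
      apply hxa
      rw [eq_inv_of_mul_eq_one_left hy']
      exact Subgroup.inv_mem _ (zpowHom_mem _ _ _ _)
  have hsurj : Function.Surjective f := by
    intro g
    rcases hgen g with h | h
    · obtain ⟨k, rfl⟩ := Subgroup.mem_zpowers_iff.1 h
      exact ⟨.r (k : ZMod (orderOf a)), zpowHom_intCast _ _ _ k⟩
    · obtain ⟨k, hk⟩ := Subgroup.mem_zpowers_iff.1 h
      refine ⟨.sr (k : ZMod (orderOf a)), ?_⟩
      show x * (zpowHom (orderOf a) a (pow_orderOf_eq_one a) (k : ZMod (orderOf a))).toMul = g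
      rw [zpowHom_intCast, hk, ← mul_assoc, hx2, one_mul]
  exact ⟨(MulEquiv.ofBijective f ⟨hinj, hsurj⟩).symm⟩

end Dih

end Cfsg.Agent.Helper45
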