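import Mathlib
import Cfsg.Prelude.Def_LieClassical

set_option autoImplicit false
open Matrix

namespace Cfsg.Agent.Helper45.GU

section Alg
variable {F : Type*} [Field F] {ι : Type*} [Fintype ι] [DecidableEq ι] (bar : F →+* F)

/-- the sesquilinear form -/
def herm (u v : ι → F) : F := ∑ i, u i * bar (v i)

theorem herm_eq (u v : ι → F) : herm bar u v = u ⬝ᵥ (bar ∘ v) := rfl

theorem herm_mulVec (g : Matrix ι ι F) (u v : ι → F) :
    herm bar (g *ᵥ u) (g *ᵥ v) = u ⬝ᵥ ((gᵀ * g.map bar) *ᵥ (bar ∘ v)) := by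
  rw [herm_eq]
  have : bar ∘ (g *ᵥ v) = g.map bar *ᵥ (bar ∘ v) := by
    ext i
    show bar ((g *ᵥ v) i) = _
    exact RingHom.map_mulVec bar g v i
  rw [this]
  conv_rhs => rw [← mulVec_mulVec, dotProduct_mulVec, vecMul_transpose]

theorem unitary_of_herm (g : Matrix ι ι F)
    (hg : ∀ u v, herm bar (g *ᵥ u) (g *ᵥ v) = herm bar u v) : gᵀ * g.map bar = 1 := by
  ext i j
  have h := hg (Pi.single i 1) (Pi.single j 1)
  rw [herm_mulVec, herm_eq] at h
  have e : bar ∘ (Pi.single j 1 : ι → F) = Pi.single j 1 := by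
    ext k
    by_cases hk : k = j
    · subst hk; simp
    · simp [hk]
  rw [e, mulVec_single_one, single_one_dotProduct, single_one_dotProduct] at h
  rw [one_apply]
  simpa [Pi.single_apply, eq_comm] using h

theorem det_mul_bar_det (g : Matrix ι ι F)
    (hg : ∀ u v, herm bar (g *ᵥ u) (g *ᵥ v) = herm bar u v) : g.det * bar g.det = 1 := by
  have h := congrArg det (unitary_of_herm bar g hg)
  rw [det_mul, det_transpose, det_one] at h
  rw [RingHom.map_det]
  exact h

end Alg

section Frob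
variable {F : Type*} [Field F] [Fintype F]

/-- the `q`-power map is a ring hom when `|F| = q ^ 2` -/
theorem exists_bar {q : ℕ} (hF : Fintype.card F = q ^ 2) : ∃ bar : F →+* F, ∀ x, bar x = x ^ q := by
  obtain ⟨p, hchar, k, hp, hk⟩ := FiniteField.card' F
  have : Fact p.Prime := ⟨hp⟩
  have hq : q ∣ p ^ (k : ℕ) := by
    rw [← hk, hF]
    exact dvd_pow_self q two_ne_zero
  obtain ⟨m, -, rfl⟩ := (Nat.dvd_prime_pow hp).1 hq
  exact ⟨iterateFrobenius F p m, fun x => rfl⟩

end Frob


section Grp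
variable {F : Type*} [Field F] {q : ℕ} (n : ℕ) (bar : F →+* F) (hbar : ∀ x, bar x = x ^ q)

include hbar in
theorem hermForm_eq (u v : Fin n → F) : Cfsg.hermForm n F q u v = herm bar u v := by
  simp only [Cfsg.hermForm, herm, hbar]

include hbar in
theorem mem_GU_iff (g : GL (Fin n) F) :
    g ∈ Cfsg.GU n F q ↔ ∀ u v, herm bar ((g : Matrix (Fin n) (Fin n) F) *ᵥ u)
      ((g : Matrix (Fin n) (Fin n) F) *ᵥ v) = herm bar u v := by
  simp only [← hermForm_eq n bar hbar]
  exact Iff.rfl

/-- the norm-one subgroup -/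
def U1 (F : Type*) [Field F] (q : ℕ) : Subgroup Fˣ := (powMonoidHom (q + 1) : Fˣ →* Fˣ).ker

include hbar in
theorem mem_U1_iff (u : Fˣ) : u ∈ U1 F q ↔ (u : F) * bar u = 1 := by
  rw [U1, MonoidHom.mem_ker, powMonoidHom_apply, hbar, ← pow_succ', Units.ext_iff]
  simp

/-- diagonal matrices in `GL` -/
def dgGL (d : Fin n → Fˣ) : GL (Fin n) F :=
  ⟨diagonal (fun i => (d i : F)), diagonal (fun i => ((d i)⁻¹ : Fˣ)), by
    rw [diagonal_mul_diagonal]
    simp, by
    rw [diagonal_mul_diagonal]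
    simp⟩

theorem dgGL_coe (d : Fin n → Fˣ) :
    ((dgGL n d : GL (Fin n) F) : Matrix (Fin n) (Fin n) F) = diagonal (fun i => (d i : F)) := rfl

include hbar in
theorem dgGL_mem (d : Fin n → Fˣ) (hd : ∀ i, d i ∈ U1 F q) : dgGL n d ∈ Cfsg.GU n F q := by
  rw [mem_GU_iff n bar hbar]
  intro u v
  rw [dgGL_coe]
  simp only [herm, mulVec_diagonal, map_mul]
  apply Finset.sum_congr rfl
  intro i _
  have := (mem_U1_iff bar hbar (d i)).1 (hd i)
  linear_combination (u i * bar (v i)) * this

theorem det_dgGL (d : Fin n → Fˣ) : Matrix.GeneralLinearGroup.det (dgGL n d) = ∏ i, d i := by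
  apply Units.ext
  rw [Matrix.GeneralLinearGroup.val_det_apply, dgGL_coe, det_diagonal]
  simp

/-- permutation matrices in `GL` -/
def pmGL (σ : Equiv.Perm (Fin n)) : GL (Fin n) F :=
  ⟨σ.permMatrix F, (σ⁻¹).permMatrix F, by
    rw [← permMatrix_mul, inv_mul_cancel, permMatrix_one], by
    rw [← permMatrix_mul, mul_inv_cancel, permMatrix_one]⟩

theorem pmGL_coe (σ : Equiv.Perm (Fin n)) :
    ((pmGL n σ : GL (Fin n) F) : Matrix (Fin n) (Fin n) F) = σ.permMatrix F := rfl

include hbar in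
theorem pmGL_mem (σ : Equiv.Perm (Fin n)) : (pmGL n σ : GL (Fin n) F) ∈ Cfsg.GU n F q := by
  rw [mem_GU_iff n bar hbar]
  intro u v
  rw [pmGL_coe, permMatrix_mulVec, permMatrix_mulVec]
  simp only [herm, Function.comp]
  exact Equiv.sum_comp σ (fun i => u i * bar (v i))

end Grp


section Center
variable {F : Type*} [Field F] {q : ℕ} (n : ℕ) (bar : F →+* F) (hbar : ∀ x, bar x = x ^ q)

include hbar in
theorem center_scalar (hn : 1 ≤ n) (u : Fˣ) (hu : u ∈ U1 F q) (hu1 : u ≠ 1)
    (z : Cfsg.GU n F q) (hz : z ∈ Subgroup.center (Cfsg.GU n F q)) :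
    ∃ l : Fˣ, l ∈ U1 F q ∧
      ((z : GL (Fin n) F) : Matrix (Fin n) (Fin n) F) = diagonal (fun _ => (l : F)) := by
  rw [Subgroup.mem_center_iff] at hz
  set Z := ((z : GL (Fin n) F) : Matrix (Fin n) (Fin n) F) with hZ
  -- off-diagonal entries vanish
  have hoff : ∀ i j, j ≠ i → Z j i = 0 := by
    intro i j hji
    let d : Fin n → Fˣ := Function.update (fun _ => 1) i u
    have hd : ∀ k, d k ∈ U1 F q := by
      intro k
      by_cases hk : k = i
      · subst hk; simp [d, hu]
      · simp [d, hk]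
    have h := hz ⟨dgGL n d, dgGL_mem n bar hbar d hd⟩
    have h' : diagonal (fun k => (d k : F)) * Z = Z * diagonal (fun k => (d k : F)) := by
      have := congrArg (fun x : Cfsg.GU n F q => ((x : GL (Fin n) F) : Matrix (Fin n) (Fin n) F)) h
      exact this
    have h2 := congrFun (congrFun h' j) i
    rw [diagonal_mul, mul_diagonal] at h2
    simp only [d, Function.update_of_ne hji, Function.update_self, Units.val_one, one_mul] at h2
    have hu' : (u : F) - 1 ≠ 0 := by
      intro h0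
      apply hu1
      exact Units.ext (sub_eq_zero.1 h0)
    have : Z j i * ((u : F) - 1) = 0 := by linear_combination -h2
    exact (mul_eq_zero.1 this).resolve_right hu'
  -- diagonal entries agree
  have hdiag : ∀ i j, Z i i = Z j j := by
    intro i j
    have h := hz ⟨pmGL n (Equiv.swap i j), pmGL_mem n bar hbar _⟩
    have h' : (Equiv.swap i j).permMatrix F * Z = Z * (Equiv.swap i j).permMatrix F := by
      have := congrArg (fun x : Cfsg.GU n F q => ((x : GL (Fin n) F) : Matrix (Fin n) (Fin n) F)) h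
      exact this
    rw [PEquiv.toMatrix_toPEquiv_mul, PEquiv.mul_toMatrix_toPEquiv] at h'
    have h2 := congrFun (congrFun h' i) j
    simp at h2
    exact h2.symm
  let i₀ : Fin n := ⟨0, by omega⟩
  have hZd : Z = diagonal (fun _ => Z i₀ i₀) := by
    ext a b
    by_cases hab : a = b
    · subst hab
      rw [diagonal_apply_eq]
      exact hdiag a i₀
    · rw [diagonal_apply_ne _ hab]
      exact hoff b a hab
  have hnorm : Z i₀ i₀ * bar (Z i₀ i₀) = 1 := by
    have h := (mem_GU_iff n bar hbar z.1).1 z.2 (Pi.single i₀ 1) (Pi.single i₀ 1)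
    rw [← hZ, hZd] at h
    simp only [herm, mulVec_diagonal] at h
    simpa [Pi.single_apply] using h
  have hne : Z i₀ i₀ ≠ 0 := by
    intro h0
    rw [h0, zero_mul] at hnorm
    exact zero_ne_one hnorm
  refine ⟨Units.mk0 _ hne, ?_, ?_⟩
  · rw [mem_U1_iff bar hbar]
    exact hnorm
  · exact hZd

end Center


end Cfsg.Agent.Helper45.GU
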