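import Mathlib
import Cfsg.Prelude.Def_LieClassical
import Cfsg.Agent.Helper45.GUBasic
import Cfsg.Agent.S0751
import Cfsg.Agent.S0284

set_option autoImplicit false
open Matrix

namespace Cfsg.Agent.Helper45.GU

section Witt
variable {F : Type*} [Field F] (n : ℕ) (bar : F →+* F)

/-- the form as a sesquilinear map (semilinear in the first variable) -/
def Bform : (Fin n → F) →ₛₗ[bar] (Fin n → F) →ₗ[F] F :=
  LinearMap.mk₂'ₛₗ bar (RingHom.id F) (fun x y => herm bar y x)
    (by
      intro x x' y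
      simp only [herm, Pi.add_apply, map_add, mul_add, Finset.sum_add_distrib])
    (by
      intro c x y
      simp only [herm, Pi.smul_apply, smul_eq_mul, map_mul, Finset.mul_sum]
      apply Finset.sum_congr rfl
      intro i _
      ring)
    (by
      intro x y y'
      simp only [herm, Pi.add_apply, add_mul, Finset.sum_add_distrib])
    (by
      intro c x y
      simp only [herm, Pi.smul_apply, smul_eq_mul, RingHom.id_apply, Finset.mul_sum]
      apply Finset.sum_congr rfl
      intro i _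
      ring)

theorem Bform_apply (x y : Fin n → F) : Bform n bar x y = herm bar y x := rfl

theorem Bform_isSymm (hinv : ∀ a, bar (bar a) = a) : (Bform n bar).IsSymm := by
  constructor
  intro x y
  simp only [Bform_apply, herm, map_sum, map_mul, hinv]
  apply Finset.sum_congr rfl
  intro i _
  ring

theorem Bform_nondegenerate : (Bform n bar).Nondegenerate := by
  constructor
  · intro x hx
    ext i
    have h := hx (Pi.single i 1)
    simp only [Bform_apply, herm, Pi.single_apply] at h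
    simpa using h
  · intro y hy
    ext i
    have h := hy (Pi.single i 1)
    simp only [Bform_apply, herm, Pi.single_apply] at h
    simpa using h

theorem herm_smul_smul (c c' : F) (x y : Fin n → F) :
    herm bar (c • x) (c' • y) = c * bar c' * herm bar x y := by
  simp only [herm, Pi.smul_apply, smul_eq_mul, map_mul, Finset.mul_sum]
  apply Finset.sum_congr rfl
  intro i _
  ring

theorem exists_unitary_map [Finite F] (hne : bar ≠ RingHom.id F) (hinv : ∀ a, bar (bar a) = a)
    (v w : Fin n → F) (hv : herm bar v v = 1) (hw : herm bar w w = 1) :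
    ∃ g : (Fin n → F) ≃ₗ[F] (Fin n → F), (∀ x y, herm bar (g x) (g y) = herm bar x y) ∧ g v = w := by
  have hv0 : v ≠ 0 := by
    rintro rfl
    simp [herm] at hv
  have hw0 : w ≠ 0 := by
    rintro rfl
    simp [herm] at hw
  let φ : (F ∙ v) ≃ₗ[F] (F ∙ w) :=
    (LinearEquiv.toSpanNonzeroSingleton F _ v hv0).symm.trans
      (LinearEquiv.toSpanNonzeroSingleton F _ w hw0)
  have hφ : ∀ c : F, ((φ (LinearEquiv.toSpanNonzeroSingleton F _ v hv0 c) : F ∙ w) : Fin n → F)
      = c • w := by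
    intro c
    show ((LinearEquiv.toSpanNonzeroSingleton F _ w hw0)
      ((LinearEquiv.toSpanNonzeroSingleton F _ v hv0).symm
        (LinearEquiv.toSpanNonzeroSingleton F _ v hv0 c)) : Fin n → F) = c • w
    rw [LinearEquiv.symm_apply_apply, LinearEquiv.toSpanNonzeroSingleton_apply]
  obtain ⟨g, hg1, hg2⟩ := Cfsg.Agent.S0751.result bar hne hinv (Bform n bar)
    (Bform_isSymm n bar hinv) (Bform_nondegenerate n bar) (F ∙ v) (F ∙ w) φ (by
      intro x x'
      obtain ⟨c, rfl⟩ := (LinearEquiv.toSpanNonzeroSingleton F _ v hv0).surjective x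
      obtain ⟨c', rfl⟩ := (LinearEquiv.toSpanNonzeroSingleton F _ v hv0).surjective x'
      rw [hφ, hφ, Bform_apply, Bform_apply]
      simp only [LinearEquiv.toSpanNonzeroSingleton_apply]
      rw [herm_smul_smul, herm_smul_smul, hv, hw])
  refine ⟨g, fun x y => ?_, ?_⟩
  · have := hg1 y x
    rw [Bform_apply, Bform_apply] at this
    exact this
  · have := hg2 (LinearEquiv.toSpanNonzeroSingleton F _ v hv0 1)
    rw [hφ] at this
    simpa using this

end Witt

section Ext
variable {F : Type*} [Field F] {m : ℕ} (bar : F →+* F)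

/-- extend a matrix by a `1` in the top-left corner -/
def ext1 (A : Matrix (Fin m) (Fin m) F) : Matrix (Fin (m + 1)) (Fin (m + 1)) F :=
  Matrix.of (fun i j => Fin.cases (Fin.cases 1 (fun _ => 0) j) (fun i' => Fin.cases 0 (fun j' => A i' j') j) i)

@[simp] theorem ext1_zero_zero (A : Matrix (Fin m) (Fin m) F) : ext1 A 0 0 = 1 := rfl
@[simp] theorem ext1_zero_succ (A : Matrix (Fin m) (Fin m) F) (j : Fin m) : ext1 A 0 j.succ = 0 := rfl
@[simp] theorem ext1_succ_zero (A : Matrix (Fin m) (Fin m) F) (i : Fin m) : ext1 A i.succ 0 = 0 := rfl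
@[simp] theorem ext1_succ_succ (A : Matrix (Fin m) (Fin m) F) (i j : Fin m) :
    ext1 A i.succ j.succ = A i j := rfl

theorem ext1_mul (A B : Matrix (Fin m) (Fin m) F) : ext1 (A * B) = ext1 A * ext1 B := by
  ext i j
  refine Fin.cases ?_ (fun i' => ?_) i <;> refine Fin.cases ?_ (fun j' => ?_) j <;>
    simp [Matrix.mul_apply, Fin.sum_univ_succ]

theorem ext1_one : ext1 (1 : Matrix (Fin m) (Fin m) F) = 1 := by
  ext i j
  refine Fin.cases ?_ (fun i' => ?_) i <;> refine Fin.cases ?_ (fun j' => ?_) j <;>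
    simp [Matrix.one_apply, Fin.succ_ne_zero, (Fin.succ_ne_zero _).symm]

theorem ext1_mulVec_zero (A : Matrix (Fin m) (Fin m) F) (v : Fin (m + 1) → F) :
    (ext1 A *ᵥ v) 0 = v 0 := by
  simp [mulVec, dotProduct, Fin.sum_univ_succ]

theorem ext1_mulVec_succ (A : Matrix (Fin m) (Fin m) F) (v : Fin (m + 1) → F) (i : Fin m) :
    (ext1 A *ᵥ v) i.succ = (A *ᵥ (fun j : Fin m => v j.succ)) i := by
  simp [mulVec, dotProduct, Fin.sum_univ_succ]

theorem herm_succ (u v : Fin (m + 1) → F) :
    herm bar u v = u 0 * bar (v 0) + herm bar (fun j : Fin m => u j.succ) (fun j : Fin m => v j.succ) := by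
  simp [herm, Fin.sum_univ_succ]

theorem herm_ext1 (A : Matrix (Fin m) (Fin m) F)
    (hA : ∀ u v, herm bar (A *ᵥ u) (A *ᵥ v) = herm bar u v) (u v : Fin (m + 1) → F) :
    herm bar (ext1 A *ᵥ u) (ext1 A *ᵥ v) = herm bar u v := by
  rw [herm_succ, herm_succ bar u v, ext1_mulVec_zero, ext1_mulVec_zero]
  congr 1
  have e : ∀ w : Fin (m + 1) → F,
      (fun j : Fin m => (ext1 A *ᵥ w) j.succ) = A *ᵥ (fun j : Fin m => w j.succ) := by
    intro w
    ext i
    exact ext1_mulVec_succ A w i
  rw [e, e, hA]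

theorem eq_ext1 (M : Matrix (Fin (m + 1)) (Fin (m + 1)) F)
    (hM : ∀ u v, herm bar (M *ᵥ u) (M *ᵥ v) = herm bar u v)
    (h0 : M *ᵥ Pi.single 0 1 = Pi.single 0 1) :
    M = ext1 (M.submatrix Fin.succ Fin.succ) ∧
      ∀ u v : Fin m → F, herm bar (M.submatrix Fin.succ Fin.succ *ᵥ u) (M.submatrix Fin.succ Fin.succ *ᵥ v)
        = herm bar u v := by
  have hcol : ∀ i, M i 0 = (Pi.single 0 1 : Fin (m + 1) → F) i := by
    intro i
    have := congrFun h0 i
    rw [mulVec_single_one] at this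
    exact this
  have hrow : ∀ j : Fin m, M 0 j.succ = 0 := by
    intro j
    have h := hM (Pi.single 0 1) (Pi.single j.succ 1)
    rw [h0, mulVec_single_one] at h
    simp only [herm, Pi.single_apply] at h
    simp at h
    exact h
  have hM' : M = ext1 (M.submatrix Fin.succ Fin.succ) := by
    ext i j
    refine Fin.cases ?_ (fun i' => ?_) i <;> refine Fin.cases ?_ (fun j' => ?_) j
    · rw [hcol]; simp
    · rw [hrow]; simp
    · rw [hcol]; simp
    · simp
  refine ⟨hM', ?_⟩
  intro u v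
  have h := hM (Fin.cons 0 u) (Fin.cons 0 v)
  rw [hM', herm_succ, herm_succ bar (Fin.cons 0 u)] at h
  simp only [ext1_mulVec_zero, ext1_mulVec_succ, Fin.cons_zero, Fin.cons_succ, zero_mul, zero_add] at h
  exact h

end Ext

section Count
variable {F : Type*} [Field F] {q : ℕ} (bar : F →+* F) (hbar : ∀ x, bar x = x ^ q)

theorem ext1_injective {m : ℕ} : Function.Injective (ext1 (F := F) (m := m)) := by
  intro A B h
  ext i j
  have := congrFun (congrFun h i.succ) j.succ
  simpa using this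

/-- `GL_m → GL_{m+1}` -/
def extGL {m : ℕ} (g : GL (Fin m) F) : GL (Fin (m + 1)) F :=
  ⟨ext1 g.1, ext1 (g⁻¹).1, by rw [← ext1_mul, Units.mul_inv, ext1_one],
    by rw [← ext1_mul, Units.inv_mul, ext1_one]⟩

theorem extGL_coe {m : ℕ} (g : GL (Fin m) F) :
    ((extGL g : GL (Fin (m + 1)) F) : Matrix (Fin (m + 1)) (Fin (m + 1)) F) = ext1 g.1 := rfl

/-- a linear equivalence as an element of `GL` -/
def glOfEquiv {n : ℕ} (g : (Fin n → F) ≃ₗ[F] (Fin n → F)) : GL (Fin n) F :=
  ⟨LinearMap.toMatrix' g.toLinearMap, LinearMap.toMatrix' g.symm.toLinearMap, by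
    rw [← LinearMap.toMatrix'_comp, LinearEquiv.comp_coe, LinearEquiv.symm_trans_self,
      LinearEquiv.refl_toLinearMap, LinearMap.toMatrix'_id], by
    rw [← LinearMap.toMatrix'_comp, LinearEquiv.comp_coe, LinearEquiv.self_trans_symm,
      LinearEquiv.refl_toLinearMap, LinearMap.toMatrix'_id]⟩

theorem glOfEquiv_mulVec {n : ℕ} (g : (Fin n → F) ≃ₗ[F] (Fin n → F)) (v : Fin n → F) :
    ((glOfEquiv g : GL (Fin n) F) : Matrix (Fin n) (Fin n) F) *ᵥ v = g v := by
  show LinearMap.toMatrix' g.toLinearMap *ᵥ v = g v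
  rw [LinearMap.toMatrix'_mulVec]
  rfl

theorem smul_def' {n : ℕ} (g : Cfsg.GU n F q) (v : Fin n → F) :
    g • v = ((g : GL (Fin n) F) : Matrix (Fin n) (Fin n) F) *ᵥ v := rfl

include hbar in
theorem orbit_eq [Finite F] (hne : bar ≠ RingHom.id F) (hinv : ∀ a, bar (bar a) = a) (m : ℕ)
    (v : Fin (m + 1) → F) :
    v ∈ MulAction.orbit (Cfsg.GU (m + 1) F q) (Pi.single 0 1 : Fin (m + 1) → F) ↔
      Cfsg.hermForm (m + 1) F q v v = 1 := by
  have he : herm bar (Pi.single 0 1 : Fin (m + 1) → F) (Pi.single 0 1) = 1 := by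
    simp [herm, Pi.single_apply]
  rw [hermForm_eq (m + 1) bar hbar]
  constructor
  · rintro ⟨g, rfl⟩
    show herm bar (g • (Pi.single 0 1 : Fin (m + 1) → F)) (g • (Pi.single 0 1 : Fin (m + 1) → F)) = 1
    rw [smul_def', (mem_GU_iff (m + 1) bar hbar g.1).1 g.2, he]
  · intro hv
    obtain ⟨g, hg1, hg2⟩ := exists_unitary_map (m + 1) bar hne hinv _ v he hv
    refine ⟨⟨glOfEquiv g, ?_⟩, ?_⟩
    · rw [mem_GU_iff (m + 1) bar hbar]
      intro x y
      rw [glOfEquiv_mulVec, glOfEquiv_mulVec, hg1]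
    · show ((glOfEquiv g : GL (Fin (m + 1)) F) : Matrix (Fin (m + 1)) (Fin (m + 1)) F) *ᵥ _ = v
      rw [glOfEquiv_mulVec, hg2]

theorem ext1_mulVec_single {m : ℕ} (A : Matrix (Fin m) (Fin m) F) :
    ext1 A *ᵥ (Pi.single 0 1 : Fin (m + 1) → F) = Pi.single 0 1 := by
  ext i
  refine Fin.cases ?_ (fun i' => ?_) i
  · rw [ext1_mulVec_zero]
  · rw [ext1_mulVec_succ]
    have : (fun j : Fin m => (Pi.single 0 1 : Fin (m + 1) → F) j.succ) = 0 := by
      ext j
      simp [Fin.succ_ne_zero]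
    rw [this, mulVec_zero]
    simp [Fin.succ_ne_zero]

include hbar in
theorem card_stabilizer (m : ℕ) :
    Nat.card (MulAction.stabilizer (Cfsg.GU (m + 1) F q) (Pi.single 0 1 : Fin (m + 1) → F))
      = Nat.card (Cfsg.GU m F q) := by
  symm
  apply Nat.card_congr
  refine Equiv.ofBijective (fun A => ⟨⟨extGL A.1, ?_⟩, ?_⟩) ⟨?_, ?_⟩
  · rw [mem_GU_iff (m + 1) bar hbar]
    intro u v
    rw [extGL_coe]
    exact herm_ext1 bar _ ((mem_GU_iff m bar hbar A.1).1 A.2) u v
  · rw [MulAction.mem_stabilizer_iff, smul_def']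
    exact ext1_mulVec_single _
  · intro A B h
    have h1 : ext1 (A.1 : Matrix (Fin m) (Fin m) F) = ext1 (B.1 : Matrix (Fin m) (Fin m) F) := by
      have := congrArg (fun x : MulAction.stabilizer (Cfsg.GU (m + 1) F q)
        (Pi.single 0 1 : Fin (m + 1) → F) =>
        (((x : Cfsg.GU (m + 1) F q) : GL (Fin (m + 1)) F) : Matrix (Fin (m + 1)) (Fin (m + 1)) F)) h
      exact this
    exact Subtype.ext (Units.ext (ext1_injective h1))
  · rintro ⟨g, hg⟩
    rw [MulAction.mem_stabilizer_iff, smul_def'] at hg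
    have hg' : ((g⁻¹ : Cfsg.GU (m + 1) F q) : GL (Fin (m + 1)) F).1 *ᵥ (Pi.single 0 1 : Fin (m + 1) → F)
        = Pi.single 0 1 := by
      have : (g⁻¹ : Cfsg.GU (m + 1) F q) • (Pi.single 0 1 : Fin (m + 1) → F) = Pi.single 0 1 := by
        rw [inv_smul_eq_iff]
        exact hg.symm
      exact this
    obtain ⟨h1, h2⟩ := eq_ext1 bar _ ((mem_GU_iff (m + 1) bar hbar g.1).1 g.2) hg
    obtain ⟨h1', h2'⟩ := eq_ext1 bar _ ((mem_GU_iff (m + 1) bar hbar (g⁻¹).1).1 (g⁻¹).2) hg'
    set M := ((g : GL (Fin (m + 1)) F) : Matrix (Fin (m + 1)) (Fin (m + 1)) F) with hM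
    set M' := (((g⁻¹ : Cfsg.GU (m + 1) F q) : GL (Fin (m + 1)) F) : Matrix (Fin (m + 1)) (Fin (m + 1)) F)
      with hM'
    have e1 : M * M' = 1 := by
      rw [hM, hM', ← Units.val_mul, ← Subgroup.coe_mul, mul_inv_cancel]
      rfl
    have e2 : M' * M = 1 := by
      rw [hM, hM', ← Units.val_mul, ← Subgroup.coe_mul, inv_mul_cancel]
      rfl
    have e3 : M.submatrix Fin.succ Fin.succ * M'.submatrix Fin.succ Fin.succ = 1 := by
      apply ext1_injective
      rw [ext1_mul, ← h1, ← h1', e1, ext1_one]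
    have e4 : M'.submatrix Fin.succ Fin.succ * M.submatrix Fin.succ Fin.succ = 1 := by
      apply ext1_injective
      rw [ext1_mul, ← h1, ← h1', e2, ext1_one]
    let A : GL (Fin m) F := ⟨M.submatrix Fin.succ Fin.succ, M'.submatrix Fin.succ Fin.succ, e3, e4⟩
    have hA : A ∈ Cfsg.GU m F q := by
      rw [mem_GU_iff m bar hbar]
      exact h2
    refine ⟨⟨A, hA⟩, ?_⟩
    apply Subtype.ext
    apply Subtype.ext
    apply Units.ext
    show ext1 (M.submatrix Fin.succ Fin.succ) = M
    exact h1.symm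

include hbar in
theorem card_GU_succ [Finite F] (hne : bar ≠ RingHom.id F) (hinv : ∀ a, bar (bar a) = a) (m : ℕ) :
    Nat.card (Cfsg.GU (m + 1) F q) =
      Nat.card {v : Fin (m + 1) → F // Cfsg.hermForm (m + 1) F q v v = 1} * Nat.card (Cfsg.GU m F q) := by
  rw [← card_stabilizer bar hbar m]
  have e := MulAction.orbitProdStabilizerEquivGroup (Cfsg.GU (m + 1) F q)
    (Pi.single 0 1 : Fin (m + 1) → F)
  rw [← Nat.card_congr e, Nat.card_prod]
  congr 1
  exact Nat.card_congr (Equiv.subtypeEquivRight (orbit_eq bar hbar hne hinv m))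

theorem card_GU_zero : Nat.card (Cfsg.GU 0 F q) = 1 := by
  rw [Nat.card_eq_one_iff_unique]
  refine ⟨⟨fun a b => ?_⟩, ⟨1⟩⟩
  apply Subtype.ext
  apply Units.ext
  ext i
  exact i.elim0

end Count

section Final
variable {F : Type*} [Field F] [Fintype F] {q : ℕ}

theorem bar_ne_id (hF : Fintype.card F = q ^ 2) (bar : F →+* F) (hbar : ∀ x, bar x = x ^ q) :
    bar ≠ RingHom.id F := by
  classical
  intro h
  have hq : 2 ≤ q := by
    have := Fintype.one_lt_card (α := F)
    rw [hF] at this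
    nlinarith
  obtain ⟨ω, hω⟩ := IsCyclic.exists_generator (α := Fˣ)
  have h1 : (ω : F) ^ q = ω := by
    rw [← hbar, h]
    rfl
  have h2 : ω ^ (q - 1) = 1 := by
    apply Units.ext
    rw [Units.val_pow_eq_pow_val, Units.val_one]
    have h3 : (ω : F) ^ (q - 1) * ω = 1 * ω := by
      rw [← pow_succ, Nat.sub_add_cancel (by omega), h1, one_mul]
    exact mul_right_cancel₀ ω.ne_zero h3
  have h4 := orderOf_dvd_of_pow_eq_one h2
  rw [orderOf_eq_card_of_forall_mem_zpowers hω, Nat.card_eq_fintype_card, Fintype.card_units, hF] at h4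
  have h5 := Nat.le_of_dvd (by omega) h4
  have : q ^ 2 ≥ 2 * q := by nlinarith
  omega

theorem exp_step (m : ℕ) : (m + 1) * (m + 1 - 1) / 2 = m * (m - 1) / 2 + m := by
  rw [Nat.add_sub_cancel]
  cases m with
  | zero => simp
  | succ j =>
    rw [Nat.add_sub_cancel]
    have h : (j + 1 + 1) * (j + 1) = (j + 1) * j + 2 * (j + 1) := by ring
    rw [h, Nat.add_mul_div_left _ _ (by norm_num : 0 < 2)]

end Final

theorem card_GU {F : Type*} [Field F] [Fintype F] {q : ℕ} (hF : Fintype.card F = q ^ 2) (n : ℕ) : Nat.card (Cfsg.GU n F q) = q ^ (n * (n - 1) / 2) * ∏ i ∈ Finset.range n, (if Even i then q ^ (i + 1) + 1 else q ^ (i + 1) - 1) := by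
  obtain ⟨bar, hbar⟩ := exists_bar hF
  have hinv : ∀ a, bar (bar a) = a := by
    intro a
    rw [hbar, hbar, ← pow_mul, ← sq, ← hF, FiniteField.pow_card]
  have hne := bar_ne_id hF bar hbar
  induction n with
  | zero =>
    rw [card_GU_zero]
    simp
  | succ m ih =>
    rw [card_GU_succ bar hbar hne hinv m, Cfsg.Agent.S0284.result hF (m + 1), ih, exp_step,
      Finset.prod_range_succ, Nat.add_sub_cancel, pow_add]
    by_cases hm : Even m
    · have hm' : ¬ Even (m + 1) := by
        rw [Nat.even_add_one]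
        exact not_not.2 hm
      rw [if_neg hm', if_pos hm]
      ring
    · have hm' : Even (m + 1) := by
        rw [Nat.even_add_one]
        exact hm
      rw [if_pos hm', if_neg hm]
      ring



end Cfsg.Agent.Helper45.GU
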