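import Mathlib
import Cfsg.Prelude.Def_GeometricClasses
import Cfsg.Agent.S0751
import Cfsg.Agent.Helper13.SymmForm

/-!
# Geometry of a non-degenerate quadratic form `Q` on `F^n` (finite `F` of odd order)

Basic identities for `polar Q`, orthogonal complements `perp`, and existence lemmas for singular
vectors, used in the maximality proof of `GO_n ∩ SL_n` in `SL_n`.
-/

set_option autoImplicit false

namespace Cfsg.Agent.Helper45.OrInSL

open Cfsg.Geo Module QuadraticMap

variable {F : Type*} [Field F] {n : ℕ}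
variable {Q : (Fin n → F) → F} (hQ : IsNondegenerateQuadraticForm Q)

omit hQ in
theorem b_comm (x y : Fin n → F) : polar Q x y = polar Q y x := polar_comm Q x y

omit hQ in
theorem Q_add (Q' : (Fin n → F) → F) (x y : Fin n → F) :
    Q' (x + y) = Q' x + Q' y + polar Q' x y := by
  unfold polar; ring

include hQ

theorem b_add_left (x y v : Fin n → F) : polar Q (x + y) v = polar Q x v + polar Q y v :=
  hQ.polar_bilinear.add_left x y v
theorem b_smul_left (c : F) (x v : Fin n → F) : polar Q (c • x) v = c * polar Q x v :=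
  hQ.polar_bilinear.smul_left c x v
theorem b_add_right (v x y : Fin n → F) : polar Q v (x + y) = polar Q v x + polar Q v y :=
  hQ.polar_bilinear.add_right v x y
theorem b_smul_right (c : F) (v x : Fin n → F) : polar Q v (c • x) = c * polar Q v x :=
  hQ.polar_bilinear.smul_right c v x

theorem b_zero_left (u : Fin n → F) : polar Q 0 u = 0 := by
  have := b_smul_left hQ 0 0 u
  rwa [zero_smul, zero_mul] at this

theorem b_zero_right (u : Fin n → F) : polar Q u 0 = 0 := by
  rw [b_comm, b_zero_left hQ]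

theorem b_neg_left (x v : Fin n → F) : polar Q (-x) v = - polar Q x v := by
  have := b_smul_left hQ (-1) x v
  rwa [neg_one_smul, neg_one_mul] at this

theorem b_neg_right (v x : Fin n → F) : polar Q v (-x) = - polar Q v x := by
  rw [b_comm, b_neg_left hQ, b_comm]

theorem b_sub_left (x y v : Fin n → F) : polar Q (x - y) v = polar Q x v - polar Q y v := by
  rw [sub_eq_add_neg, b_add_left hQ, b_neg_left hQ, ← sub_eq_add_neg]

theorem b_sub_right (v x y : Fin n → F) : polar Q v (x - y) = polar Q v x - polar Q v y := by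
  rw [sub_eq_add_neg, b_add_right hQ, b_neg_right hQ, ← sub_eq_add_neg]

theorem Q_smul (c : F) (x : Fin n → F) : Q (c • x) = c ^ 2 * Q x := hQ.smul c x

theorem Q_zero : Q 0 = 0 := by
  have := hQ.smul 0 0
  rw [zero_smul] at this
  rw [this]; ring

theorem Q_neg (x : Fin n → F) : Q (-x) = Q x := by
  have := hQ.smul (-1) x
  rw [neg_one_smul] at this
  rw [this]; ring

theorem b_self (x : Fin n → F) : polar Q x x = 2 * Q x := by
  unfold polar
  have : x + x = (2 : F) • x := (two_smul F x).symm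
  rw [this, hQ.smul]
  ring

theorem Q_sub (x y : Fin n → F) : Q (x - y) = Q x + Q y - polar Q x y := by
  rw [sub_eq_add_neg, Q_add Q, Q_neg hQ, b_neg_right hQ]
  ring

theorem Q_eq_zero_of_b_self (h2 : (2 : F) ≠ 0) {x : Fin n → F} (h : polar Q x x = 0) : Q x = 0 := by
  rw [b_self hQ] at h
  exact (mul_eq_zero.1 h).resolve_left h2

/-- the polar form as a bilinear map: `bS w x = polar Q x w` -/
def bS : (Fin n → F) →ₗ[F] (Fin n → F) →ₗ[F] F :=
  LinearMap.mk₂ F (fun w x => polar Q x w)
    (fun w w' x => b_add_right hQ x w w')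
    (fun c w x => by
      show polar Q x (c • w) = c • polar Q x w
      rw [b_smul_right hQ]; rfl)
    (fun w x y => b_add_left hQ x y w)
    (fun c w x => by
      show polar Q (c • x) w = c • polar Q x w
      rw [b_smul_left hQ]; rfl)

theorem bS_apply (w x : Fin n → F) : bS hQ w x = polar Q x w := rfl

theorem bS_isSymm : LinearMap.IsSymm (bS hQ) :=
  ⟨fun x y => by
    show polar Q y x = polar Q x y
    exact b_comm y x⟩

theorem bS_sepLeft : LinearMap.SeparatingLeft (bS hQ) := by
  intro x hx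
  by_contra hne
  obtain ⟨⟨y, hy⟩, -⟩ := hQ.nondegenerate x hne
  exact hy (hx y)

/-- functional `x ↦ polar Q x w` -/
def bd (w : Fin n → F) : Module.Dual F (Fin n → F) := bS hQ w

theorem bd_apply (w x : Fin n → F) : bd hQ w x = polar Q x w := rfl

theorem bd_add (w w' : Fin n → F) : bd hQ (w + w') = bd hQ w + bd hQ w' := by
  apply LinearMap.ext
  intro x
  rw [LinearMap.add_apply, bd_apply, bd_apply, bd_apply, b_add_right hQ]

theorem bd_neg (w : Fin n → F) : bd hQ (-w) = - bd hQ w := by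
  apply LinearMap.ext
  intro x
  rw [LinearMap.neg_apply, bd_apply, bd_apply, b_neg_right hQ]

theorem bd_smul (c : F) (w : Fin n → F) : bd hQ (c • w) = c • bd hQ w := by
  apply LinearMap.ext
  intro x
  rw [LinearMap.smul_apply, bd_apply, bd_apply, b_smul_right hQ, smul_eq_mul]

/-- orthogonal complement -/
def perp (S : Submodule F (Fin n → F)) : Submodule F (Fin n → F) := S.orthogonalBilin (bS hQ)

theorem mem_perp {S : Submodule F (Fin n → F)} {x : Fin n → F} :
    x ∈ perp hQ S ↔ ∀ s ∈ S, polar Q x s = 0 := Iff.rfl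

theorem perp_anti {S T : Submodule F (Fin n → F)} (h : S ≤ T) : perp hQ T ≤ perp hQ S :=
  fun _ hx s hs => hx s (h hs)

theorem mem_perp_span {s : Set (Fin n → F)} {x : Fin n → F} :
    x ∈ perp hQ (Submodule.span F s) ↔ ∀ y ∈ s, polar Q x y = 0 := by
  rw [mem_perp]
  constructor
  · intro h y hy
    exact h y (Submodule.subset_span hy)
  · intro h y hy
    induction hy using Submodule.span_induction with
    | mem y hy => exact h y hy
    | zero => exact b_zero_right hQ x
    | add a b _ _ ha hb => rw [b_add_right hQ, ha, hb, add_zero]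
    | smul c a _ ha => rw [b_smul_right hQ, ha, mul_zero]

theorem mem_perp_singleton {y x : Fin n → F} :
    x ∈ perp hQ (Submodule.span F {y}) ↔ polar Q x y = 0 := by
  rw [mem_perp_span]
  constructor
  · intro h; exact h y rfl
  · intro h z hz
    rw [Set.mem_singleton_iff] at hz
    rw [hz]; exact h

variable [Fintype F]

theorem exists_bd_eq (φ : Module.Dual F (Fin n → F)) : ∃ w : Fin n → F, φ = bd hQ w := by
  obtain ⟨w, hw⟩ := Cfsg.Agent.S0751.riesz (σ := RingHom.id F) (bS hQ) (bS_sepLeft hQ) φ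
  exact ⟨w, hw.symm⟩

theorem finrank_perp (S : Submodule F (Fin n → F)) :
    finrank F (perp hQ S) + finrank F S = n := by
  have h1 := Cfsg.Agent.S0751.finrank_orth (σ := RingHom.id F) (bS hQ) (bS_isSymm hQ)
    (bS_sepLeft hQ) S
  rw [Module.finrank_fintype_fun_eq_card, Fintype.card_fin] at h1
  exact h1

theorem perp_perp (S : Submodule F (Fin n → F)) : perp hQ (perp hQ S) = S :=
  Cfsg.Agent.S0751.orth_orth (σ := RingHom.id F) (bS hQ) (bS_isSymm hQ) (bS_sepLeft hQ) S

theorem exists_mem_perp_not_mem (S T : Submodule F (Fin n → F))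
    (h : finrank F S + finrank F T < n) : ∃ x ∈ perp hQ S, x ∉ T := by
  by_contra hcon
  push Not at hcon
  have h1 : perp hQ S ≤ T := hcon
  have h2 := Submodule.finrank_mono h1
  have h3 := finrank_perp hQ S
  omega

theorem exists_mem_perp_ne (S : Submodule F (Fin n → F)) {w₀ : Fin n → F} (hw₀ : w₀ ∉ S) :
    ∃ x ∈ perp hQ S, polar Q x w₀ ≠ 0 := by
  by_contra hcon
  push Not at hcon
  apply hw₀
  rw [← perp_perp hQ S]
  intro x hx
  show polar Q w₀ x = 0
  rw [b_comm]
  exact hcon x hx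

omit hQ [Fintype F] in
theorem finrank_sup_span_singleton_le (S : Submodule F (Fin n → F)) (x : Fin n → F) :
    finrank F (S ⊔ Submodule.span F {x} : Submodule F (Fin n → F)) ≤ finrank F S + 1 := by
  refine (Submodule.finrank_add_le_finrank_add_finrank _ _).trans ?_
  have : finrank F (Submodule.span F {x} : Submodule F (Fin n → F)) ≤ 1 := by
    have h := finrank_span_le_card (R := F) ({x} : Set (Fin n → F))
    simpa using h
  omega

omit hQ [Fintype F] in
theorem finrank_span_singleton_le_one (x : Fin n → F) :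
    finrank F (Submodule.span F {x} : Submodule F (Fin n → F)) ≤ 1 := by
  have h := finrank_span_le_card (R := F) ({x} : Set (Fin n → F))
  simpa using h

omit hQ [Fintype F] in
theorem finrank_span_pair_le (x y : Fin n → F) :
    finrank F (Submodule.span F {x, y} : Submodule F (Fin n → F)) ≤ 2 := by
  rw [Submodule.span_insert, sup_comm]
  have h1 := finrank_sup_span_singleton_le (Submodule.span F {y}) x
  have h2 := finrank_span_singleton_le_one y
  omega

omit hQ [Fintype F] in
theorem finrank_span_triple_le (x y z : Fin n → F) :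
    finrank F (Submodule.span F {x, y, z} : Submodule F (Fin n → F)) ≤ 3 := by
  rw [Submodule.span_insert, sup_comm]
  have h1 := finrank_sup_span_singleton_le (Submodule.span F {y, z}) x
  have h2 := finrank_span_pair_le y z
  omega

/-- a subspace not contained in its perp contains a non-singular vector -/
theorem exists_nonsingular (U : Submodule F (Fin n → F)) (hU : ¬ U ≤ perp hQ U) :
    ∃ u ∈ U, Q u ≠ 0 := by
  by_contra hcon
  push Not at hcon
  apply hU
  intro x hx y hy
  show polar Q x y = 0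
  unfold polar
  rw [hcon _ (U.add_mem hx hy), hcon x hx, hcon y hy]
  ring

/-- a subspace of dimension more than `n/2` contains a non-singular vector -/
theorem exists_nonsingular_of_finrank (U : Submodule F (Fin n → F)) (hU : n < 2 * finrank F U) :
    ∃ u ∈ U, Q u ≠ 0 := by
  apply exists_nonsingular hQ
  intro hle
  have h1 := Submodule.finrank_mono hle
  have h2 := finrank_perp hQ U
  omega

/-- **key existence lemma**: a singular vector in `S^⊥` not orthogonal to `w₀ ∉ S` -/
theorem exists_singular (h2 : (2 : F) ≠ 0) (S : Submodule F (Fin n → F))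
    (hS : 2 * finrank F S + 6 < n) {w₀ : Fin n → F} (hw₀ : w₀ ∉ S) :
    ∃ u ∈ perp hQ S, Q u = 0 ∧ polar Q u w₀ ≠ 0 := by
  obtain ⟨x, hxS, hxw⟩ := exists_mem_perp_ne hQ S hw₀
  by_cases hxx : Q x = 0
  · exact ⟨x, hxS, hxx, hxw⟩
  set S₁ : Submodule F (Fin n → F) := S ⊔ Submodule.span F {x} ⊔ Submodule.span F {w₀} with hS₁
  have hd1 : finrank F S₁ ≤ finrank F S + 2 := by
    have h1 : finrank F S₁ ≤ finrank F (S ⊔ Submodule.span F {x} : Submodule F (Fin n → F)) + 1 :=
      finrank_sup_span_singleton_le (S ⊔ Submodule.span F {x}) w₀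
    have h2 := finrank_sup_span_singleton_le S x
    omega
  obtain ⟨z₁, hz₁, hz₁z₁⟩ := exists_nonsingular_of_finrank hQ (perp hQ S₁) (by
    have := finrank_perp hQ S₁
    omega)
  set S₂ : Submodule F (Fin n → F) := S₁ ⊔ Submodule.span F {z₁} with hS₂
  have hd2 : finrank F S₂ ≤ finrank F S₁ + 1 := finrank_sup_span_singleton_le S₁ z₁
  obtain ⟨z₂, hz₂, hz₂z₂⟩ := exists_nonsingular_of_finrank hQ (perp hQ S₂) (by
    have := finrank_perp hQ S₂
    omega)
  have hz₁S : z₁ ∈ perp hQ S := perp_anti hQ (le_sup_left.trans le_sup_left) hz₁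
  have hz₂S : z₂ ∈ perp hQ S :=
    perp_anti hQ ((le_sup_left.trans le_sup_left).trans le_sup_left) hz₂
  have hz₁x : polar Q z₁ x = 0 :=
    hz₁ x ((le_sup_right.trans le_sup_left : Submodule.span F {x} ≤ S₁)
      (Submodule.mem_span_singleton_self x))
  have hz₁w : polar Q z₁ w₀ = 0 :=
    hz₁ w₀ ((le_sup_right : Submodule.span F {w₀} ≤ S₁) (Submodule.mem_span_singleton_self w₀))
  have hz₂x : polar Q z₂ x = 0 :=
    hz₂ x (((le_sup_right.trans le_sup_left).trans le_sup_left : Submodule.span F {x} ≤ S₂)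
      (Submodule.mem_span_singleton_self x))
  have hz₂w : polar Q z₂ w₀ = 0 :=
    hz₂ w₀ ((le_sup_right.trans le_sup_left : Submodule.span F {w₀} ≤ S₂)
      (Submodule.mem_span_singleton_self w₀))
  have hz₂z₁ : polar Q z₂ z₁ = 0 :=
    hz₂ z₁ ((le_sup_right : Submodule.span F {z₁} ≤ S₂) (Submodule.mem_span_singleton_self z₁))
  obtain ⟨s, t, hst⟩ := Cfsg.Agent.Helper13.exists_binary_eq_one h2
    (a := -(Q z₁) / Q x) (b := -(Q z₂) / Q x)
    (div_ne_zero (neg_ne_zero.2 hz₁z₁) hxx) (div_ne_zero (neg_ne_zero.2 hz₂z₂) hxx)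
  have hst' : Q z₁ * s ^ 2 + Q z₂ * t ^ 2 = - Q x := by
    field_simp at hst
    linear_combination -hst
  refine ⟨x + s • z₁ + t • z₂, ?_, ?_, ?_⟩
  · exact (perp hQ S).add_mem ((perp hQ S).add_mem hxS ((perp hQ S).smul_mem s hz₁S))
      ((perp hQ S).smul_mem t hz₂S)
  · rw [Q_add Q, Q_add Q, Q_smul hQ, Q_smul hQ, b_add_left hQ, b_smul_left hQ, b_smul_right hQ,
      b_smul_right hQ, b_smul_right hQ, b_comm x z₁, hz₁x, b_comm x z₂, hz₂x, b_comm z₁ z₂, hz₂z₁]
    linear_combination hst'
  · rw [b_add_left hQ, b_add_left hQ, b_smul_left hQ, b_smul_left hQ, hz₁w, hz₂w]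
    simpa using hxw

/-- the same, with the singular vector outside `S` -/
theorem exists_singular' (h2 : (2 : F) ≠ 0) (S : Submodule F (Fin n → F))
    (hS : 2 * finrank F S + 8 < n) {w₀ : Fin n → F} (hw₀ : w₀ ∉ S) :
    ∃ u ∈ perp hQ S, Q u = 0 ∧ polar Q u w₀ ≠ 0 ∧ u ∉ S := by
  obtain ⟨u, huS, huu, huw⟩ := exists_singular hQ h2 S (by omega) hw₀
  by_cases hu : u ∉ S
  · exact ⟨u, huS, huu, huw, hu⟩
  push Not at hu
  set S₂ : Submodule F (Fin n → F) := S ⊔ Submodule.span F {w₀} with hS₂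
  have hd : finrank F S₂ ≤ finrank F S + 1 := finrank_sup_span_singleton_le S w₀
  obtain ⟨t, htS, ht2⟩ := exists_mem_perp_not_mem hQ S S₂ (by omega)
  obtain ⟨u', hu'S, hu'u', hu't⟩ := exists_singular hQ h2 S₂ (by omega) ht2
  have h1 : polar Q u' u = 0 := hu'S u (le_sup_left (a := S) hu)
  have h2' : polar Q u' w₀ = 0 :=
    hu'S w₀ ((le_sup_right : Submodule.span F {w₀} ≤ S₂) (Submodule.mem_span_singleton_self w₀))
  refine ⟨u + u', (perp hQ S).add_mem huS (perp_anti hQ le_sup_left hu'S), ?_, ?_, ?_⟩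
  · rw [Q_add Q, huu, hu'u', b_comm, h1]
    ring
  · rw [b_add_left hQ, h2', add_zero]
    exact huw
  · intro hmem
    have h3 : u' ∈ S := by
      have := S.sub_mem hmem hu
      rwa [add_sub_cancel_left] at this
    apply hu't
    rw [b_comm]
    exact htS u' h3

/-- **spanning lemma**: a subspace containing all singular vectors of `S^⊥ \ S` contains `S^⊥` -/
theorem perp_le_of_singular (h2 : (2 : F) ≠ 0) (S : Submodule F (Fin n → F))
    (hS : 2 * finrank F S + 8 < n) (W : Submodule F (Fin n → F))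
    (h : ∀ y ∈ perp hQ S, Q y = 0 → y ∉ S → y ∈ W) : perp hQ S ≤ W := by
  have h1 : perp hQ W ≤ S := by
    intro z hz
    by_contra hzS
    obtain ⟨u, huS, huu, huz, hu⟩ := exists_singular' hQ h2 S hS hzS
    apply huz
    rw [b_comm]
    exact hz u (h u huS huu hu)
  have := perp_anti hQ h1
  rwa [perp_perp hQ] at this

/-! ### singular vectors in arbitrary subspaces of dimension at least three -/

theorem finrank_le_inf_perp_singleton (Y : Submodule F (Fin n → F)) (y : Fin n → F) :
    finrank F Y ≤ finrank F (Y ⊓ perp hQ (Submodule.span F {y}) : Submodule F (Fin n → F)) + 1 := by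
  have h1 := Submodule.finrank_sup_add_finrank_inf_eq Y (perp hQ (Submodule.span F {y}))
  have h2 := finrank_perp hQ (Submodule.span F {y})
  have h3 := finrank_span_singleton_le_one y
  have h4 : finrank F (Y ⊔ perp hQ (Submodule.span F {y}) : Submodule F (Fin n → F)) ≤ n := by
    have := Submodule.finrank_le (Y ⊔ perp hQ (Submodule.span F {y}))
    rwa [Module.finrank_fintype_fun_eq_card, Fintype.card_fin] at this
  omega

omit hQ [Fintype F] in
theorem exists_ne_zero_of_finrank_pos (Y : Submodule F (Fin n → F)) (h : 0 < finrank F Y) :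
    ∃ y ∈ Y, y ≠ 0 := by
  by_contra hcon
  push Not at hcon
  have : Y = ⊥ := by
    rw [eq_bot_iff]
    intro y hy
    rw [Submodule.mem_bot]
    exact hcon y hy
  rw [this, finrank_bot] at h
  exact lt_irrefl 0 h

/-- every subspace of dimension at least three contains a non-zero singular vector -/
theorem exists_singular_of_finrank (h2 : (2 : F) ≠ 0) (Y : Submodule F (Fin n → F))
    (hY : 3 ≤ finrank F Y) : ∃ u ∈ Y, u ≠ 0 ∧ Q u = 0 := by
  obtain ⟨y₁, hy₁, hy₁0⟩ := exists_ne_zero_of_finrank_pos Y (by omega)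
  by_cases h1 : Q y₁ = 0
  · exact ⟨y₁, hy₁, hy₁0, h1⟩
  have hd1 := finrank_le_inf_perp_singleton hQ Y y₁
  obtain ⟨y₂, hy₂, hy₂0⟩ := exists_ne_zero_of_finrank_pos
    (Y ⊓ perp hQ (Submodule.span F {y₁})) (by omega)
  by_cases h2' : Q y₂ = 0
  · exact ⟨y₂, hy₂.1, hy₂0, h2'⟩
  have hd2 := finrank_le_inf_perp_singleton hQ (Y ⊓ perp hQ (Submodule.span F {y₁})) y₂
  obtain ⟨y₃, hy₃, hy₃0⟩ := exists_ne_zero_of_finrank_pos
    (Y ⊓ perp hQ (Submodule.span F {y₁}) ⊓ perp hQ (Submodule.span F {y₂})) (by omega)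
  by_cases h3 : Q y₃ = 0
  · exact ⟨y₃, hy₃.1.1, hy₃0, h3⟩
  have e21 : polar Q y₂ y₁ = 0 := (mem_perp_singleton hQ).1 hy₂.2
  have e31 : polar Q y₃ y₁ = 0 := (mem_perp_singleton hQ).1 hy₃.1.2
  have e32 : polar Q y₃ y₂ = 0 := (mem_perp_singleton hQ).1 hy₃.2
  obtain ⟨s, t, hst⟩ := Cfsg.Agent.Helper13.exists_binary_eq_one h2
    (a := -(Q y₁) / Q y₃) (b := -(Q y₂) / Q y₃)
    (div_ne_zero (neg_ne_zero.2 h1) h3) (div_ne_zero (neg_ne_zero.2 h2') h3)
  have hst' : Q y₁ * s ^ 2 + Q y₂ * t ^ 2 = - Q y₃ := by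
    field_simp at hst
    linear_combination -hst
  have hQu : Q (y₃ + s • y₁ + t • y₂) = 0 := by
    rw [Q_add Q, Q_add Q, Q_smul hQ, Q_smul hQ, b_add_left hQ, b_smul_left hQ, b_smul_right hQ,
      b_smul_right hQ, b_smul_right hQ, e31, e32, b_comm y₁ y₂, e21]
    linear_combination hst'
  refine ⟨y₃ + s • y₁ + t • y₂, ?_, ?_, hQu⟩
  · exact Y.add_mem (Y.add_mem hy₃.1.1 (Y.smul_mem s hy₁)) (Y.smul_mem t hy₂.1)
  · intro h0
    have h4 : polar Q (y₃ + s • y₁ + t • y₂) y₃ = 0 := by rw [h0, b_zero_left hQ]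
    rw [b_add_left hQ, b_add_left hQ, b_smul_left hQ, b_smul_left hQ, b_comm y₁ y₃, e31,
      b_comm y₂ y₃, e32, b_self hQ, mul_zero, mul_zero, add_zero, add_zero] at h4
    exact h3 ((mul_eq_zero.1 h4).resolve_left h2)

/-- two independent singular vectors in a subspace of dimension at least four -/
theorem exists_two_singular_of_finrank (h2 : (2 : F) ≠ 0) (Y : Submodule F (Fin n → F))
    (hY : 4 ≤ finrank F Y) :
    ∃ u ∈ Y, ∃ u' ∈ Y, u ≠ 0 ∧ Q u = 0 ∧ Q u' = 0 ∧ u' ≠ 0 ∧ u' ∉ Submodule.span F {u} := by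
  obtain ⟨u, huY, hu0, huu⟩ := exists_singular_of_finrank hQ h2 Y (by omega)
  obtain ⟨⟨t, ht⟩, -⟩ := hQ.nondegenerate u hu0
  have hd := finrank_le_inf_perp_singleton hQ Y t
  obtain ⟨u', hu'Y, hu'0, hu'u'⟩ := exists_singular_of_finrank hQ h2
    (Y ⊓ perp hQ (Submodule.span F {t})) (by omega)
  refine ⟨u, huY, u', hu'Y.1, hu0, huu, hu'u', hu'0, ?_⟩
  intro hmem
  obtain ⟨c, hc⟩ := Submodule.mem_span_singleton.1 hmem
  have h1 : polar Q u' t = 0 := (mem_perp_singleton hQ).1 hu'Y.2
  rw [← hc, b_smul_left hQ] at h1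
  have hc0 : c ≠ 0 := by
    rintro rfl
    rw [zero_smul] at hc
    exact hu'0 hc.symm
  rcases mul_eq_zero.1 h1 with h | h
  · exact hc0 h
  · apply ht
    rw [b_comm]
    exact h

end Cfsg.Agent.Helper45.OrInSL
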