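import Mathlib
import Cfsg.Agent.Helper45.OrForm

/-!
# Geometry of a non-degenerate quadratic form over a finite field of characteristic two

Characteristic-two counterparts of the existence lemmas of `Helper45/OrForm.lean`: singular vectors
in `S^⊥` pairing non-trivially with a given vector, spanning of `S^⊥` by singular vectors.
-/

set_option autoImplicit false

namespace Cfsg.Agent.Helper45.SubOm

open Cfsg.Geo Module QuadraticMap Cfsg.Agent.Helper45.OrInSL

variable {K : Type*} [Field K] [Fintype K] {n : ℕ}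
variable {Q : (Fin n → K) → K} (hQ : IsNondegenerateQuadraticForm Q)

omit [Fintype K] in
theorem add_self_eq_zero' (h2 : (2 : K) = 0) (a : K) : a + a = 0 := by
  linear_combination a * h2

/-- every element of a finite field of characteristic two is a square -/
theorem exists_sq_eq (h2 : (2 : K) = 0) (a : K) : ∃ s : K, s * s = a := by
  haveI : CharP K 2 := CharTwo.of_one_ne_zero_of_two_eq_zero one_ne_zero h2
  have h1 : ringChar K = 2 := ringChar.eq K 2
  obtain ⟨r, hr⟩ := FiniteField.isSquare_of_char_two h1 a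
  exact ⟨r, hr.symm⟩

include hQ in
/-- two orthogonal vectors have a non-trivial singular combination -/
theorem exists_sing_comb (h2 : (2 : K) = 0) (x y : Fin n → K) (hxy : polar Q x y = 0) :
    ∃ s t : K, (s ≠ 0 ∨ t ≠ 0) ∧ Q (s • x + t • y) = 0 := by
  by_cases hx : Q x = 0
  · refine ⟨1, 0, Or.inl one_ne_zero, ?_⟩
    rw [one_smul, zero_smul, add_zero, hx]
  · obtain ⟨s, hs⟩ := exists_sq_eq h2 (Q y / Q x)
    refine ⟨s, 1, Or.inr one_ne_zero, ?_⟩
    rw [one_smul, Q_add Q, Q_smul hQ, b_smul_left hQ, hxy, mul_zero, add_zero, pow_two, hs,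
      div_mul_cancel₀ _ hx]
    exact add_self_eq_zero' h2 _

include hQ in
/-- **key existence lemma** (characteristic two): a singular vector in `S^⊥` not orthogonal to
`w₀ ∉ S` -/
theorem exists_singular2 (h2 : (2 : K) = 0) (S : Submodule K (Fin n → K))
    (hS : 2 * finrank K S + 4 < n) {w₀ : Fin n → K} (hw₀ : w₀ ∉ S) :
    ∃ u ∈ perp hQ S, Q u = 0 ∧ polar Q u w₀ ≠ 0 := by
  obtain ⟨x, hxS, hxw⟩ := exists_mem_perp_ne hQ S hw₀
  by_cases hxx : Q x = 0
  · exact ⟨x, hxS, hxx, hxw⟩
  obtain ⟨S₁, hS₁⟩ : ∃ S₁ : Submodule K (Fin n → K),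
      S₁ = S ⊔ Submodule.span K {x} ⊔ Submodule.span K {w₀} := ⟨_, rfl⟩
  have hd1 : finrank K S₁ ≤ finrank K S + 2 := by
    have h1 : finrank K S₁ ≤ finrank K (S ⊔ Submodule.span K {x} : Submodule K (Fin n → K)) + 1 := by
      rw [hS₁]
      exact finrank_sup_span_singleton_le _ w₀
    have h3 := finrank_sup_span_singleton_le S x
    omega
  have hp := finrank_perp hQ S₁
  obtain ⟨y, hyN, hyQ⟩ := exists_nonsingular_of_finrank hQ (perp hQ S₁) (by omega)
  have hyS : y ∈ perp hQ S := by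
    apply perp_anti hQ _ hyN
    rw [hS₁]
    exact le_sup_of_le_left le_sup_left
  have hyx : polar Q y x = 0 := by
    apply hyN x
    rw [hS₁]
    exact (le_sup_of_le_left le_sup_right : Submodule.span K {x} ≤ _)
      (Submodule.mem_span_singleton_self x)
  have hyw : polar Q y w₀ = 0 := by
    apply hyN w₀
    rw [hS₁]
    exact (le_sup_right : Submodule.span K {w₀} ≤ _) (Submodule.mem_span_singleton_self w₀)
  obtain ⟨t, ht⟩ := exists_sq_eq h2 (Q x / Q y)
  refine ⟨x + t • y, (perp hQ S).add_mem hxS ((perp hQ S).smul_mem t hyS), ?_, ?_⟩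
  · rw [Q_add Q, Q_smul hQ, b_smul_right hQ, b_comm x y, hyx, mul_zero, add_zero, pow_two, ht,
      div_mul_cancel₀ _ hyQ]
    exact add_self_eq_zero' h2 _
  · rw [b_add_left hQ, b_smul_left hQ, hyw, mul_zero, add_zero]
    exact hxw

include hQ in
/-- a singular vector of `S^⊥` outside `S` -/
theorem exists_singular_not_mem (h2 : (2 : K) = 0) (S : Submodule K (Fin n → K))
    (hS : 2 * finrank K S + 4 < n) : ∃ u ∈ perp hQ S, Q u = 0 ∧ u ∉ S := by
  obtain ⟨w₀, hw₀S, hw₀⟩ := exists_mem_perp_not_mem hQ S S (by omega)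
  obtain ⟨u, huS, huQ, huw⟩ := exists_singular2 hQ h2 S hS hw₀
  refine ⟨u, huS, huQ, ?_⟩
  intro hu
  apply huw
  rw [b_comm]
  exact hw₀S u hu

include hQ in
/-- **spanning lemma** (characteristic two): a subspace containing all singular vectors of `S^⊥`
contains `S^⊥` -/
theorem perp_le_of_singular2 (h2 : (2 : K) = 0) (S : Submodule K (Fin n → K))
    (hS : 2 * finrank K S + 4 < n) (W : Submodule K (Fin n → K))
    (h : ∀ y ∈ perp hQ S, Q y = 0 → y ∈ W) : perp hQ S ≤ W := by
  have h1 : perp hQ W ≤ S := by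
    intro z hz
    by_contra hzS
    obtain ⟨u, huS, huu, huz⟩ := exists_singular2 hQ h2 S hS hzS
    apply huz
    rw [b_comm]
    exact hz u (h u huS huu)
  have := perp_anti hQ h1
  rwa [perp_perp hQ] at this

include hQ in
/-- a hyperbolic partner inside `S^⊥` -/
theorem exists_partner_perp (h2 : (2 : K) = 0) (S : Submodule K (Fin n → K))
    (hS : 2 * finrank K S + 4 < n) {c : Fin n → K} (hc : c ∉ S) :
    ∃ u ∈ perp hQ S, Q u = 0 ∧ polar Q u c = 1 := by
  obtain ⟨u, huS, huQ, huc⟩ := exists_singular2 hQ h2 S hS hc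
  refine ⟨(polar Q u c)⁻¹ • u, (perp hQ S).smul_mem _ huS, ?_, ?_⟩
  · rw [Q_smul hQ, huQ, mul_zero]
  · rw [b_smul_left hQ, inv_mul_cancel₀ huc]

end Cfsg.Agent.Helper45.SubOm
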