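import Mathlib
import Cfsg.Agent.Helper45.OrForm
import Cfsg.Agent.Helper45.SubOmA

/-!
# Characteristic-free existence lemmas for singular vectors

Wrappers around `Helper45/OrForm.lean` (odd characteristic) and `Helper45/SubOmA.lean`
(characteristic two).
-/

set_option autoImplicit false

namespace Cfsg.Agent.Helper45.C3U

open Cfsg.Geo Module QuadraticMap Cfsg.Agent.Helper45.OrInSL Cfsg.Agent.Helper45.SubOm

variable {K : Type*} [Field K] [Fintype K] {n : ℕ}
variable {Q : (Fin n → K) → K} (hQ : IsNondegenerateQuadraticForm Q)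

include hQ in
/-- characteristic two: a subspace of dimension at least three contains a non-zero singular
vector -/
theorem exists_singular_of_finrank_two (h2 : (2 : K) = 0) (Y : Submodule K (Fin n → K))
    (hY : 3 ≤ finrank K Y) : ∃ u ∈ Y, u ≠ 0 ∧ Q u = 0 := by
  obtain ⟨y₁, hy₁, hy₁0⟩ := exists_ne_zero_of_finrank_pos Y (by omega)
  have hd := finrank_le_inf_perp_singleton hQ Y y₁
  have hfr := finrank_span_singleton_le_one y₁
  obtain ⟨y₂, hy₂, hy₂n⟩ : ∃ y₂ ∈ (Y ⊓ perp hQ (Submodule.span K {y₁}) : Submodule K (Fin n → K)),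
      y₂ ∉ Submodule.span K {y₁} := by
    by_contra hcon
    push Not at hcon
    have hle : (Y ⊓ perp hQ (Submodule.span K {y₁}) : Submodule K (Fin n → K))
        ≤ Submodule.span K {y₁} := hcon
    have := Submodule.finrank_mono hle
    omega
  have hy₂Y : y₂ ∈ Y := hy₂.1
  have h12 : polar Q y₁ y₂ = 0 := by
    rw [b_comm]
    exact (mem_perp_singleton hQ).1 hy₂.2
  obtain ⟨s, t, hst, hsing⟩ := exists_sing_comb hQ h2 y₁ y₂ h12
  refine ⟨s • y₁ + t • y₂, Y.add_mem (Y.smul_mem _ hy₁) (Y.smul_mem _ hy₂Y), ?_, hsing⟩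
  intro h0
  by_cases ht : t = 0
  · rw [ht, zero_smul, add_zero] at h0
    rcases hst with h | h
    · rcases smul_eq_zero.1 h0 with h' | h'
      · exact h h'
      · exact hy₁0 h'
    · exact h ht
  · apply hy₂n
    rw [Submodule.mem_span_singleton]
    refine ⟨-(t⁻¹ * s), ?_⟩
    have h3 : t • y₂ = -(s • y₁) := eq_neg_of_add_eq_zero_right h0
    have h4 : y₂ = t⁻¹ • (t • y₂) := by rw [smul_smul, inv_mul_cancel₀ ht, one_smul]
    rw [h4, h3]
    module

include hQ in
/-- a subspace of dimension at least three contains a non-zero singular vector -/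
theorem exists_singular_of_finrank_gen (Y : Submodule K (Fin n → K))
    (hY : 3 ≤ finrank K Y) : ∃ u ∈ Y, u ≠ 0 ∧ Q u = 0 := by
  by_cases h2 : (2 : K) = 0
  · exact exists_singular_of_finrank_two hQ h2 Y hY
  · exact exists_singular_of_finrank hQ h2 Y hY

include hQ in
/-- a singular vector of `S^⊥` outside `S`, when the radical of `S` is small -/
theorem exists_sing_perp_not_mem (S R : Submodule K (Fin n → K)) (hR : S ⊓ perp hQ S ≤ R)
    (hdim : finrank K S + finrank K R + 3 ≤ n) : ∃ u ∈ perp hQ S, Q u = 0 ∧ u ∉ S := by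
  obtain ⟨C, hC⟩ := Submodule.exists_isCompl (S ⊓ perp hQ S : Submodule K (Fin n → K))
  have h1 := Submodule.finrank_add_eq_of_isCompl hC
  rw [Module.finrank_fintype_fun_eq_card, Fintype.card_fin] at h1
  have h3 := Submodule.finrank_sup_add_finrank_inf_eq (perp hQ S) C
  have h4 : finrank K (perp hQ S ⊔ C : Submodule K (Fin n → K)) ≤ n := by
    have := Submodule.finrank_le (perp hQ S ⊔ C)
    rwa [Module.finrank_fintype_fun_eq_card, Fintype.card_fin] at this
  have h5 := finrank_perp hQ S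
  have h6 := Submodule.finrank_mono hR
  obtain ⟨u, huY, hu0, huQ⟩ := exists_singular_of_finrank_gen hQ
    (perp hQ S ⊓ C : Submodule K (Fin n → K)) (by omega)
  refine ⟨u, huY.1, huQ, ?_⟩
  intro huS
  apply hu0
  have h7 : u ∈ (S ⊓ perp hQ S : Submodule K (Fin n → K)) ⊓ C := ⟨⟨huS, huY.1⟩, huY.2⟩
  rw [hC.inf_eq_bot] at h7
  exact (Submodule.mem_bot K).1 h7

include hQ in
/-- a singular vector of `S^⊥` outside `S` (dimension bound only) -/
theorem exists_sing_perp_not_mem' (S : Submodule K (Fin n → K))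
    (hdim : 2 * finrank K S + 3 ≤ n) : ∃ u ∈ perp hQ S, Q u = 0 ∧ u ∉ S :=
  exists_sing_perp_not_mem hQ S S inf_le_left (by omega)

include hQ in
/-- a singular partner inside `S^⊥` of a singular vector of `S^⊥ \ S` -/
theorem exists_partner (S : Submodule K (Fin n → K)) {r : Fin n → K} (hrS : r ∈ perp hQ S)
    (hr : Q r = 0) (hrn : r ∉ S) : ∃ r' ∈ perp hQ S, Q r' = 0 ∧ polar Q r' r = 1 := by
  obtain ⟨v, hvS, hvr⟩ := exists_mem_perp_ne hQ S hrn
  obtain ⟨v', hv'⟩ : ∃ v', v' = (polar Q v r)⁻¹ • v := ⟨_, rfl⟩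
  have hv'S : v' ∈ perp hQ S := by rw [hv']; exact (perp hQ S).smul_mem _ hvS
  have hv'r : polar Q v' r = 1 := by
    rw [hv', b_smul_left hQ, inv_mul_cancel₀ hvr]
  have hrr : polar Q r r = 0 := by rw [b_self hQ, hr, mul_zero]
  refine ⟨v' - Q v' • r, (perp hQ S).sub_mem hv'S ((perp hQ S).smul_mem _ hrS), ?_, ?_⟩
  · rw [Q_sub hQ, Q_smul hQ, hr, b_smul_right hQ, hv'r]
    ring
  · rw [b_sub_left hQ, b_smul_left hQ, hv'r, hrr]
    ring

include hQ in
/-- a singular vector of `S^⊥` not orthogonal to a given vector outside `S` -/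
theorem exists_singular_gen (S : Submodule K (Fin n → K)) (hS : 2 * finrank K S + 6 < n)
    {w₀ : Fin n → K} (hw₀ : w₀ ∉ S) : ∃ u ∈ perp hQ S, Q u = 0 ∧ polar Q u w₀ ≠ 0 := by
  by_cases h2 : (2 : K) = 0
  · exact exists_singular2 hQ h2 S (by omega) hw₀
  · exact exists_singular hQ h2 S hS hw₀

include hQ in
/-- the same, with the singular vector outside `S` -/
theorem exists_singular_gen' (S : Submodule K (Fin n → K)) (hS : 2 * finrank K S + 8 < n)
    {w₀ : Fin n → K} (hw₀ : w₀ ∉ S) :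
    ∃ u ∈ perp hQ S, Q u = 0 ∧ polar Q u w₀ ≠ 0 ∧ u ∉ S := by
  obtain ⟨u, huS, huu, huw⟩ := exists_singular_gen hQ S (by omega) hw₀
  by_cases hu : u ∉ S
  · exact ⟨u, huS, huu, huw, hu⟩
  push Not at hu
  obtain ⟨S₂, hS₂⟩ : ∃ S₂ : Submodule K (Fin n → K), S₂ = S ⊔ Submodule.span K {w₀} := ⟨_, rfl⟩
  have hd : finrank K S₂ ≤ finrank K S + 1 := by
    rw [hS₂]; exact finrank_sup_span_singleton_le S w₀
  obtain ⟨t, htS, ht2⟩ := exists_mem_perp_not_mem hQ S S₂ (by omega)
  obtain ⟨u', hu'S, hu'u', hu't⟩ := exists_singular_gen hQ S₂ (by omega) ht2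
  have hle : S ≤ S₂ := by rw [hS₂]; exact le_sup_left
  have h1 : polar Q u' u = 0 := hu'S u (hle hu)
  have h2' : polar Q u' w₀ = 0 := by
    apply hu'S w₀
    rw [hS₂]
    exact (le_sup_right : Submodule.span K {w₀} ≤ S ⊔ Submodule.span K {w₀})
      (Submodule.mem_span_singleton_self w₀)
  refine ⟨u + u', (perp hQ S).add_mem huS (perp_anti hQ hle hu'S), ?_, ?_, ?_⟩
  · rw [Q_add Q, huu, hu'u', b_comm, h1]
    ring
  · rw [b_add_left hQ, h2', add_zero]
    exact huw
  · intro hmem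
    have h3 : u' ∈ S := by
      have := S.sub_mem hmem hu
      rwa [add_sub_cancel_left] at this
    apply hu't
    rw [b_comm]
    exact htS u' h3

include hQ in
/-- **spanning lemma**: a subspace containing all singular vectors of `S^⊥` contains `S^⊥` -/
theorem perp_le_of_singular_gen (S : Submodule K (Fin n → K)) (hS : 2 * finrank K S + 6 < n)
    (W : Submodule K (Fin n → K)) (h : ∀ y ∈ perp hQ S, Q y = 0 → y ∈ W) : perp hQ S ≤ W := by
  have h1 : perp hQ W ≤ S := by
    intro z hz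
    by_contra hzS
    obtain ⟨u, huS, huu, huz⟩ := exists_singular_gen hQ S hS hzS
    apply huz
    rw [b_comm]
    exact hz u (h u huS huu)
  have := perp_anti hQ h1
  rwa [perp_perp hQ] at this

end Cfsg.Agent.Helper45.C3U
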