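import Mathlib
import Cfsg.Agent.Helper45.C3UA
import Cfsg.Agent.Helper94.ORootG

/-!
# Quadratic geometry over a finite field on an arbitrary finite index type

The existence lemmas of `Helper45/C3UA.lean` (stated for `Fin n → K`) transported to `ι → F` along
`Fintype.equivFin ι`, together with a lemma producing a singular vector satisfying two
non-orthogonality conditions.
-/

set_option autoImplicit false
set_option linter.unusedSectionVars false
set_option linter.unusedVariables false
set_option linter.unusedSimpArgs false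

namespace Cfsg.Agent.Helper45.C3S

open Cfsg.Geo Module QuadraticMap Cfsg.Agent.Helper94 Cfsg.Agent.Helper94.ORoot

variable {F : Type*} [Field F] {ι : Type} [Fintype ι] [DecidableEq ι]
variable {Q : (ι → F) → F} (hQ : IsNondegenerateQuadraticForm Q)

/-- the orthogonal complement for the polar form -/
def perpG (S : Submodule F (ι → F)) : Submodule F (ι → F) where
  carrier := {x | ∀ s ∈ S, polar Q x s = 0}
  add_mem' := by
    intro a b ha hb s hs
    rw [B_add_left hQ, ha s hs, hb s hs, add_zero]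
  zero_mem' := fun s _ => B_zero_left hQ s
  smul_mem' := by
    intro c a ha s hs
    rw [B_smul_left hQ, ha s hs, mul_zero]

theorem mem_perpG {S : Submodule F (ι → F)} {x : ι → F} :
    x ∈ perpG hQ S ↔ ∀ s ∈ S, polar Q x s = 0 := Iff.rfl

theorem polar_of_mem_perpG {S : Submodule F (ι → F)} {x s : ι → F} (hx : x ∈ perpG hQ S)
    (hs : s ∈ S) : polar Q x s = 0 := hx s hs

theorem perpG_anti {S T : Submodule F (ι → F)} (h : S ≤ T) : perpG hQ T ≤ perpG hQ S :=
  fun _ hx s hs => hx s (h hs)

theorem mem_perpG_bot (x : ι → F) : x ∈ perpG hQ (⊥ : Submodule F (ι → F)) := by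
  intro s hs
  rw [(Submodule.mem_bot F).1 hs, B_zero_right hQ]

section Transport

variable {n : ℕ} (e : ι ≃ Fin n)

/-- reindexing of vectors -/
def tr : (Fin n → F) ≃ₗ[F] (ι → F) := LinearEquiv.funCongrLeft F F e

/-- the transported quadratic form -/
def Qt (Q : (ι → F) → F) : (Fin n → F) → F := fun v => Q (tr e v)

theorem polar_Qt (x y : Fin n → F) :
    polar (Qt e Q) x y = polar Q (tr (F := F) e x) (tr e y) := by
  unfold polar Qt
  rw [map_add]

include hQ in
theorem nondeg_Qt : IsNondegenerateQuadraticForm (Qt e Q) := by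
  refine ⟨?_, ⟨?_, ?_, ?_, ?_⟩, ?_⟩
  · intro c v
    show Q (tr e (c • v)) = c ^ 2 * Q (tr e v)
    rw [map_smul, hQ.smul]
  · intro x y v
    rw [polar_Qt, polar_Qt, polar_Qt, map_add, B_add_left hQ]
  · intro c x v
    rw [polar_Qt, polar_Qt, map_smul, B_smul_left hQ]
  · intro v x y
    rw [polar_Qt, polar_Qt, polar_Qt, map_add, B_add_right hQ]
  · intro c v x
    rw [polar_Qt, polar_Qt, map_smul, B_smul_right hQ]
  · intro v hv
    have hv' : tr (F := F) e v ≠ 0 := by
      intro h0
      apply hv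
      have := (tr (F := F) e).injective (h0.trans (map_zero _).symm)
      exact this
    obtain ⟨⟨x, hx⟩, ⟨x', hx'⟩⟩ := hQ.nondegenerate _ hv'
    refine ⟨⟨(tr e).symm x, ?_⟩, ⟨(tr e).symm x', ?_⟩⟩
    · rw [polar_Qt, LinearEquiv.apply_symm_apply]; exact hx
    · rw [polar_Qt, LinearEquiv.apply_symm_apply]; exact hx'

/-- the transported subspace -/
def St (S : Submodule F (ι → F)) : Submodule F (Fin n → F) :=
  S.map ((tr (F := F) e).symm : (ι → F) →ₗ[F] (Fin n → F))

theorem mem_St {S : Submodule F (ι → F)} {x : Fin n → F} : x ∈ St e S ↔ tr e x ∈ S := by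
  unfold St
  constructor
  · rintro ⟨s, hs, rfl⟩
    rw [LinearEquiv.coe_coe, LinearEquiv.apply_symm_apply]
    exact hs
  · intro h
    exact ⟨tr e x, h, by rw [LinearEquiv.coe_coe, LinearEquiv.symm_apply_apply]⟩

theorem finrank_St (S : Submodule F (ι → F)) : finrank F (St e S) = finrank F S :=
  LinearEquiv.finrank_map_eq (tr (F := F) e).symm S

theorem mem_perp_St {S : Submodule F (ι → F)} {x : Fin n → F} :
    x ∈ Cfsg.Agent.Helper45.OrInSL.perp (nondeg_Qt hQ e) (St e S) ↔ tr e x ∈ perpG hQ S := by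
  rw [Cfsg.Agent.Helper45.OrInSL.mem_perp, mem_perpG]
  constructor
  · intro h s hs
    have := h ((tr e).symm s) (by rw [mem_St, LinearEquiv.apply_symm_apply]; exact hs)
    rwa [polar_Qt, LinearEquiv.apply_symm_apply] at this
  · intro h s hs
    rw [polar_Qt]
    exact h _ (mem_St e |>.1 hs)

end Transport

variable [Fintype F]

include hQ in
theorem finrank_perpG (S : Submodule F (ι → F)) :
    finrank F (perpG hQ S) + finrank F S = Fintype.card ι := by
  have h1 := Cfsg.Agent.Helper45.OrInSL.finrank_perp (nondeg_Qt hQ (Fintype.equivFin ι))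
    (St (Fintype.equivFin ι) S)
  rw [finrank_St] at h1
  have h2 : Cfsg.Agent.Helper45.OrInSL.perp (nondeg_Qt hQ (Fintype.equivFin ι))
      (St (Fintype.equivFin ι) S) = St (Fintype.equivFin ι) (perpG hQ S) := by
    ext x
    rw [mem_perp_St, mem_St]
  rw [h2, finrank_St] at h1
  exact h1

include hQ in
/-- a singular vector of `S^⊥` outside `S` -/
theorem exists_sing_perpG_not_mem (S : Submodule F (ι → F))
    (hdim : 2 * finrank F S + 3 ≤ Fintype.card ι) : ∃ u ∈ perpG hQ S, Q u = 0 ∧ u ∉ S := by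
  obtain ⟨u, hu, huQ, hun⟩ := Cfsg.Agent.Helper45.C3U.exists_sing_perp_not_mem'
    (nondeg_Qt hQ (Fintype.equivFin ι)) (St (Fintype.equivFin ι) S) (by rw [finrank_St]; exact hdim)
  exact ⟨tr _ u, (mem_perp_St hQ _).1 hu, huQ, fun h => hun ((mem_St _).2 h)⟩

include hQ in
/-- a singular vector of `S^⊥` outside `S`, not orthogonal to a given `w₀ ∉ S` -/
theorem exists_singular_genG (S : Submodule F (ι → F))
    (hS : 2 * finrank F S + 8 < Fintype.card ι) {w₀ : ι → F} (hw₀ : w₀ ∉ S) :
    ∃ u ∈ perpG hQ S, Q u = 0 ∧ polar Q u w₀ ≠ 0 ∧ u ∉ S := by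
  obtain ⟨u, hu, huQ, huw, hun⟩ := Cfsg.Agent.Helper45.C3U.exists_singular_gen'
    (nondeg_Qt hQ (Fintype.equivFin ι)) (St (Fintype.equivFin ι) S)
    (by rw [finrank_St]; exact hS)
    (w₀ := (tr (Fintype.equivFin ι)).symm w₀)
    (by rw [mem_St, LinearEquiv.apply_symm_apply]; exact hw₀)
  refine ⟨tr _ u, (mem_perp_St hQ _).1 hu, huQ, ?_, fun h => hun ((mem_St _).2 h)⟩
  rwa [polar_Qt, LinearEquiv.apply_symm_apply] at huw

include hQ in
/-- `S^⊥` is spanned by its singular vectors -/
theorem perpG_le_of_singular (S : Submodule F (ι → F))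
    (hS : 2 * finrank F S + 6 < Fintype.card ι) (W : Submodule F (ι → F))
    (h : ∀ y ∈ perpG hQ S, Q y = 0 → y ∈ W) : perpG hQ S ≤ W := by
  have h1 := Cfsg.Agent.Helper45.C3U.perp_le_of_singular_gen
    (nondeg_Qt hQ (Fintype.equivFin ι)) (St (Fintype.equivFin ι) S)
    (by rw [finrank_St]; exact hS) (St (Fintype.equivFin ι) W) (by
      intro y hy hyQ
      rw [mem_St]
      exact h _ ((mem_perp_St hQ _).1 hy) hyQ)
  intro x hx
  have h2 : (tr (Fintype.equivFin ι)).symm x
      ∈ Cfsg.Agent.Helper45.OrInSL.perp (nondeg_Qt hQ (Fintype.equivFin ι))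
        (St (Fintype.equivFin ι) S) := by
    rw [mem_perp_St, LinearEquiv.apply_symm_apply]
    exact hx
  have h3 := h1 h2
  rwa [mem_St, LinearEquiv.apply_symm_apply] at h3

include hQ in
/-- a subspace of dimension more than half contains a non-singular vector -/
theorem exists_nonsingularG (U : Submodule F (ι → F)) (hU : Fintype.card ι < 2 * finrank F U) :
    ∃ u ∈ U, Q u ≠ 0 := by
  obtain ⟨u, hu, huQ⟩ := Cfsg.Agent.Helper45.OrInSL.exists_nonsingular_of_finrank
    (nondeg_Qt hQ (Fintype.equivFin ι)) (St (Fintype.equivFin ι) U)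
    (by rw [finrank_St]; exact hU)
  exact ⟨tr _ u, (mem_St _).1 hu, huQ⟩

end Cfsg.Agent.Helper45.C3S
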