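import Mathlib
import Cfsg.Agent.Helper45.C3SA
import Cfsg.Agent.Helper94.ORootG

/-!
# Quadratic fields of similitudes on an arbitrary finite index type

General-index copies of `Helper45/C3UB.lean` (`KDataG`, `Kspan`), of
`C3U.mem_normalizer_of_commute`, `C3U.linear_of_Kline` and `C3U.exists_nonK_line` (the latter for
an arbitrary invertible matrix).
-/

set_option autoImplicit false
set_option linter.unusedSectionVars false
set_option linter.unusedVariables false
set_option linter.unusedSimpArgs false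

namespace Cfsg.Agent.Helper45.C3S

open Matrix Cfsg Cfsg.Geo Cfsg.Agent.Helper94 Cfsg.Agent.Helper94.ORoot

variable {F : Type*} [Field F] {ι : Type} [Fintype ι] [DecidableEq ι]
variable {Q : (ι → F) → F}

/-- a generator `k` of a quadratic field `F[k]` of similitudes of `Q`, with `k + k* = τ` and
`k k* = ν` for the adjoint `k*` of `k` -/
structure KDataG (Q : (ι → F) → F) (k : Matrix ι ι F) (τ ν : F) : Prop where
  sq : k * k = τ • k - ν • (1 : Matrix ι ι F)
  irr : ∀ γ : F, γ * γ - τ * γ + ν ≠ 0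
  adj : ∀ u v : ι → F, QuadraticMap.polar Q (k *ᵥ u) v
    = τ * QuadraticMap.polar Q u v - QuadraticMap.polar Q u (k *ᵥ v)
  Qk : ∀ v : ι → F, Q (k *ᵥ v) = ν * Q v
  Bk : ∀ v : ι → F, QuadraticMap.polar Q v (k *ᵥ v) = τ * Q v

namespace KDataG

variable {k : Matrix ι ι F} {τ ν : F} (hk : KDataG Q k τ ν)

include hk in
theorem kk (v : ι → F) : k *ᵥ (k *ᵥ v) = τ • (k *ᵥ v) - ν • v := by
  rw [Matrix.mulVec_mulVec, hk.sq, Matrix.sub_mulVec, Matrix.smul_mulVec, Matrix.smul_mulVec,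
    Matrix.one_mulVec]

include hk in
theorem nu_ne : ν ≠ 0 := by
  have := hk.irr 0
  simpa using this

include hk in
/-- the norm form is anisotropic -/
theorem norm_ne {a b : F} (hab : a ≠ 0 ∨ b ≠ 0) : a * a + τ * a * b + ν * b * b ≠ 0 := by
  by_cases hb : b = 0
  · subst hb
    have ha : a ≠ 0 := by
      rcases hab with h | h
      · exact h
      · exact absurd rfl h
    simp [ha]
  · intro h0
    apply hk.irr (-(a / b))
    field_simp
    linear_combination h0

include hk in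
theorem adj' (hQ : IsNondegenerateQuadraticForm Q) (u v : ι → F) :
    QuadraticMap.polar Q u (k *ᵥ v)
      = τ * QuadraticMap.polar Q u v - QuadraticMap.polar Q (k *ᵥ u) v := by
  rw [hk.adj]; ring

include hk in
theorem B_kk (hQ : IsNondegenerateQuadraticForm Q) (u v : ι → F) :
    QuadraticMap.polar Q (k *ᵥ u) (k *ᵥ v) = ν * QuadraticMap.polar Q u v := by
  rw [hk.adj, hk.kk, B_sub_right hQ, B_smul_right hQ, B_smul_right hQ]
  ring

include hk in
/-- `u` and `k u` are linearly independent -/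
theorem li {u : ι → F} (hu : u ≠ 0) {a b : F} (h : a • u + b • (k *ᵥ u) = 0) :
    a = 0 ∧ b = 0 := by
  by_cases hb : b = 0
  · subst hb
    rw [zero_smul, add_zero] at h
    rcases smul_eq_zero.1 h with h' | h'
    · exact ⟨h', rfl⟩
    · exact absurd h' hu
  · exfalso
    have h1 : k *ᵥ u = (-(a / b)) • u := by
      have h3 : b • (k *ᵥ u) = -(a • u) := eq_neg_of_add_eq_zero_right h
      have h4 : k *ᵥ u = b⁻¹ • (b • (k *ᵥ u)) := by
        rw [smul_smul, inv_mul_cancel₀ hb, one_smul]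
      rw [h4, h3]
      module
    have h3 := hk.kk u
    rw [h1, Matrix.mulVec_smul, h1] at h3
    have h4 : ((-(a / b)) * (-(a / b)) - τ * (-(a / b)) + ν) • u = 0 := by
      have : ((-(a / b)) * (-(a / b)) - τ * (-(a / b)) + ν) • u
          = (-(a / b)) • (-(a / b)) • u - (τ • (-(a / b)) • u - ν • u) := by module
      rw [this, h3, sub_self]
    rcases smul_eq_zero.1 h4 with h' | h'
    · exact hk.irr _ h'
    · exact hu h'

include hk in
theorem ne_zero {u : ι → F} (hu : u ≠ 0) : k *ᵥ u ≠ 0 := by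
  intro h0
  have := hk.li hu (a := 0) (b := 1) (by rw [zero_smul, one_smul, zero_add, h0])
  exact one_ne_zero this.2

include hk in
theorem sp (hQ : IsNondegenerateQuadraticForm Q) {u : ι → F} (hu : Q u = 0) :
    SP Q u (k *ᵥ u) :=
  ⟨hu, by rw [hk.Qk, hu, mul_zero], by rw [hk.Bk, hu, mul_zero]⟩

/-- the `K`-line of a vector -/
def Kspan (k : Matrix ι ι F) (x : ι → F) : Submodule F (ι → F) :=
  Submodule.span F {x, k *ᵥ x}

theorem mem_Kspan {x v : ι → F} : v ∈ Kspan k x ↔ ∃ a b : F, a • x + b • (k *ᵥ x) = v := by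
  unfold Kspan
  exact Submodule.mem_span_pair

theorem self_mem_Kspan (x : ι → F) : x ∈ Kspan k x :=
  Submodule.subset_span (by simp)

theorem k_self_mem_Kspan (x : ι → F) : k *ᵥ x ∈ Kspan k x :=
  Submodule.subset_span (by simp)

include hk in
theorem k_mem_Kspan {x v : ι → F} (hv : v ∈ Kspan k x) : k *ᵥ v ∈ Kspan k x := by
  obtain ⟨a, b, rfl⟩ := mem_Kspan.1 hv
  rw [Matrix.mulVec_add, Matrix.mulVec_smul, Matrix.mulVec_smul, hk.kk]
  rw [mem_Kspan]
  refine ⟨-(b * ν), a + b * τ, ?_⟩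
  module

include hk in
/-- a non-zero `K`-multiple of `v` in the `K`-line of `x` forces `v` into that line -/
theorem mem_Kspan_of_comb {x v : ι → F} {a b : F} (hab : a ≠ 0 ∨ b ≠ 0)
    (h : a • v + b • (k *ᵥ v) ∈ Kspan k x) : v ∈ Kspan k x := by
  have h1 := hk.k_mem_Kspan h
  rw [Matrix.mulVec_add, Matrix.mulVec_smul, Matrix.mulVec_smul, hk.kk] at h1
  have h3 : (a + b * τ) • (a • v + b • (k *ᵥ v)) - b • (a • (k *ᵥ v) + b • (τ • (k *ᵥ v) - ν • v))
      ∈ Kspan k x :=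
    (Kspan k x).sub_mem ((Kspan k x).smul_mem _ h) ((Kspan k x).smul_mem _ h1)
  have h4 : (a + b * τ) • (a • v + b • (k *ᵥ v)) - b • (a • (k *ᵥ v) + b • (τ • (k *ᵥ v) - ν • v))
      = (a * a + τ * a * b + ν * b * b) • v := by module
  rw [h4] at h3
  have h5 := (Kspan k x).smul_mem (a * a + τ * a * b + ν * b * b)⁻¹ h3
  rwa [smul_smul, inv_mul_cancel₀ (hk.norm_ne hab), one_smul] at h5

include hk in
/-- two `K`-lines are equal or independent -/
theorem li4 {x₁ x₂ : ι → F} (hx₁ : x₁ ≠ 0) (hx₂ : x₂ ∉ Kspan k x₁) {a₁ b₁ a₂ b₂ : F}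
    (h : a₁ • x₁ + b₁ • (k *ᵥ x₁) + (a₂ • x₂ + b₂ • (k *ᵥ x₂)) = 0) :
    a₁ = 0 ∧ b₁ = 0 ∧ a₂ = 0 ∧ b₂ = 0 := by
  have h2 : a₂ = 0 ∧ b₂ = 0 := by
    by_contra hcon
    have hab : a₂ ≠ 0 ∨ b₂ ≠ 0 := by
      by_contra h'
      push Not at h'
      exact hcon h'
    apply hx₂
    apply hk.mem_Kspan_of_comb hab
    have : a₂ • x₂ + b₂ • (k *ᵥ x₂) = -(a₁ • x₁ + b₁ • (k *ᵥ x₁)) :=
      eq_neg_of_add_eq_zero_right h
    rw [this]
    apply (Kspan k x₁).neg_mem
    rw [mem_Kspan]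
    exact ⟨a₁, b₁, rfl⟩
  rw [h2.1, h2.2, zero_smul, zero_smul, add_zero, add_zero] at h
  have h1 := hk.li hx₁ h
  exact ⟨h1.1, h1.2, h2.1, h2.2⟩

end KDataG



end Cfsg.Agent.Helper45.C3S
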