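import Mathlib
import Cfsg.Agent.Helper45.C3SB

/-!
# An invertible matrix outside the normaliser of `K` moves a singular `K`-line off the `K`-lines
(general index type, arbitrary invertible matrix)
-/

set_option autoImplicit false
set_option linter.unusedSectionVars false
set_option linter.unusedVariables false
set_option linter.unusedSimpArgs false

namespace Cfsg.Agent.Helper45.C3S

open Matrix Cfsg Cfsg.Geo Cfsg.Agent.Helper94 Cfsg.Agent.Helper94.ORoot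
open KDataG

variable {F : Type*} [Field F] {ι : Type} [Fintype ι] [DecidableEq ι]
variable {Q : (ι → F) → F} (hQ : IsNondegenerateQuadraticForm Q)
variable {k : Matrix ι ι F} {τ ν : F} (hk : KDataG Q k τ ν)

/-- an invertible matrix commuting with `k` normalises `K = F[k]` -/
theorem mem_normalizer_of_commuteG (K : Subalgebra F (Matrix ι ι F))
    (hgen : ∀ x ∈ K, ∃ a b : F, x = a • (1 : Matrix ι ι F) + b • k)
    (g : GL ι F) (hg : (g : Matrix ι ι F) * k = k * (g : Matrix ι ι F)) :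
    g ∈ Cfsg.Geo.subalgebraNormalizer K := by
  have hgi : (g : Matrix ι ι F) * ((g⁻¹ : GL ι F) : Matrix ι ι F) = 1 := by
    rw [← Units.val_mul, mul_inv_cancel, Units.val_one]
  have hig : ((g⁻¹ : GL ι F) : Matrix ι ι F) * (g : Matrix ι ι F) = 1 := by
    rw [← Units.val_mul, inv_mul_cancel, Units.val_one]
  have hcomm : ∀ x ∈ K, (g : Matrix ι ι F) * x * ((g⁻¹ : GL ι F) : Matrix ι ι F) = x := by
    intro x hx
    obtain ⟨a, b, rfl⟩ := hgen x hx
    rw [mul_add, Matrix.mul_smul, Matrix.mul_smul, mul_one, hg, add_mul, Matrix.smul_mul,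
      Matrix.smul_mul, hgi, mul_assoc, hgi, mul_one]
  intro x
  show x ∈ K ↔ (g : Matrix ι ι F) * x * ((g⁻¹ : GL ι F) : Matrix ι ι F) ∈ K
  constructor
  · intro hx
    rw [hcomm x hx]
    exact hx
  · intro hy
    obtain ⟨y, hydef⟩ : ∃ y, y = (g : Matrix ι ι F) * x * ((g⁻¹ : GL ι F) : Matrix ι ι F) :=
      ⟨_, rfl⟩
    rw [← hydef] at hy
    have h1 := hcomm y hy
    have hyc : (g : Matrix ι ι F) * y = y * (g : Matrix ι ι F) := by
      have : (g : Matrix ι ι F) * y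
          = (g : Matrix ι ι F) * y * ((g⁻¹ : GL ι F) : Matrix ι ι F) * (g : Matrix ι ι F) := by
        rw [mul_assoc _ _ (g : Matrix ι ι F), hig, mul_one]
      rw [this, h1]
    have h3 : x = ((g⁻¹ : GL ι F) : Matrix ι ι F) * y * (g : Matrix ι ι F) := by
      rw [hydef, mul_assoc, mul_assoc, hig, mul_one, ← mul_assoc, hig, one_mul]
    have h4 : x = y := by
      rw [h3, mul_assoc, ← hyc, ← mul_assoc, hig, one_mul]
    rw [h4]
    exact hy

theorem finrank_Kspan_le (x : ι → F) : Module.finrank F (Kspan k x) ≤ 2 := by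
  unfold Kspan
  classical
  have h := finrank_span_finset_le_card (R := F) ({x, k *ᵥ x} : Finset (ι → F))
  have h2 : ({x, k *ᵥ x} : Finset (ι → F)).card ≤ 2 := Finset.card_le_two
  have h3 : (({x, k *ᵥ x} : Finset (ι → F)) : Set (ι → F)) = {x, k *ᵥ x} := by
    push_cast
    rfl
  rw [Set.finrank, h3] at h
  omega

theorem finrank_span_quad_leG (x y z w : ι → F) :
    Module.finrank F (Submodule.span F {x, y, z, w} : Submodule F (ι → F)) ≤ 4 := by
  classical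
  have h := finrank_span_finset_le_card (R := F) ({x, y, z, w} : Finset (ι → F))
  have h2 := Finset.card_le_four (a := x) (b := y) (c := z) (d := w)
  have h3 : (({x, y, z, w} : Finset (ι → F)) : Set (ι → F)) = {x, y, z, w} := by
    push_cast
    rfl
  rw [Set.finrank, h3] at h
  omega

variable [Fintype F]

include hQ hk in
/-- a linear map sending every singular vector into its `K`-line is in `K` -/
theorem linear_of_KlineG (hn : 11 ≤ Fintype.card ι) (L : (ι → F) →ₗ[F] (ι → F))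
    (hL : ∀ x : ι → F, Q x = 0 → L x ∈ Kspan k x) :
    ∃ a b : F, ∀ v : ι → F, L v = a • v + b • (k *ᵥ v) := by
  -- comparison of coefficients along an orthogonal independent pair
  have step2 : ∀ (x₁ x₂ : ι → F) (a₁ b₁ a₂ b₂ : F), Q x₁ = 0 → Q x₂ = 0 → x₁ ≠ 0 →
      QuadraticMap.polar Q x₁ x₂ = 0 → x₂ ∉ Kspan k x₁ → L x₁ = a₁ • x₁ + b₁ • (k *ᵥ x₁) →
      L x₂ = a₂ • x₂ + b₂ • (k *ᵥ x₂) → a₁ = a₂ ∧ b₁ = b₂ := by
    intro x₁ x₂ a₁ b₁ a₂ b₂ h₁ h₂ hx₁0 h12 hx₂n e₁ e₂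
    have h3 : Q (x₁ + x₂) = 0 := by
      rw [Q_add (Q := Q), h₁, h₂, h12]; ring
    obtain ⟨a₃, b₃, e₃⟩ := mem_Kspan.1 (hL _ h3)
    rw [map_add, e₁, e₂, Matrix.mulVec_add] at e₃
    have h4 : (a₁ - a₃) • x₁ + (b₁ - b₃) • (k *ᵥ x₁)
        + ((a₂ - a₃) • x₂ + (b₂ - b₃) • (k *ᵥ x₂)) = 0 := by
      have : (a₁ - a₃) • x₁ + (b₁ - b₃) • (k *ᵥ x₁)
          + ((a₂ - a₃) • x₂ + (b₂ - b₃) • (k *ᵥ x₂))
          = (a₁ • x₁ + b₁ • (k *ᵥ x₁) + (a₂ • x₂ + b₂ • (k *ᵥ x₂)))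
            - (a₃ • (x₁ + x₂) + b₃ • (k *ᵥ x₁ + k *ᵥ x₂)) := by module
      rw [this, e₃, sub_self]
    obtain ⟨h5, h6, h7, h8⟩ := hk.li4 hx₁0 hx₂n h4
    constructor
    · rw [sub_eq_zero.1 h5, sub_eq_zero.1 h7]
    · rw [sub_eq_zero.1 h6, sub_eq_zero.1 h8]
  -- comparison of coefficients for arbitrary singular vectors
  have step3 : ∀ (x₁ x₂ : ι → F) (a₁ b₁ a₂ b₂ : F), Q x₁ = 0 → Q x₂ = 0 → x₁ ≠ 0 →
      x₂ ≠ 0 → L x₁ = a₁ • x₁ + b₁ • (k *ᵥ x₁) →
      L x₂ = a₂ • x₂ + b₂ • (k *ᵥ x₂) → a₁ = a₂ ∧ b₁ = b₂ := by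
    intro x₁ x₂ a₁ b₁ a₂ b₂ h₁ h₂ hx₁0 hx₂0 e₁ e₂
    obtain ⟨S, hS⟩ : ∃ S : Submodule F (ι → F), S = Kspan k x₁ ⊔ Kspan k x₂ := ⟨_, rfl⟩
    have hfr : Module.finrank F S ≤ 4 := by
      rw [hS]
      have h1 := Submodule.finrank_add_le_finrank_add_finrank (Kspan k x₁) (Kspan k x₂)
      have h3 := finrank_Kspan_le (k := k) x₁
      have h4 := finrank_Kspan_le (k := k) x₂
      omega
    obtain ⟨x₃, hx₃S, hx₃Q, hx₃n⟩ := exists_sing_perpG_not_mem hQ S (by omega)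
    have hle₁ : Kspan k x₁ ≤ S := by rw [hS]; exact le_sup_left
    have hle₂ : Kspan k x₂ ≤ S := by rw [hS]; exact le_sup_right
    have hx₃0 : x₃ ≠ 0 := by
      rintro rfl
      exact hx₃n (Submodule.zero_mem _)
    obtain ⟨a₃, b₃, e₃⟩ := mem_Kspan.1 (hL _ hx₃Q)
    have h13 : QuadraticMap.polar Q x₁ x₃ = 0 := by
      rw [B_comm]; exact hx₃S x₁ (hle₁ (self_mem_Kspan x₁))
    have h23 : QuadraticMap.polar Q x₂ x₃ = 0 := by
      rw [B_comm]; exact hx₃S x₂ (hle₂ (self_mem_Kspan x₂))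
    have r1 := step2 x₁ x₃ a₁ b₁ a₃ b₃ h₁ hx₃Q hx₁0 h13 (fun h => hx₃n (hle₁ h)) e₁ e₃.symm
    have r2 := step2 x₂ x₃ a₂ b₂ a₃ b₃ h₂ hx₃Q hx₂0 h23 (fun h => hx₃n (hle₂ h)) e₂ e₃.symm
    exact ⟨r1.1.trans r2.1.symm, r1.2.trans r2.2.symm⟩
  -- a base point
  obtain ⟨x₀, -, hx₀Q, hx₀n⟩ := exists_sing_perpG_not_mem hQ (⊥ : Submodule F (ι → F))
    (by rw [finrank_bot]; omega)
  have hx₀0 : x₀ ≠ 0 := by
    rintro rfl
    exact hx₀n (Submodule.zero_mem _)
  obtain ⟨a, b, e₀⟩ := mem_Kspan.1 (hL _ hx₀Q)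
  refine ⟨a, b, ?_⟩
  obtain ⟨W, hW⟩ : ∃ W : Submodule F (ι → F), ∀ v, v ∈ W ↔ L v = a • v + b • (k *ᵥ v) := by
    refine ⟨LinearMap.ker (L - a • LinearMap.id - b • Matrix.mulVecLin k), fun v => ?_⟩
    rw [LinearMap.mem_ker, LinearMap.sub_apply, LinearMap.sub_apply, LinearMap.smul_apply,
      LinearMap.smul_apply, LinearMap.id_apply, Matrix.mulVecLin_apply]
    constructor
    · intro h
      have : L v = (L v - a • v - b • (k *ᵥ v)) + (a • v + b • (k *ᵥ v)) := by abel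
      rw [this, h, zero_add]
    · intro h
      rw [h]; abel
  have hall : perpG hQ (⊥ : Submodule F (ι → F)) ≤ W := by
    apply perpG_le_of_singular hQ ⊥ (by rw [finrank_bot]; omega)
    intro y _ hyQ
    rw [hW]
    by_cases hy0 : y = 0
    · rw [hy0, map_zero, Matrix.mulVec_zero, smul_zero, smul_zero, add_zero]
    · obtain ⟨a', b', e'⟩ := mem_Kspan.1 (hL _ hyQ)
      obtain ⟨r1, r2⟩ := step3 x₀ y a b a' b' hx₀Q hyQ hx₀0 hy0 e₀.symm e'.symm
      rw [r1, r2]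
      exact e'.symm
  intro v
  rw [← hW]
  exact hall (mem_perpG_bot hQ v)

include hQ hk in
/-- **an invertible matrix outside the normaliser of `K` moves some singular `K`-line to a plane
that is not `K`-invariant** -/
theorem exists_nonK_lineG (hn : 11 ≤ Fintype.card ι) (K : Subalgebra F (Matrix ι ι F))
    (hkK : k ∈ K) (hgen : ∀ x ∈ K, ∃ a b : F, x = a • (1 : Matrix ι ι F) + b • k)
    (g : GL ι F) (hg : g ∉ Cfsg.Geo.subalgebraNormalizer K) :
    ∃ x : ι → F, Q x = 0 ∧ x ≠ 0 ∧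
      k *ᵥ ((g : Matrix ι ι F) *ᵥ x)
        ∉ Submodule.span F {(g : Matrix ι ι F) *ᵥ x, (g : Matrix ι ι F) *ᵥ (k *ᵥ x)} := by
  by_contra hcon
  push Not at hcon
  apply hg
  obtain ⟨Gm, hGm⟩ : ∃ Gm : Matrix ι ι F, Gm = (g : Matrix ι ι F) := ⟨_, rfl⟩
  obtain ⟨Gi, hGi⟩ : ∃ Gi : Matrix ι ι F, Gi = ((g⁻¹ : GL ι F) : Matrix ι ι F) := ⟨_, rfl⟩
  have hmi : Gm * Gi = 1 := by
    rw [hGm, hGi, ← Units.val_mul, mul_inv_cancel, Units.val_one]
  have him : Gi * Gm = 1 := by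
    rw [hGm, hGi, ← Units.val_mul, inv_mul_cancel, Units.val_one]
  rw [← hGm] at hcon
  -- the conjugate of `k`
  have hL : ∀ x : ι → F, Q x = 0 → Matrix.mulVecLin (Gi * k * Gm) x ∈ Kspan k x := by
    intro x hx
    by_cases hx0 : x = 0
    · rw [hx0, map_zero]
      exact Submodule.zero_mem _
    have h1 := hcon x hx hx0
    obtain ⟨a, b, hab⟩ := Submodule.mem_span_pair.1 h1
    rw [Matrix.mulVecLin_apply, ← Matrix.mulVec_mulVec, ← Matrix.mulVec_mulVec, ← hab,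
      Matrix.mulVec_add, Matrix.mulVec_smul, Matrix.mulVec_smul,
      Matrix.mulVec_mulVec, Matrix.mulVec_mulVec, him, Matrix.one_mulVec, Matrix.one_mulVec]
    rw [mem_Kspan]
    exact ⟨a, b, rfl⟩
  obtain ⟨a, b, hab⟩ := linear_of_KlineG hQ hk hn _ hL
  have hM : Gi * k * Gm = a • (1 : Matrix ι ι F) + b • k := by
    apply Matrix.mulVec_injective
    funext v
    have := hab v
    rw [Matrix.mulVecLin_apply] at this
    rw [this, Matrix.add_mulVec, Matrix.smul_mulVec, Matrix.smul_mulVec, Matrix.one_mulVec]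
  -- `k = Gm (a + b k) Gi`
  have hk1 : k = a • (1 : Matrix ι ι F) + b • (Gm * k * Gi) := by
    have h1 : k = Gm * (Gi * k * Gm) * Gi := by
      rw [← mul_assoc, ← mul_assoc, hmi, one_mul, mul_assoc, hmi, mul_one]
    conv_lhs => rw [h1, hM]
    rw [mul_add, Matrix.mul_smul, Matrix.mul_smul, mul_one, add_mul, Matrix.smul_mul,
      Matrix.smul_mul, hmi]
  have hb : b ≠ 0 := by
    rintro rfl
    rw [zero_smul, add_zero] at hk1
    obtain ⟨x₀, -, hx₀Q, hx₀n⟩ := exists_sing_perpG_not_mem hQ (⊥ : Submodule F (ι → F))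
      (by rw [finrank_bot]; omega)
    have hx₀0 : x₀ ≠ 0 := by
      rintro rfl
      exact hx₀n (Submodule.zero_mem _)
    have h1 : a • x₀ + (-1 : F) • (k *ᵥ x₀) = 0 := by
      conv_lhs => rw [hk1]
      rw [Matrix.smul_mulVec, Matrix.one_mulVec]
      module
    have := (hk.li hx₀0 h1).2
    exact absurd this (by norm_num)
  have hk2 : Gm * k * Gi = b⁻¹ • (k - a • (1 : Matrix ι ι F)) := by
    have : k - a • (1 : Matrix ι ι F) = b • (Gm * k * Gi) := by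
      conv_lhs => rw [hk1]
      abel
    rw [this, smul_smul, inv_mul_cancel₀ hb, one_smul]
  have hk2K : Gm * k * Gi ∈ K := by
    rw [hk2]
    exact K.smul_mem (K.sub_mem hkK (K.smul_mem K.one_mem a)) _
  have hMK : Gi * k * Gm ∈ K := by
    rw [hM]
    exact K.add_mem (K.smul_mem K.one_mem a) (K.smul_mem hkK b)
  intro x
  show x ∈ K ↔ (g : Matrix ι ι F) * x * ((g⁻¹ : GL ι F) : Matrix ι ι F) ∈ K
  rw [← hGm, ← hGi]
  constructor
  · intro hx
    obtain ⟨a', b', rfl⟩ := hgen x hx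
    have : Gm * (a' • (1 : Matrix ι ι F) + b' • k) * Gi
        = a' • (1 : Matrix ι ι F) + b' • (Gm * k * Gi) := by
      rw [mul_add, Matrix.mul_smul, Matrix.mul_smul, mul_one, add_mul, Matrix.smul_mul,
        Matrix.smul_mul, hmi]
    rw [this]
    exact K.add_mem (K.smul_mem K.one_mem a') (K.smul_mem hk2K b')
  · intro hy
    obtain ⟨a', b', hab'⟩ := hgen _ hy
    have h1 : x = Gi * (Gm * x * Gi) * Gm := by
      rw [← mul_assoc, ← mul_assoc, him, one_mul, mul_assoc, him, mul_one]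
    rw [h1, hab']
    have : Gi * (a' • (1 : Matrix ι ι F) + b' • k) * Gm
        = a' • (1 : Matrix ι ι F) + b' • (Gi * k * Gm) := by
      rw [mul_add, Matrix.mul_smul, Matrix.mul_smul, mul_one, add_mul, Matrix.smul_mul,
        Matrix.smul_mul, him]
    rw [this]
    exact K.add_mem (K.smul_mem K.one_mem a') (K.smul_mem hMK b')

include hQ in
/-- a singular vector of `S^⊥` satisfying two non-orthogonality conditions -/
theorem exists_singular_two (S : Submodule F (ι → F))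
    (hS : 2 * Module.finrank F S + 8 < Fintype.card ι) {a b : ι → F} (ha : a ∉ S) (hb : b ∉ S) :
    ∃ w ∈ perpG hQ S, Q w = 0 ∧ QuadraticMap.polar Q w a ≠ 0 ∧ QuadraticMap.polar Q w b ≠ 0 := by
  obtain ⟨w₁, hw₁S, hw₁Q, hw₁a, -⟩ := exists_singular_genG hQ S hS ha
  obtain ⟨w₂, hw₂S, hw₂Q, hw₂b, -⟩ := exists_singular_genG hQ S hS hb
  by_cases h1 : QuadraticMap.polar Q w₁ b ≠ 0
  · exact ⟨w₁, hw₁S, hw₁Q, hw₁a, h1⟩
  by_cases h2 : QuadraticMap.polar Q w₂ a ≠ 0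
  · exact ⟨w₂, hw₂S, hw₂Q, h2, hw₂b⟩
  push Not at h1 h2
  by_cases h12 : QuadraticMap.polar Q w₁ w₂ = 0
  · refine ⟨w₁ + w₂, (perpG hQ S).add_mem hw₁S hw₂S, ?_, ?_, ?_⟩
    · rw [Q_add (Q := Q), hw₁Q, hw₂Q, h12]; ring
    · rw [B_add_left hQ, h2, add_zero]; exact hw₁a
    · rw [B_add_left hQ, h1, zero_add]; exact hw₂b
  · obtain ⟨S', hS'⟩ : ∃ S' : Submodule F (ι → F),
        S' = S ⊔ Submodule.span F {w₁, w₂, a, b} := ⟨_, rfl⟩
    have hfr4 : Module.finrank F (Submodule.span F {w₁, w₂, a, b} : Submodule F (ι → F)) ≤ 4 :=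
      finrank_span_quad_leG w₁ w₂ a b
    have hfr : Module.finrank F S' ≤ Module.finrank F S + 4 := by
      rw [hS']
      have := Submodule.finrank_add_le_finrank_add_finrank S (Submodule.span F {w₁, w₂, a, b})
      omega
    have hperp := finrank_perpG hQ S'
    obtain ⟨x, hxS', hxQ⟩ := exists_nonsingularG hQ (perpG hQ S') (by omega)
    have hSle : S ≤ S' := by rw [hS']; exact le_sup_left
    have hmem : ∀ v ∈ ({w₁, w₂, a, b} : Set (ι → F)), v ∈ S' := by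
      intro v hv
      rw [hS']
      exact Submodule.mem_sup_right (Submodule.subset_span hv)
    have hx1 : QuadraticMap.polar Q x w₁ = 0 := hxS' _ (hmem w₁ (by simp))
    have hx2 : QuadraticMap.polar Q x w₂ = 0 := hxS' _ (hmem w₂ (by simp))
    have hxa : QuadraticMap.polar Q x a = 0 := hxS' _ (hmem a (by simp))
    have hxb : QuadraticMap.polar Q x b = 0 := hxS' _ (hmem b (by simp))
    obtain ⟨t, ht⟩ : ∃ t : F, t = -(Q x / QuadraticMap.polar Q w₁ w₂) := ⟨_, rfl⟩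
    have ht0 : t ≠ 0 := by
      rw [ht]
      exact neg_ne_zero.2 (div_ne_zero hxQ h12)
    refine ⟨w₁ + t • w₂ + x, (perpG hQ S).add_mem ((perpG hQ S).add_mem hw₁S
      ((perpG hQ S).smul_mem t hw₂S)) (perpG_anti hQ hSle hxS'), ?_, ?_, ?_⟩
    · rw [Q_add (Q := Q), Q_add (Q := Q), Q_smul hQ, hw₁Q, hw₂Q, B_smul_right hQ, B_add_left hQ,
        B_smul_left hQ, B_comm w₁ x, B_comm w₂ x, hx1, hx2, ht]
      field_simp
      ring
    · rw [B_add_left hQ, B_add_left hQ, B_smul_left hQ, h2, hxa, mul_zero, add_zero, add_zero]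
      exact hw₁a
    · rw [B_add_left hQ, B_add_left hQ, B_smul_left hQ, h1, hxb, zero_add, add_zero]
      exact mul_ne_zero ht0 hw₂b

end Cfsg.Agent.Helper45.C3S
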