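import Mathlib
import Cfsg.Agent.Helper45.C3SC
import Cfsg.Agent.Helper13.SpDec1

/-!
# A quadratic field of matrices closed under the symplectic adjoint: data and unitary transvections

For a quadratic field `K ≤ M_{2m}(F)` (`F` of odd characteristic) closed under the adjoint of the
standard alternating form `f`, not consisting of self-adjoint elements, we extract a generator `θ`
with `θ* = -θ`, `θ² = δ` a non-square.  `B(u,v) = f(θ u, v)` is then a non-degenerate symmetric form,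
with quadratic form `Qθ`, for which `θ` is a similitude; the unitary transvections
`rho θ δ u c = t_u(cδ) t_{θu}(-c)` (`u` singular) lie in `Sp ∩ N(K)`.
-/

set_option autoImplicit false
set_option linter.unusedSectionVars false
set_option linter.unusedVariables false
set_option linter.unusedSimpArgs false

namespace Cfsg.Agent.Helper45.C3S

open Matrix Cfsg Cfsg.Geo Cfsg.Agent.Helper13

variable {F : Type*} [Field F] {m : ℕ}

local notation "Vec" => (Fin m ⊕ Fin m → F)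
local notation "Mat" => Matrix (Fin m ⊕ Fin m) (Fin m ⊕ Fin m) F
local notation "⟪" x ", " y "⟫" => Cfsg.sympForm m F x y

/-- a generator `θ` of the quadratic field with `θ* = -θ` and `θ² = δ` -/
structure SData (θ : Mat) (δ : F) : Prop where
  sq : θ * θ = δ • (1 : Mat)
  irr : ∀ γ : F, γ * γ ≠ δ
  adj : ∀ u v : Vec, ⟪θ *ᵥ u, v⟫ = -⟪u, θ *ᵥ v⟫
  two : (2 : F) ≠ 0

/-- the quadratic form `v ↦ f(θ v, v) / 2` -/
def Qθ (θ : Mat) (v : Vec) : F := 2⁻¹ * ⟪θ *ᵥ v, v⟫

namespace SData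

variable {θ : Matrix (Fin m ⊕ Fin m) (Fin m ⊕ Fin m) F} {δ : F} (hs : SData θ δ)

include hs in
theorem tt (v : Vec) : θ *ᵥ (θ *ᵥ v) = δ • v := by
  rw [Matrix.mulVec_mulVec, hs.sq, Matrix.smul_mulVec, Matrix.one_mulVec]

include hs in
theorem delta_ne : δ ≠ 0 := by
  intro h
  exact hs.irr 0 (by rw [h, mul_zero])

include hs in
theorem adj' (u v : Vec) : ⟪u, θ *ᵥ v⟫ = -⟪θ *ᵥ u, v⟫ := by
  rw [hs.adj, neg_neg]

include hs in
theorem f_tt (u v : Vec) : ⟪θ *ᵥ u, θ *ᵥ v⟫ = -(δ * ⟪u, v⟫) := by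
  rw [hs.adj, hs.tt, sympForm_smul_right]

include hs in
theorem B_symm (u v : Vec) : ⟪θ *ᵥ u, v⟫ = ⟪θ *ᵥ v, u⟫ := by
  rw [hs.adj, sympForm_swap, neg_neg]

include hs in
theorem polar_Qθ (u v : Vec) : QuadraticMap.polar (Qθ θ) u v = ⟪θ *ᵥ u, v⟫ := by
  unfold QuadraticMap.polar Qθ
  rw [Matrix.mulVec_add, sympForm_add_left, sympForm_add_right, sympForm_add_right,
    hs.B_symm v u]
  have h2 := hs.two
  field_simp
  ring

include hs in
theorem nondeg_Qθ : IsNondegenerateQuadraticForm (Qθ θ) := by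
  refine ⟨?_, ⟨?_, ?_, ?_, ?_⟩, ?_⟩
  · intro c v
    show 2⁻¹ * ⟪θ *ᵥ (c • v), c • v⟫ = c ^ 2 * (2⁻¹ * ⟪θ *ᵥ v, v⟫)
    rw [Matrix.mulVec_smul, sympForm_smul_left, sympForm_smul_right]
    ring
  · intro x y v
    rw [hs.polar_Qθ, hs.polar_Qθ, hs.polar_Qθ, Matrix.mulVec_add, sympForm_add_left]
  · intro c x v
    rw [hs.polar_Qθ, hs.polar_Qθ, Matrix.mulVec_smul, sympForm_smul_left]
  · intro v x y
    rw [hs.polar_Qθ, hs.polar_Qθ, hs.polar_Qθ, sympForm_add_right]
  · intro c v x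
    rw [hs.polar_Qθ, hs.polar_Qθ, sympForm_smul_right]
  · intro v hv
    obtain ⟨x, hx⟩ := sympForm_nondeg_left hv
    have hθv : θ *ᵥ v ≠ 0 := by
      intro h0
      have := hs.tt v
      rw [h0, Matrix.mulVec_zero] at this
      rcases smul_eq_zero.1 this.symm with h | h
      · exact hs.delta_ne h
      · exact hv h
    obtain ⟨x', hx'⟩ := sympForm_nondeg_left hθv
    refine ⟨⟨δ⁻¹ • (θ *ᵥ x), ?_⟩, ⟨x', ?_⟩⟩
    · rw [hs.polar_Qθ, Matrix.mulVec_smul, hs.tt, smul_smul, inv_mul_cancel₀ hs.delta_ne,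
        one_smul]
      exact hx
    · rw [hs.polar_Qθ, sympForm_swap]
      exact neg_ne_zero.2 hx'

include hs in
/-- `θ` is a generator of a quadratic field of similitudes of `Qθ` -/
theorem kdata : KDataG (Qθ θ) θ 0 (-δ) := by
  refine ⟨?_, ?_, ?_, ?_, ?_⟩
  · show θ * θ = (0 : F) • θ - (-δ) • (1 : Mat)
    rw [hs.sq, zero_smul, zero_sub, neg_smul, neg_neg]
  · intro γ h
    apply hs.irr γ
    linear_combination h
  · intro u v
    rw [hs.polar_Qθ, hs.polar_Qθ, hs.polar_Qθ, hs.adj (θ *ᵥ u) v]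
    ring
  · intro v
    unfold Qθ
    rw [hs.tt, sympForm_smul_left, hs.adj' v v]
    ring_nf
  · intro v
    rw [hs.polar_Qθ, sympForm_self, zero_mul]

end SData

/-- the unitary transvection along a singular vector `u` -/
def rho (θ : Mat) (δ : F) (u : Vec) (c : F) : GL (Fin m ⊕ Fin m) F :=
  tvGL u (c * δ) * tvGL (θ *ᵥ u) (-c)

theorem rho_mem_spGL (θ : Mat) (δ : F) (u : Vec) (c : F) : rho θ δ u c ∈ Cfsg.spGL m F :=
  (Cfsg.spGL m F).mul_mem (tvGL_mem_spGL _ _) (tvGL_mem_spGL _ _)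

theorem tvGL_mulVec (v : Vec) (c : F) (x : Vec) :
    ((tvGL v c : GL (Fin m ⊕ Fin m) F) : Mat) *ᵥ x = x + (c * ⟪x, v⟫) • v := by
  rw [tvGL_coe, sympTransvection_mulVec]

theorem rho_mulVec (θ : Mat) (δ : F) {u : Vec} (hu : ⟪θ *ᵥ u, u⟫ = 0) (c : F) (x : Vec) :
    ((rho θ δ u c : GL (Fin m ⊕ Fin m) F) : Mat) *ᵥ x
      = x + (c * δ * ⟪x, u⟫) • u - (c * ⟪x, θ *ᵥ u⟫) • (θ *ᵥ u) := by
  unfold rho
  rw [Units.val_mul, ← Matrix.mulVec_mulVec, tvGL_mulVec, tvGL_mulVec, sympForm_add_left,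
    sympForm_smul_left, hu]
  module

variable {θ : Matrix (Fin m ⊕ Fin m) (Fin m ⊕ Fin m) F} {δ : F} (hs : SData θ δ)

include hs in
/-- unitary transvections commute with `θ` -/
theorem rho_comm {u : Vec} (hu : ⟪θ *ᵥ u, u⟫ = 0) (c : F) :
    ((rho θ δ u c : GL (Fin m ⊕ Fin m) F) : Mat) * θ
      = θ * ((rho θ δ u c : GL (Fin m ⊕ Fin m) F) : Mat) := by
  apply matrix_eq_of_mulVec
  intro x
  rw [← Matrix.mulVec_mulVec, ← Matrix.mulVec_mulVec, rho_mulVec θ δ hu, rho_mulVec θ δ hu,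
    Matrix.mulVec_sub, Matrix.mulVec_add, Matrix.mulVec_smul, Matrix.mulVec_smul, hs.tt,
    hs.adj x u, hs.f_tt x u]
  module

include hs in
theorem rho_mem_normalizer (K : Subalgebra F Mat)
    (hgen : ∀ x ∈ K, ∃ a b : F, x = a • (1 : Mat) + b • θ) {u : Vec} (hu : ⟪θ *ᵥ u, u⟫ = 0)
    (c : F) : rho θ δ u c ∈ Cfsg.Geo.subalgebraNormalizer K :=
  mem_normalizer_of_commuteG K hgen _ (rho_comm hs hu c)

theorem rho_fix (θ : Mat) (δ : F) {u : Vec} (hu : ⟪θ *ᵥ u, u⟫ = 0) (c : F) {x : Vec}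
    (h1 : ⟪x, u⟫ = 0) (h2 : ⟪x, θ *ᵥ u⟫ = 0) :
    ((rho θ δ u c : GL (Fin m ⊕ Fin m) F) : Mat) *ᵥ x = x := by
  rw [rho_mulVec θ δ hu, h1, h2]
  module

/-- conjugating a unitary transvection by a symplectic matrix -/
theorem conj_rho (θ : Mat) (δ : F) {g : GL (Fin m ⊕ Fin m) F} (hg : g ∈ Cfsg.spGL m F) (u : Vec)
    (c : F) : g * rho θ δ u c * g⁻¹
      = tvGL ((g : Mat) *ᵥ u) (c * δ) * tvGL ((g : Mat) *ᵥ (θ *ᵥ u)) (-c) := by
  unfold rho
  rw [← conj_tvGL hg, ← conj_tvGL hg]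
  group

/-- a two-dimensional subalgebra has a non-scalar element and is spanned by `1` and it -/
theorem exists_generatorG {ι : Type} [Fintype ι] [DecidableEq ι] (K : Subalgebra F (Matrix ι ι F))
    (hfr : Module.finrank F K = 2) :
    ∃ k ∈ K, (∀ a : F, k ≠ a • (1 : Matrix ι ι F)) ∧
      ∀ x ∈ K, ∃ a b : F, x = a • (1 : Matrix ι ι F) + b • k := by
  have hfr' : Module.finrank F (Subalgebra.toSubmodule K) = 2 := hfr
  obtain ⟨k, hkK, hk⟩ : ∃ k ∈ K, ∀ a : F, k ≠ a • (1 : Matrix ι ι F) := by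
    by_contra hcon
    push Not at hcon
    have hle : Subalgebra.toSubmodule K ≤ Submodule.span F {(1 : Matrix ι ι F)} := by
      intro x hx
      obtain ⟨a, ha⟩ := hcon x hx
      rw [Submodule.mem_span_singleton]
      exact ⟨a, ha.symm⟩
    have h1 := Submodule.finrank_mono hle
    have h3 := finrank_span_le_card (R := F) ({(1 : Matrix ι ι F)} : Set _)
    simp at h3
    omega
  refine ⟨k, hkK, hk, ?_⟩
  have hli : LinearIndependent F ![(1 : Matrix ι ι F), k] := by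
    rw [LinearIndependent.pair_iff]
    intro s t hst
    by_cases ht : t = 0
    · subst ht
      rw [zero_smul, add_zero] at hst
      have h1 : (1 : Matrix ι ι F) ≠ 0 := by
        intro h0
        apply hk 0
        rw [zero_smul, ← mul_one k, h0, mul_zero]
      rcases smul_eq_zero.1 hst with h | h
      · exact ⟨h, rfl⟩
      · exact absurd h h1
    · exfalso
      apply hk (-(t⁻¹ * s))
      have h3 : t • k = -(s • (1 : Matrix ι ι F)) := eq_neg_of_add_eq_zero_right hst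
      have h4 : k = t⁻¹ • (t • k) := by rw [smul_smul, inv_mul_cancel₀ ht, one_smul]
      rw [h4, h3]
      module
  have hsp : Submodule.span F (Set.range ![(1 : Matrix ι ι F), k])
      ≤ Subalgebra.toSubmodule K := by
    rw [Submodule.span_le]
    rintro x ⟨i, rfl⟩
    fin_cases i
    · exact K.one_mem
    · exact hkK
  have hfr2 := finrank_span_eq_card hli
  rw [Fintype.card_fin] at hfr2
  have heq := Submodule.eq_of_le_of_finrank_eq hsp (by rw [hfr2, hfr'])
  intro x hx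
  have hx' : x ∈ Submodule.span F (Set.range ![(1 : Matrix ι ι F), k]) := by
    rw [heq]; exact hx
  have hr : Set.range ![(1 : Matrix ι ι F), k] = {1, k} := by
    ext y
    simp only [Set.mem_range, Set.mem_insert_iff, Set.mem_singleton_iff]
    constructor
    · rintro ⟨i, rfl⟩
      fin_cases i
      · left; rfl
      · right; rfl
    · rintro (rfl | rfl)
      · exact ⟨0, rfl⟩
      · exact ⟨1, rfl⟩
  rw [hr] at hx'
  obtain ⟨a, b, hab⟩ := Submodule.mem_span_pair.1 hx'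
  exact ⟨a, b, hab.symm⟩

/-- **the data of a quadratic field closed under the symplectic adjoint** -/
theorem exists_sdata (h2 : (2 : F) ≠ 0) (K : Subalgebra F Mat) (hK : IsFieldSubalgebra 2 K)
    (hac : IsAdjointClosedFor (Cfsg.sympForm m F) K)
    (hnsa : ¬ IsSelfAdjointFor (Cfsg.sympForm m F) K) :
    ∃ (θ : Mat) (δ : F), θ ∈ K ∧ SData θ δ ∧
      ∀ x ∈ K, ∃ a b : F, x = a • (1 : Mat) + b • θ := by
  obtain ⟨k, hkK, hkns, hgen⟩ := exists_generatorG K hK.finrank_eq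
  obtain ⟨k', hk'K, hk'⟩ := hac k hkK
  have hmv : ∀ (a b : F) (v : Vec), (a • (1 : Mat) + b • k) *ᵥ v = a • v + b • (k *ᵥ v) := by
    intro a b v
    rw [Matrix.add_mulVec, Matrix.smul_mulVec, Matrix.smul_mulVec, Matrix.one_mulVec]
  -- self-adjoint elements are scalars
  have hSA : ∀ x ∈ K, (∀ u v : Vec, ⟪x *ᵥ u, v⟫ = ⟪u, x *ᵥ v⟫) → ∃ a : F, x = a • (1 : Mat) := by
    intro x hx hsa
    obtain ⟨a, b, rfl⟩ := hgen x hx
    by_cases hb : b = 0
    · exact ⟨a, by rw [hb, zero_smul, add_zero]⟩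
    · exfalso
      apply hnsa
      have hksa : ∀ u v : Vec, ⟪k *ᵥ u, v⟫ = ⟪u, k *ᵥ v⟫ := by
        intro u v
        have := hsa u v
        rw [hmv, hmv, sympForm_add_left, sympForm_add_right, sympForm_smul_left,
          sympForm_smul_left, sympForm_smul_right, sympForm_smul_right] at this
        have h1 : b * (⟪k *ᵥ u, v⟫ - ⟪u, k *ᵥ v⟫) = 0 := by linear_combination this
        rcases mul_eq_zero.1 h1 with h | h
        · exact absurd h hb
        · exact sub_eq_zero.1 h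
      intro y hy u v
      obtain ⟨a', b', rfl⟩ := hgen y hy
      rw [hmv, hmv, sympForm_add_left, sympForm_add_right, sympForm_smul_left,
        sympForm_smul_left, sympForm_smul_right, sympForm_smul_right, hksa]
  have hswap : ∀ u v : Vec, ⟪k' *ᵥ u, v⟫ = ⟪u, k *ᵥ v⟫ := by
    intro u v
    rw [sympForm_swap, ← hk' v u, sympForm_swap, neg_neg]
  obtain ⟨τ, hτ⟩ := hSA (k + k') (K.add_mem hkK hk'K) (by
    intro u v
    rw [Matrix.add_mulVec, Matrix.add_mulVec, sympForm_add_left, sympForm_add_right, hk', hswap]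
    ring)
  obtain ⟨ν, hν⟩ := hSA (k * k') (K.mul_mem hkK hk'K) (by
    intro u v
    rw [← Matrix.mulVec_mulVec, ← Matrix.mulVec_mulVec, hk', hswap])
  have hk'eq : k' = τ • (1 : Mat) - k := by
    rw [← hτ]; abel
  have hsq : k * k = τ • k - ν • (1 : Mat) := by
    have h1 : k * k' = τ • k - k * k := by
      rw [hk'eq, mul_sub, Matrix.mul_smul, mul_one]
    rw [h1] at hν
    rw [← hν]; abel
  obtain ⟨θ, hθ⟩ : ∃ θ : Mat, θ = (2 : F) • k - τ • (1 : Mat) := ⟨_, rfl⟩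
  have hθK : θ ∈ K := by
    rw [hθ]
    exact K.sub_mem (K.smul_mem hkK _) (K.smul_mem K.one_mem _)
  have hθv : ∀ v : Vec, θ *ᵥ v = (2 : F) • (k *ᵥ v) - τ • v := by
    intro v
    rw [hθ, Matrix.sub_mulVec, Matrix.smul_mulVec, Matrix.smul_mulVec, Matrix.one_mulVec]
  have hk'v : ∀ v : Vec, k' *ᵥ v = τ • v - k *ᵥ v := by
    intro v
    rw [hk'eq, Matrix.sub_mulVec, Matrix.smul_mulVec, Matrix.one_mulVec]
  have hθns : ∀ a : F, θ ≠ a • (1 : Mat) := by
    intro a h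
    apply hkns ((2 : F)⁻¹ * (a + τ))
    have h3 : (2 : F) • k = (a + τ) • (1 : Mat) := by
      have : (2 : F) • k = θ + τ • (1 : Mat) := by rw [hθ]; abel
      rw [this, h, add_smul]
    have h4 : k = (2 : F)⁻¹ • ((2 : F) • k) := by rw [smul_smul, inv_mul_cancel₀ h2, one_smul]
    rw [h4, h3, smul_smul]
  have hθsq : θ * θ = (τ * τ - 4 * ν) • (1 : Mat) := by
    rw [hθ, sub_mul, mul_sub, mul_sub, Matrix.smul_mul, Matrix.mul_smul, Matrix.smul_mul,
      Matrix.mul_smul, Matrix.smul_mul, Matrix.mul_smul, Matrix.smul_mul, Matrix.mul_smul, one_mul,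
      mul_one, mul_one, hsq]
    module
  refine ⟨θ, τ * τ - 4 * ν, hθK, ⟨hθsq, ?_, ?_, h2⟩, ?_⟩
  · intro γ h0
    have hx₁K : θ - γ • (1 : Mat) ∈ K := K.sub_mem hθK (K.smul_mem K.one_mem γ)
    have hx₁0 : θ - γ • (1 : Mat) ≠ 0 := fun h => hθns γ (sub_eq_zero.1 h)
    obtain ⟨y, hyK, hy⟩ := hK.inv _ hx₁K hx₁0
    have hy' : y * (θ - γ • (1 : Mat)) = 1 := by
      rw [← hK.comm _ hx₁K y hyK]; exact hy
    have hprod : (θ - γ • (1 : Mat)) * (θ + γ • (1 : Mat)) = 0 := by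
      rw [sub_mul, mul_add, mul_add, Matrix.mul_smul, Matrix.smul_mul, Matrix.smul_mul,
        Matrix.mul_smul, mul_one, one_mul, mul_one, hθsq, ← h0, smul_smul]
      module
    have h1 : θ + γ • (1 : Mat) = 0 := by
      have : θ + γ • (1 : Mat) = y * ((θ - γ • (1 : Mat)) * (θ + γ • (1 : Mat))) := by
        rw [← mul_assoc, hy', one_mul]
      rw [this, hprod, mul_zero]
    apply hθns (-γ)
    rw [neg_smul]
    exact eq_neg_of_add_eq_zero_left h1
  · intro u v
    rw [hθv, hθv, sympForm_sub_left, sympForm_sub_right, sympForm_smul_left, sympForm_smul_left,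
      sympForm_smul_right, sympForm_smul_right, hk', hk'v, sympForm_sub_right,
      sympForm_smul_right]
    ring
  · intro x hx
    obtain ⟨a, b, rfl⟩ := hgen x hx
    refine ⟨a + b * τ * (2 : F)⁻¹, b * (2 : F)⁻¹, ?_⟩
    have h4 : k = (2 : F)⁻¹ • (θ + τ • (1 : Mat)) := by
      have : θ + τ • (1 : Mat) = (2 : F) • k := by rw [hθ]; abel
      rw [this, smul_smul, inv_mul_cancel₀ h2, one_smul]
    conv_lhs => rw [h4]
    module

end Cfsg.Agent.Helper45.C3S
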