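import Mathlib
import Cfsg.Agent.Helper45.C3SD

/-!
# Extraction of a symplectic transvection group

If `M' ≤ Sp` contains all unitary transvections and a product `t_y(cδ) t_z(-c)` (all `c`) of
commuting transvections along a totally isotropic plane `⟨y, z⟩` that is not a `K`-line, then `M'`
contains a full transvection group.
-/

set_option autoImplicit false
set_option linter.unusedSectionVars false
set_option linter.unusedVariables false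
set_option linter.unusedSimpArgs false

namespace Cfsg.Agent.Helper45.C3S

open Matrix Cfsg Cfsg.Geo Cfsg.Agent.Helper13
open KDataG

variable {F : Type*} [Field F] {m : ℕ}

local notation "Vec" => (Fin m ⊕ Fin m → F)
local notation "Mat" => Matrix (Fin m ⊕ Fin m) (Fin m ⊕ Fin m) F
local notation "⟪" x ", " y "⟫" => Cfsg.sympForm m F x y

/-- the element `t_z(c) t_{z+p}(-c)` -/
def Eel (z p : Fin m ⊕ Fin m → F) (c : F) : GL (Fin m ⊕ Fin m) F :=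
  tvGL z c * tvGL (z + p) (-c)

theorem Eel_mulVec {z p : Vec} (hzp : ⟪z, p⟫ = 0) (c : F) (x : Vec) :
    ((Eel z p c : GL (Fin m ⊕ Fin m) F) : Mat) *ᵥ x
      = x - c • (⟪x, z⟫ • p + ⟪x, p⟫ • (z + p)) := by
  have hzz : ⟪z + p, z⟫ = 0 := by
    rw [sympForm_add_left, sympForm_self, sympForm_swap p z, hzp]
    ring
  unfold Eel
  rw [Units.val_mul, ← Matrix.mulVec_mulVec, tvGL_mulVec, tvGL_mulVec, sympForm_add_left,
    sympForm_smul_left, hzz, sympForm_add_right]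
  module

theorem Eel_comm {z z' p : Vec} (hzp : ⟪z, p⟫ = 0) (hz'p : ⟪z', p⟫ = 0) (c d : F) :
    Eel z p c * Eel z' p d = Eel z' p d * Eel z p c * tvGL p (2 * c * d * ⟪z', z⟫) := by
  have hpz : ⟪p, z⟫ = 0 := by rw [sympForm_swap, hzp, neg_zero]
  have hpz' : ⟪p, z'⟫ = 0 := by rw [sympForm_swap, hz'p, neg_zero]
  have hzz' : ⟪z, z'⟫ = -⟪z', z⟫ := sympForm_swap z z'
  apply Units.ext
  rw [Units.val_mul, Units.val_mul, Units.val_mul]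
  apply matrix_eq_of_mulVec
  intro x
  rw [← Matrix.mulVec_mulVec, ← Matrix.mulVec_mulVec, ← Matrix.mulVec_mulVec, tvGL_mulVec,
    Eel_mulVec hz'p, Eel_mulVec hzp, Eel_mulVec hzp, Eel_mulVec hz'p]
  simp only [sympForm_sub_left, sympForm_add_left, sympForm_smul_left, sympForm_add_right,
    sympForm_self, hzp, hz'p, hpz, hpz', hzz', mul_zero, add_zero, zero_add, sub_zero, mul_neg]
  module

variable [Fintype F]
variable {θ : Matrix (Fin m ⊕ Fin m) (Fin m ⊕ Fin m) F} {δ : F} (hs : SData θ δ)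

theorem card_idx : Fintype.card (Fin m ⊕ Fin m) = m + m := by
  rw [Fintype.card_sum, Fintype.card_fin]

include hs in
theorem sing_iff (u : Vec) : Qθ θ u = 0 ↔ ⟪θ *ᵥ u, u⟫ = 0 := by
  unfold Qθ
  constructor
  · intro h
    rcases mul_eq_zero.1 h with h' | h'
    · exact absurd (inv_eq_zero.1 h') hs.two
    · exact h'
  · intro h
    rw [h, mul_zero]

include hs in
/-- `δ a² - b² ≠ 0` unless `a = b = 0` -/
theorem norm_ne' {a b : F} (hab : a ≠ 0 ∨ b ≠ 0) : δ * a * a - b * b ≠ 0 := by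
  have := hs.kdata.norm_ne (a := b) (b := a) hab.symm
  intro h
  apply this
  linear_combination -h

include hs in
/-- `K`-orthogonality read off membership in the perp of a `K`-line -/
theorem korth_of_mem_perpG {y u : Vec} (hu : u ∈ perpG hs.nondeg_Qθ (Kspan θ y)) :
    ⟪θ *ᵥ u, y⟫ = 0 ∧ ⟪u, y⟫ = 0 ∧ ⟪y, u⟫ = 0 ∧ ⟪y, θ *ᵥ u⟫ = 0 := by
  have h1 := polar_of_mem_perpG hs.nondeg_Qθ hu (self_mem_Kspan y)
  have h2 := polar_of_mem_perpG hs.nondeg_Qθ hu (k_self_mem_Kspan y)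
  rw [hs.polar_Qθ] at h1 h2
  rw [hs.f_tt] at h2
  have h3 : ⟪u, y⟫ = 0 := by
    rcases mul_eq_zero.1 (neg_eq_zero.1 h2) with h | h
    · exact absurd h hs.delta_ne
    · exact h
  refine ⟨h1, h3, by rw [sympForm_swap, h3, neg_zero], by rw [sympForm_swap, h1, neg_zero]⟩

include hs in
/-- **extraction of a transvection group** -/
theorem exists_tv_of_pair (hm : 7 ≤ m) (M' : Subgroup (GL (Fin m ⊕ Fin m) F))
    (hM' : M' ≤ Cfsg.spGL m F)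
    (hρ : ∀ u : Vec, ⟪θ *ᵥ u, u⟫ = 0 → ∀ c : F, rho θ δ u c ∈ M')
    {y z : Vec} (hyz : ⟪y, z⟫ = 0) (hpair : ∀ c : F, tvGL y (c * δ) * tvGL z (-c) ∈ M')
    (hzn : z ∉ Kspan θ y) : ∃ p : Vec, p ≠ 0 ∧ p ∈ tvVecs M' := by
  have hQ := hs.nondeg_Qθ
  have hk := hs.kdata
  have hcard := card_idx (m := m)
  have hfry := finrank_Kspan_le (k := θ) y
  -- the first singular vector
  obtain ⟨u₁, hu₁N, hu₁Q, hu₁z, hu₁n⟩ := exists_singular_genG hQ (Kspan θ y)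
    (by rw [hcard]; omega) hzn
  have s1 : ⟪θ *ᵥ u₁, u₁⟫ = 0 := (sing_iff hs u₁).1 hu₁Q
  obtain ⟨B1y, f1y, fy1, fyθ1⟩ := korth_of_mem_perpG hs hu₁N
  rw [hs.polar_Qθ] at hu₁z
  have hu₁0 : u₁ ≠ 0 := by
    rintro rfl
    exact hu₁n (Submodule.zero_mem _)
  -- an auxiliary singular vector
  obtain ⟨S₂, hS₂⟩ : ∃ S₂ : Submodule F Vec, S₂ = Kspan θ y ⊔ Kspan θ u₁ := ⟨_, rfl⟩
  have hfr2 : Module.finrank F S₂ ≤ 4 := by
    rw [hS₂]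
    have h1 := Submodule.finrank_add_le_finrank_add_finrank (Kspan θ y) (Kspan θ u₁)
    have h3 := finrank_Kspan_le (k := θ) u₁
    omega
  obtain ⟨u', hu'N, hu'Q, hu'n⟩ := exists_sing_perpG_not_mem hQ S₂ (by rw [hcard]; omega)
  have hle1 : Kspan θ y ≤ S₂ := by rw [hS₂]; exact le_sup_left
  have hle2 : Kspan θ u₁ ≤ S₂ := by rw [hS₂]; exact le_sup_right
  have s' : ⟪θ *ᵥ u', u'⟫ = 0 := (sing_iff hs u').1 hu'Q
  obtain ⟨B'y, f'y, fy', fyθ'⟩ := korth_of_mem_perpG hs (perpG_anti hQ hle1 hu'N)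
  obtain ⟨B'1, f'1, f1', f1θ'⟩ := korth_of_mem_perpG hs (perpG_anti hQ hle2 hu'N)
  have hu'n1 : u' ∉ Kspan θ u₁ := fun h => hu'n (hle2 h)
  have fθ11 : ⟪u₁, θ *ᵥ u₁⟫ = 0 := by rw [hs.adj', s1, neg_zero]
  -- the second singular vector
  obtain ⟨u₂, s2, fy2, fyθ2, f12, f1θ2, B21, hnz2, hu₂n⟩ : ∃ u₂ : Vec, ⟪θ *ᵥ u₂, u₂⟫ = 0 ∧
      ⟪y, u₂⟫ = 0 ∧ ⟪y, θ *ᵥ u₂⟫ = 0 ∧ ⟪u₁, u₂⟫ = 0 ∧ ⟪u₁, θ *ᵥ u₂⟫ = 0 ∧ ⟪θ *ᵥ u₂, u₁⟫ = 0 ∧
      (⟪z, u₂⟫ ≠ 0 ∨ ⟪z, θ *ᵥ u₂⟫ ≠ 0) ∧ u₂ ∉ Kspan θ u₁ := by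
    by_cases hc : ⟪z, u'⟫ ≠ 0 ∨ ⟪z, θ *ᵥ u'⟫ ≠ 0
    · exact ⟨u', s', fy', fyθ', f1', f1θ', B'1, hc, hu'n1⟩
    · push Not at hc
      refine ⟨u' + u₁, ?_, ?_, ?_, ?_, ?_, ?_, ?_, ?_⟩
      · rw [Matrix.mulVec_add, sympForm_add_left, sympForm_add_right, sympForm_add_right, s', s1,
          B'1, hs.B_symm u₁ u', B'1]
        ring
      · rw [sympForm_add_right, fy', fy1, add_zero]
      · rw [Matrix.mulVec_add, sympForm_add_right, fyθ', fyθ1, add_zero]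
      · rw [sympForm_add_right, f1', sympForm_self, add_zero]
      · rw [Matrix.mulVec_add, sympForm_add_right, f1θ', fθ11, add_zero]
      · rw [Matrix.mulVec_add, sympForm_add_left, B'1, s1, add_zero]
      · right
        rw [Matrix.mulVec_add, sympForm_add_right, hc.2, zero_add, sympForm_swap]
        simpa using hu₁z
      · intro h
        apply hu'n1
        have := (Kspan θ u₁).sub_mem h (self_mem_Kspan u₁)
        rwa [add_sub_cancel_right] at this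
  -- further pairings
  have f21 : ⟪u₂, u₁⟫ = 0 := by rw [sympForm_swap, f12, neg_zero]
  have fθ22 : ⟪u₂, θ *ᵥ u₂⟫ = 0 := by rw [hs.adj', s2, neg_zero]
  have f2θ1 : ⟪u₂, θ *ᵥ u₁⟫ = 0 := by rw [hs.adj', B21, neg_zero]
  have B12 : ⟪θ *ᵥ u₁, u₂⟫ = 0 := by rw [hs.B_symm, B21]
  have fθθ12 : ⟪θ *ᵥ u₁, θ *ᵥ u₂⟫ = 0 := by rw [hs.f_tt, f12, mul_zero, neg_zero]
  have fθθ21 : ⟪θ *ᵥ u₂, θ *ᵥ u₁⟫ = 0 := by rw [hs.f_tt, f21, mul_zero, neg_zero]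
  have fθθ11 : ⟪θ *ᵥ u₁, θ *ᵥ u₁⟫ = 0 := sympForm_self _
  -- the coefficients
  obtain ⟨a₁, ha₁⟩ : ∃ a₁, a₁ = ⟪z, u₁⟫ := ⟨_, rfl⟩
  obtain ⟨b₁, hb₁⟩ : ∃ b₁, b₁ = ⟪z, θ *ᵥ u₁⟫ := ⟨_, rfl⟩
  obtain ⟨a₂, ha₂⟩ : ∃ a₂, a₂ = ⟪z, u₂⟫ := ⟨_, rfl⟩
  obtain ⟨b₂, hb₂⟩ : ∃ b₂, b₂ = ⟪z, θ *ᵥ u₂⟫ := ⟨_, rfl⟩
  have hb₁0 : b₁ ≠ 0 := by
    rw [hb₁, sympForm_swap]
    simpa using hu₁z
  obtain ⟨N₁, hN₁⟩ : ∃ N₁, N₁ = δ * a₁ * a₁ - b₁ * b₁ := ⟨_, rfl⟩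
  obtain ⟨N₂, hN₂⟩ : ∃ N₂, N₂ = δ * a₂ * a₂ - b₂ * b₂ := ⟨_, rfl⟩
  have hN₁0 : N₁ ≠ 0 := by rw [hN₁]; exact norm_ne' hs (Or.inr hb₁0)
  have hN₂0 : N₂ ≠ 0 := by rw [hN₂, ha₂, hb₂]; exact norm_ne' hs hnz2
  obtain ⟨p₁, hp₁⟩ : ∃ p₁ : Vec, p₁ = (N₂ * δ * a₁) • u₁ - (N₂ * b₁) • (θ *ᵥ u₁) := ⟨_, rfl⟩
  obtain ⟨p₂, hp₂⟩ : ∃ p₂ : Vec, p₂ = (-N₁ * δ * a₂) • u₂ - (-N₁ * b₂) • (θ *ᵥ u₂) := ⟨_, rfl⟩
  obtain ⟨q, hq⟩ : ∃ q : Vec, q = (δ * a₁) • u₁ - b₁ • (θ *ᵥ u₁) := ⟨_, rfl⟩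
  -- the group elements
  have hr1 : ((rho θ δ u₁ N₂ : GL (Fin m ⊕ Fin m) F) : Mat) *ᵥ z = z + p₁ := by
    rw [rho_mulVec θ δ s1, ← ha₁, ← hb₁, hp₁]
    module
  have hr2 : ((rho θ δ u₂ (-N₁) : GL (Fin m ⊕ Fin m) F) : Mat) *ᵥ z = z + p₂ := by
    rw [rho_mulVec θ δ s2, ← ha₂, ← hb₂, hp₂]
    module
  have hr3 : ((rho θ δ u₁ 1 : GL (Fin m ⊕ Fin m) F) : Mat) *ᵥ z = z + q := by
    rw [rho_mulVec θ δ s1, ← ha₁, ← hb₁, hq]
    module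
  have hp₁2 : ((rho θ δ u₂ (-N₁) : GL (Fin m ⊕ Fin m) F) : Mat) *ᵥ p₁ = p₁ := by
    apply rho_fix θ δ s2
    · rw [hp₁, sympForm_sub_left, sympForm_smul_left, sympForm_smul_left, f12, B12]
      ring
    · rw [hp₁, sympForm_sub_left, sympForm_smul_left, sympForm_smul_left, f1θ2, fθθ12]
      ring
  have hp₁1 : ((rho θ δ u₁ 1 : GL (Fin m ⊕ Fin m) F) : Mat) *ᵥ p₁ = p₁ := by
    apply rho_fix θ δ s1
    · rw [hp₁, sympForm_sub_left, sympForm_smul_left, sympForm_smul_left, sympForm_self, s1]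
      ring
    · rw [hp₁, sympForm_sub_left, sympForm_smul_left, sympForm_smul_left, fθ11, fθθ11]
      ring
  have hp₂1 : ((rho θ δ u₁ 1 : GL (Fin m ⊕ Fin m) F) : Mat) *ᵥ p₂ = p₂ := by
    apply rho_fix θ δ s1
    · rw [hp₂, sympForm_sub_left, sympForm_smul_left, sympForm_smul_left, f21, B21]
      ring
    · rw [hp₂, sympForm_sub_left, sympForm_smul_left, sympForm_smul_left, f2θ1, fθθ21]
      ring
  obtain ⟨p, hp⟩ : ∃ p : Vec, p = p₁ + p₂ := ⟨_, rfl⟩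
  have hzp₁ : ⟪z, p₁⟫ = N₂ * N₁ := by
    rw [hp₁, sympForm_sub_right, sympForm_smul_right, sympForm_smul_right, ← ha₁, ← hb₁, hN₁]
    ring
  have hzp₂ : ⟪z, p₂⟫ = -(N₁ * N₂) := by
    rw [hp₂, sympForm_sub_right, sympForm_smul_right, sympForm_smul_right, ← ha₂, ← hb₂, hN₂]
    ring
  have hzp : ⟪z, p⟫ = 0 := by
    rw [hp, sympForm_add_right, hzp₁, hzp₂]
    ring
  have hzq : ⟪z, q⟫ = N₁ := by
    rw [hq, sympForm_sub_right, sympForm_smul_right, sympForm_smul_right, ← ha₁, ← hb₁, hN₁]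
  -- `q` is orthogonal to `p`
  have hqp : ⟪q, p⟫ = 0 := by
    rw [hq, hp, hp₁, hp₂]
    simp only [sympForm_sub_left, sympForm_sub_right, sympForm_add_right, sympForm_smul_left,
      sympForm_smul_right, sympForm_self, s1, fθ11, f12, f1θ2, B12, fθθ12, fθθ11]
    ring
  -- `h = ρ₂ ρ₁`
  obtain ⟨h, hh⟩ : ∃ h : GL (Fin m ⊕ Fin m) F, h = rho θ δ u₂ (-N₁) * rho θ δ u₁ N₂ := ⟨_, rfl⟩
  have hhM : h ∈ M' := by
    rw [hh]
    exact M'.mul_mem (hρ u₂ s2 _) (hρ u₁ s1 _)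
  have hhy : (h : Mat) *ᵥ y = y := by
    rw [hh, Units.val_mul, ← Matrix.mulVec_mulVec, rho_fix θ δ s1 _ fy1 fyθ1,
      rho_fix θ δ s2 _ fy2 fyθ2]
  have hhz : (h : Mat) *ᵥ z = z + p := by
    rw [hh, Units.val_mul, ← Matrix.mulVec_mulVec, hr1, Matrix.mulVec_add, hr2, hp₁2, hp]
    abel
  -- the elements `E z c`
  have hE1 : ∀ c : F, Eel z p c ∈ M' := by
    intro c
    have h1 : h * (tvGL y (c * δ) * tvGL z (-c)) * h⁻¹ ∈ M' :=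
      M'.mul_mem (M'.mul_mem hhM (hpair c)) (M'.inv_mem hhM)
    have h2 : h * (tvGL y (c * δ) * tvGL z (-c)) * h⁻¹
        = tvGL y (c * δ) * tvGL (z + p) (-c) := by
      have : h * (tvGL y (c * δ) * tvGL z (-c)) * h⁻¹
          = (h * tvGL y (c * δ) * h⁻¹) * (h * tvGL z (-c) * h⁻¹) := by group
      rw [this, conj_tvGL (hM' hhM), conj_tvGL (hM' hhM), hhy, hhz]
    rw [h2] at h1
    have h3 := M'.mul_mem (M'.inv_mem (hpair c)) h1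
    have h4 : (tvGL y (c * δ) * tvGL z (-c))⁻¹ * (tvGL y (c * δ) * tvGL (z + p) (-c))
        = Eel z p c := by
      unfold Eel
      rw [_root_.mul_inv_rev, tvGL_inv, tvGL_inv, neg_neg, mul_assoc, ← mul_assoc (tvGL y (-(c * δ))),
        tvGL_mul, neg_add_cancel]
      have : tvGL y (0 : F) = 1 := by
        apply Units.ext
        rw [tvGL_coe, sympTransvection_zero]
        rfl
      rw [this, one_mul]
    rwa [h4] at h3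
  -- conjugating by `ρ_{u₁}`
  have hg₃M : rho θ δ u₁ 1 ∈ M' := hρ u₁ s1 1
  have hg₃p : ((rho θ δ u₁ 1 : GL (Fin m ⊕ Fin m) F) : Mat) *ᵥ p = p := by
    rw [hp, Matrix.mulVec_add, hp₁1, hp₂1]
  have hE2 : ∀ d : F, Eel (z + q) p d ∈ M' := by
    intro d
    have h1 : rho θ δ u₁ 1 * Eel z p d * (rho θ δ u₁ 1)⁻¹ ∈ M' :=
      M'.mul_mem (M'.mul_mem hg₃M (hE1 d)) (M'.inv_mem hg₃M)
    have h2 : rho θ δ u₁ 1 * Eel z p d * (rho θ δ u₁ 1)⁻¹ = Eel (z + q) p d := by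
      unfold Eel
      have : rho θ δ u₁ 1 * (tvGL z d * tvGL (z + p) (-d)) * (rho θ δ u₁ 1)⁻¹
          = (rho θ δ u₁ 1 * tvGL z d * (rho θ δ u₁ 1)⁻¹)
            * (rho θ δ u₁ 1 * tvGL (z + p) (-d) * (rho θ δ u₁ 1)⁻¹) := by group
      rw [this, conj_tvGL (hM' hg₃M), conj_tvGL (hM' hg₃M), Matrix.mulVec_add, hr3, hg₃p]
    rwa [h2] at h1
  have hzqp : ⟪z + q, p⟫ = 0 := by rw [sympForm_add_left, hzp, hqp, add_zero]
  have hzqz : ⟪z + q, z⟫ = -N₁ := by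
    rw [sympForm_add_left, sympForm_self, zero_add, sympForm_swap, hzq]
  -- `p ≠ 0`
  have hp0 : p ≠ 0 := by
    intro h0
    rw [hp, hp₁, hp₂] at h0
    have h1 : (N₂ * δ * a₁) • u₁ + (-(N₂ * b₁)) • (θ *ᵥ u₁)
        + ((-N₁ * δ * a₂) • u₂ + (N₁ * b₂) • (θ *ᵥ u₂)) = 0 := by
      rw [← h0]; module
    obtain ⟨-, h3, -, -⟩ := hk.li4 hu₁0 hu₂n h1
    have : N₂ * b₁ = 0 := by linear_combination -h3
    rcases mul_eq_zero.1 this with h | h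
    · exact hN₂0 h
    · exact hb₁0 h
  refine ⟨p, hp0, ?_⟩
  intro c
  have h1 := Eel_comm hzp hzqp (-(c * (2 * N₁)⁻¹)) 1
  rw [hzqz] at h1
  have h2 : tvGL p (2 * -(c * (2 * N₁)⁻¹) * 1 * -N₁)
      = (Eel (z + q) p 1 * Eel z p (-(c * (2 * N₁)⁻¹)))⁻¹
        * (Eel z p (-(c * (2 * N₁)⁻¹)) * Eel (z + q) p 1) := by
    rw [h1]; group
  have h3 : 2 * -(c * (2 * N₁)⁻¹) * 1 * -N₁ = c := by
    have h2' := hs.two
    field_simp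
  rw [h3] at h2
  rw [h2]
  exact M'.mul_mem (M'.inv_mem (M'.mul_mem (hE2 1) (hE1 _))) (M'.mul_mem (hE1 _) (hE2 1))

end Cfsg.Agent.Helper45.C3S
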