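import Mathlib
import Cfsg.Agent.Helper45.C3SE

/-!
# Maximality of `N_{Sp}(K)` for a quadratic field `K` closed under the symplectic adjoint
(type `GU_m(q).2` in `Sp_{2m}(q)`, `q` odd)
-/

set_option autoImplicit false
set_option linter.unusedSectionVars false
set_option linter.unusedVariables false
set_option linter.unusedSimpArgs false

namespace Cfsg.Agent.Helper45.C3S

open Matrix Cfsg Cfsg.Geo Cfsg.Agent.Helper13
open KDataG

variable {F : Type*} [Field F] [Fintype F] {m : ℕ}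

local notation "Vec" => (Fin m ⊕ Fin m → F)
local notation "Mat" => Matrix (Fin m ⊕ Fin m) (Fin m ⊕ Fin m) F
local notation "⟪" x ", " y "⟫" => Cfsg.sympForm m F x y

variable {θ : Matrix (Fin m ⊕ Fin m) (Fin m ⊕ Fin m) F} {δ : F} (hs : SData θ δ)

theorem finrank_span_pair_le (x y : Vec) :
    Module.finrank F (Submodule.span F {x, y} : Submodule F (Fin m ⊕ Fin m → F)) ≤ 2 := by
  classical
  have h := finrank_span_finset_le_card (R := F) ({x, y} : Finset (Fin m ⊕ Fin m → F))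
  have h2 : ({x, y} : Finset (Fin m ⊕ Fin m → F)).card ≤ 2 := Finset.card_le_two
  have h3 : (({x, y} : Finset (Fin m ⊕ Fin m → F)) : Set (Fin m ⊕ Fin m → F)) = {x, y} := by
    push_cast
    rfl
  rw [Set.finrank, h3] at h
  omega

include hs in
/-- a transvection vector `p` and a unitary transvection give a new transvection vector -/
theorem tv_step (M' : Subgroup (GL (Fin m ⊕ Fin m) F)) (hM' : M' ≤ Cfsg.spGL m F)
    (hρ : ∀ u : Vec, ⟪θ *ᵥ u, u⟫ = 0 → ∀ c : F, rho θ δ u c ∈ M')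
    {p w : Vec} (hp : p ∈ tvVecs M') (hw : ⟪θ *ᵥ w, w⟫ = 0) (h1 : ⟪p, θ *ᵥ w⟫ = 0)
    (h2 : ⟪p, w⟫ ≠ 0) : w ∈ tvVecs M' := by
  have hδ := hs.delta_ne
  have hg := hρ w hw (δ * ⟪p, w⟫)⁻¹
  have h3 := tvVecs_map hM' hg hp
  rw [rho_mulVec θ δ hw, h1, mul_zero, zero_smul, sub_zero] at h3
  have h4 : (δ * ⟪p, w⟫)⁻¹ * δ * ⟪p, w⟫ = 1 := by field_simp
  rw [h4, one_smul] at h3
  have h5 := tvVecs_smul hp (-1)
  have h6 : ⟪p + w, (-1 : F) • p⟫ ≠ 0 := by
    rw [sympForm_smul_right, sympForm_add_left, sympForm_self, zero_add, sympForm_swap w p]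
    simpa using h2
  have h7 := tvVecs_add hM' h3 h5 h6
  have : p + w + (-1 : F) • p = w := by module
  rwa [this] at h7

include hs in
theorem theta_not_mem_pair {x y : Vec} (hx : x ≠ 0) (hy : y ∉ Kspan θ x) :
    θ *ᵥ x ∉ Submodule.span F {x, y} := by
  intro h
  obtain ⟨a, b, hab⟩ := Submodule.mem_span_pair.1 h
  by_cases hb : b = 0
  · rw [hb, zero_smul, add_zero] at hab
    have := (hs.kdata.li hx (a := a) (b := -1) (by rw [hab]; module)).2
    exact one_ne_zero (neg_eq_zero.1 this)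
  · apply hy
    rw [mem_Kspan]
    refine ⟨-(b⁻¹ * a), b⁻¹, ?_⟩
    rw [← hab, smul_add, smul_smul, smul_smul, inv_mul_cancel₀ hb, one_smul]
    module

include hs in
theorem mem_Kspan_symm {p v : Vec} (hv : v ∈ Kspan θ p) (hv0 : v ≠ 0) : p ∈ Kspan θ v := by
  obtain ⟨a, b, hab⟩ := mem_Kspan.1 hv
  have hne : a ≠ 0 ∨ b ≠ 0 := by
    by_contra hcon
    push Not at hcon
    apply hv0
    rw [← hab, hcon.1, hcon.2, zero_smul, zero_smul, add_zero]
  apply hs.kdata.mem_Kspan_of_comb hne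
  rw [hab]
  exact self_mem_Kspan v

include hs in
/-- from a transvection vector to a singular vector off its `K`-line -/
theorem sing_step (hm : 7 ≤ m) (M' : Subgroup (GL (Fin m ⊕ Fin m) F)) (hM' : M' ≤ Cfsg.spGL m F)
    (hρ : ∀ u : Vec, ⟪θ *ᵥ u, u⟫ = 0 → ∀ c : F, rho θ δ u c ∈ M')
    {p v : Vec} (hp : p ∈ tvVecs M') (hp0 : p ≠ 0) (hv : ⟪θ *ᵥ v, v⟫ = 0) (hv0 : v ≠ 0)
    (hvn : v ∉ Kspan θ p) : v ∈ tvVecs M' := by
  have hQ := hs.nondeg_Qθ
  have hpn : p ∉ Kspan θ v := fun h => hvn (mem_Kspan_symm hs h hp0)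
  have ha : θ *ᵥ p ∉ Submodule.span F {p, v} := theta_not_mem_pair hs hp0 hvn
  have hb : θ *ᵥ v ∉ Submodule.span F {p, v} := by
    rw [Set.pair_comm]
    exact theta_not_mem_pair hs hv0 hpn
  have hfr := finrank_span_pair_le p v
  obtain ⟨w, hwS, hwQ, hwa, hwb⟩ := exists_singular_two hQ (Submodule.span F {p, v})
    (by rw [card_idx]; omega) ha hb
  have hwp := polar_of_mem_perpG hQ hwS
    (Submodule.subset_span (by simp) : p ∈ Submodule.span F {p, v})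
  have hwv := polar_of_mem_perpG hQ hwS
    (Submodule.subset_span (by simp) : v ∈ Submodule.span F {p, v})
  rw [hs.polar_Qθ] at hwp hwv hwa hwb
  rw [hs.f_tt] at hwa hwb
  have hws : ⟪θ *ᵥ w, w⟫ = 0 := (sing_iff hs w).1 hwQ
  have hwp' : ⟪w, p⟫ ≠ 0 := fun h => hwa (by rw [h, mul_zero, neg_zero])
  have hwv' : ⟪w, v⟫ ≠ 0 := fun h => hwb (by rw [h, mul_zero, neg_zero])
  have hpw : ⟪p, w⟫ ≠ 0 := by rw [sympForm_swap]; exact neg_ne_zero.2 hwp'
  have h1 : ⟪p, θ *ᵥ w⟫ = 0 := by rw [sympForm_swap, hwp, neg_zero]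
  have hwT := tv_step hs M' hM' hρ hp hws h1 hpw
  have h2 : ⟪w, θ *ᵥ v⟫ = 0 := by rw [hs.adj', hwv, neg_zero]
  exact tv_step hs M' hM' hρ hwT hv h2 hwv'

include hs in
/-- all singular vectors are transvection vectors -/
theorem all_sing (hm : 7 ≤ m) (M' : Subgroup (GL (Fin m ⊕ Fin m) F)) (hM' : M' ≤ Cfsg.spGL m F)
    (hρ : ∀ u : Vec, ⟪θ *ᵥ u, u⟫ = 0 → ∀ c : F, rho θ δ u c ∈ M')
    {p : Vec} (hp : p ∈ tvVecs M') (hp0 : p ≠ 0) (v : Vec) (hv : ⟪θ *ᵥ v, v⟫ = 0) :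
    v ∈ tvVecs M' := by
  by_cases hv0 : v = 0
  · rw [hv0]; exact zero_mem_tvVecs M'
  by_cases hvn : v ∈ Kspan θ p
  · have hQ := hs.nondeg_Qθ
    have hfr := finrank_Kspan_le (k := θ) p
    obtain ⟨w, -, hwQ, hwn⟩ := exists_sing_perpG_not_mem hQ (Kspan θ p)
      (by rw [card_idx]; omega)
    have hw0 : w ≠ 0 := by
      rintro rfl
      exact hwn (Submodule.zero_mem _)
    have hws := (sing_iff hs w).1 hwQ
    have hwT := sing_step hs hm M' hM' hρ hp hp0 hws hw0 hwn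
    apply sing_step hs hm M' hM' hρ hwT hw0 hv hv0
    intro h
    have h1 := mem_Kspan_symm hs h hv0
    obtain ⟨a, b, hab⟩ := mem_Kspan.1 h1
    apply hwn
    rw [← hab]
    exact (Kspan θ p).add_mem ((Kspan θ p).smul_mem a hvn)
      ((Kspan θ p).smul_mem b (hs.kdata.k_mem_Kspan hvn))
  · exact sing_step hs hm M' hM' hρ hp hp0 hv hv0 hvn

include hs in
/-- all vectors are transvection vectors -/
theorem all_tv (hm : 7 ≤ m) (M' : Subgroup (GL (Fin m ⊕ Fin m) F)) (hM' : M' ≤ Cfsg.spGL m F)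
    (hρ : ∀ u : Vec, ⟪θ *ᵥ u, u⟫ = 0 → ∀ c : F, rho θ δ u c ∈ M')
    {p : Vec} (hp : p ∈ tvVecs M') (hp0 : p ≠ 0) (x : Vec) : x ∈ tvVecs M' := by
  have hsing := all_sing hs hm M' hM' hρ hp hp0
  by_cases hx : ⟪θ *ᵥ x, x⟫ = 0
  · exact hsing x hx
  have hx0 : x ≠ 0 := by
    rintro rfl
    apply hx
    rw [sympForm_zero_right]
  have hQ := hs.nondeg_Qθ
  have hθx0 : θ *ᵥ x ≠ 0 := hs.kdata.ne_zero hx0
  obtain ⟨w, -, hwQ, hwa, hwb⟩ := exists_singular_two hQ (⊥ : Submodule F (Fin m ⊕ Fin m → F))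
    (by rw [finrank_bot, card_idx]; omega) (a := x) (b := θ *ᵥ x)
    (by simpa using hx0) (by simpa using hθx0)
  rw [hs.polar_Qθ] at hwa hwb
  rw [hs.f_tt] at hwb
  have hws := (sing_iff hs w).1 hwQ
  have hwx : ⟪w, x⟫ ≠ 0 := fun h => hwb (by rw [h, mul_zero, neg_zero])
  obtain ⟨α, hα⟩ : ∃ α : F, α = ⟪θ *ᵥ x, x⟫ * (2 * ⟪θ *ᵥ w, x⟫)⁻¹ := ⟨_, rfl⟩
  have hα0 : α ≠ 0 := by
    rw [hα]
    exact mul_ne_zero hx (inv_ne_zero (mul_ne_zero hs.two hwa))
  have hx' : ⟪θ *ᵥ (x - α • w), x - α • w⟫ = 0 := by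
    simp only [Matrix.mulVec_sub, Matrix.mulVec_smul, sympForm_sub_left, sympForm_sub_right,
      sympForm_smul_left, sympForm_smul_right, hws, hs.B_symm x w]
    rw [hα]
    have h2 := hs.two
    field_simp
    ring
  have h1 := hsing _ hx'
  have h2 := tvVecs_smul (hsing w hws) α
  have h3 : ⟪x - α • w, α • w⟫ ≠ 0 := by
    rw [sympForm_sub_left, sympForm_smul_right, sympForm_smul_left, sympForm_smul_right,
      sympForm_self, mul_zero, mul_zero, sub_zero, sympForm_swap]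
    exact mul_ne_zero hα0 (neg_ne_zero.2 hwx)
  have h4 := tvVecs_add hM' h1 h2 h3
  rwa [sub_add_cancel] at h4

include hs in
/-- a symplectic transvection along a singular vector does not normalise `K` -/
theorem tv_not_mem_normalizer (K : Subalgebra F Mat) (hθK : θ ∈ K)
    (hgen : ∀ x ∈ K, ∃ a b : F, x = a • (1 : Mat) + b • θ) {v : Vec} (hv0 : v ≠ 0)
    (hv : ⟪θ *ᵥ v, v⟫ = 0) :
    (tvGL v (1 : F) : GL (Fin m ⊕ Fin m) F) ∉ Cfsg.Geo.subalgebraNormalizer K := by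
  intro hmem
  obtain ⟨Tm, hTm⟩ : ∃ Tm : Mat, Tm = ((tvGL v (1 : F) : GL (Fin m ⊕ Fin m) F) : Mat) := ⟨_, rfl⟩
  obtain ⟨Ti, hTi⟩ : ∃ Ti : Mat,
      Ti = (((tvGL v (1 : F))⁻¹ : GL (Fin m ⊕ Fin m) F) : Mat) := ⟨_, rfl⟩
  have him : Ti * Tm = 1 := by
    rw [hTm, hTi, ← Units.val_mul, inv_mul_cancel, Units.val_one]
  have h1 : Tm * θ * Ti ∈ K := by
    rw [hTm, hTi]
    exact (hmem θ).1 hθK
  obtain ⟨a, b, hab⟩ := hgen _ h1
  have h2 : Tm * θ = (a • (1 : Mat) + b • θ) * Tm := by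
    rw [← hab, mul_assoc, him, mul_one]
  have hT : ∀ x : Vec, Tm *ᵥ x = x + ⟪x, v⟫ • v := by
    intro x
    rw [hTm, tvGL_mulVec, one_mul]
  have h3 : ∀ x : Vec, Tm *ᵥ (θ *ᵥ x) = a • (Tm *ᵥ x) + b • (θ *ᵥ (Tm *ᵥ x)) := by
    intro x
    rw [Matrix.mulVec_mulVec, h2, ← Matrix.mulVec_mulVec, Matrix.add_mulVec, Matrix.smul_mulVec,
      Matrix.smul_mulVec, Matrix.one_mulVec]
  have h4 := h3 v
  rw [hT, hT, hv, sympForm_self, zero_smul, add_zero, add_zero] at h4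
  obtain ⟨ha, hb⟩ := hs.kdata.li hv0 (a := a) (b := b - 1)
    (by rw [sub_smul, one_smul, ← add_sub_assoc, ← h4, sub_self])
  have hb1 : b = 1 := by linear_combination hb
  obtain ⟨x, hx⟩ := sympForm_nondeg_left hv0
  have h5 := h3 x
  rw [ha, hb1, zero_smul, zero_add, one_smul, hT, hT, Matrix.mulVec_add, Matrix.mulVec_smul] at h5
  have h6 : ⟪θ *ᵥ x, v⟫ • v + (-⟪x, v⟫) • (θ *ᵥ v) = 0 := by
    have := add_left_cancel h5
    rw [this]
    module
  exact hx (neg_eq_zero.1 (hs.kdata.li hv0 h6).2)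

/-- **Maximality of the normaliser in `Sp_{2m}(q)` of a quadratic field closed under the adjoint
and not self-adjoint** (the `GU_m(q).2`-type field-extension subgroups), `q` odd, `m ≥ 7`. -/
theorem isMaximalIn_sp_unitary (hm : 7 ≤ m) (h2 : (2 : F) ≠ 0) (K : Subalgebra F Mat)
    (hK : IsFieldSubalgebra 2 K) (hac : IsAdjointClosedFor (Cfsg.sympForm m F) K)
    (hnsa : ¬ IsSelfAdjointFor (Cfsg.sympForm m F) K) :
    IsMaximalIn (Cfsg.spGL m F) (subalgebraNormalizer K ⊓ Cfsg.spGL m F) := by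
  obtain ⟨θ, δ, hθK, hs, hgen⟩ := exists_sdata h2 K hK hac hnsa
  have hQ := hs.nondeg_Qθ
  have hk := hs.kdata
  have hρ₀ : ∀ u : Vec, ⟪θ *ᵥ u, u⟫ = 0 → ∀ c : F,
      rho θ δ u c ∈ subalgebraNormalizer K ⊓ Cfsg.spGL m F :=
    fun u hu c => ⟨rho_mem_normalizer hs K hgen hu c, rho_mem_spGL θ δ u c⟩
  refine ⟨lt_of_le_of_ne inf_le_right ?_, ?_⟩
  · intro heq
    obtain ⟨v, -, hvQ, hvn⟩ := exists_sing_perpG_not_mem hQ (⊥ : Submodule F (Fin m ⊕ Fin m → F))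
      (by rw [finrank_bot, card_idx]; omega)
    have hv0 : v ≠ 0 := by
      rintro rfl
      exact hvn (Submodule.zero_mem _)
    have h1 : (tvGL v (1 : F) : GL (Fin m ⊕ Fin m) F) ∈ Cfsg.spGL m F := tvGL_mem_spGL v 1
    rw [← heq] at h1
    exact tv_not_mem_normalizer hs K hθK hgen hv0 ((sing_iff hs v).1 hvQ) h1.1
  · intro M hHM hMΩ
    by_cases hle : M ≤ subalgebraNormalizer K ⊓ Cfsg.spGL m F
    · left
      exact le_antisymm hle hHM
    · right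
      obtain ⟨g, hgM, hgH⟩ := SetLike.not_le_iff_exists.1 hle
      have hgS : g ∈ Cfsg.spGL m F := hMΩ hgM
      have hgN : g ∉ subalgebraNormalizer K := fun h => hgH ⟨h, hgS⟩
      have hρ : ∀ u : Vec, ⟪θ *ᵥ u, u⟫ = 0 → ∀ c : F, rho θ δ u c ∈ M :=
        fun u hu c => hHM (hρ₀ u hu c)
      obtain ⟨x, hxQ, hx0, hxk⟩ := exists_nonK_lineG hQ hk (by rw [card_idx]; omega) K hθK hgen
        g hgN
      have hxs : ⟪θ *ᵥ x, x⟫ = 0 := (sing_iff hs x).1 hxQ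
      have hyz : ⟪(g : Mat) *ᵥ x, (g : Mat) *ᵥ (θ *ᵥ x)⟫ = 0 := by
        rw [(mem_spGL_iff g).1 hgS, hs.adj', hxs, neg_zero]
      have hpair : ∀ c : F, tvGL ((g : Mat) *ᵥ x) (c * δ) * tvGL ((g : Mat) *ᵥ (θ *ᵥ x)) (-c) ∈ M := by
        intro c
        rw [← conj_rho θ δ hgS]
        exact M.mul_mem (M.mul_mem hgM (hρ x hxs c)) (M.inv_mem hgM)
      have hinj : ∀ u w : Vec, (g : Mat) *ᵥ u = (g : Mat) *ᵥ w → u = w := by
        intro u w huw
        rw [← gl_inv_mulVec g u, huw, gl_inv_mulVec]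
      have hzn : (g : Mat) *ᵥ (θ *ᵥ x) ∉ Kspan θ ((g : Mat) *ᵥ x) := by
        intro hmem
        obtain ⟨a, b, hab⟩ := mem_Kspan.1 hmem
        by_cases hb : b = 0
        · rw [hb, zero_smul, add_zero, ← Matrix.mulVec_smul] at hab
          have h1 := hinj _ _ hab
          have h2' : a • x + (-1 : F) • (θ *ᵥ x) = 0 := by
            rw [h1]; module
          have := (hk.li hx0 h2').2
          exact one_ne_zero (neg_eq_zero.1 this)
        · apply hxk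
          rw [Submodule.mem_span_pair]
          refine ⟨-(b⁻¹ * a), b⁻¹, ?_⟩
          rw [← hab, smul_add, smul_smul, smul_smul, inv_mul_cancel₀ hb, one_smul]
          module
      obtain ⟨p, hp0, hp⟩ := exists_tv_of_pair hs hm M hMΩ hρ hyz hpair hzn
      have hall := all_tv hs hm M hMΩ hρ hp hp0
      exact le_antisymm hMΩ (spGL_le_of_tv M (fun v c => hall v c))

end Cfsg.Agent.Helper45.C3S
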