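import Mathlib

set_option autoImplicit false

/-!
# Witt's extension theorem for quadratic forms with nondegenerate polar form

All characteristics, arbitrary field, finite-dimensional space.
-/

namespace Cfsg.Agent.Helper45.WittQuad

open QuadraticMap

variable {F V : Type*} [Field F] [AddCommGroup V] [Module F V]

section basic

variable (Q : QuadraticForm F V)

theorem Q_add (x y : V) : Q (x + y) = Q x + Q y + polar Q x y :=
  QuadraticMap.map_add Q x y

theorem Q_smul (c : F) (x : V) : Q (c • x) = c * c * Q x := by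
  rw [QuadraticMap.map_smul, smul_eq_mul]

theorem Q_add_smul (x y : V) (c : F) :
    Q (x + c • y) = Q x + c * polar Q x y + c * c * Q y := by
  rw [Q_add, Q_smul, polar_smul_right, smul_eq_mul]
  ring

theorem polar_pp (x : V) : polar Q x x = 2 * Q x := by
  rw [polar_self]
  simp [two_smul, two_mul]

/-- an isometric linear map on a subspace preserves the polar form there -/
theorem polar_map_of_isom (U : Submodule F V) (f : V →ₗ[F] V)
    (hiso : ∀ x ∈ U, Q (f x) = Q x) {x y : V} (hx : x ∈ U) (hy : y ∈ U) :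
    polar Q (f x) (f y) = polar Q x y := by
  unfold polar
  rw [← map_add, hiso _ (U.add_mem hx hy), hiso x hx, hiso y hy]

theorem polar_map_of_isom_top (f : V →ₗ[F] V) (hiso : ∀ x, Q (f x) = Q x) (x y : V) :
    polar Q (f x) (f y) = polar Q x y :=
  polar_map_of_isom Q ⊤ f (fun x _ => hiso x) (x := x) (y := y) trivial trivial

/-- an isometric endomorphism of a nondegenerate space is injective -/
theorem injective_of_isom (hQ : (polarBilin Q).Nondegenerate) (g : V →ₗ[F] V)
    (hiso : ∀ x, Q (g x) = Q x) : Function.Injective g := by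
  rw [← LinearMap.ker_eq_bot, LinearMap.ker_eq_bot']
  intro x hx
  apply hQ.1 x
  intro y
  rw [polarBilin_apply_apply, ← polar_map_of_isom_top Q g hiso, hx, polar_zero_left]

theorem exists_equiv_of_isom [FiniteDimensional F V] (hQ : (polarBilin Q).Nondegenerate)
    (g : V →ₗ[F] V) (hiso : ∀ x, Q (g x) = Q x) :
    ∃ e : V ≃ₗ[F] V, (∀ x, Q (e x) = Q x) ∧ ∀ x, e x = g x := by
  refine ⟨LinearEquiv.ofInjectiveEndo g (injective_of_isom Q hQ g hiso), ?_, ?_⟩
  · intro x
    rw [LinearEquiv.coe_ofInjectiveEndo]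
    exact hiso x
  · intro x
    rw [LinearEquiv.coe_ofInjectiveEndo]

/-- the reflection (orthogonal transvection in characteristic 2) in a nonsingular vector -/
noncomputable def refl (p : V) : V →ₗ[F] V :=
  LinearMap.id - (Q p)⁻¹ • (polarBilin Q p).smulRight p

theorem refl_apply (p x : V) : refl Q p x = x - ((Q p)⁻¹ * polar Q p x) • p := by
  simp [refl, smul_smul]

theorem Q_refl (p : V) (hp : Q p ≠ 0) (x : V) : Q (refl Q p x) = Q x := by
  rw [refl_apply, sub_eq_add_neg, ← neg_smul, Q_add_smul, polar_comm Q x p]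
  field_simp
  ring

end basic

section aux

theorem exists_notMem_two {P A B : Submodule F V} (hA : A ≤ P) (hB : B ≤ P) (hA' : A ≠ P)
    (hB' : B ≠ P) : ∃ x ∈ P, x ∉ A ∧ x ∉ B := by
  obtain ⟨a, haP, haA⟩ := SetLike.exists_of_lt (lt_of_le_of_ne hA hA')
  obtain ⟨b, hbP, hbB⟩ := SetLike.exists_of_lt (lt_of_le_of_ne hB hB')
  by_cases haB : a ∈ B
  · by_cases hbA : b ∈ A
    · refine ⟨a + b, P.add_mem haP hbP, ?_, ?_⟩
      · intro h
        apply haA
        have := A.sub_mem h hbA
        simpa using this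
      · intro h
        apply hbB
        have := B.sub_mem h haB
        simpa using this
    · exact ⟨b, hbP, hbA, hbB⟩
  · exact ⟨a, haP, haA, haB⟩

theorem finrank_map_of_injOn (X : Submodule F V) (f : V →ₗ[F] V)
    (hinj : ∀ x ∈ X, f x = 0 → x = 0) : Module.finrank F (X.map f) = Module.finrank F X := by
  have h1 : LinearMap.range (f.domRestrict X) = X.map f := LinearMap.range_domRestrict X f
  rw [← h1]
  apply LinearMap.finrank_range_of_inj
  intro a b hab
  have : f ((a - b : X) : V) = 0 := by
    have h := hab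
    simp only [LinearMap.domRestrict_apply] at h
    simp [map_sub, h]
  have := hinj _ (a - b).2 this
  exact Subtype.ext (sub_eq_zero.mp (by simpa using this))

end aux

section main

variable [FiniteDimensional F V] (Q : QuadraticForm F V)

/-- terminal step of case 2: `U = p^⊥` -/
theorem case2_terminal (hQ : (polarBilin Q).Nondegenerate) (p : V) (hp : p ≠ 0) (hQp : Q p = 0)
    (U : Submodule F V) (f : V →ₗ[F] V)
    (hUP : ∀ x, x ∈ U ↔ polar Q p x = 0)
    (hiso : ∀ x ∈ U, Q (f x) = Q x) (hinj : ∀ x ∈ U, f x = 0 → x = 0)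
    (hfp : ∀ x ∈ U, ∃ c : F, x - f x = c • p) :
    ∃ g : V →ₗ[F] V, (∀ v, Q (g v) = Q v) ∧ ∀ x ∈ U, g x = f x := by
  -- a vector outside `U`
  obtain ⟨v, hv⟩ : ∃ v, polar Q p v ≠ 0 := by
    by_contra hcon
    push Not at hcon
    exact hp (hQ.1 p (fun y => by rw [polarBilin_apply_apply]; exact hcon y))
  have hvU : v ∉ U := fun h => hv ((hUP v).mp h)
  have hpU : p ∈ U := by
    rw [hUP, polar_pp, hQp, mul_zero]
  -- `f` maps `U` into `U`
  have hfU : ∀ x ∈ U, f x ∈ U := by
    intro x hx
    obtain ⟨c, hc⟩ := hfp x hx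
    have : f x = x - c • p := by rw [← hc]; abel
    rw [this]
    exact U.sub_mem hx (U.smul_mem _ hpU)
  have hmap : U.map f = U := by
    apply Submodule.eq_of_le_of_finrank_eq
    · rintro y ⟨x, hx, rfl⟩
      exact hfU x hx
    · exact finrank_map_of_injOn U f hinj
  obtain ⟨p', hp'U, hp'⟩ : p ∈ U.map f := by rw [hmap]; exact hpU
  obtain ⟨c, hc⟩ := hfp p' hp'U
  have hp'eq : p' = (c + 1) • p := by
    rw [hp'] at hc
    rw [add_smul, one_smul, ← hc]; abel
  have hd : c + 1 ≠ 0 := by
    intro h0
    rw [h0, zero_smul] at hp'eq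
    rw [hp'eq, map_zero] at hp'
    exact hp hp'.symm
  -- a left inverse of `f` on `U`
  have hker : LinearMap.ker (f.domRestrict U) = ⊥ := by
    rw [LinearMap.ker_eq_bot]
    intro a b hab
    have : f ((a - b : U) : V) = 0 := by
      have h := hab
      simp only [LinearMap.domRestrict_apply] at h
      simp [map_sub, h]
    have := hinj _ (a - b).2 this
    exact Subtype.ext (sub_eq_zero.mp (by simpa using this))
  obtain ⟨g0, hg0⟩ := (f.domRestrict U).exists_leftInverse_of_injective hker
  have hgf : ∀ x : U, g0 (f x) = x := fun x => by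
    have := LinearMap.congr_fun hg0 x
    simpa using this
  -- Riesz
  set μ : Module.Dual F V := (polarBilin Q v).comp (U.subtype.comp g0) with hμ
  set w0 : V := (LinearMap.BilinForm.toDual (polarBilin Q) hQ).symm μ with hw0
  have hw0' : ∀ z, polar Q w0 z = μ z := by
    intro z
    have := LinearMap.BilinForm.apply_toDual_symm_apply (hB := hQ) μ z
    rw [← hw0] at this
    rw [← this, polarBilin_apply_apply]
  have hw0f : ∀ y ∈ U, polar Q w0 (f y) = polar Q v y := by
    intro y hy
    rw [hw0', hμ]
    simp only [LinearMap.comp_apply, Submodule.subtype_apply, polarBilin_apply_apply]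
    rw [hgf ⟨y, hy⟩]
  have hw0p : polar Q w0 p = (c + 1) * polar Q v p := by
    calc polar Q w0 p = polar Q w0 (f p') := by rw [hp']
      _ = polar Q v p' := hw0f p' hp'U
      _ = (c + 1) * polar Q v p := by rw [hp'eq, polar_smul_right, smul_eq_mul]
  have hw0p_ne : polar Q w0 p ≠ 0 := by
    rw [hw0p, polar_comm Q v p]
    exact mul_ne_zero hd hv
  set t : F := (Q v - Q w0) / polar Q w0 p with ht
  set w : V := w0 + t • p with hw
  have hQw : Q w = Q v := by
    rw [hw, Q_add_smul, hQp, ht, mul_zero, add_zero, div_mul_cancel₀ _ hw0p_ne]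
    ring
  have hwf : ∀ y ∈ U, polar Q w (f y) = polar Q v y := by
    intro y hy
    rw [hw, polar_add_left, polar_smul_left, hw0f y hy, (hUP (f y)).mp (hfU y hy), smul_zero,
      add_zero]
  obtain ⟨f', hf'1, hf'2⟩ := LinearMap.exists_extend_of_notMem (f.comp U.subtype) hvU w
  have hf'U : ∀ x ∈ U, f' x = f x := fun x hx => by
    have := LinearMap.congr_fun hf'1 ⟨x, hx⟩
    simpa using this
  refine ⟨f', ?_, hf'U⟩
  intro z
  set c' : F := polar Q p z / polar Q p v with hc'
  have hyU : z - c' • v ∈ U := by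
    rw [hUP, polar_sub_right, polar_smul_right, smul_eq_mul, hc', div_mul_cancel₀ _ hv, sub_self]
  have hz : z = (z - c' • v) + c' • v := by abel
  have h1 : f' z = f (z - c' • v) + c' • w := by
    conv_lhs => rw [hz]
    rw [map_add, map_smul, hf'U _ hyU, hf'2]
  rw [h1, Q_add_smul, hiso _ hyU, polar_comm Q (f _) w, hwf _ hyU, hQw]
  conv_rhs => rw [hz]
  rw [Q_add_smul, polar_comm Q v]

/-- case 2: `f` moves `U ≤ p^⊥` only in the direction of the singular vector `p` -/
theorem case2 (hQ : (polarBilin Q).Nondegenerate) (p : V) (hp : p ≠ 0) (hQp : Q p = 0) :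
    ∀ (k : ℕ) (U : Submodule F V) (f : V →ₗ[F] V),
      Module.finrank F V - Module.finrank F U = k →
      (∀ x ∈ U, polar Q p x = 0) → (∀ x ∈ U, Q (f x) = Q x) → (∀ x ∈ U, f x = 0 → x = 0) →
      (∀ x ∈ U, ∃ c : F, x - f x = c • p) →
      ∃ g : V →ₗ[F] V, (∀ v, Q (g v) = Q v) ∧ ∀ x ∈ U, g x = f x := by
  intro k
  induction k using Nat.strong_induction_on with
  | _ k ih =>
    intro U f hk hUp hiso hinj hfp
    set P : Submodule F V := LinearMap.ker (polarBilin Q p) with hP
    have hmemP : ∀ x, x ∈ P ↔ polar Q p x = 0 := by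
      intro x
      rw [hP, LinearMap.mem_ker, polarBilin_apply_apply]
    have hUleP : U ≤ P := fun x hx => (hmemP x).mpr (hUp x hx)
    have hpP : p ∈ P := by rw [hmemP, polar_pp, hQp, mul_zero]
    by_cases hUP : U = P
    · exact case2_terminal Q hQ p hp hQp U f (fun x => by rw [hUP]; exact hmemP x) hiso hinj hfp
    · -- extend by a vector of `P` outside `U` and `f(U)`
      have hfUP : U.map f ≤ P := by
        rintro y ⟨x, hx, rfl⟩
        obtain ⟨c, hc⟩ := hfp x hx
        have : f x = x - c • p := by rw [← hc]; abel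
        rw [this]
        exact P.sub_mem (hUleP hx) (P.smul_mem _ hpP)
      have hfUP' : U.map f ≠ P := by
        intro h
        apply hUP
        apply Submodule.eq_of_le_of_finrank_eq hUleP
        rw [← h, finrank_map_of_injOn U f hinj]
      obtain ⟨x, hxP, hxU, hxfU⟩ := exists_notMem_two hUleP hfUP hUP hfUP'
      obtain ⟨f', hf'1, hf'2⟩ := LinearMap.exists_extend_of_notMem (f.comp U.subtype) hxU x
      have hf'U : ∀ y ∈ U, f' y = f y := fun y hy => by
        have := LinearMap.congr_fun hf'1 ⟨y, hy⟩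
        simpa using this
      set U' : Submodule F V := U ⊔ Submodule.span F {x} with hU'
      have hlt : U < U' := by
        refine lt_of_le_of_ne le_sup_left ?_
        intro h
        apply hxU
        rw [h]
        exact Submodule.mem_sup_right (Submodule.mem_span_singleton_self x)
      have hdec : ∀ z ∈ U', ∃ y ∈ U, ∃ c : F, z = y + c • x := by
        intro z hz
        obtain ⟨y, hy, z', hz', rfl⟩ := Submodule.mem_sup.mp hz
        obtain ⟨c, rfl⟩ := Submodule.mem_span_singleton.mp hz'
        exact ⟨y, hy, c, rfl⟩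
      have h1 := Submodule.finrank_lt_finrank_of_lt hlt
      have h2 := Submodule.finrank_le U'
      have hxp : polar Q p x = 0 := (hmemP x).mp hxP
      obtain ⟨g, hg1, hg2⟩ := ih (Module.finrank F V - Module.finrank F U') (by omega) U' f' rfl
        (by
          intro z hz
          obtain ⟨y, hy, c, rfl⟩ := hdec z hz
          rw [polar_add_right, polar_smul_right, hUp y hy, hxp, smul_zero, add_zero])
        (by
          intro z hz
          obtain ⟨y, hy, c, rfl⟩ := hdec z hz
          rw [map_add, map_smul, hf'U y hy, hf'2, Q_add_smul, Q_add_smul, hiso y hy]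
          obtain ⟨d, hd⟩ := hfp y hy
          have : f y = y - d • p := by rw [← hd]; abel
          rw [this, polar_sub_left, polar_smul_left, hxp, smul_zero, sub_zero])
        (by
          intro z hz h0
          obtain ⟨y, hy, c, rfl⟩ := hdec z hz
          rw [map_add, map_smul, hf'U y hy, hf'2] at h0
          have hc : c = 0 := by
            by_contra hc
            apply hxfU
            have : x = f (-(c⁻¹ • y)) := by
              rw [map_neg, map_smul]
              have h1 : c • x = - f y := eq_neg_of_add_eq_zero_right h0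
              calc x = c⁻¹ • (c • x) := by rw [smul_smul, inv_mul_cancel₀ hc, one_smul]
                _ = -(c⁻¹ • f y) := by rw [h1, smul_neg]
            rw [this]
            exact Submodule.mem_map_of_mem (U.neg_mem (U.smul_mem _ hy))
          rw [hc, zero_smul, add_zero] at h0 ⊢
          exact hinj y hy h0)
        (by
          intro z hz
          obtain ⟨y, hy, c, rfl⟩ := hdec z hz
          obtain ⟨d, hd⟩ := hfp y hy
          refine ⟨d, ?_⟩
          rw [map_add, map_smul, hf'U y hy, hf'2, ← hd]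
          abel)
      exact ⟨g, hg1, fun y hy => (hg2 y (hlt.le hy)).trans (hf'U y hy)⟩

/-- key step: an isometry of `U = H + ⟨u⟩` fixing the hyperplane `H` pointwise extends -/
theorem fixH (hQ : (polarBilin Q).Nondegenerate) (U H : Submodule F V) (u : V) (f : V →ₗ[F] V)
    (hU : ∀ x ∈ U, ∃ h ∈ H, ∃ c : F, x = h + c • u) (hHU : H ≤ U) (huU : u ∈ U)
    (hiso : ∀ x ∈ U, Q (f x) = Q x) (hinj : ∀ x ∈ U, f x = 0 → x = 0)
    (hfix : ∀ h ∈ H, f h = h) :
    ∃ g : V →ₗ[F] V, (∀ v, Q (g v) = Q v) ∧ ∀ x ∈ U, g x = f x := by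
  set p : V := u - f u with hp
  have hpol : ∀ x ∈ U, ∀ y ∈ U, polar Q (f x) (f y) = polar Q x y := fun x hx y hy =>
    polar_map_of_isom Q U f hiso hx hy
  have hHp : ∀ h ∈ H, polar Q p h = 0 := by
    intro h hh
    rw [hp, polar_sub_left]
    conv_lhs => rw [← hfix h hh]
    rw [hpol u huU h (hHU hh), hfix h hh, sub_self]
  have hQp : Q p = polar Q p u := by
    rw [hp, polar_sub_left, polar_pp, sub_eq_add_neg, ← neg_one_smul F (f u), Q_add_smul,
      hiso u huU, polar_comm Q (f u) u]
    ring
  have hxp : ∀ x ∈ U, ∀ h ∈ H, ∀ c : F, x = h + c • u → x - f x = c • p := by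
    intro x _ h hh c hx
    rw [hx, map_add, map_smul, hfix h hh, hp, smul_sub]
    abel
  by_cases hp0 : p = 0
  · refine ⟨LinearMap.id, fun v => rfl, ?_⟩
    intro x hx
    obtain ⟨h, hh, c, hxe⟩ := hU x hx
    have := hxp x hx h hh c hxe
    rw [hp0, smul_zero, sub_eq_zero] at this
    rw [LinearMap.id_apply]
    exact this
  by_cases hQp0 : Q p = 0
  · refine case2 Q hQ p hp0 hQp0 _ U f rfl ?_ hiso hinj ?_
    · intro x hx
      obtain ⟨h, hh, c, rfl⟩ := hU x hx
      rw [polar_add_right, polar_smul_right, hHp h hh, ← hQp, hQp0, smul_zero, add_zero]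
    · intro x hx
      obtain ⟨h, hh, c, hxe⟩ := hU x hx
      exact ⟨c, hxp x hx h hh c hxe⟩
  · refine ⟨refl Q p, Q_refl Q p hQp0, ?_⟩
    intro x hx
    obtain ⟨h, hh, c, hxe⟩ := hU x hx
    have h1 := hxp x hx h hh c hxe
    have h2 : f x = x - c • p := by rw [← h1]; abel
    rw [h2, refl_apply]
    congr 1
    congr 1
    rw [hxe, polar_add_right, polar_smul_right, hHp h hh, ← hQp, smul_eq_mul, zero_add,
      mul_comm c, inv_mul_cancel_left₀ hQp0]

/-- Witt extension, linear-map form -/
theorem extend (hQ : (polarBilin Q).Nondegenerate) :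
    ∀ (k : ℕ) (U : Submodule F V) (f : V →ₗ[F] V), Module.finrank F U = k →
      (∀ x ∈ U, Q (f x) = Q x) → (∀ x ∈ U, f x = 0 → x = 0) →
      ∃ g : V →ₗ[F] V, (∀ v, Q (g v) = Q v) ∧ ∀ x ∈ U, g x = f x := by
  intro k
  induction k using Nat.strong_induction_on with
  | _ k ih =>
    intro U f hk hiso hinj
    by_cases hU : U = ⊥
    · refine ⟨LinearMap.id, fun v => rfl, ?_⟩
      intro x hx
      rw [hU, Submodule.mem_bot] at hx
      rw [hx, map_zero, map_zero]
    · obtain ⟨u, huU, hu0⟩ := Submodule.exists_mem_ne_zero_of_ne_bot hU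
      have hu' : u ∉ (⊥ : Submodule F V) := by rwa [Submodule.mem_bot]
      obtain ⟨φ, -, hφu⟩ := LinearMap.exists_extend_of_notMem (0 : (⊥ : Submodule F V) →ₗ[F] F)
        hu' 1
      set H : Submodule F V := U ⊓ LinearMap.ker φ with hH
      have hHU : H ≤ U := inf_le_left
      have huH : u ∉ H := by
        intro h
        have := h.2
        rw [SetLike.mem_coe, LinearMap.mem_ker, hφu] at this
        exact one_ne_zero this
      have hlt : H < U := lt_of_le_of_ne hHU (fun h => huH (by rw [h]; exact huU))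
      have h1 := Submodule.finrank_lt_finrank_of_lt hlt
      obtain ⟨g0, hg0Q, hg0H⟩ := ih (Module.finrank F H) (by omega) H f rfl
        (fun x hx => hiso x (hHU hx)) (fun x hx => hinj x (hHU hx))
      obtain ⟨e0, he0Q, he0⟩ := exists_equiv_of_isom Q hQ g0 hg0Q
      have he0symm : ∀ z, Q (e0.symm z) = Q z := by
        intro z
        rw [← he0Q (e0.symm z), LinearEquiv.apply_symm_apply]
      obtain ⟨g1, hg1Q, hg1U⟩ := fixH Q hQ U H u (e0.symm.toLinearMap.comp f)
        (by
          intro x hx
          refine ⟨x - φ x • u, ⟨U.sub_mem hx (U.smul_mem _ huU), ?_⟩, φ x, by abel⟩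
          rw [SetLike.mem_coe, LinearMap.mem_ker, map_sub, map_smul, hφu, smul_eq_mul, mul_one, sub_self])
        hHU huU
        (by
          intro x hx
          rw [LinearMap.comp_apply, LinearEquiv.coe_coe, he0symm, hiso x hx])
        (by
          intro x hx h0
          rw [LinearMap.comp_apply, LinearEquiv.coe_coe, LinearEquiv.map_eq_zero_iff] at h0
          exact hinj x hx h0)
        (by
          intro h hh
          rw [LinearMap.comp_apply, LinearEquiv.coe_coe, ← hg0H h hh, ← he0,
            LinearEquiv.symm_apply_apply])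
      refine ⟨g0.comp g1, ?_, ?_⟩
      · intro v
        rw [LinearMap.comp_apply, hg0Q, hg1Q]
      · intro x hx
        rw [LinearMap.comp_apply, hg1U x hx, LinearMap.comp_apply, LinearEquiv.coe_coe, ← he0,
          LinearEquiv.apply_symm_apply]

/-- **Witt's extension theorem** for a quadratic form with nondegenerate polar form. -/
theorem witt (hQ : (polarBilin Q).Nondegenerate) (X Y : Submodule F V) (φ : X ≃ₗ[F] Y)
    (hφ : ∀ x : X, Q (φ x : V) = Q (x : V)) :
    ∃ g : V ≃ₗ[F] V, (∀ v : V, Q (g v) = Q v) ∧ ∀ x : X, g (x : V) = (φ x : V) := by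
  obtain ⟨f, hf⟩ := LinearMap.exists_extend (Y.subtype.comp φ.toLinearMap)
  have hfX : ∀ x : X, f x = φ x := fun x => by
    have := LinearMap.congr_fun hf x
    simpa using this
  obtain ⟨g, hg1, hg2⟩ := extend Q hQ _ X f rfl
    (fun x hx => by
      have := hφ ⟨x, hx⟩
      rw [← hfX ⟨x, hx⟩] at this
      exact this)
    (fun x hx h0 => by
      have h := hfX ⟨x, hx⟩
      rw [Subtype.coe_mk, h0] at h
      have : φ ⟨x, hx⟩ = 0 := Subtype.ext h.symm
      have := φ.map_eq_zero_iff.mp this
      exact congrArg Subtype.val this)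
  obtain ⟨e, he1, he2⟩ := exists_equiv_of_isom Q hQ g hg1
  exact ⟨e, he1, fun x => by rw [he2, hg2 x x.2, hfX]⟩

end main

end Cfsg.Agent.Helper45.WittQuad
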