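import Mathlib
import Cfsg.Prelude.Def_ClassicalGeometry
import Cfsg.Agent.Helper14.DicksonParity
import Cfsg.Agent.Helper44.ReflGenAll

/-!
# Membership in `Ω` in characteristic two (general index type)

Over a finite field of characteristic two, for a quadratic form `Q` on `ι → F` with non-degenerate
polar form (excluding `(|F|, dim) = (2, 4)`), an isometry `g` lies in `Ω = [O, O]` exactly when
`g - 1` has even rank.  This combines `Helper14.finrank_fixSpace_qRefl_mul` (a reflection changes the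
dimension of the fixed space by exactly one) with `Helper44.exists_list_reflT` (reflections generate)
and `Helper44.prod_reflT_mem_Omega_two` (even products of reflections lie in `Ω`).
-/

set_option autoImplicit false

namespace Cfsg.Agent.Helper45.OmegaParity

open Matrix QuadraticMap Module Cfsg.Agent.Helper44

variable {F : Type*} [Field F] {ι : Type} [Fintype ι] [DecidableEq ι]
variable (Q : QuadraticForm F (ι → F))

/-- the linear map of an isometry -/
noncomputable def lin (g : Cfsg.isometryGroup F ⇑Q) : (ι → F) →ₗ[F] (ι → F) :=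
  ((g.1 : Matrix ι ι F)).mulVecLin

theorem lin_apply (g : Cfsg.isometryGroup F ⇑Q) (x : ι → F) :
    lin Q g x = (g.1 : Matrix ι ι F) *ᵥ x := rfl

theorem lin_mul (g h : Cfsg.isometryGroup F ⇑Q) : lin Q (g * h) = lin Q g * lin Q h := by
  apply LinearMap.ext
  intro x
  rw [lin_apply, isometryGroup_mul_mulVec]
  rfl

theorem lin_one : lin Q (1 : Cfsg.isometryGroup F ⇑Q) = 1 := by
  apply LinearMap.ext
  intro x
  rw [lin_apply, isometryGroup_one_mulVec]
  rfl

theorem lin_reflT (w : ι → F) (hw : Q w ≠ 0) : lin Q (reflT Q w) = Helper14.qRefl Q w := by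
  unfold lin
  rw [reflT_coe Q w hw, mulVecLin_reflectionMatrix_eq_qRefl']

theorem lin_isometry (g : Cfsg.isometryGroup F ⇑Q) (x : ι → F) : Q (lin Q g x) = Q x :=
  isometryGroup_apply g x

/-- the dimension of the fixed space of an isometry -/
noncomputable def fixD (g : Cfsg.isometryGroup F ⇑Q) : ℕ :=
  finrank F ↥(Helper14.fixSpace (lin Q g))

theorem fixD_one : fixD Q (1 : Cfsg.isometryGroup F ⇑Q) = Fintype.card ι := by
  unfold fixD
  rw [lin_one, Helper14.fixSpace_one, finrank_top, Module.finrank_fintype_fun_eq_card]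

theorem fixD_reflT_mul (hQ : (QuadraticMap.polarBilin Q).Nondegenerate) (w : ι → F) (hw : Q w ≠ 0)
    (g : Cfsg.isometryGroup F ⇑Q) :
    ((fixD Q (reflT Q w * g) : ℕ) : ZMod 2) = (fixD Q g : ZMod 2) + 1 := by
  unfold fixD
  rw [lin_mul, lin_reflT Q w hw]
  have h2 : ∀ a : ZMod 2, a + 1 + 1 = a := by decide
  rcases Helper14.finrank_fixSpace_qRefl_mul Q hQ (lin Q g) (lin_isometry Q g) w hw with h | h
  · rw [h]
    push_cast
    rfl
  · rw [← h]
    push_cast
    rw [h2]

theorem fixD_prod_mul (hQ : (QuadraticMap.polarBilin Q).Nondegenerate) (vs : List (ι → F))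
    (hvs : ∀ x ∈ vs, Q x ≠ 0) (g : Cfsg.isometryGroup F ⇑Q) :
    ((fixD Q ((vs.map (reflT Q)).prod * g) : ℕ) : ZMod 2) = (fixD Q g : ZMod 2) + vs.length := by
  induction vs with
  | nil => simp
  | cons a l ih =>
    have hl : ∀ x ∈ l, Q x ≠ 0 := fun x hx => hvs x (List.mem_cons_of_mem _ hx)
    have ha : Q a ≠ 0 := hvs a List.mem_cons_self
    rw [List.map_cons, List.prod_cons, mul_assoc, fixD_reflT_mul Q hQ a ha, ih hl,
      List.length_cons]
    push_cast
    ring

theorem fixD_prod (hQ : (QuadraticMap.polarBilin Q).Nondegenerate) (vs : List (ι → F))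
    (hvs : ∀ x ∈ vs, Q x ≠ 0) :
    ((fixD Q ((vs.map (reflT Q)).prod) : ℕ) : ZMod 2) = (Fintype.card ι : ZMod 2) + vs.length := by
  have h := fixD_prod_mul Q hQ vs hvs 1
  rw [mul_one, fixD_one] at h
  exact h

/-- the parity homomorphism `g ↦ dim Fix g + dim V mod 2` -/
noncomputable def parityHom [Fintype F] (hQ : (QuadraticMap.polarBilin Q).Nondegenerate)
    (h : Fintype.card F ≠ 2 ∨ Fintype.card ι ≠ 4) :
    ↥(Cfsg.isometryGroup F ⇑Q) →* Multiplicative (ZMod 2) where
  toFun g := Multiplicative.ofAdd ((fixD Q g : ZMod 2) + (Fintype.card ι : ZMod 2))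
  map_one' := by
    rw [fixD_one]
    have h2 : ∀ a : ZMod 2, a + a = 0 := by decide
    rw [h2]
    rfl
  map_mul' g g' := by
    obtain ⟨vs, hvs, rfl⟩ := exists_list_reflT Q hQ h g
    rw [fixD_prod_mul Q hQ vs hvs, fixD_prod Q hQ vs hvs, ← ofAdd_add]
    congr 1
    have h2 : ∀ a : ZMod 2, a + a = 0 := by decide
    linear_combination -h2 (Fintype.card ι : ZMod 2)

theorem rank_sub_one_add_fixD (g : Cfsg.isometryGroup F ⇑Q) :
    ((g.1 : Matrix ι ι F) - 1).rank + fixD Q g = Fintype.card ι := by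
  unfold fixD Helper14.fixSpace
  have h1 : ((g.1 : Matrix ι ι F) - 1).mulVecLin = lin Q g - LinearMap.id := by
    apply LinearMap.ext
    intro x
    rw [Matrix.mulVecLin_apply, Matrix.sub_mulVec, Matrix.one_mulVec]
    rfl
  rw [Matrix.rank, h1, LinearMap.finrank_range_add_finrank_ker,
    Module.finrank_fintype_fun_eq_card]

/-- **Membership in `Ω`, characteristic two**: an isometry lies in `Ω` iff `g - 1` has even rank. -/
theorem mem_Omega_iff_even_rank [Fintype F] [CharP F 2]
    (hQ : (QuadraticMap.polarBilin Q).Nondegenerate)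
    (h : Fintype.card F ≠ 2 ∨ Fintype.card ι ≠ 4) (g : Cfsg.isometryGroup F ⇑Q) :
    g ∈ Cfsg.Omega F ⇑Q ↔ Even ((g.1 : Matrix ι ι F) - 1).rank := by
  have hrk := rank_sub_one_add_fixD Q g
  have key : ∀ a b : ℕ, ((a : ℕ) : ZMod 2) + (b : ZMod 2) = 0 ↔ Even (a + b) := by
    intro a b
    rw [← Nat.cast_add, ZMod.natCast_eq_zero_iff_even]
  constructor
  · intro hg
    have h1 : g ∈ (parityHom Q hQ h).ker := Abelianization.commutator_subset_ker _ hg
    rw [MonoidHom.mem_ker] at h1
    have h2 : (fixD Q g : ZMod 2) + (Fintype.card ι : ZMod 2) = 0 := by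
      have := congrArg Multiplicative.toAdd h1
      exact this
    rw [key] at h2
    rw [← hrk] at h2
    have h3 : Even (((g.1 : Matrix ι ι F) - 1).rank + 2 * fixD Q g) := by
      have : fixD Q g + (((g.1 : Matrix ι ι F) - 1).rank + fixD Q g)
          = ((g.1 : Matrix ι ι F) - 1).rank + 2 * fixD Q g := by ring
      rw [← this]
      exact h2
    rw [Nat.even_add] at h3
    exact h3.2 (even_two_mul _)
  · intro hev
    obtain ⟨vs, hvs, rfl⟩ := exists_list_reflT Q hQ h g
    have h' : (∃ s : F, s ≠ 0 ∧ s ≠ 1) ∨ Fintype.card ι ≠ 4 := by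
      rcases h with h | h
      · exact Or.inl (exists_ne_zero_ne_one_of_card_ne_two h)
      · exact Or.inr h
    apply prod_reflT_mem_Omega_two Q hQ h' vs hvs
    have h1 := fixD_prod Q hQ vs hvs
    -- parity count
    have h2 : ((Fintype.card ι : ℕ) : ZMod 2) =
        ((((vs.map (reflT Q)).prod.1 : Matrix ι ι F) - 1).rank : ZMod 2)
          + (fixD Q ((vs.map (reflT Q)).prod) : ZMod 2) := by
      rw [← Nat.cast_add, hrk]
    have h3 : ((((vs.map (reflT Q)).prod.1 : Matrix ι ι F) - 1).rank : ZMod 2) = 0 :=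
      (ZMod.natCast_eq_zero_iff_even).2 hev
    rw [h3, zero_add] at h2
    rw [h2] at h1
    have h4 : ∀ a b : ZMod 2, a = a + b → b = 0 := by decide
    have h5 := h4 _ _ h1
    exact (ZMod.natCast_eq_zero_iff_even).1 h5

/-- the discriminant of an anisotropic binary form over a finite field of characteristic two
is non-zero -/
theorem disc_ne_zero_of_aniso {K : Type*} [Field K] [Fintype K] [CharP K 2] (c d : K)
    (hcd : ∀ z₁ z₂ : K, z₁ ^ 2 + c * z₁ * z₂ + d * z₂ ^ 2 = 0 → z₁ = 0 ∧ z₂ = 0) :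
    c ^ 2 - 4 * d ≠ 0 := by
  have h2 : (2 : K) = 0 := by
    have := CharP.cast_eq_zero K 2
    exact_mod_cast this
  have hc : c ≠ 0 := by
    intro hc0
    have hsq : ∃ e : K, e ^ 2 = d := by
      have hsurj : Function.Surjective (frobenius K 2) :=
        (Finite.injective_iff_surjective).mp (frobenius_inj K 2)
      obtain ⟨e, he⟩ := hsurj d
      exact ⟨e, by rw [← he]; rfl⟩
    obtain ⟨e, he⟩ := hsq
    have := hcd e 1 (by
      rw [hc0, ← he]
      linear_combination (e ^ 2) * h2)
    exact one_ne_zero this.2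
  have h4 : (4 : K) = 0 := by linear_combination 2 * h2
  rw [h4, zero_mul, sub_zero]
  exact pow_ne_zero 2 hc

end Cfsg.Agent.Helper45.OmegaParity
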