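import Mathlib
import Cfsg.Prelude.Def_ClassicalGeometry
import Cfsg.Agent.Helper45.OmegaParity
import Cfsg.Agent.Helper44.MinusForm

/-!
# Conjugacy of involutions in `Ω` (characteristic two)

* `exists_conj_mem_Omega`: if `t` fixes a non-singular vector, `O`-conjugates of `t` are `Ω`-conjugates.
* `exists_nonsingular_fixed`: an involution fixes a non-singular vector when totally singular
  subspaces have less than half the dimension.
* `minus_ts_finrank_le`: totally singular subspaces of the minus-type form have dimension `≤ k`.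
-/

set_option autoImplicit false

namespace Cfsg.Agent.Helper45.OmegaParity

open Matrix QuadraticMap Module Cfsg.Agent.Helper44

variable {F : Type*} [Field F] {ι : Type} [Fintype ι] [DecidableEq ι]
variable (Q : QuadraticForm F (ι → F))

theorem parityHom_eq_one_iff [Fintype F]
    (hQ : (QuadraticMap.polarBilin Q).Nondegenerate)
    (h : Fintype.card F ≠ 2 ∨ Fintype.card ι ≠ 4) (g : Cfsg.isometryGroup F ⇑Q) :
    parityHom Q hQ h g = 1 ↔ Even ((g.1 : Matrix ι ι F) - 1).rank := by
  have hrk := rank_sub_one_add_fixD Q g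
  have e1 : parityHom Q hQ h g = 1 ↔
      (fixD Q g : ZMod 2) + (Fintype.card ι : ZMod 2) = 0 := by
    constructor
    · intro h1
      exact congrArg Multiplicative.toAdd h1
    · intro h1
      exact congrArg Multiplicative.ofAdd h1
  rw [e1, ← hrk]
  push_cast
  have h2 : ∀ a b : ZMod 2, a + (b + a) = 0 ↔ b = 0 := by decide
  rw [h2, ZMod.natCast_eq_zero_iff_even]

theorem mem_Omega_iff_parityHom [Fintype F] [CharP F 2]
    (hQ : (QuadraticMap.polarBilin Q).Nondegenerate)
    (h : Fintype.card F ≠ 2 ∨ Fintype.card ι ≠ 4) (g : Cfsg.isometryGroup F ⇑Q) :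
    g ∈ Cfsg.Omega F ⇑Q ↔ parityHom Q hQ h g = 1 := by
  rw [parityHom_eq_one_iff, mem_Omega_iff_even_rank Q hQ h]

theorem parityHom_reflT [Fintype F]
    (hQ : (QuadraticMap.polarBilin Q).Nondegenerate)
    (h : Fintype.card F ≠ 2 ∨ Fintype.card ι ≠ 4) (u : ι → F) (hu : Q u ≠ 0) :
    parityHom Q hQ h (reflT Q u) = Multiplicative.ofAdd (1 : ZMod 2) := by
  show Multiplicative.ofAdd ((fixD Q (reflT Q u) : ZMod 2) + (Fintype.card ι : ZMod 2)) = _
  have h1 := fixD_reflT_mul Q hQ u hu 1
  rw [mul_one, fixD_one] at h1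
  rw [h1]
  congr 1
  have h2 : ∀ a : ZMod 2, a + 1 + a = 1 := by decide
  exact h2 _

/-- polar form is invariant under an isometry -/
theorem polar_isometry (g : Cfsg.isometryGroup F ⇑Q) (x y : ι → F) :
    QuadraticMap.polar ⇑Q ((g.1 : Matrix ι ι F) *ᵥ x) ((g.1 : Matrix ι ι F) *ᵥ y)
      = QuadraticMap.polar ⇑Q x y := by
  unfold QuadraticMap.polar
  rw [← Matrix.mulVec_add, isometryGroup_apply g, isometryGroup_apply g, isometryGroup_apply g]

/-- a reflection in a fixed non-singular vector commutes with the isometry -/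
theorem reflT_comm_of_fixed (t : Cfsg.isometryGroup F ⇑Q) (u : ι → F) (hu : Q u ≠ 0)
    (htu : (t.1 : Matrix ι ι F) *ᵥ u = u) : reflT Q u * t = t * reflT Q u := by
  apply isometryGroup_ext
  intro x
  rw [isometryGroup_mul_mulVec, isometryGroup_mul_mulVec, reflT_of_ne Q u hu, refl_mulVec,
    refl_mulVec, Matrix.mulVec_sub, Matrix.mulVec_smul, htu]
  congr 3
  conv_lhs => rw [← htu]
  exact polar_isometry Q t u x

/-- **Conjugacy in `Ω`**: if `t` fixes a non-singular vector, every `O`-conjugate of `t` is an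
`Ω`-conjugate. -/
theorem exists_conj_mem_Omega [Fintype F] [CharP F 2]
    (hQ : (QuadraticMap.polarBilin Q).Nondegenerate)
    (h : Fintype.card F ≠ 2 ∨ Fintype.card ι ≠ 4) (t s : Cfsg.isometryGroup F ⇑Q)
    (hconj : IsConj t s) (u : ι → F) (hu : Q u ≠ 0) (htu : (t.1 : Matrix ι ι F) *ᵥ u = u) :
    ∃ g ∈ Cfsg.Omega F ⇑Q, g * t * g⁻¹ = s := by
  obtain ⟨c, hc⟩ := isConj_iff.1 hconj
  by_cases hcΩ : c ∈ Cfsg.Omega F ⇑Q
  · exact ⟨c, hcΩ, hc⟩
  · refine ⟨c * reflT Q u, ?_, ?_⟩
    · rw [mem_Omega_iff_parityHom Q hQ h] at hcΩ ⊢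
      rw [map_mul, parityHom_reflT Q hQ h u hu]
      have key : ∀ a : Multiplicative (ZMod 2), a ≠ 1 →
          a * Multiplicative.ofAdd (1 : ZMod 2) = 1 := by decide
      exact key _ hcΩ
    · have h1 := reflT_comm_of_fixed Q t u hu htu
      rw [_root_.mul_inv_rev, reflT_inv, ← hc]
      calc c * reflT Q u * t * (reflT Q u * c⁻¹)
          = c * (reflT Q u * t) * reflT Q u * c⁻¹ := by group
        _ = c * (t * reflT Q u) * reflT Q u * c⁻¹ := by rw [h1]
        _ = c * t * (reflT Q u * reflT Q u) * c⁻¹ := by group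
        _ = c * t * c⁻¹ := by rw [reflT_mul_self, mul_one]

/-- the fixed space of an involution in characteristic two has dimension at least half -/
theorem card_le_two_mul_fixD [CharP F 2] (t : Cfsg.isometryGroup F ⇑Q) (ht : t * t = 1) :
    Fintype.card ι ≤ 2 * fixD Q t := by
  have hrk := rank_sub_one_add_fixD Q t
  have h2 : (2 : F) = 0 := by
    have := CharP.cast_eq_zero F 2
    exact_mod_cast this
  have hL : lin Q t * lin Q t = 1 := by rw [← lin_mul, ht, lin_one]
  have hle : LinearMap.range (lin Q t - LinearMap.id) ≤ Helper14.fixSpace (lin Q t) := by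
    rintro _ ⟨x, rfl⟩
    rw [Helper14.mem_fixSpace]
    have h3 : lin Q t (lin Q t x) = x := by
      have := congrArg (fun f : (ι → F) →ₗ[F] (ι → F) => f x) hL
      exact this
    rw [LinearMap.sub_apply, LinearMap.id_apply, map_sub, h3]
    have h4 : (2 : F) • (x - lin Q t x) = 0 := by rw [h2, zero_smul]
    rw [two_smul] at h4
    rw [← sub_eq_zero]
    have : x - lin Q t x - (lin Q t x - x) = (x - lin Q t x) + (x - lin Q t x) := by abel
    rw [this]
    exact h4
  have h5 := Submodule.finrank_mono hle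
  have h6 : finrank F ↥(LinearMap.range (lin Q t - LinearMap.id))
      = ((t.1 : Matrix ι ι F) - 1).rank := by
    have h1 : ((t.1 : Matrix ι ι F) - 1).mulVecLin = lin Q t - LinearMap.id := by
      apply LinearMap.ext
      intro x
      rw [Matrix.mulVecLin_apply, Matrix.sub_mulVec, Matrix.one_mulVec]
      rfl
    rw [Matrix.rank, h1]
  rw [h6] at h5
  unfold fixD at hrk ⊢
  omega

/-- if all totally singular subspaces are small, an involution fixes a non-singular vector -/
theorem exists_nonsingular_fixed [CharP F 2] (t : Cfsg.isometryGroup F ⇑Q) (ht : t * t = 1)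
    (hts : ∀ W : Submodule F (ι → F), (∀ w ∈ W, Q w = 0) → 2 * finrank F W < Fintype.card ι) :
    ∃ u : ι → F, Q u ≠ 0 ∧ (t.1 : Matrix ι ι F) *ᵥ u = u := by
  by_contra hcon
  push Not at hcon
  have h1 := card_le_two_mul_fixD Q t ht
  have h2 := hts (Helper14.fixSpace (lin Q t)) (fun w hw => by
    by_contra hw0
    exact hcon w hw0 ((Helper14.mem_fixSpace _ _).1 hw))
  unfold fixD at h1
  omega

section Minus

variable {F : Type*} [Field F]

/-- In the minus-type form `Σ x_i y_i + N(z)` with `N` anisotropic, totally singular subspaces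
have dimension at most `k`. -/
theorem minus_ts_finrank_le (k : ℕ) (c d : F)
    (hcd : ∀ z₁ z₂ : F, z₁ ^ 2 + c * z₁ * z₂ + d * z₂ ^ 2 = 0 → z₁ = 0 ∧ z₂ = 0)
    (W : Submodule F ((Fin k ⊕ Fin k) ⊕ Fin 2 → F))
    (hW : ∀ w ∈ W, Cfsg.quadFormMinus k F c d w = 0) : finrank F W ≤ k := by
  classical
  set Y : ((Fin k ⊕ Fin k) ⊕ Fin 2 → F) →ₗ[F] (Fin k → F) :=
    LinearMap.funLeft F F (fun i => Sum.inl (Sum.inr i)) with hY
  set X : ((Fin k ⊕ Fin k) ⊕ Fin 2 → F) →ₗ[F] (Fin k → F) :=
    LinearMap.funLeft F F (fun i => Sum.inl (Sum.inl i)) with hX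
  have hYa : ∀ v i, Y v i = v (Sum.inl (Sum.inr i)) := fun v i => rfl
  have hXa : ∀ v i, X v i = v (Sum.inl (Sum.inl i)) := fun v i => rfl
  set f : ↥W →ₗ[F] (Fin k → F) := Y.domRestrict W with hf
  set g : ↥(LinearMap.ker f) →ₗ[F] (Fin k → F) :=
    (X.domRestrict W).domRestrict (LinearMap.ker f) with hg
  -- elements of the kernel have zero `y` and `z` coordinates
  have hker : ∀ w : ↥(LinearMap.ker f), (∀ i, (w.1.1) (Sum.inl (Sum.inr i)) = 0) ∧
      (w.1.1) (Sum.inr 0) = 0 ∧ (w.1.1) (Sum.inr 1) = 0 := by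
    intro w
    have h1 : f w.1 = 0 := w.2
    have h2 : ∀ i, (w.1.1) (Sum.inl (Sum.inr i)) = 0 := fun i => congrFun h1 i
    refine ⟨h2, ?_⟩
    have h3 := hW w.1.1 w.1.2
    unfold Cfsg.quadFormMinus at h3
    rw [Finset.sum_eq_zero (fun i _ => by rw [h2 i, mul_zero]), zero_add] at h3
    exact hcd _ _ h3
  -- `g` is injective
  have hginj : Function.Injective g := by
    rw [injective_iff_map_eq_zero]
    intro w hw
    obtain ⟨h1, h2, h3⟩ := hker w
    apply Subtype.ext
    apply Subtype.ext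
    funext j
    show (w.1.1) j = 0
    rcases j with (i | i) | j
    · exact congrFun hw i
    · exact h1 i
    · fin_cases j
      · exact h2
      · exact h3
  -- orthogonality for the dot product
  have horth : ∀ (w : ↥W) (w1 : ↥(LinearMap.ker f)), g w1 ⬝ᵥ f w = 0 := by
    intro w w1
    obtain ⟨h1, h2, h3⟩ := hker w1
    have hp : QuadraticMap.polar (Cfsg.quadFormMinus k F c d) w.1 w1.1.1 = 0 := by
      unfold QuadraticMap.polar
      rw [hW _ (W.add_mem w.2 w1.1.2), hW _ w.2, hW _ w1.1.2]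
      ring
    rw [Helper44.polar_quadFormMinus, Helper44.polar_quadFormPlus, h2, h3] at hp
    simp only [Function.comp_apply, h1, mul_zero, add_zero, zero_add] at hp
    rw [dotProduct]
    rw [← hp]
    refine Finset.sum_congr rfl fun i _ => ?_
    rfl
  -- the dot-product form
  set D : LinearMap.BilinForm F (Fin k → F) := Matrix.toBilin' (1 : Matrix (Fin k) (Fin k) F) with hD
  have hDnd : D.Nondegenerate :=
    LinearMap.BilinForm.nondegenerate_toBilin'_of_det_ne_zero' _ (by rw [det_one]; exact one_ne_zero)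
  have hle : LinearMap.range f ≤ D.orthogonal (LinearMap.range g) := by
    rintro _ ⟨w, rfl⟩
    rw [LinearMap.BilinForm.mem_orthogonal_iff]
    rintro _ ⟨w1, rfl⟩
    show D (g w1) (f w) = 0
    rw [hD, Matrix.toBilin'_apply', one_mulVec]
    exact horth w w1
  have h1 := Submodule.finrank_mono hle
  rw [LinearMap.BilinForm.finrank_orthogonal hDnd, Module.finrank_fin_fun,
    LinearMap.finrank_range_of_inj hginj] at h1
  have h2 := LinearMap.finrank_range_add_finrank_ker f
  have h3 : finrank F ↥(LinearMap.range g) ≤ k := by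
    have := Submodule.finrank_le (LinearMap.range g)
    rwa [Module.finrank_fin_fun] at this
  rw [LinearMap.finrank_range_of_inj hginj] at h3
  omega

end Minus

end Cfsg.Agent.Helper45.OmegaParity
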