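import Mathlib
import Cfsg.Prelude.Def_ClassicalGeometry
import Cfsg.Agent.Helper45.OmegaInvol
import Cfsg.Agent.Helper14.TwoFamilies

/-!
# The two families of maximal totally singular subspaces and `Ω`

* `parityHom_eq_codim`: for a maximal totally singular `U` (dimension `m` in dimension `2m`), the
  parity of an isometry `g` is the parity of `m - dim (U ∩ gU)`.
* `omega_conj_dichotomy`: `Ω`-classes of involutions of `Ω⁺` in characteristic two.
-/

set_option autoImplicit false

namespace Cfsg.Agent.Helper45.OmegaParity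

open Matrix QuadraticMap Module Cfsg.Agent.Helper44

variable {F : Type*} [Field F] {ι : Type} [Fintype ι] [DecidableEq ι]
variable (Q : QuadraticForm F (ι → F))

theorem lin_injective (g : Cfsg.isometryGroup F ⇑Q) : Function.Injective (lin Q g) := by
  intro x y hxy
  have h1 : lin Q g⁻¹ (lin Q g x) = lin Q g⁻¹ (lin Q g y) := by rw [hxy]
  have h2 : ∀ z, lin Q g⁻¹ (lin Q g z) = z := by
    intro z
    have : lin Q g⁻¹ * lin Q g = 1 := by rw [← lin_mul, inv_mul_cancel, lin_one]
    exact congrArg (fun f : (ι → F) →ₗ[F] (ι → F) => f z) this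
  rwa [h2, h2] at h1

theorem finrank_map_lin (g : Cfsg.isometryGroup F ⇑Q) (U : Submodule F (ι → F)) :
    finrank F ↥(U.map (lin Q g)) = finrank F ↥U :=
  (LinearEquiv.finrank_eq (Submodule.equivMapOfInjective (lin Q g) (lin_injective Q g) U)).symm

theorem ts_map_lin (g : Cfsg.isometryGroup F ⇑Q) (U : Submodule F (ι → F))
    (hU0 : ∀ w ∈ U, Q w = 0) : ∀ w ∈ U.map (lin Q g), Q w = 0 := by
  rintro _ ⟨x, hx, rfl⟩
  rw [lin_isometry]
  exact hU0 x hx

theorem finrank_inf_map_lin (g : Cfsg.isometryGroup F ⇑Q) (U W : Submodule F (ι → F)) :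
    finrank F ↥(U.map (lin Q g) ⊓ W.map (lin Q g) : Submodule F (ι → F))
      = finrank F ↥(U ⊓ W : Submodule F (ι → F)) := by
  rw [← Submodule.map_inf (lin Q g) (lin_injective Q g), finrank_map_lin]

/-- a maximal totally singular subspace meets its image under a reflection in a hyperplane -/
theorem finrank_inf_map_reflT (hQ : (QuadraticMap.polarBilin Q).Nondegenerate) (m : ℕ)
    (hV : Fintype.card ι = 2 * m) (U : Submodule F (ι → F)) (hU : finrank F U = m)
    (hU0 : ∀ w ∈ U, Q w = 0) (a : ι → F) (ha : Q a ≠ 0) :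
    finrank F ↥(U ⊓ U.map (lin Q (reflT Q a)) : Submodule F (ι → F)) + 1 = m := by
  have hV' : finrank F (ι → F) = 2 * m := by rw [Module.finrank_fintype_fun_eq_card, hV]
  have haU : a ∉ U := fun h => ha (hU0 a h)
  set φ : (ι → F) →ₗ[F] F := QuadraticMap.polarBilin Q a with hφ
  have hr : ∀ x, lin Q (reflT Q a) x = x - ((Q a)⁻¹ * φ x) • a := by
    intro x
    rw [lin_reflT Q a ha, Helper14.qRefl_apply]
  have heq : U ⊓ U.map (lin Q (reflT Q a)) = U ⊓ LinearMap.ker φ := by
    apply le_antisymm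
    · rintro x ⟨hxU, y, hyU, hyx⟩
      refine ⟨hxU, ?_⟩
      rw [hr] at hyx
      by_cases hy0 : φ y = 0
      · rw [hy0, mul_zero, zero_smul, sub_zero] at hyx
        rw [← hyx]
        exact hy0
      · exfalso
        apply haU
        have h1 : ((Q a)⁻¹ * φ y) • a = y - x := by rw [← hyx]; abel
        have h2 : ((Q a)⁻¹ * φ y) ≠ 0 := mul_ne_zero (inv_ne_zero ha) hy0
        have h3 : a = ((Q a)⁻¹ * φ y)⁻¹ • (y - x) := by
          rw [← h1, smul_smul, inv_mul_cancel₀ h2, one_smul]
        rw [h3]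
        exact U.smul_mem _ (U.sub_mem hyU hxU)
    · rintro x ⟨hxU, hx0⟩
      refine ⟨hxU, x, hxU, ?_⟩
      rw [hr, LinearMap.mem_ker.1 hx0, mul_zero, zero_smul, sub_zero]
  rw [heq]
  have h1 := Helper14.finrank_le_inf_ker_add_one U φ
  have h2 : U ⊓ LinearMap.ker φ ≠ U := by
    intro h
    apply haU
    rw [← Helper14.ts_orthogonal_eq_self Q hQ m hV' U hU hU0, LinearMap.BilinForm.mem_orthogonal_iff]
    intro n hn
    have h3 : n ∈ U ⊓ LinearMap.ker φ := by rw [h]; exact hn
    have h4 : φ n = 0 := LinearMap.mem_ker.1 h3.2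
    show QuadraticMap.polarBilin Q n a = 0
    rw [Helper14.polarBilin_symm]
    exact h4
  have h3 : finrank F ↥(U ⊓ LinearMap.ker φ : Submodule F (ι → F)) < finrank F ↥U :=
    Submodule.finrank_lt_finrank_of_lt (lt_of_le_of_ne inf_le_left h2)
  omega

/-- the codimension of `U ∩ gU` has the parity of the length of a reflection word for `g` -/
theorem codim_prod (hQ : (QuadraticMap.polarBilin Q).Nondegenerate) (m : ℕ)
    (hV : Fintype.card ι = 2 * m) (vs : List (ι → F)) (hvs : ∀ x ∈ vs, Q x ≠ 0) :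
    ∀ U : Submodule F (ι → F), finrank F U = m → (∀ w ∈ U, Q w = 0) →
      (((m - finrank F ↥(U ⊓ U.map (lin Q (vs.map (reflT Q)).prod) : Submodule F (ι → F)) : ℕ) : ℕ) :
        ZMod 2) = (vs.length : ZMod 2) := by
  have hV' : finrank F (ι → F) = 2 * m := by rw [Module.finrank_fintype_fun_eq_card, hV]
  induction vs with
  | nil =>
    intro U hU hU0
    have h1 : lin Q ((List.map (reflT Q) ([] : List (ι → F))).prod) = 1 := by
      rw [List.map_nil, List.prod_nil, lin_one]
    have : U.map (1 : (ι → F) →ₗ[F] (ι → F)) = U := Submodule.map_id U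
    rw [h1, this, inf_idem, hU, Nat.sub_self, List.length_nil]
  | cons a l ih =>
    intro U hU hU0
    have hl : ∀ x ∈ l, Q x ≠ 0 := fun x hx => hvs x (List.mem_cons_of_mem _ hx)
    have ha : Q a ≠ 0 := hvs a List.mem_cons_self
    set p := (l.map (reflT Q)).prod with hp
    rw [List.map_cons, List.prod_cons, List.length_cons, lin_mul]
    have hmap : U.map (lin Q (reflT Q a) * lin Q p)
        = (U.map (lin Q p)).map (lin Q (reflT Q a)) := Submodule.map_comp _ _ _
    rw [hmap]
    set W := U.map (lin Q p) with hW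
    have hWm : finrank F W = m := by rw [hW, finrank_map_lin, hU]
    have hW0 : ∀ w ∈ W, Q w = 0 := ts_map_lin Q p U hU0
    set X := W.map (lin Q (reflT Q a)) with hX
    have hXm : finrank F X = m := by rw [hX, finrank_map_lin, hWm]
    have hX0 : ∀ w ∈ X, Q w = 0 := ts_map_lin Q _ W hW0
    have hWX := finrank_inf_map_reflT Q hQ m hV W hWm hW0 a ha
    have hpar := Helper14.parity_maximal Q hQ m hV' U hU hU0 _ W X U hWm hW0 hXm hX0 hU hU0 rfl
    have ih' := ih hl U hU hU0
    rw [← hX] at hWX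
    have hk : m - finrank F ↥(W ⊓ X : Submodule F (ι → F)) = 1 := by omega
    rw [hk] at hpar
    have h2 := (ZMod.natCast_eq_zero_iff_even).2 hpar
    push_cast at h2 ⊢
    rw [← ih']
    have key : ∀ x y : ZMod 2, x + 1 + y = 0 → y = x + 1 := by decide
    exact key _ _ h2

/-- value of the parity homomorphism on a reflection word -/
theorem parityHom_prod [Fintype F] (hQ : (QuadraticMap.polarBilin Q).Nondegenerate)
    (h : Fintype.card F ≠ 2 ∨ Fintype.card ι ≠ 4) (vs : List (ι → F)) (hvs : ∀ x ∈ vs, Q x ≠ 0) :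
    parityHom Q hQ h ((vs.map (reflT Q)).prod) = Multiplicative.ofAdd (vs.length : ZMod 2) := by
  show Multiplicative.ofAdd ((fixD Q ((vs.map (reflT Q)).prod) : ZMod 2)
    + (Fintype.card ι : ZMod 2)) = _
  rw [fixD_prod Q hQ vs hvs]
  congr 1
  have h2 : ∀ a b : ZMod 2, a + b + a = b := by decide
  exact h2 _ _

/-- **The two families**: the parity of an isometry is the parity of the codimension of
`U ∩ gU` in a maximal totally singular subspace `U`. -/
theorem parityHom_eq_codim [Fintype F] (hQ : (QuadraticMap.polarBilin Q).Nondegenerate)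
    (h : Fintype.card F ≠ 2 ∨ Fintype.card ι ≠ 4) (m : ℕ) (hV : Fintype.card ι = 2 * m)
    (U : Submodule F (ι → F)) (hU : finrank F U = m) (hU0 : ∀ w ∈ U, Q w = 0)
    (g : Cfsg.isometryGroup F ⇑Q) :
    parityHom Q hQ h g = Multiplicative.ofAdd
      (((m - finrank F ↥(U ⊓ U.map (lin Q g) : Submodule F (ι → F)) : ℕ) : ℕ) : ZMod 2) := by
  obtain ⟨vs, hvs, rfl⟩ := exists_list_reflT Q hQ h g
  rw [parityHom_prod Q hQ h vs hvs, codim_prod Q hQ m hV vs hvs U hU hU0]

/-- the linear map `g - 1` -/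
noncomputable def comm (g : Cfsg.isometryGroup F ⇑Q) : (ι → F) →ₗ[F] (ι → F) :=
  lin Q g - LinearMap.id

theorem comm_apply (g : Cfsg.isometryGroup F ⇑Q) (v : ι → F) :
    comm Q g v = lin Q g v - v := rfl

theorem toLin'_sub_one (g : Cfsg.isometryGroup F ⇑Q) :
    Matrix.toLin' ((g.1 : Matrix ι ι F) - 1) = comm Q g := by
  apply LinearMap.ext
  intro x
  rw [Matrix.toLin'_apply, Matrix.sub_mulVec, Matrix.one_mulVec]
  rfl

theorem mulVecLin_sub_one (g : Cfsg.isometryGroup F ⇑Q) :
    ((g.1 : Matrix ι ι F) - 1).mulVecLin = comm Q g := by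
  apply LinearMap.ext
  intro x
  rw [Matrix.mulVecLin_apply, Matrix.sub_mulVec, Matrix.one_mulVec]
  rfl

theorem add_mulVec_eq [CharP F 2] (g : Cfsg.isometryGroup F ⇑Q) (v : ι → F) :
    v + (g.1 : Matrix ι ι F) *ᵥ v = comm Q g v := by
  have h2 : (2 : F) = 0 := by
    have := CharP.cast_eq_zero F 2
    exact_mod_cast this
  have h4 : (2 : F) • v = 0 := by rw [h2, zero_smul]
  rw [two_smul] at h4
  rw [comm_apply, lin_apply]
  have : v + (g.1 : Matrix ι ι F) *ᵥ v = (g.1 : Matrix ι ι F) *ᵥ v - v + (v + v) := by abel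
  rw [this, h4, add_zero]

/-- an involution either fixes a non-singular vector, or its commutator space is a maximal
totally singular subspace -/
theorem exists_nonsingular_fixed_or [CharP F 2] (hQ : (QuadraticMap.polarBilin Q).Nondegenerate)
    (m : ℕ) (hV : Fintype.card ι = 2 * m) (t : Cfsg.isometryGroup F ⇑Q) (ht : t * t = 1) :
    (∃ u : ι → F, Q u ≠ 0 ∧ (t.1 : Matrix ι ι F) *ᵥ u = u) ∨
      (((t.1 : Matrix ι ι F) - 1).rank = m ∧
        ∀ v : ι → F, Q (v + (t.1 : Matrix ι ι F) *ᵥ v) = 0) := by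
  have hV' : finrank F (ι → F) = 2 * m := by rw [Module.finrank_fintype_fun_eq_card, hV]
  by_cases hex : ∃ u : ι → F, Q u ≠ 0 ∧ (t.1 : Matrix ι ι F) *ᵥ u = u
  · exact Or.inl hex
  · right
    push Not at hex
    have hts : ∀ w ∈ Helper14.fixSpace (lin Q t), Q w = 0 := by
      intro w hw
      by_contra hw0
      exact hex w hw0 ((Helper14.mem_fixSpace _ _).1 hw)
    have h1 := card_le_two_mul_fixD Q t ht
    have h2 := Helper14.ts_finrank_le Q hQ m hV' _ hts
    have hrk := rank_sub_one_add_fixD Q t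
    unfold fixD at h1 hrk
    refine ⟨by omega, ?_⟩
    intro v
    apply hts
    rw [Helper14.mem_fixSpace, lin_apply, Matrix.mulVec_add]
    have h3 : (t.1 : Matrix ι ι F) *ᵥ ((t.1 : Matrix ι ι F) *ᵥ v) = v := by
      rw [← isometryGroup_mul_mulVec, ht, isometryGroup_one_mulVec]
    rw [h3, add_comm]

/-- the commutator space of a conjugate -/
theorem range_sub_one_conj (t s g : Cfsg.isometryGroup F ⇑Q) (hg : g * t * g⁻¹ = s) :
    LinearMap.range (comm Q s) = (LinearMap.range (comm Q t)).map (lin Q g) := by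
  have hsg : s * g = g * t := by rw [← hg]; group
  have key : ∀ w, comm Q s (lin Q g w) = lin Q g (comm Q t w) := by
    intro w
    rw [comm_apply, comm_apply, map_sub]
    congr 1
    have h1 : (lin Q s * lin Q g) w = (lin Q g * lin Q t) w := by rw [← lin_mul, ← lin_mul, hsg]
    exact h1
  have hinv : ∀ v, lin Q g (lin Q g⁻¹ v) = v := by
    intro v
    have : lin Q g * lin Q g⁻¹ = 1 := by rw [← lin_mul, mul_inv_cancel, lin_one]
    exact congrArg (fun f : (ι → F) →ₗ[F] (ι → F) => f v) this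
  apply le_antisymm
  · rintro _ ⟨v, rfl⟩
    refine ⟨comm Q t (lin Q g⁻¹ v), ⟨_, rfl⟩, ?_⟩
    rw [← key, hinv]
  · rintro _ ⟨_, ⟨w, rfl⟩, rfl⟩
    exact ⟨lin Q g w, key w⟩

/-- **`Ω`-classes of involutions, plus type, characteristic two.** -/
theorem omega_conj_dichotomy [Fintype F] [CharP F 2]
    (hQ : (QuadraticMap.polarBilin Q).Nondegenerate)
    (h : Fintype.card F ≠ 2 ∨ Fintype.card ι ≠ 4) (m : ℕ) (hV : Fintype.card ι = 2 * m)
    (t s : Cfsg.isometryGroup F ⇑Q) (ht : t * t = 1) (htO : t ∈ Cfsg.Omega F ⇑Q)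
    (hconj : IsConj t s) :
    (¬ (((t.1 : Matrix ι ι F) - 1).rank = m ∧
        ∀ v : ι → F, Q (v + (t.1 : Matrix ι ι F) *ᵥ v) = 0) →
      ∃ g ∈ Cfsg.Omega F ⇑Q, g * t * g⁻¹ = s) ∧
    ((((t.1 : Matrix ι ι F) - 1).rank = m ∧
        ∀ v : ι → F, Q (v + (t.1 : Matrix ι ι F) *ᵥ v) = 0) →
      ((∃ g ∈ Cfsg.Omega F ⇑Q, g * t * g⁻¹ = s) ↔
        Even (finrank F ↥(LinearMap.range (Matrix.toLin' ((t.1 : Matrix ι ι F) - 1)) ⊓
          LinearMap.range (Matrix.toLin' ((s.1 : Matrix ι ι F) - 1)) : Submodule F (ι → F))))) := by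
  constructor
  · intro hnot
    rcases exists_nonsingular_fixed_or Q hQ m hV t ht with ⟨u, hu, htu⟩ | h1
    · exact exists_conj_mem_Omega Q hQ h t s hconj u hu htu
    · exact absurd h1 hnot
  · rintro ⟨hrk, hsing⟩
    rw [toLin'_sub_one, toLin'_sub_one]
    set U := LinearMap.range (comm Q t) with hU
    have hUm : finrank F U = m := by
      rw [← hrk, Matrix.rank, mulVecLin_sub_one]
    have hU0 : ∀ w ∈ U, Q w = 0 := by
      rintro _ ⟨v, rfl⟩
      rw [← add_mulVec_eq]
      exact hsing v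
    have hmeven : Even m := by
      rw [← hrk]
      exact (mem_Omega_iff_even_rank Q hQ h t).1 htO
    -- the criterion for a conjugating element
    have crit : ∀ g : Cfsg.isometryGroup F ⇑Q, g * t * g⁻¹ = s →
        (g ∈ Cfsg.Omega F ⇑Q ↔ Even (finrank F ↥(U ⊓
          LinearMap.range (comm Q s) : Submodule F (ι → F)))) := by
      intro g hg
      rw [range_sub_one_conj Q t s g hg, ← hU, mem_Omega_iff_parityHom Q hQ h,
        parityHom_eq_codim Q hQ h m hV U hUm hU0 g]
      have hle : finrank F ↥(U ⊓ U.map (lin Q g) : Submodule F (ι → F)) ≤ m := by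
        rw [← hUm]
        exact Submodule.finrank_mono inf_le_left
      have e1 : (Multiplicative.ofAdd
          (((m - finrank F ↥(U ⊓ U.map (lin Q g) : Submodule F (ι → F)) : ℕ) : ℕ) : ZMod 2) = 1)
          ↔ (((m - finrank F ↥(U ⊓ U.map (lin Q g) : Submodule F (ι → F)) : ℕ) : ℕ) : ZMod 2)
            = 0 := by
        constructor
        · intro h1
          exact congrArg Multiplicative.toAdd h1
        · intro h1
          exact congrArg Multiplicative.ofAdd h1
      rw [e1, ZMod.natCast_eq_zero_iff_even]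
      constructor
      · intro h1
        have h2 : Even (m - (m - finrank F ↥(U ⊓ U.map (lin Q g) : Submodule F (ι → F)))) :=
          (Nat.even_sub (Nat.sub_le _ _)).2 ⟨fun _ => h1, fun _ => hmeven⟩
        rwa [Nat.sub_sub_self hle] at h2
      · intro h1
        exact (Nat.even_sub hle).2 ⟨fun _ => h1, fun _ => hmeven⟩
    constructor
    · rintro ⟨g, hgO, hg⟩
      exact (crit g hg).1 hgO
    · intro hev
      obtain ⟨c, hc⟩ := isConj_iff.1 hconj
      exact ⟨c, (crit c hc).2 hev, hc⟩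

end Cfsg.Agent.Helper45.OmegaParity
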