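import Mathlib
import Cfsg.Prelude.Def_Classical
import Cfsg.Agent.Helper45.WittQuad

set_option autoImplicit false

/-!
# Involutions of orthogonal groups: conjugacy under the symplectic group of the polar form
implies conjugacy under the orthogonal group (via Witt's theorem).
-/

namespace Cfsg.Agent.Helper45.WittQuad

open QuadraticMap

section SpO
variable {F V : Type*} [Field F] [AddCommGroup V] [Module F V] [FiniteDimensional F V]
variable (Q : QuadraticForm F V)

/-- An involution of `O(Q)` which is conjugate under the isometry group of the polar form to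
another element of `O(Q)` is already conjugate to it under `O(Q)`. -/
theorem conj_in_O_of_conj_in_Sp (hQ : (polarBilin Q).Nondegenerate) (t s g : V ≃ₗ[F] V)
    (ht : ∀ x, Q (t x) = Q x) (hs : ∀ x, Q (s x) = Q x) (ht2 : ∀ x, t (t x) = x)
    (hg : ∀ x y, polar Q (g x) (g y) = polar Q x y) (hgt : ∀ x, g (t x) = s (g x)) :
    ∃ h : V ≃ₗ[F] V, (∀ x, Q (h x) = Q x) ∧ ∀ x, h (t x) = s (h x) := by
  have htB : ∀ x y, polar Q (t x) (t y) = polar Q x y :=
    polar_map_of_isom_top Q t.toLinearMap ht
  have hsB : ∀ x y, polar Q (s x) (s y) = polar Q x y :=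
    polar_map_of_isom_top Q s.toLinearMap hs
  have hs2 : ∀ x, s (s x) = x := by
    intro x
    obtain ⟨y, rfl⟩ := g.surjective x
    rw [← hgt, ← hgt, ht2]
  have hsadj : ∀ x y, polar Q (s x) y = polar Q x (s y) := by
    intro x y
    conv_lhs => rw [← hs2 y]
    rw [hsB]
  -- `W = (t - 1) V`
  set Nt : V →ₗ[F] V := t.toLinearMap - LinearMap.id with hNt
  have hNt_apply : ∀ x, Nt x = t x - x := fun x => rfl
  set W : Submodule F V := LinearMap.range Nt with hW
  -- `g` is a `Q`-isometry on `W`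
  have hgW : ∀ w ∈ W, Q (g w) = Q w := by
    rintro w ⟨x, rfl⟩
    rw [hNt_apply, map_sub, hgt]
    have e1 : Q (s (g x) - g x) = Q (s (g x)) + Q (g x) - polar Q (s (g x)) (g x) := by
      rw [sub_eq_add_neg, Q_add, QuadraticMap.map_neg, polar_neg_right]; ring
    have e2 : Q (t x - x) = Q (t x) + Q x - polar Q (t x) x := by
      rw [sub_eq_add_neg, Q_add, QuadraticMap.map_neg, polar_neg_right]; ring
    rw [e1, e2, hs, ht, ← hgt, hg]
    have h1 : Q (g x) + Q (g x) = Q x + Q x := by
      have a1 := polar_pp Q (g x)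
      have a2 := polar_pp Q x
      rw [hg] at a1
      rw [two_mul] at a1 a2
      rw [← a1, ← a2]
    linear_combination h1
  -- Witt
  let φ : W ≃ₗ[F] W.map g.toLinearMap := Submodule.equivMapOfInjective g.toLinearMap g.injective W
  have hφ : ∀ w : W, ((φ w : W.map g.toLinearMap) : V) = g (w : V) := fun w => rfl
  obtain ⟨h0, hh0Q, hh0W⟩ := witt Q hQ W (W.map g.toLinearMap) φ (by
    intro w
    rw [hφ]
    exact hgW w w.2)
  have hh0B : ∀ x y, polar Q (h0 x) (h0 y) = polar Q x y :=
    polar_map_of_isom_top Q h0.toLinearMap hh0Q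
  refine ⟨h0, hh0Q, ?_⟩
  intro x
  -- `h0 (t x) = h0 x + g (Nt x)` and `s (h0 x) = h0 x + (s (h0 x) - h0 x)`
  have h1 : h0 (t x) = h0 x + g (Nt x) := by
    have : t x = x + Nt x := by rw [hNt_apply]; abel
    rw [this, map_add]
    congr 1
    have := hh0W ⟨Nt x, LinearMap.mem_range_self Nt x⟩
    rw [hφ] at this
    exact this
  have h2 : g (Nt x) = s (g x) - g x := by
    rw [hNt_apply, map_sub, hgt]
  -- the difference `z = g x - h0 x` is killed by `s - 1`
  set z : V := g x - h0 x with hz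
  have hzW : ∀ w ∈ W, polar Q z (g w) = 0 := by
    intro w hw
    have e := hh0W ⟨w, hw⟩
    rw [hφ] at e
    rw [hz, polar_sub_left, hg]
    conv_lhs => rw [← e]
    rw [hh0B, sub_self]
  have hsz : s z = z := by
    have h3 : s z - z = 0 := by
      apply hQ.1
      intro y
      rw [polarBilin_apply_apply, polar_sub_left, hsadj, ← polar_sub_right]
      -- `s y - y = g (Nt (g⁻¹ y))`
      obtain ⟨y', rfl⟩ := g.surjective y
      have : s (g y') - g y' = g (Nt y') := by rw [hNt_apply, map_sub, hgt]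
      rw [this]
      exact hzW _ (LinearMap.mem_range_self Nt y')
    exact sub_eq_zero.mp h3
  rw [h1, h2]
  have h4 : s (g x) - s (h0 x) = g x - h0 x := by
    rw [← map_sub]; exact hsz
  have h5 : s (h0 x) = s (g x) - (g x - h0 x) := by rw [← h4]; abel
  rw [h5]
  abel

end SpO

section Mat
open Matrix
variable {ι : Type} [Fintype ι] [DecidableEq ι] {F : Type*} [Field F]

/-- an element of `GL` as a linear equivalence -/
def linOfGL (M : GL ι F) : (ι → F) ≃ₗ[F] (ι → F) :=
  LinearEquiv.ofLinearMap (Matrix.toLin' (M : Matrix ι ι F)) (Matrix.toLin' ((M⁻¹ : GL ι F) : Matrix ι ι F))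
    (by rw [← Matrix.toLin'_mul, ← Units.val_mul, mul_inv_cancel, Units.val_one, Matrix.toLin'_one])
    (by rw [← Matrix.toLin'_mul, ← Units.val_mul, inv_mul_cancel, Units.val_one, Matrix.toLin'_one])

theorem linOfGL_apply (M : GL ι F) (x : ι → F) : linOfGL M x = (M : Matrix ι ι F) *ᵥ x := rfl

/-- a linear equivalence as an element of `GL` -/
def glOfLin (g : (ι → F) ≃ₗ[F] (ι → F)) : GL ι F :=
  ⟨LinearMap.toMatrix' g.toLinearMap, LinearMap.toMatrix' g.symm.toLinearMap, by
    rw [← LinearMap.toMatrix'_comp, LinearEquiv.comp_coe, LinearEquiv.symm_trans_self,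
      LinearEquiv.refl_toLinearMap, LinearMap.toMatrix'_id], by
    rw [← LinearMap.toMatrix'_comp, LinearEquiv.comp_coe, LinearEquiv.self_trans_symm,
      LinearEquiv.refl_toLinearMap, LinearMap.toMatrix'_id]⟩

theorem glOfLin_mulVec (g : (ι → F) ≃ₗ[F] (ι → F)) (v : ι → F) :
    ((glOfLin g : GL ι F) : Matrix ι ι F) *ᵥ v = g v := by
  show LinearMap.toMatrix' g.toLinearMap *ᵥ v = g v
  rw [LinearMap.toMatrix'_mulVec]
  rfl

theorem mem_isometryGroup_iff (Q : (ι → F) → F) (M : GL ι F) :
    M ∈ Cfsg.isometryGroup F Q ↔ ∀ x, Q ((M : Matrix ι ι F) *ᵥ x) = Q x := by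
  constructor
  · intro h x
    exact h x x
  · intro h x _
    exact h x

/-- matrix form: in the isometry group of a quadratic form with nondegenerate polar form, an
involution conjugate to another isometry under the isometry group of the polar form is already
conjugate to it under the isometry group. -/
theorem isConj_of_polar_conj (Q : QuadraticForm F (ι → F)) (hQ : (polarBilin Q).Nondegenerate)
    (t s : Cfsg.isometryGroup F ⇑Q) (ht2 : t * t = 1) (g : GL ι F)
    (hg : g ∈ Cfsg.preserving (Units.coeHom (Matrix ι ι F))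
      (fun u v => Q (u + v) - Q u - Q v))
    (hgts : g * (t : GL ι F) * g⁻¹ = (s : GL ι F)) : IsConj t s := by
  have htQ := (mem_isometryGroup_iff (⇑Q) (t : GL ι F)).1 t.2
  have hsQ := (mem_isometryGroup_iff (⇑Q) (s : GL ι F)).1 s.2
  have hgts' : g * (t : GL ι F) = (s : GL ι F) * g := by
    rw [← hgts]; group
  obtain ⟨h, hhQ, hht⟩ := conj_in_O_of_conj_in_Sp Q hQ (linOfGL (t : GL ι F))
    (linOfGL (s : GL ι F)) (linOfGL g)
    (fun x => by rw [linOfGL_apply]; exact htQ x)
    (fun x => by rw [linOfGL_apply]; exact hsQ x)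
    (fun x => by
      rw [linOfGL_apply, linOfGL_apply, mulVec_mulVec, ← Units.val_mul]
      have : (t : GL ι F) * (t : GL ι F) = 1 := by
        have := congrArg (fun z : Cfsg.isometryGroup F ⇑Q => (z : GL ι F)) ht2
        exact this
      rw [this, Units.val_one, one_mulVec])
    (fun x y => by
      rw [linOfGL_apply, linOfGL_apply]
      exact hg x y)
    (fun x => by
      rw [linOfGL_apply, linOfGL_apply, linOfGL_apply, linOfGL_apply, mulVec_mulVec, mulVec_mulVec,
        ← Units.val_mul, ← Units.val_mul, hgts'])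
  have hmem : glOfLin h ∈ Cfsg.isometryGroup F ⇑Q := by
    rw [mem_isometryGroup_iff]
    intro x
    rw [glOfLin_mulVec]
    exact hhQ x
  rw [isConj_iff]
  refine ⟨⟨glOfLin h, hmem⟩, ?_⟩
  rw [mul_inv_eq_iff_eq_mul]
  apply Subtype.ext
  apply Units.ext
  show ((glOfLin h : GL ι F) : Matrix ι ι F) * ((t : GL ι F) : Matrix ι ι F)
    = ((s : GL ι F) : Matrix ι ι F) * ((glOfLin h : GL ι F) : Matrix ι ι F)
  rw [ext_iff_mulVec]
  intro x
  rw [← mulVec_mulVec, ← mulVec_mulVec, glOfLin_mulVec, glOfLin_mulVec]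
  have := hht x
  rw [linOfGL_apply, linOfGL_apply] at this
  exact this

/-- the converse direction: conjugacy in the isometry group gives conjugacy under the polar form's
isometry group -/
theorem polar_conj_of_isConj (Q : QuadraticForm F (ι → F)) (t s : Cfsg.isometryGroup F ⇑Q)
    (h : IsConj t s) :
    ∃ g ∈ Cfsg.preserving (Units.coeHom (Matrix ι ι F)) (fun u v => Q (u + v) - Q u - Q v),
      g * (t : GL ι F) * g⁻¹ = (s : GL ι F) := by
  rw [isConj_iff] at h
  obtain ⟨c, hc⟩ := h
  refine ⟨(c : GL ι F), ?_, ?_⟩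
  · intro u v
    have hcQ := (mem_isometryGroup_iff (⇑Q) (c : GL ι F)).1 c.2
    show Q (((c : GL ι F) : Matrix ι ι F) *ᵥ u + ((c : GL ι F) : Matrix ι ι F) *ᵥ v)
      - Q (((c : GL ι F) : Matrix ι ι F) *ᵥ u) - Q (((c : GL ι F) : Matrix ι ι F) *ᵥ v) = _
    rw [← mulVec_add, hcQ, hcQ, hcQ]
  · rw [← hc]
    rfl

end Mat

end Cfsg.Agent.Helper45.WittQuad
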