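import Mathlib
import Cfsg.Prelude.Def_ClassicalGeometry
import Cfsg.Agent.Helper45.OmegaFamilies
import Cfsg.Agent.Helper45.OrthInvol
import Cfsg.Agent.Helper44.OrthSumOmega

/-!
# Adjusting isometries into `Ω`

* `stab`: stabiliser of a subspace; `exists_adjust`: cosets of a subgroup containing suitable
  reflection words meet `Ω`.
* `hyp_rot_apply`: the rotation `diag(c⁻¹, c)` of a hyperbolic pair as a product of two reflections.
-/

set_option autoImplicit false

namespace Cfsg.Agent.Helper45.OmegaParity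

open Matrix QuadraticMap Module Cfsg.Agent.Helper44

variable {F : Type*} [Field F] {ι : Type} [Fintype ι] [DecidableEq ι]
variable (Q : QuadraticForm F (ι → F))

/-- the stabiliser of a subspace in the isometry group -/
def stab (U : Submodule F (ι → F)) : Subgroup (Cfsg.isometryGroup F ⇑Q) where
  carrier := {g | U.map (lin Q g) = U}
  mul_mem' := by
    intro a b ha hb
    show U.map (lin Q (a * b)) = U
    rw [lin_mul]
    have : U.map (lin Q a * lin Q b) = (U.map (lin Q b)).map (lin Q a) := Submodule.map_comp _ _ _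
    rw [this, hb, ha]
  one_mem' := by
    show U.map (lin Q 1) = U
    rw [lin_one]
    exact Submodule.map_id U
  inv_mem' := by
    intro a ha
    show U.map (lin Q a⁻¹) = U
    have h1 : U.map (lin Q a⁻¹) = (U.map (lin Q a)).map (lin Q a⁻¹) := by rw [ha]
    have h2 : (U.map (lin Q a)).map (lin Q a⁻¹) = U.map (lin Q a⁻¹ * lin Q a) :=
      (Submodule.map_comp _ _ _).symm
    rw [h1, h2, ← lin_mul, inv_mul_cancel, lin_one]
    exact Submodule.map_id U

theorem mem_stab (U : Submodule F (ι → F)) (g : Cfsg.isometryGroup F ⇑Q) :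
    g ∈ stab Q U ↔ U.map (lin Q g) = U := Iff.rfl

theorem mem_stab_of_forall (U : Submodule F (ι → F)) (g : Cfsg.isometryGroup F ⇑Q)
    (hg : ∀ x ∈ U, lin Q g x ∈ U) : g ∈ stab Q U := by
  rw [mem_stab]
  apply Submodule.eq_of_le_of_finrank_eq
  · rintro _ ⟨x, hx, rfl⟩
    exact hg x hx
  · exact finrank_map_lin Q g U

theorem lin_reflT_apply (a : ι → F) (ha : Q a ≠ 0) (x : ι → F) :
    lin Q (reflT Q a) x = x - ((Q a)⁻¹ * QuadraticMap.polar ⇑Q a x) • a := by
  rw [lin_reflT Q a ha, Helper14.qRefl_apply, QuadraticMap.polarBilin_apply_apply]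

theorem reflT_mem_stab_of_orth (U : Submodule F (ι → F)) (a : ι → F) (ha : Q a ≠ 0)
    (hor : ∀ x ∈ U, QuadraticMap.polar ⇑Q a x = 0) : reflT Q a ∈ stab Q U := by
  apply mem_stab_of_forall
  intro x hx
  rw [lin_reflT_apply Q a ha, hor x hx, mul_zero, zero_smul, sub_zero]
  exact hx

theorem reflT_mem_stab_of_mem (U : Submodule F (ι → F)) (a : ι → F) (ha : Q a ≠ 0)
    (haU : a ∈ U) : reflT Q a ∈ stab Q U := by
  apply mem_stab_of_forall
  intro x hx
  rw [lin_reflT_apply Q a ha]
  exact U.sub_mem hx (U.smul_mem _ haU)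

/-- in a finite field of odd characteristic the product of two non-squares is a square -/
theorem isSquare_mul_of_not_isSquare [Fintype F] {a b : F}
    (ha : ¬ IsSquare a) (hb : ¬ IsSquare b) : IsSquare (a * b) := by
  classical
  have ha0 : a ≠ 0 := fun h => ha (h ▸ IsSquare.zero)
  have hb0 : b ≠ 0 := fun h => hb (h ▸ IsSquare.zero)
  have h1 : quadraticChar F a = -1 := (quadraticChar_neg_one_iff_not_isSquare).2 ha
  have h3 : quadraticChar F b = -1 := (quadraticChar_neg_one_iff_not_isSquare).2 hb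
  have h4 : quadraticChar F (a * b) = 1 := by rw [map_mul, h1, h3]; norm_num
  exact (quadraticChar_one_iff_isSquare (mul_ne_zero ha0 hb0)).1 h4

theorem prod_reflT_append (vs ws : List (ι → F)) :
    ((vs ++ ws).map (reflT Q)).prod = (vs.map (reflT Q)).prod * (ws.map (reflT Q)).prod := by
  rw [List.map_append, List.prod_append]

/-- **Adjusting into `Ω`**: if a subgroup `P` of the isometry group contains a reflection word of
odd length and (in odd characteristic) a reflection word of even length with non-square norm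
product, then every coset `gP` meets `Ω`. -/
theorem exists_adjust [Fintype F] (hQ : (QuadraticMap.polarBilin Q).Nondegenerate)
    (h : Fintype.card F ≠ 2 ∨ Fintype.card ι ≠ 4) (P : Subgroup (Cfsg.isometryGroup F ⇑Q))
    (vs₁ : List (ι → F)) (h₁ : ∀ v ∈ vs₁, Q v ≠ 0) (h₁P : (vs₁.map (reflT Q)).prod ∈ P)
    (h₁odd : Odd vs₁.length)
    (hsq : (2 : F) ≠ 0 → ∃ vs₂ : List (ι → F), (∀ v ∈ vs₂, Q v ≠ 0) ∧
      (vs₂.map (reflT Q)).prod ∈ P ∧ Even vs₂.length ∧
      ¬ IsSquare (vs₂.map (fun v => Q v)).prod)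
    (g : Cfsg.isometryGroup F ⇑Q) : ∃ s ∈ P, g * s ∈ Cfsg.Omega F ⇑Q := by
  obtain ⟨vs, hvs, rfl⟩ := exists_list_reflT Q hQ h g
  -- first make the length even
  obtain ⟨ws, hws, s₁, hs₁P, hs₁, hwsev⟩ : ∃ ws : List (ι → F), (∀ v ∈ ws, Q v ≠ 0) ∧
      ∃ s₁ ∈ P, (vs.map (reflT Q)).prod * s₁ = (ws.map (reflT Q)).prod ∧ Even ws.length := by
    rcases Nat.even_or_odd vs.length with hev | hodd
    · exact ⟨vs, hvs, 1, P.one_mem, mul_one _, hev⟩
    · refine ⟨vs ++ vs₁, ?_, _, h₁P, (prod_reflT_append Q vs vs₁).symm, ?_⟩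
      · intro v hv
        rcases List.mem_append.1 hv with hv | hv
        · exact hvs v hv
        · exact h₁ v hv
      · rw [List.length_append]
        exact Odd.add_odd hodd h₁odd
  by_cases h2 : (2 : F) = 0
  · have : CharP F 2 := CharTwo.of_one_ne_zero_of_two_eq_zero one_ne_zero h2
    refine ⟨s₁, hs₁P, ?_⟩
    rw [hs₁, mem_Omega_iff_parityHom Q hQ h, parityHom_prod Q hQ h ws hws]
    have : ((ws.length : ℕ) : ZMod 2) = 0 := (ZMod.natCast_eq_zero_iff_even).2 hwsev
    rw [this]
    rfl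
  · by_cases hsqw : IsSquare (ws.map (fun v => Q v)).prod
    · refine ⟨s₁, hs₁P, ?_⟩
      rw [hs₁, prod_reflT_mem_Omega_iff Q h2 ws hws]
      exact ⟨hwsev, hsqw⟩
    · obtain ⟨vs₂, h₂, h₂P, h₂ev, h₂ns⟩ := hsq h2
      refine ⟨s₁ * (vs₂.map (reflT Q)).prod, P.mul_mem hs₁P h₂P, ?_⟩
      rw [← mul_assoc, hs₁, ← prod_reflT_append, prod_reflT_mem_Omega_iff Q h2 (ws ++ vs₂)]
      · refine ⟨?_, ?_⟩
        · rw [List.length_append]
          exact Even.add hwsev h₂ev
        · rw [List.map_append, List.prod_append]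
          exact isSquare_mul_of_not_isSquare hsqw h₂ns
      · intro v hv
        rcases List.mem_append.1 hv with hv | hv
        · exact hws v hv
        · exact h₂ v hv

theorem Q_sub_smul_hyp (u u' : ι → F) (hu : Q u = 0) (hu' : Q u' = 0)
    (huu' : QuadraticMap.polar ⇑Q u u' = 1) (c : F) : Q (u - c • u') = -c := by
  have h1 : u - c • u' = u + (-c) • u' := by rw [neg_smul, sub_eq_add_neg]
  rw [h1, QuadraticMap.map_add ⇑Q, QuadraticMap.map_smul, QuadraticMap.polar_smul_right, hu, hu', huu']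
  simp

/-- the rotation `diag(c⁻¹, c)` of a hyperbolic pair `(u, u')`, as a product of two reflections,
acts on vectors orthogonal to `u` by `x ↦ x + (c⁻¹ - 1) B(u', x) u` -/
theorem hyp_rot_apply (u u' : ι → F) (hu : Q u = 0) (hu' : Q u' = 0)
    (huu' : QuadraticMap.polar ⇑Q u u' = 1) (c : F) (hc : c ≠ 0) (x : ι → F)
    (hx : QuadraticMap.polar ⇑Q u x = 0) :
    lin Q (reflT Q (u - c • u') * reflT Q (u - (1 : F) • u')) x
      = x + ((c⁻¹ - 1) * QuadraticMap.polar ⇑Q u' x) • u := by
  have e1 : Q (u - (1 : F) • u') = -1 := Q_sub_smul_hyp Q u u' hu hu' huu' 1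
  have e3 : Q (u - c • u') = -c := Q_sub_smul_hyp Q u u' hu hu' huu' c
  have n1 : Q (u - (1 : F) • u') ≠ 0 := by rw [e1]; exact neg_ne_zero.2 one_ne_zero
  have n3 : Q (u - c • u') ≠ 0 := by rw [e3]; exact neg_ne_zero.2 hc
  have huu : QuadraticMap.polar ⇑Q u u = 0 := by
    rw [QuadraticMap.polar_self, hu, smul_zero]
  have hu'u' : QuadraticMap.polar ⇑Q u' u' = 0 := by
    rw [QuadraticMap.polar_self, hu', smul_zero]
  have hu'u : QuadraticMap.polar ⇑Q u' u = 1 := by rw [QuadraticMap.polar_comm, huu']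
  set β := QuadraticMap.polar ⇑Q u' x with hβ
  have e2 : QuadraticMap.polar ⇑Q (u - (1 : F) • u') x = -β := by
    rw [QuadraticMap.polar_sub_left, QuadraticMap.polar_smul_left, hx, ← hβ]
    simp
  have e4 : QuadraticMap.polar ⇑Q (u - c • u') (x - β • (u - (1 : F) • u')) = β := by
    rw [QuadraticMap.polar_sub_left, QuadraticMap.polar_smul_left,
      QuadraticMap.polar_sub_right, QuadraticMap.polar_sub_right,
      QuadraticMap.polar_smul_right, QuadraticMap.polar_smul_right,
      QuadraticMap.polar_sub_right, QuadraticMap.polar_sub_right,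
      QuadraticMap.polar_smul_right, QuadraticMap.polar_smul_right,
      hx, huu, huu', hu'u', hu'u, ← hβ]
    simp only [smul_eq_mul]
    ring
  rw [lin_mul, Module.End.mul_apply, lin_reflT_apply Q _ n1, e1, e2]
  have h5 : x - ((-1 : F)⁻¹ * -β) • (u - (1 : F) • u') = x - β • (u - (1 : F) • u') := by
    congr 2
    rw [inv_neg, inv_one]
    ring
  rw [h5, lin_reflT_apply Q _ n3, e3, e4]
  ext i
  simp only [Pi.sub_apply, Pi.add_apply, Pi.smul_apply, smul_eq_mul]
  field_simp
  ring

end Cfsg.Agent.Helper45.OmegaParity
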