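import Mathlib
import Cfsg.Prelude.Def_ClassicalGeometry
import Cfsg.Agent.Helper45.OmegaTrans

/-!
# Transitivity of `Ω` on subspaces

* `exists_isometry_map`: Witt's theorem for subspaces, inside the matrix isometry group.
* `exists_mem_Omega_map_ts`: `Ω` is transitive on totally singular subspaces of dimension `k`,
  `2k < n` (finite field, any characteristic).
-/

set_option autoImplicit false

namespace Cfsg.Agent.Helper45.OmegaParity

open Matrix QuadraticMap Module Cfsg.Agent.Helper44

variable {F : Type*} [Field F] {ι : Type} [Fintype ι] [DecidableEq ι]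
variable (Q : QuadraticForm F (ι → F))

/-- an isometry of the whole space as an element of the isometry group -/
noncomputable def isoOfLin (gl : (ι → F) ≃ₗ[F] (ι → F)) (hgl : ∀ v, Q (gl v) = Q v) :
    Cfsg.isometryGroup F ⇑Q :=
  ⟨WittQuad.glOfLin gl, (WittQuad.mem_isometryGroup_iff ⇑Q _).2 (fun v => by
    rw [WittQuad.glOfLin_mulVec]; exact hgl v)⟩

theorem lin_isoOfLin (gl : (ι → F) ≃ₗ[F] (ι → F)) (hgl : ∀ v, Q (gl v) = Q v) (x : ι → F) :
    lin Q (isoOfLin Q gl hgl) x = gl x := by
  rw [lin_apply]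
  exact WittQuad.glOfLin_mulVec gl x

/-- **Witt for subspaces**: isometric subspaces are conjugate under the isometry group. -/
theorem exists_isometry_map (hQ : (QuadraticMap.polarBilin Q).Nondegenerate)
    (U W : Submodule F (ι → F)) (e : U ≃ₗ[F] W) (he : ∀ u : U, Q (e u : ι → F) = Q (u : ι → F)) :
    ∃ g : Cfsg.isometryGroup F ⇑Q, U.map (lin Q g) = W := by
  obtain ⟨gl, hgl, hext⟩ := WittQuad.witt Q hQ U W e he
  refine ⟨isoOfLin Q gl hgl, ?_⟩
  apply Submodule.eq_of_le_of_finrank_eq
  · rintro _ ⟨x, hx, rfl⟩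
    rw [lin_isoOfLin, hext ⟨x, hx⟩]
    exact (e ⟨x, hx⟩).2
  · rw [finrank_map_lin]
    exact LinearEquiv.finrank_eq e

theorem map_lin_mul (g s : Cfsg.isometryGroup F ⇑Q) (U : Submodule F (ι → F)) :
    U.map (lin Q (g * s)) = (U.map (lin Q s)).map (lin Q g) := by
  rw [lin_mul]
  exact Submodule.map_comp _ _ _

/-- a hyperbolic partner of a non-zero singular vector -/
theorem exists_hyp_partner (hQ : (QuadraticMap.polarBilin Q).Nondegenerate) (u : ι → F)
    (hu0 : u ≠ 0) (hu : Q u = 0) :
    ∃ u' : ι → F, Q u' = 0 ∧ QuadraticMap.polar ⇑Q u u' = 1 := by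
  obtain ⟨y, hy⟩ : ∃ y, QuadraticMap.polarBilin Q u y ≠ 0 := by
    by_contra hcon
    push Not at hcon
    exact hu0 (hQ.1 u hcon)
  rw [QuadraticMap.polarBilin_apply_apply] at hy
  obtain ⟨w, hw1⟩ : ∃ w, QuadraticMap.polar ⇑Q u w = 1 :=
    ⟨(QuadraticMap.polar ⇑Q u y)⁻¹ • y, by
      rw [QuadraticMap.polar_smul_right, smul_eq_mul, inv_mul_cancel₀ hy]⟩
  have huu : QuadraticMap.polar ⇑Q u u = 0 := by
    rw [QuadraticMap.polar_self, hu, smul_zero]
  refine ⟨w - Q w • u, ?_, ?_⟩
  · have h1 : w - Q w • u = w + (-(Q w)) • u := by rw [neg_smul, sub_eq_add_neg]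
    rw [h1, QuadraticMap.map_add ⇑Q, QuadraticMap.map_smul, QuadraticMap.polar_smul_right, hu,
      QuadraticMap.polar_comm, hw1]
    simp
  · rw [QuadraticMap.polar_sub_right, QuadraticMap.polar_smul_right, hw1, huu]
    simp

/-- a totally singular subspace is contained in its orthogonal -/
theorem ts_le_orthogonal (X : Submodule F (ι → F)) (hX : ∀ x ∈ X, Q x = 0) :
    X ≤ LinearMap.BilinForm.orthogonal (QuadraticMap.polarBilin Q) X := by
  intro x hx
  rw [LinearMap.BilinForm.mem_orthogonal_iff]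
  intro y hy
  show QuadraticMap.polarBilin Q y x = 0
  rw [QuadraticMap.polarBilin_apply_apply, QuadraticMap.polar, hX _ (X.add_mem hy hx), hX y hy,
    hX x hx]
  ring

/-- a non-singular vector orthogonal to a small totally singular subspace -/
theorem exists_nonsingular_orth (hQ : (QuadraticMap.polarBilin Q).Nondegenerate)
    (U : Submodule F (ι → F)) (hU : 2 * finrank F U < Fintype.card ι) :
    ∃ a : ι → F, Q a ≠ 0 ∧ ∀ x ∈ U, QuadraticMap.polar ⇑Q a x = 0 := by
  by_contra hcon
  push Not at hcon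
  set X := LinearMap.BilinForm.orthogonal (QuadraticMap.polarBilin Q) U with hX
  have hXts : ∀ a ∈ X, Q a = 0 := by
    intro a ha
    by_contra ha0
    obtain ⟨x, hx, hne⟩ := hcon a ha0
    apply hne
    rw [hX, LinearMap.BilinForm.mem_orthogonal_iff] at ha
    have := ha x hx
    rw [QuadraticMap.polar_comm]
    exact this
  have h1 := Submodule.finrank_mono (ts_le_orthogonal Q X hXts)
  have h2 := LinearMap.BilinForm.finrank_orthogonal hQ X
  have h3 := LinearMap.BilinForm.finrank_orthogonal hQ U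
  rw [Module.finrank_fintype_fun_eq_card] at h2 h3
  rw [← hX] at h3
  have h4 := Submodule.finrank_le U
  rw [Module.finrank_fintype_fun_eq_card] at h4
  omega

/-- **`Ω` is transitive on small totally singular subspaces.** -/
theorem exists_mem_Omega_map_ts [Fintype F] (hQ : (QuadraticMap.polarBilin Q).Nondegenerate)
    (h : Fintype.card F ≠ 2 ∨ Fintype.card ι ≠ 4) (U W : Submodule F (ι → F)) (k : ℕ)
    (hk : 2 * k < Fintype.card ι) (hU : finrank F U = k) (hW : finrank F W = k)
    (hU0 : ∀ u ∈ U, Q u = 0) (hW0 : ∀ w ∈ W, Q w = 0) :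
    ∃ g : Cfsg.isometryGroup F ⇑Q, g ∈ Cfsg.Omega F ⇑Q ∧ U.map (lin Q g) = W := by
  rcases Nat.eq_zero_or_pos k with hk0 | hkpos
  · subst hk0
    have hUb : U = ⊥ := Submodule.finrank_eq_zero.1 hU
    have hWb : W = ⊥ := Submodule.finrank_eq_zero.1 hW
    refine ⟨1, Subgroup.one_mem _, ?_⟩
    rw [hUb, hWb, Submodule.map_bot]
  · -- Witt
    obtain ⟨g₀, hg₀⟩ := exists_isometry_map Q hQ U W
      (LinearEquiv.ofFinrankEq U W (hU.trans hW.symm))
      (fun u => by rw [hU0 _ u.2, hW0 _ (Submodule.coe_mem _)])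
    -- a hyperbolic pair with `u ∈ U`
    have hUne : U ≠ ⊥ := by
      intro hb
      rw [hb, finrank_bot] at hU
      omega
    obtain ⟨u, huU, hu0⟩ := Submodule.exists_mem_ne_zero_of_ne_bot hUne
    have hu : Q u = 0 := hU0 u huU
    obtain ⟨u', hu', huu'⟩ := exists_hyp_partner Q hQ u hu0 hu
    obtain ⟨a, ha, haU⟩ := exists_nonsingular_orth Q hQ U (by rw [hU]; exact hk)
    have hUorth : ∀ x ∈ U, QuadraticMap.polar ⇑Q u x = 0 := by
      intro x hx
      rw [QuadraticMap.polar, hU0 _ (U.add_mem huU hx), hu, hU0 x hx]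
      ring
    obtain ⟨s, hsP, hgs⟩ := exists_adjust Q hQ h (stab Q U) [a]
      (by intro v hv; rw [List.mem_singleton] at hv; rw [hv]; exact ha)
      (by
        rw [List.map_singleton, List.prod_singleton]
        exact reflT_mem_stab_of_orth Q U a ha haU)
      ⟨0, rfl⟩
      (by
        intro h2
        classical
        obtain ⟨c, hc⟩ := FiniteField.exists_nonsquare
          (F := F) (by
            intro hch
            have : CharP F 2 := by rw [← hch]; exact ringChar.charP F
            exact h2 (CharTwo.two_eq_zero))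
        have hc0 : c ≠ 0 := fun h0 => hc (h0 ▸ IsSquare.zero)
        have e1 : Q (u - (1 : F) • u') = -1 := Q_sub_smul_hyp Q u u' hu hu' huu' 1
        have e3 : Q (u - c • u') = -c := Q_sub_smul_hyp Q u u' hu hu' huu' c
        refine ⟨[u - c • u', u - (1 : F) • u'], ?_, ?_, ⟨1, rfl⟩, ?_⟩
        · intro v hv
          rw [List.mem_cons, List.mem_singleton] at hv
          rcases hv with hv | hv
          · rw [hv, e3]; exact neg_ne_zero.2 hc0
          · rw [hv, e1]; exact neg_ne_zero.2 one_ne_zero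
        · rw [List.map_cons, List.map_singleton, List.prod_cons, List.prod_singleton]
          apply mem_stab_of_forall
          intro x hx
          rw [hyp_rot_apply Q u u' hu hu' huu' c hc0 x (hUorth x hx)]
          exact U.add_mem hx (U.smul_mem _ huU)
        · rw [List.map_cons, List.map_singleton, List.prod_cons, List.prod_singleton, e1, e3]
          have : -c * -1 = c := by ring
          rw [this]
          exact hc)
      g₀
    refine ⟨g₀ * s, hgs, ?_⟩
    rw [map_lin_mul, (mem_stab Q U s).1 hsP, hg₀]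

end Cfsg.Agent.Helper45.OmegaParity
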