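import Mathlib
import Cfsg.Prelude.Def_ClassicalGeometry
import Cfsg.Agent.Helper45.OmegaTrans2

/-!
# `Ω` is transitive on non-degenerate subspaces of each isometry type

* `exists_mem_Q_eq`: a non-degenerate subspace of dimension `≥ 2` is universal (odd characteristic).
* `exists_mem_Omega_map_nondeg`: Witt + adjustment by reflections in `U` or `U^⊥`.
-/

set_option autoImplicit false

namespace Cfsg.Agent.Helper45.OmegaParity

open Matrix QuadraticMap Module Polynomial Cfsg.Agent.Helper44

variable {F : Type*} [Field F] {ι : Type} [Fintype ι] [DecidableEq ι]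
variable (Q : QuadraticForm F (ι → F))

theorem polarBilin_isRefl : (QuadraticMap.polarBilin Q).IsRefl := by
  intro x y hxy
  rw [QuadraticMap.polarBilin_apply_apply] at hxy ⊢
  rw [QuadraticMap.polar_comm]
  exact hxy

/-- a non-zero non-degenerate subspace contains a non-singular vector -/
theorem exists_nonsingular_mem (N : Submodule F (ι → F))
    (hN : N ⊓ LinearMap.BilinForm.orthogonal (QuadraticMap.polarBilin Q) N = ⊥) (hN0 : N ≠ ⊥) :
    ∃ a ∈ N, Q a ≠ 0 := by
  by_contra hcon
  push Not at hcon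
  apply hN0
  have h1 := ts_le_orthogonal Q N hcon
  rw [← hN]
  exact (inf_eq_left.2 h1).symm

/-- a non-degenerate subspace of dimension at least two over a finite field of odd characteristic
represents every scalar -/
theorem exists_mem_Q_eq [Fintype F] (h2 : (2 : F) ≠ 0) (N : Submodule F (ι → F))
    (hN : N ⊓ LinearMap.BilinForm.orthogonal (QuadraticMap.polarBilin Q) N = ⊥)
    (hN2 : 2 ≤ finrank F N) (c : F) : ∃ a ∈ N, Q a = c := by
  have hN0 : N ≠ ⊥ := by
    intro hb
    rw [hb, finrank_bot] at hN2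
    omega
  obtain ⟨x, hxN, hx⟩ := exists_nonsingular_mem Q N hN hN0
  set φ : (ι → F) →ₗ[F] F := QuadraticMap.polarBilin Q x with hφ
  have hφx : φ x ≠ 0 := by
    rw [hφ, QuadraticMap.polarBilin_apply_apply, QuadraticMap.polar_self, two_smul, ← two_mul]
    exact mul_ne_zero h2 hx
  have h1 := Helper14.finrank_le_inf_ker_add_one N φ
  have hN'0 : N ⊓ LinearMap.ker φ ≠ ⊥ := by
    intro hb
    rw [hb, finrank_bot] at h1
    omega
  obtain ⟨y, hyN', hy⟩ : ∃ y ∈ N ⊓ LinearMap.ker φ, Q y ≠ 0 := by
    by_contra hcon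
    push Not at hcon
    obtain ⟨y, hyN', hy0⟩ := Submodule.exists_mem_ne_zero_of_ne_bot hN'0
    apply hy0
    have hy : y ∈ N ⊓ LinearMap.BilinForm.orthogonal (QuadraticMap.polarBilin Q) N := by
      refine Submodule.mem_inf.2 ⟨hyN'.1, ?_⟩
      rw [LinearMap.BilinForm.mem_orthogonal_iff]
      intro z hz
      show QuadraticMap.polarBilin Q z y = 0
      -- decompose `z = t x + z'`
      set t := φ z / φ x with ht
      have hz' : z - t • x ∈ N ⊓ LinearMap.ker φ := by
        refine Submodule.mem_inf.2 ⟨N.sub_mem hz (N.smul_mem _ hxN), ?_⟩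
        rw [LinearMap.mem_ker, map_sub, map_smul, smul_eq_mul, ht, div_mul_cancel₀ _ hφx, sub_self]
      have e1 : QuadraticMap.polarBilin Q (z - t • x) y = 0 :=
        ts_le_orthogonal Q _ hcon hyN' _ hz'
      have e2 : QuadraticMap.polarBilin Q x y = 0 := LinearMap.mem_ker.1 hyN'.2
      have e3 : z = (z - t • x) + t • x := by abel
      rw [e3, map_add, LinearMap.add_apply, e1, map_smul, LinearMap.smul_apply, e2, smul_zero,
        add_zero]
    rw [hN] at hy
    exact (Submodule.mem_bot F).1 hy
  have hxy : QuadraticMap.polar ⇑Q x y = 0 := by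
    have := LinearMap.mem_ker.1 hyN'.2
    rw [hφ, QuadraticMap.polarBilin_apply_apply] at this
    exact this
  have hcard : Fintype.card F % 2 = 1 := by
    apply FiniteField.odd_card_of_char_ne_two
    intro hch
    have : CharP F 2 := by rw [← hch]; exact ringChar.charP F
    exact h2 (CharTwo.two_eq_zero)
  have hf : degree (C (Q x) * X ^ 2 - C c : F[X]) = 2 := by
    rw [degree_sub_C, degree_C_mul_X_pow 2 hx]
    · rfl
    · rw [degree_C_mul_X_pow 2 hx]
      norm_num
  have hg : degree (C (Q y) * X ^ 2 : F[X]) = 2 := by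
    rw [degree_C_mul_X_pow 2 hy]
    rfl
  obtain ⟨s, t, hst⟩ := FiniteField.exists_root_sum_quadratic hf hg hcard
  simp only [eval_sub, eval_mul, eval_C, eval_pow, eval_X] at hst
  refine ⟨s • x + t • y, N.add_mem (N.smul_mem _ hxN) (N.smul_mem _ hyN'.1), ?_⟩
  rw [QuadraticMap.map_add ⇑Q, QuadraticMap.map_smul, QuadraticMap.map_smul,
    QuadraticMap.polar_smul_left, QuadraticMap.polar_smul_right, hxy]
  simp only [smul_eq_mul, mul_zero, add_zero]
  linear_combination hst

/-- **`Ω` is transitive on non-degenerate subspaces of each isometry type** (dimension `≥ 3`). -/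
theorem exists_mem_Omega_map_nondeg [Fintype F] (hQ : (QuadraticMap.polarBilin Q).Nondegenerate)
    (h : Fintype.card F ≠ 2 ∨ Fintype.card ι ≠ 4) (hn : 3 ≤ Fintype.card ι)
    (U W : Submodule F (ι → F))
    (hU : U ⊓ LinearMap.BilinForm.orthogonal (QuadraticMap.polarBilin Q) U = ⊥)
    (e : U ≃ₗ[F] W) (he : ∀ u : U, Q (e u : ι → F) = Q (u : ι → F)) :
    ∃ g : Cfsg.isometryGroup F ⇑Q, g ∈ Cfsg.Omega F ⇑Q ∧ U.map (lin Q g) = W := by
  obtain ⟨g₀, hg₀⟩ := exists_isometry_map Q hQ U W e he
  -- a non-degenerate subspace `N` of dimension `≥ 2` whose reflections stabilise `U`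
  obtain ⟨N, hNstab, hN, hN2⟩ : ∃ N : Submodule F (ι → F),
      (∀ a ∈ N, Q a ≠ 0 → reflT Q a ∈ stab Q U) ∧
      N ⊓ LinearMap.BilinForm.orthogonal (QuadraticMap.polarBilin Q) N = ⊥ ∧
      2 ≤ finrank F N := by
    by_cases hU2 : 2 ≤ finrank F U
    · exact ⟨U, fun a haU ha => reflT_mem_stab_of_mem Q U a ha haU, hU, hU2⟩
    · refine ⟨LinearMap.BilinForm.orthogonal (QuadraticMap.polarBilin Q) U, ?_, ?_, ?_⟩
      · intro a haN ha
        apply reflT_mem_stab_of_orth Q U a ha
        intro x hx
        rw [LinearMap.BilinForm.mem_orthogonal_iff] at haN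
        have := haN x hx
        rw [QuadraticMap.polar_comm]
        exact this
      · rw [LinearMap.BilinForm.orthogonal_orthogonal hQ (polarBilin_isRefl Q), inf_comm]
        exact hU
      · have h3 := LinearMap.BilinForm.finrank_orthogonal hQ U
        rw [Module.finrank_fintype_fun_eq_card] at h3
        omega
  have hN0 : N ≠ ⊥ := by
    intro hb
    rw [hb, finrank_bot] at hN2
    omega
  obtain ⟨a, haN, ha⟩ := exists_nonsingular_mem Q N hN hN0
  obtain ⟨s, hsP, hgs⟩ := exists_adjust Q hQ h (stab Q U) [a]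
    (by intro v hv; rw [List.mem_singleton] at hv; rw [hv]; exact ha)
    (by
      rw [List.map_singleton, List.prod_singleton]
      exact hNstab a haN ha)
    ⟨0, rfl⟩
    (by
      intro h2
      classical
      obtain ⟨c, hc⟩ := FiniteField.exists_nonsquare
        (F := F) (by
          intro hch
          have : CharP F 2 := by rw [← hch]; exact ringChar.charP F
          exact h2 (CharTwo.two_eq_zero))
      have hc0 : c ≠ 0 := fun h0 => hc (h0 ▸ IsSquare.zero)
      obtain ⟨a', ha'N, ha'⟩ := exists_mem_Q_eq Q h2 N hN hN2 1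
      obtain ⟨b', hb'N, hb'⟩ := exists_mem_Q_eq Q h2 N hN hN2 c
      have ha'0 : Q a' ≠ 0 := by rw [ha']; exact one_ne_zero
      have hb'0 : Q b' ≠ 0 := by rw [hb']; exact hc0
      refine ⟨[a', b'], ?_, ?_, ⟨1, rfl⟩, ?_⟩
      · intro v hv
        rw [List.mem_cons, List.mem_singleton] at hv
        rcases hv with hv | hv
        · rw [hv]; exact ha'0
        · rw [hv]; exact hb'0
      · rw [List.map_cons, List.map_singleton, List.prod_cons, List.prod_singleton]
        exact (stab Q U).mul_mem (hNstab a' ha'N ha'0) (hNstab b' hb'N hb'0)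
      · rw [List.map_cons, List.map_singleton, List.prod_cons, List.prod_singleton, ha', hb',
          one_mul]
        exact hc)
    g₀
  refine ⟨g₀ * s, hgs, ?_⟩
  rw [map_lin_mul, (mem_stab Q U s).1 hsP, hg₀]

end Cfsg.Agent.Helper45.OmegaParity
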