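import Mathlib
import Cfsg.Prelude.Def_ClassicalGeometry
import Cfsg.Agent.Helper45.OmegaTrans3

/-!
# Geometry lemmas for the Siegel-transformation generation of `Ω` (odd characteristic)

Universal complements of small non-degenerate subspaces, hyperbolic partners inside `a^⊥`, and
singular vectors orthogonal to `a` but not to `b`.
-/

set_option autoImplicit false

namespace Cfsg.Agent.Helper45.OmegaParity

open Matrix QuadraticMap Module Polynomial Cfsg.Agent.Helper44

variable {F : Type*} [Field F] {ι : Type} [Fintype ι] [DecidableEq ι]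
variable (Q : QuadraticForm F (ι → F))

/-- **Universal complement**: the orthogonal of a non-degenerate subspace of codimension at least two
represents every scalar (finite field, odd characteristic). -/
theorem exists_orth_Q_eq [Fintype F] (h2 : (2 : F) ≠ 0)
    (hQ : (QuadraticMap.polarBilin Q).Nondegenerate) (X : Submodule F (ι → F))
    (hX : X ⊓ LinearMap.BilinForm.orthogonal (QuadraticMap.polarBilin Q) X = ⊥)
    (hdim : finrank F X + 2 ≤ Fintype.card ι) (μ : F) :
    ∃ z : ι → F, (∀ x ∈ X, QuadraticMap.polar ⇑Q x z = 0) ∧ Q z = μ := by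
  have h3 := LinearMap.BilinForm.finrank_orthogonal hQ X
  rw [Module.finrank_fintype_fun_eq_card] at h3
  obtain ⟨z, hz, hzμ⟩ := exists_mem_Q_eq Q h2
    (LinearMap.BilinForm.orthogonal (QuadraticMap.polarBilin Q) X)
    (by
      rw [LinearMap.BilinForm.orthogonal_orthogonal hQ (polarBilin_isRefl Q), inf_comm]
      exact hX)
    (by omega) μ
  refine ⟨z, ?_, hzμ⟩
  intro x hx
  rw [LinearMap.BilinForm.mem_orthogonal_iff] at hz
  exact hz x hx

theorem polar_self' (x : ι → F) : QuadraticMap.polar ⇑Q x x = 2 * Q x := by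
  rw [QuadraticMap.polar_self, two_smul, two_mul]

/-- the span of a non-singular vector is non-degenerate -/
theorem nondeg_span_one (h2 : (2 : F) ≠ 0) (a : ι → F) (ha : Q a ≠ 0) :
    Submodule.span F {a} ⊓
      LinearMap.BilinForm.orthogonal (QuadraticMap.polarBilin Q) (Submodule.span F {a}) = ⊥ := by
  rw [eq_bot_iff]
  rintro y ⟨hy1, hy2⟩
  rw [Submodule.mem_bot]
  obtain ⟨l, rfl⟩ := Submodule.mem_span_singleton.1 hy1
  have h1 := (LinearMap.BilinForm.mem_orthogonal_iff.1 hy2) a (Submodule.mem_span_singleton_self a)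
  have h3 : QuadraticMap.polar ⇑Q a (l • a) = 0 := h1
  rw [QuadraticMap.polar_smul_right, polar_self', smul_eq_mul] at h3
  have hl : l = 0 := by
    rcases mul_eq_zero.1 h3 with h | h
    · exact h
    · exact absurd h (mul_ne_zero h2 ha)
  rw [hl, zero_smul]

/-- the span of two orthogonal non-singular vectors is non-degenerate -/
theorem nondeg_span_two (h2 : (2 : F) ≠ 0) (a x : ι → F) (ha : Q a ≠ 0) (hx : Q x ≠ 0)
    (hax : QuadraticMap.polar ⇑Q a x = 0) :
    Submodule.span F {a, x} ⊓
      LinearMap.BilinForm.orthogonal (QuadraticMap.polarBilin Q) (Submodule.span F {a, x}) = ⊥ := by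
  rw [eq_bot_iff]
  rintro y ⟨hy1, hy2⟩
  rw [Submodule.mem_bot]
  obtain ⟨l, m, rfl⟩ := Submodule.mem_span_pair.1 hy1
  have hxa : QuadraticMap.polar ⇑Q x a = 0 := by rw [QuadraticMap.polar_comm]; exact hax
  have h1 : QuadraticMap.polar ⇑Q a (l • a + m • x) = 0 :=
    (LinearMap.BilinForm.mem_orthogonal_iff.1 hy2) a (Submodule.subset_span (by simp))
  have h3 : QuadraticMap.polar ⇑Q x (l • a + m • x) = 0 :=
    (LinearMap.BilinForm.mem_orthogonal_iff.1 hy2) x (Submodule.subset_span (by simp))
  rw [QuadraticMap.polar_add_right, QuadraticMap.polar_smul_right, QuadraticMap.polar_smul_right,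
    polar_self', hax, smul_eq_mul, smul_eq_mul, mul_zero, add_zero] at h1
  rw [QuadraticMap.polar_add_right, QuadraticMap.polar_smul_right, QuadraticMap.polar_smul_right,
    polar_self', hxa, smul_eq_mul, smul_eq_mul, mul_zero, zero_add] at h3
  have hl : l = 0 := by
    rcases mul_eq_zero.1 h1 with h | h
    · exact h
    · exact absurd h (mul_ne_zero h2 ha)
  have hm : m = 0 := by
    rcases mul_eq_zero.1 h3 with h | h
    · exact h
    · exact absurd h (mul_ne_zero h2 hx)
  rw [hl, hm, zero_smul, zero_smul, add_zero]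

/-- the span of a non-singular vector and an orthogonal hyperbolic pair is non-degenerate -/
theorem nondeg_span_three (h2 : (2 : F) ≠ 0) (a w w' : ι → F) (ha : Q a ≠ 0) (hw : Q w = 0)
    (hw' : Q w' = 0) (hww' : QuadraticMap.polar ⇑Q w w' = 1)
    (haw : QuadraticMap.polar ⇑Q a w = 0) (haw' : QuadraticMap.polar ⇑Q a w' = 0) :
    Submodule.span F {a, w, w'} ⊓
      LinearMap.BilinForm.orthogonal (QuadraticMap.polarBilin Q) (Submodule.span F {a, w, w'})
        = ⊥ := by
  rw [eq_bot_iff]
  rintro y ⟨hy1, hy2⟩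
  rw [Submodule.mem_bot]
  obtain ⟨l, m, k, rfl⟩ := Submodule.mem_span_triple.1 hy1
  have hwa : QuadraticMap.polar ⇑Q w a = 0 := by rw [QuadraticMap.polar_comm]; exact haw
  have hw'a : QuadraticMap.polar ⇑Q w' a = 0 := by rw [QuadraticMap.polar_comm]; exact haw'
  have hw'w : QuadraticMap.polar ⇑Q w' w = 1 := by rw [QuadraticMap.polar_comm]; exact hww'
  have hwwz : QuadraticMap.polar ⇑Q w w = 0 := by rw [polar_self', hw, mul_zero]
  have hw'w'z : QuadraticMap.polar ⇑Q w' w' = 0 := by rw [polar_self', hw', mul_zero]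
  have h1 : QuadraticMap.polar ⇑Q a (l • a + m • w + k • w') = 0 :=
    (LinearMap.BilinForm.mem_orthogonal_iff.1 hy2) a (Submodule.subset_span (by simp))
  have h3 : QuadraticMap.polar ⇑Q w (l • a + m • w + k • w') = 0 :=
    (LinearMap.BilinForm.mem_orthogonal_iff.1 hy2) w (Submodule.subset_span (by simp))
  have h4 : QuadraticMap.polar ⇑Q w' (l • a + m • w + k • w') = 0 :=
    (LinearMap.BilinForm.mem_orthogonal_iff.1 hy2) w' (Submodule.subset_span (by simp))
  simp only [QuadraticMap.polar_add_right, QuadraticMap.polar_smul_right, polar_self', haw, haw',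
    smul_eq_mul, mul_zero, add_zero] at h1
  simp only [QuadraticMap.polar_add_right, QuadraticMap.polar_smul_right, hwa, hwwz, hww',
    smul_eq_mul, mul_zero, add_zero, zero_add, mul_one] at h3
  simp only [QuadraticMap.polar_add_right, QuadraticMap.polar_smul_right, hw'a, hw'w, hw'w'z,
    smul_eq_mul, mul_zero, add_zero, zero_add, mul_one] at h4
  have hl : l = 0 := by
    rcases mul_eq_zero.1 h1 with h | h
    · exact h
    · exact absurd h (mul_ne_zero h2 ha)
  rw [hl, h3, h4, zero_smul, zero_smul, zero_smul, add_zero, add_zero]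

theorem finrank_span_one_le (a : ι → F) : finrank F (Submodule.span F ({a} : Set (ι → F))) ≤ 1 := by
  classical
  have h := finrank_span_finset_le_card (R := F) ({a} : Finset (ι → F))
  have h2 : (({a} : Finset (ι → F)) : Set (ι → F)) = {a} := by simp
  rw [h2] at h
  exact h.trans (by simp)

theorem finrank_span_two_le (a b : ι → F) :
    finrank F (Submodule.span F ({a, b} : Set (ι → F))) ≤ 2 := by
  classical
  have h := finrank_span_finset_le_card (R := F) ({a, b} : Finset (ι → F))
  have h2 : (({a, b} : Finset (ι → F)) : Set (ι → F)) = {a, b} := by simp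
  rw [h2] at h
  exact h.trans Finset.card_le_two

theorem finrank_span_three_le (a b c : ι → F) :
    finrank F (Submodule.span F ({a, b, c} : Set (ι → F))) ≤ 3 := by
  classical
  have h := finrank_span_finset_le_card (R := F) ({a, b, c} : Finset (ι → F))
  have h2 : (({a, b, c} : Finset (ι → F)) : Set (ι → F)) = {a, b, c} := by simp
  rw [h2] at h
  exact h.trans Finset.card_le_three

/-- a hyperbolic partner of a singular vector inside the orthogonal of a non-singular vector -/
theorem exists_hyp_partner_orth (h2 : (2 : F) ≠ 0) (hQ : (QuadraticMap.polarBilin Q).Nondegenerate)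
    (a w : ι → F) (ha : Q a ≠ 0) (hw0 : w ≠ 0) (hw : Q w = 0)
    (haw : QuadraticMap.polar ⇑Q a w = 0) :
    ∃ w' : ι → F, Q w' = 0 ∧ QuadraticMap.polar ⇑Q w w' = 1 ∧ QuadraticMap.polar ⇑Q a w' = 0 := by
  obtain ⟨w₂, hw₂, hww₂⟩ := exists_hyp_partner Q hQ w hw0 hw
  have hwa : QuadraticMap.polar ⇑Q w a = 0 := by rw [QuadraticMap.polar_comm]; exact haw
  have hwwz : QuadraticMap.polar ⇑Q w w = 0 := by rw [polar_self', hw, mul_zero]
  have h2a : (2 : F) * Q a ≠ 0 := mul_ne_zero h2 ha
  -- project to the orthogonal of `a`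
  obtain ⟨w₃, hw₃a, hww₃⟩ : ∃ w₃ : ι → F, QuadraticMap.polar ⇑Q a w₃ = 0 ∧
      QuadraticMap.polar ⇑Q w w₃ = 1 := by
    refine ⟨w₂ - (QuadraticMap.polar ⇑Q a w₂ / (2 * Q a)) • a, ?_, ?_⟩
    · rw [QuadraticMap.polar_sub_right, QuadraticMap.polar_smul_right, polar_self', smul_eq_mul,
        div_mul_cancel₀ _ h2a, sub_self]
    · rw [QuadraticMap.polar_sub_right, QuadraticMap.polar_smul_right, hwa, hww₂, smul_zero,
        sub_zero]
  have hw₃w : QuadraticMap.polar ⇑Q w₃ w = 1 := by rw [QuadraticMap.polar_comm]; exact hww₃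
  refine ⟨w₃ - Q w₃ • w, ?_, ?_, ?_⟩
  · have h1 : w₃ - Q w₃ • w = w₃ + (-(Q w₃)) • w := by rw [neg_smul, sub_eq_add_neg]
    rw [h1, QuadraticMap.map_add ⇑Q, QuadraticMap.map_smul, QuadraticMap.polar_smul_right, hw,
      hw₃w]
    simp
  · rw [QuadraticMap.polar_sub_right, QuadraticMap.polar_smul_right, hww₃, hwwz, smul_zero,
      sub_zero]
  · rw [QuadraticMap.polar_sub_right, QuadraticMap.polar_smul_right, hw₃a, haw, smul_zero,
      sub_zero]

/-- a non-zero singular vector orthogonal to a given non-singular vector (dimension `≥ 4`) -/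
theorem exists_singular_orth [Fintype F] (h2 : (2 : F) ≠ 0)
    (hQ : (QuadraticMap.polarBilin Q).Nondegenerate) (hn : 4 ≤ Fintype.card ι) (a : ι → F)
    (ha : Q a ≠ 0) :
    ∃ w : ι → F, w ≠ 0 ∧ Q w = 0 ∧ QuadraticMap.polar ⇑Q a w = 0 := by
  obtain ⟨x, hxa, hx⟩ := exists_orth_Q_eq Q h2 hQ (Submodule.span F {a}) (nondeg_span_one Q h2 a ha)
    (by have := finrank_span_one_le (F := F) a; omega) 1
  have hax : QuadraticMap.polar ⇑Q a x = 0 := hxa a (Submodule.mem_span_singleton_self a)
  have hx0 : Q x ≠ 0 := by rw [hx]; exact one_ne_zero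
  obtain ⟨y, hyX, hy⟩ := exists_orth_Q_eq Q h2 hQ (Submodule.span F {a, x})
    (nondeg_span_two Q h2 a x ha hx0 hax)
    (by have := finrank_span_two_le (F := F) a x; omega) (-1)
  have hay : QuadraticMap.polar ⇑Q a y = 0 := hyX a (Submodule.subset_span (by simp))
  have hxy : QuadraticMap.polar ⇑Q x y = 0 := hyX x (Submodule.subset_span (by simp))
  refine ⟨x + y, ?_, ?_, ?_⟩
  · intro h0
    have h1 : QuadraticMap.polar ⇑Q x (x + y) = 0 := by
      rw [h0]
      simp [QuadraticMap.polar]
    rw [QuadraticMap.polar_add_right, polar_self', hxy, hx, add_zero, mul_one] at h1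
    exact h2 h1
  · rw [QuadraticMap.map_add ⇑Q, hx, hy, hxy]
    ring
  · rw [QuadraticMap.polar_add_right, hax, hay, add_zero]

/-- for `b` outside the line of a non-singular `a`, a singular vector orthogonal to `a` but not
to `b` (dimension `≥ 5`) -/
theorem exists_singular_orth_not_orth [Fintype F] (h2 : (2 : F) ≠ 0)
    (hQ : (QuadraticMap.polarBilin Q).Nondegenerate) (hn : 5 ≤ Fintype.card ι) (a b : ι → F)
    (ha : Q a ≠ 0) (hb : ∀ l : F, b ≠ l • a) :
    ∃ w : ι → F, Q w = 0 ∧ QuadraticMap.polar ⇑Q a w = 0 ∧ QuadraticMap.polar ⇑Q b w ≠ 0 := by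
  have h2a : (2 : F) * Q a ≠ 0 := mul_ne_zero h2 ha
  set l₀ := QuadraticMap.polar ⇑Q a b / (2 * Q a) with hl₀
  obtain ⟨b', hb'def⟩ : ∃ b' : ι → F, b' = b - l₀ • a := ⟨_, rfl⟩
  have hb'0 : b' ≠ 0 := by
    intro h0
    rw [hb'def, sub_eq_zero] at h0
    exact hb l₀ h0
  have hab' : QuadraticMap.polar ⇑Q a b' = 0 := by
    rw [hb'def, QuadraticMap.polar_sub_right, QuadraticMap.polar_smul_right, polar_self',
      smul_eq_mul, hl₀, div_mul_cancel₀ _ h2a, sub_self]
  have hbb' : b = b' + l₀ • a := by rw [hb'def]; abel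
  by_cases hQb' : Q b' = 0
  · obtain ⟨w, hw, hb'w, haw⟩ := exists_hyp_partner_orth Q h2 hQ a b' ha hb'0 hQb' hab'
    refine ⟨w, hw, haw, ?_⟩
    rw [hbb', QuadraticMap.polar_add_left, QuadraticMap.polar_smul_left, hb'w, haw, smul_zero,
      add_zero]
    exact one_ne_zero
  · obtain ⟨y, hyX, hy⟩ := exists_orth_Q_eq Q h2 hQ (Submodule.span F {a, b'})
      (nondeg_span_two Q h2 a b' ha hQb' hab')
      (by have := finrank_span_two_le (F := F) a b'; omega) (-(Q b'))
    have hay : QuadraticMap.polar ⇑Q a y = 0 := hyX a (Submodule.subset_span (by simp))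
    have hb'y : QuadraticMap.polar ⇑Q b' y = 0 := hyX b' (Submodule.subset_span (by simp))
    refine ⟨b' + y, ?_, ?_, ?_⟩
    · rw [QuadraticMap.map_add ⇑Q, hy, hb'y]
      ring
    · rw [QuadraticMap.polar_add_right, hab', hay, add_zero]
    · rw [hbb', QuadraticMap.polar_add_left, QuadraticMap.polar_smul_left,
        QuadraticMap.polar_add_right, QuadraticMap.polar_add_right, polar_self', hb'y, hab', hay,
        add_zero, add_zero, smul_zero, add_zero]
      exact mul_ne_zero h2 hQb'

end Cfsg.Agent.Helper45.OmegaParity
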