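import Mathlib
import Cfsg.Prelude.Def_ClassicalGeometry
import Cfsg.Agent.Helper45.SiegelGeom

/-!
# Characteristic 2: the stabiliser of a non-singular vector is maximal in `Ω`

General index type; finite field of characteristic 2.

* `exists_Q_eq_orth`: `Q` is onto on the orthogonal of a small subspace.
* `exists_polar_eq`: prescribed polar values against a linearly independent family.
* `exists_polar_eq_Q_eq`: prescribed polar values and prescribed `Q`-value.
-/

set_option autoImplicit false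

namespace Cfsg.Agent.Helper45.OmegaParity

open Matrix QuadraticMap Module Cfsg.Agent.Helper44

variable {F : Type*} [Field F] {ι : Type} [Fintype ι] [DecidableEq ι]
variable (Q : QuadraticForm F (ι → F))

/-- in characteristic 2 over a finite field, `Q` takes every value on the orthogonal of a
small subspace -/
theorem exists_Q_eq_orth [Fintype F] [CharP F 2] (hQ : (QuadraticMap.polarBilin Q).Nondegenerate)
    (U : Submodule F (ι → F)) (hU : 2 * finrank F U < Fintype.card ι) (c : F) :
    ∃ z : ι → F, Q z = c ∧ ∀ x ∈ U, QuadraticMap.polar ⇑Q z x = 0 := by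
  obtain ⟨a, ha, haU⟩ := exists_nonsingular_orth Q hQ U hU
  obtain ⟨s, hs⟩ := FiniteField.isSquare_of_char_two (F := F) (by exact CharP.ringChar_of_prime_eq_zero Nat.prime_two (CharP.cast_eq_zero F 2) ) (c / Q a)
  refine ⟨s • a, ?_, ?_⟩
  · rw [QuadraticMap.map_smul, smul_eq_mul, ← hs]
    field_simp
  · intro x hx
    rw [QuadraticMap.polar_smul_left, haU x hx, smul_zero]

/-- prescribed polar values against a linearly independent family -/
theorem exists_polar_eq (hQ : (QuadraticMap.polarBilin Q).Nondegenerate) {k : ℕ}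
    (xs : Fin k → (ι → F)) (hli : LinearIndependent F xs) (b : Fin k → F) :
    ∃ y : ι → F, ∀ i, QuadraticMap.polar ⇑Q (xs i) y = b i := by
  let T : (ι → F) →ₗ[F] (Fin k → F) :=
    LinearMap.pi (fun i => (QuadraticMap.polarBilin Q) (xs i))
  have hT : ∀ y i, T y i = QuadraticMap.polar ⇑Q (xs i) y := fun y i => rfl
  have hker : LinearMap.ker T =
      LinearMap.BilinForm.orthogonal (QuadraticMap.polarBilin Q)
        (Submodule.span F (Set.range xs)) := by
    ext y
    rw [LinearMap.mem_ker, LinearMap.BilinForm.mem_orthogonal_iff]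
    constructor
    · intro h x hx
      induction hx using Submodule.span_induction with
      | mem x hx =>
        obtain ⟨i, rfl⟩ := hx
        show QuadraticMap.polarBilin Q (xs i) y = 0
        have := congrFun h i
        rw [hT] at this
        exact this
      | zero =>
        show QuadraticMap.polarBilin Q 0 y = 0
        simp
      | add x z _ _ hx hz =>
        show QuadraticMap.polarBilin Q (x + z) y = 0
        rw [map_add, LinearMap.add_apply]
        rw [show QuadraticMap.polarBilin Q x y = 0 from hx,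
          show QuadraticMap.polarBilin Q z y = 0 from hz, add_zero]
      | smul c x _ hx =>
        show QuadraticMap.polarBilin Q (c • x) y = 0
        rw [map_smul, LinearMap.smul_apply, show QuadraticMap.polarBilin Q x y = 0 from hx,
          smul_zero]
    · intro h
      funext i
      rw [hT]
      exact h (xs i) (Submodule.subset_span ⟨i, rfl⟩)
  have h1 := LinearMap.finrank_range_add_finrank_ker T
  have h2 := LinearMap.BilinForm.finrank_orthogonal hQ (Submodule.span F (Set.range xs))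
  rw [← hker] at h2
  have h3 := finrank_span_eq_card hli
  rw [Fintype.card_fin] at h3
  have h4 := Submodule.finrank_le (Submodule.span F (Set.range xs))
  have h5 : finrank F (LinearMap.range T) = finrank F (Fin k → F) := by
    rw [Module.finrank_fintype_fun_eq_card, Fintype.card_fin]
    omega
  have h6 : LinearMap.range T = ⊤ := Submodule.eq_top_of_finrank_eq h5
  obtain ⟨y, hy⟩ := LinearMap.range_eq_top.1 h6 b
  exact ⟨y, fun i => by rw [← hT, hy]⟩

/-- prescribed polar values and prescribed `Q`-value (finite field of characteristic 2) -/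
theorem exists_polar_eq_Q_eq [Fintype F] [CharP F 2]
    (hQ : (QuadraticMap.polarBilin Q).Nondegenerate) {k : ℕ}
    (xs : Fin k → (ι → F)) (hli : LinearIndependent F xs) (b : Fin k → F) (c : F)
    (hk : 2 * (k + 1) < Fintype.card ι) :
    ∃ z : ι → F, (∀ i, QuadraticMap.polar ⇑Q (xs i) z = b i) ∧ Q z = c := by
  obtain ⟨y, hy⟩ := exists_polar_eq Q hQ xs hli b
  set U : Submodule F (ι → F) := Submodule.span F (Set.range xs) ⊔ Submodule.span F {y} with hU
  have hUd : finrank F U ≤ k + 1 := by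
    have h1 : finrank F U ≤ finrank F (Submodule.span F (Set.range xs)) +
        finrank F (Submodule.span F {y}) :=
      Submodule.finrank_add_le_finrank_add_finrank (Submodule.span F (Set.range xs))
        (Submodule.span F {y})
    have h2 : finrank F (Submodule.span F (Set.range xs)) = k := by
      rw [finrank_span_eq_card hli, Fintype.card_fin]
    have h3 : finrank F (Submodule.span F {y}) ≤ 1 := by
      have := finrank_span_le_card (R := F) ({y} : Set (ι → F))
      simpa using this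
    omega
  obtain ⟨w, hw, hwU⟩ := exists_Q_eq_orth Q hQ U (by omega) (c - Q y)
  refine ⟨y + w, fun i => ?_, ?_⟩
  · rw [QuadraticMap.polar_add_right, hy, QuadraticMap.polar_comm,
      hwU (xs i) (Submodule.mem_sup_left (Submodule.subset_span ⟨i, rfl⟩)), add_zero]
  · have h1 : QuadraticMap.polar ⇑Q y w = 0 := by
      rw [QuadraticMap.polar_comm]
      exact hwU y (Submodule.mem_sup_right (Submodule.mem_span_singleton_self y))
    have h2 : Q (y + w) = Q y + Q w + QuadraticMap.polar ⇑Q y w := by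
      rw [QuadraticMap.polar]; ring
    rw [h2, h1, hw]
    ring

theorem lin_inv_lin (g : Cfsg.isometryGroup F ⇑Q) (x : ι → F) :
    lin Q g⁻¹ (lin Q g x) = x := by
  have h : lin Q (g⁻¹ * g) x = x := by rw [inv_mul_cancel, lin_one]; rfl
  rw [lin_mul] at h
  exact h

theorem lin_lin_inv (g : Cfsg.isometryGroup F ⇑Q) (x : ι → F) :
    lin Q g (lin Q g⁻¹ x) = x := by
  have h : lin Q (g * g⁻¹) x = x := by rw [mul_inv_cancel, lin_one]; rfl
  rw [lin_mul] at h
  exact h

theorem polar_lin (g : Cfsg.isometryGroup F ⇑Q) (x y : ι → F) :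
    QuadraticMap.polar ⇑Q (lin Q g x) (lin Q g y) = QuadraticMap.polar ⇑Q x y := by
  rw [lin_apply, lin_apply]
  exact polar_isometry Q g x y

section chartwo

variable [CharP F 2]

theorem polar_self_chartwo (x : ι → F) : QuadraticMap.polar ⇑Q x x = 0 := by
  rw [QuadraticMap.polar_self, two_nsmul]
  exact CharTwo.add_self_eq_zero _

/-- on a level set `Q = a ≠ 0` in characteristic 2, proportional vectors are equal -/
theorem eq_of_smul_level {v x : ι → F} (hv : Q v ≠ 0) (hx : Q x = Q v) (c : F)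
    (hc : x = c • v) : x = v := by
  rw [hc, QuadraticMap.map_smul, smul_eq_mul] at hx
  have h1 : c * c = 1 := mul_right_cancel₀ hv (by rw [hx, one_mul])
  have h2 : (c + 1) * (c + 1) = 0 := by
    rw [CharTwo.add_mul_self, h1, one_mul]
    exact CharTwo.add_self_eq_zero _
  have h3 : c = 1 := CharTwo.add_eq_zero.1 (mul_self_eq_zero.1 h2)
  rw [hc, h3, one_smul]

theorem li_pair_level {v x : ι → F} (hv : Q v ≠ 0) (hx : Q x = Q v) (hne : x ≠ v) :
    LinearIndependent F ![v, x] := by
  rw [LinearIndependent.pair_iff]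
  intro s t hst
  by_cases ht : t = 0
  · subst ht
    rw [zero_smul, add_zero] at hst
    have hv0 : v ≠ 0 := fun h => hv (by rw [h, map_zero])
    exact ⟨(smul_eq_zero.1 hst).resolve_right hv0, rfl⟩
  · exfalso
    apply hne
    apply eq_of_smul_level Q hv hx (-(t⁻¹ * s))
    have h1 : t • x = -(s • v) := eq_neg_of_add_eq_zero_right hst
    calc x = t⁻¹ • (t • x) := by rw [smul_smul, inv_mul_cancel₀ ht, one_smul]
      _ = (-(t⁻¹ * s)) • v := by rw [h1, smul_neg, smul_smul, neg_smul]

theorem sub_add_chartwo (x x' : ι → F) : x - (x + x') = x' := by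
  funext i
  simp only [Pi.sub_apply, Pi.add_apply]
  rw [sub_add_eq_sub_sub, sub_self, zero_sub]
  exact CharTwo.neg_eq _

variable [Fintype F]

/-- two vectors of the same `Q`-value, with the same polar value against `v` and not orthogonal
to each other, are exchanged by an element of `Ω` fixing `v` -/
theorem refl_pair_map (hQ : (QuadraticMap.polarBilin Q).Nondegenerate)
    (hn : 4 < Fintype.card ι) {v x x' : ι → F} (hxx : Q x = Q x')
    (hvx : QuadraticMap.polar ⇑Q v x = QuadraticMap.polar ⇑Q v x')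
    (hne : QuadraticMap.polar ⇑Q x x' ≠ 0) :
    ∃ g ∈ Cfsg.Omega F ⇑Q, lin Q g v = v ∧ lin Q g x = x' := by
  have h : Fintype.card F ≠ 2 ∨ Fintype.card ι ≠ 4 := Or.inr (by omega)
  have hU : finrank F (Submodule.span F ({v, x'} : Set (ι → F))) ≤ 2 :=
    finrank_span_two_le v x'
  obtain ⟨w, hw, hwU⟩ := exists_nonsingular_orth Q hQ (Submodule.span F ({v, x'} : Set (ι → F)))
    (by omega)
  have hwv : QuadraticMap.polar ⇑Q w v = 0 := hwU v (Submodule.subset_span (by simp))
  have hwx' : QuadraticMap.polar ⇑Q w x' = 0 := hwU x' (Submodule.subset_span (by simp))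
  have hQs : Q (x + x') = QuadraticMap.polar ⇑Q x x' := by
    have h2 : Q (x + x') = Q x + Q x' + QuadraticMap.polar ⇑Q x x' := by
      rw [QuadraticMap.polar]; ring
    rw [h2, hxx, CharTwo.add_self_eq_zero, zero_add]
  have hs : Q (x + x') ≠ 0 := by rw [hQs]; exact hne
  refine ⟨reflT Q w * reflT Q (x + x'), ?_, ?_, ?_⟩
  · rw [mem_Omega_iff_parityHom Q hQ h, map_mul, parityHom_reflT Q hQ h w hw,
      parityHom_reflT Q hQ h (x + x') hs]
    rfl
  · rw [lin_mul]
    show lin Q (reflT Q w) (lin Q (reflT Q (x + x')) v) = v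
    have h1 : lin Q (reflT Q (x + x')) v = v := by
      rw [lin_reflT_apply Q _ hs, QuadraticMap.polar_add_left, QuadraticMap.polar_comm ⇑Q x v,
        QuadraticMap.polar_comm ⇑Q x' v, hvx, CharTwo.add_self_eq_zero, mul_zero, zero_smul,
        sub_zero]
    rw [h1, lin_reflT_apply Q _ hw, hwv, mul_zero, zero_smul, sub_zero]
  · rw [lin_mul]
    show lin Q (reflT Q w) (lin Q (reflT Q (x + x')) x) = x'
    have h1 : lin Q (reflT Q (x + x')) x = x' := by
      rw [lin_reflT_apply Q _ hs, QuadraticMap.polar_add_left, polar_self_chartwo, zero_add,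
        QuadraticMap.polar_comm ⇑Q x' x, hQs, inv_mul_cancel₀ hne, one_smul]
      exact sub_add_chartwo x x'
    rw [h1, lin_reflT_apply Q _ hw, hwx', mul_zero, zero_smul, sub_zero]

/-- `Ω_v` is transitive on each fibre of `B(v,·)` on the level set `Q = Q v` minus `v`. -/
theorem exists_Omega_fix_map (hQ : (QuadraticMap.polarBilin Q).Nondegenerate)
    (hn : 8 < Fintype.card ι) {v x x' : ι → F} (hv : Q v ≠ 0) (hx : Q x = Q v)
    (hx' : Q x' = Q v) (hxv : x ≠ v) (hx'v : x' ≠ v)
    (hβ : QuadraticMap.polar ⇑Q v x = QuadraticMap.polar ⇑Q v x') :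
    ∃ g ∈ Cfsg.Omega F ⇑Q, lin Q g v = v ∧ lin Q g x = x' := by
  by_cases hxx : x = x'
  · refine ⟨1, Subgroup.one_mem _, ?_, ?_⟩
    · rw [lin_one]; rfl
    · rw [lin_one, hxx]; rfl
  by_cases hne : QuadraticMap.polar ⇑Q x x' ≠ 0
  · exact refl_pair_map Q hQ (by omega) (hx.trans hx'.symm) hβ hne
  push Not at hne
  obtain ⟨y, hyQ, hyv, hyx, hyx'⟩ : ∃ y : ι → F, Q y = Q v ∧
      QuadraticMap.polar ⇑Q v y = QuadraticMap.polar ⇑Q v x ∧
      QuadraticMap.polar ⇑Q x y ≠ 0 ∧ QuadraticMap.polar ⇑Q x' y ≠ 0 := by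
    have hli2 := li_pair_level Q hv hx hxv
    by_cases hmem : x' ∈ Submodule.span F (Set.range ![v, x])
    · have hmem' : x' ∈ Submodule.span F ({v, x} : Set (ι → F)) := by
        have hr : Set.range ![v, x] = ({v, x} : Set (ι → F)) := by
          simp [Matrix.range_cons, Set.pair_comm]
        rwa [hr] at hmem
      obtain ⟨s, t, hst⟩ := Submodule.mem_span_pair.1 hmem'
      obtain ⟨y, hy, hyQ⟩ := exists_polar_eq_Q_eq Q hQ ![v, x] hli2
        ![QuadraticMap.polar ⇑Q v x, 1] (Q v) (by omega)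
      have hy0 : QuadraticMap.polar ⇑Q v y = QuadraticMap.polar ⇑Q v x := hy 0
      have hy1 : QuadraticMap.polar ⇑Q x y = 1 := hy 1
      refine ⟨y, hyQ, hy0, by rw [hy1]; exact one_ne_zero, ?_⟩
      have e1 : s * QuadraticMap.polar ⇑Q v x = 0 := by
        have h1 := hne
        rw [← hst, QuadraticMap.polar_add_right, QuadraticMap.polar_smul_right,
          QuadraticMap.polar_smul_right, polar_self_chartwo, smul_zero, add_zero,
          QuadraticMap.polar_comm ⇑Q x v, smul_eq_mul] at h1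
        exact h1
      rw [← hst, QuadraticMap.polar_add_left, QuadraticMap.polar_smul_left,
        QuadraticMap.polar_smul_left, hy0, hy1, smul_eq_mul, smul_eq_mul, e1, zero_add, mul_one]
      intro ht
      rw [ht, zero_smul, add_zero] at hst
      exact hx'v (eq_of_smul_level Q hv hx' s hst.symm)
    · have hli3 : LinearIndependent F ![x', v, x] := hli2.finCons hmem
      obtain ⟨y, hy, hyQ⟩ := exists_polar_eq_Q_eq Q hQ ![x', v, x] hli3
        ![1, QuadraticMap.polar ⇑Q v x, 1] (Q v) (by omega)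
      have hy0 : QuadraticMap.polar ⇑Q x' y = 1 := hy 0
      have hy1 : QuadraticMap.polar ⇑Q v y = QuadraticMap.polar ⇑Q v x := hy 1
      have hy2 : QuadraticMap.polar ⇑Q x y = 1 := hy 2
      exact ⟨y, hyQ, hy1, by rw [hy2]; exact one_ne_zero, by rw [hy0]; exact one_ne_zero⟩
  obtain ⟨g₁, hg₁, hg₁v, hg₁x⟩ := refl_pair_map Q hQ (by omega) (hx.trans hyQ.symm) hyv.symm hyx
  obtain ⟨g₂, hg₂, hg₂v, hg₂x⟩ := refl_pair_map Q hQ (by omega) (hyQ.trans hx'.symm)
    (hyv.trans hβ) (by rw [QuadraticMap.polar_comm]; exact hyx')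
  refine ⟨g₂ * g₁, Subgroup.mul_mem _ hg₂ hg₁, ?_, ?_⟩
  · rw [lin_mul]
    show lin Q g₂ (lin Q g₁ v) = v
    rw [hg₁v, hg₂v]
  · rw [lin_mul]
    show lin Q g₂ (lin Q g₁ x) = x'
    rw [hg₁x, hg₂x]

/-- any two points of the level set are joined by a path of length two in each `β`-graph -/
theorem exists_connect (hQ : (QuadraticMap.polarBilin Q).Nondegenerate)
    (hn : 8 < Fintype.card ι) {v y : ι → F} (hv : Q v ≠ 0) (hy : Q y = Q v) (hyv : y ≠ v)
    (β : F) :
    ∃ z : ι → F, Q z = Q v ∧ z ≠ v ∧ z ≠ y ∧ QuadraticMap.polar ⇑Q v z = β ∧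
      QuadraticMap.polar ⇑Q y z = β := by
  have hli := li_pair_level Q hv hy hyv
  by_cases hβ : β = 0
  · subst hβ
    obtain ⟨u, hu⟩ := exists_polar_eq Q hQ ![v, y] hli ![1, 1]
    have hu0 : QuadraticMap.polar ⇑Q v u = 1 := hu 0
    have hu1 : QuadraticMap.polar ⇑Q y u = 1 := hu 1
    obtain ⟨z, hz, hzU⟩ := exists_Q_eq_orth Q hQ (Submodule.span F ({v, y, u} : Set (ι → F)))
      (by have := finrank_span_three_le (F := F) v y u; omega) (Q v)
    have hzv : QuadraticMap.polar ⇑Q z v = 0 := hzU v (Submodule.subset_span (by simp))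
    have hzy : QuadraticMap.polar ⇑Q z y = 0 := hzU y (Submodule.subset_span (by simp))
    have hzu : QuadraticMap.polar ⇑Q z u = 0 := hzU u (Submodule.subset_span (by simp))
    refine ⟨z, hz, ?_, ?_, ?_, ?_⟩
    · rintro rfl
      rw [hu0] at hzu
      exact one_ne_zero hzu
    · rintro rfl
      rw [hu1] at hzu
      exact one_ne_zero hzu
    · rw [QuadraticMap.polar_comm]; exact hzv
    · rw [QuadraticMap.polar_comm]; exact hzy
  · obtain ⟨z, hz, hzQ⟩ := exists_polar_eq_Q_eq Q hQ ![v, y] hli ![β, β] (Q v) (by omega)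
    have hz0 : QuadraticMap.polar ⇑Q v z = β := hz 0
    have hz1 : QuadraticMap.polar ⇑Q y z = β := hz 1
    refine ⟨z, hzQ, ?_, ?_, hz0, hz1⟩
    · rintro rfl
      rw [polar_self_chartwo] at hz0
      exact hβ hz0.symm
    · rintro rfl
      rw [polar_self_chartwo] at hz1
      exact hβ hz1.symm

/-- **Maximality, core form**: a subgroup of `Ω` containing the stabiliser `Ω_v` of a
non-singular vector and an element moving `v` is all of `Ω`. -/
theorem Omega_le_of_stab_lt (hQ : (QuadraticMap.polarBilin Q).Nondegenerate)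
    (hn : 8 < Fintype.card ι) {v : ι → F} (hv : Q v ≠ 0)
    (M : Subgroup (Cfsg.isometryGroup F ⇑Q)) (hM : M ≤ Cfsg.Omega F ⇑Q)
    (hH : ∀ g ∈ Cfsg.Omega F ⇑Q, lin Q g v = v → g ∈ M)
    (g₀ : Cfsg.isometryGroup F ⇑Q) (hg₀ : g₀ ∈ M) (hg₀v : lin Q g₀ v ≠ v) :
    Cfsg.Omega F ⇑Q ≤ M := by
  have hx₀Q : Q (lin Q g₀ v) = Q v := lin_isometry Q g₀ v
  have hclos : ∀ m ∈ M, ∀ y : ι → F, Q y = Q v → y ≠ lin Q m v →
      QuadraticMap.polar ⇑Q (lin Q m v) y = QuadraticMap.polar ⇑Q v (lin Q g₀ v) →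
      ∃ m' ∈ M, lin Q m' v = y := by
    intro m hm y hy hne hB
    have hy'Q : Q (lin Q m⁻¹ y) = Q v := by rw [lin_isometry]; exact hy
    have hy'v : lin Q m⁻¹ y ≠ v := by
      intro h
      apply hne
      rw [← h, lin_lin_inv]
    have hy'B : QuadraticMap.polar ⇑Q v (lin Q m⁻¹ y) = QuadraticMap.polar ⇑Q v (lin Q g₀ v) := by
      rw [← polar_lin Q m v (lin Q m⁻¹ y), lin_lin_inv]
      exact hB
    obtain ⟨h, hhΩ, hhv, hhx⟩ := exists_Omega_fix_map Q hQ hn hv hx₀Q hy'Q hg₀v hy'v hy'B.symm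
    refine ⟨m * h * g₀, M.mul_mem (M.mul_mem hm (hH h hhΩ hhv)) hg₀, ?_⟩
    rw [lin_mul, lin_mul]
    show lin Q m (lin Q h (lin Q g₀ v)) = y
    rw [hhx, lin_lin_inv]
  have hall : ∀ y : ι → F, Q y = Q v → ∃ m ∈ M, lin Q m v = y := by
    intro y hy
    by_cases hyv : y = v
    · refine ⟨1, M.one_mem, ?_⟩
      rw [lin_one, hyv]; rfl
    obtain ⟨z, hzQ, hzv, hzy, hvz, hyz⟩ := exists_connect Q hQ hn hv hy hyv
      (QuadraticMap.polar ⇑Q v (lin Q g₀ v))
    have h1v : lin Q (1 : Cfsg.isometryGroup F ⇑Q) v = v := by rw [lin_one]; rfl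
    obtain ⟨m₁, hm₁, hm₁v⟩ := hclos 1 M.one_mem z hzQ (by rw [h1v]; exact hzv)
      (by rw [h1v]; exact hvz)
    exact hclos m₁ hm₁ y hy (by rw [hm₁v]; exact fun h => hzy h.symm)
      (by rw [hm₁v, QuadraticMap.polar_comm]; exact hyz)
  intro ω hω
  obtain ⟨m, hm, hmv⟩ := hall (lin Q ω v) (lin_isometry Q ω v)
  have h1 : m⁻¹ * ω ∈ M := hH _ (Subgroup.mul_mem _ (Subgroup.inv_mem _ (hM hm)) hω) (by
    rw [lin_mul]
    show lin Q m⁻¹ (lin Q ω v) = v
    rw [← hmv, lin_inv_lin])
  have h2 := M.mul_mem hm h1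
  rwa [mul_inv_cancel_left] at h2

/-- some element of `Ω` moves a given non-singular vector -/
theorem exists_Omega_move (hQ : (QuadraticMap.polarBilin Q).Nondegenerate)
    (hn : 4 < Fintype.card ι) {v : ι → F} (hv : Q v ≠ 0) :
    ∃ g ∈ Cfsg.Omega F ⇑Q, lin Q g v ≠ v := by
  have hv0 : v ≠ 0 := fun h => hv (by rw [h, map_zero])
  have hli : LinearIndependent F ![v] := LinearIndependent.of_subsingleton 0 (by simpa using hv0)
  obtain ⟨z, hz, hzQ⟩ := exists_polar_eq_Q_eq Q hQ ![v] hli ![1] (Q v) (by omega)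
  have hz0 : QuadraticMap.polar ⇑Q v z = 1 := hz 0
  obtain ⟨g, hg, -, hgv⟩ := refl_pair_map Q hQ hn (v := 0) (x := v) (x' := z) hzQ.symm
    (by simp [QuadraticMap.polar]) (by rw [hz0]; exact one_ne_zero)
  refine ⟨g, hg, ?_⟩
  rw [hgv]
  rintro rfl
  rw [polar_self_chartwo] at hz0
  exact zero_ne_one hz0

end chartwo

end Cfsg.Agent.Helper45.OmegaParity
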