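import Mathlib
import Cfsg.Prelude.Def_ClassicalGeometry
import Cfsg.Prelude.Def_GeometricClasses
import Cfsg.Agent.Helper45.NonsingMax

/-!
# Bridge to the `Cfsg.Geo` vocabulary: the stabiliser of a non-singular vector is maximal in `Ω`
(finite fields of characteristic 2).

* `qfOfGeo`: a functional non-degenerate quadratic form as a Mathlib `QuadraticForm`.
* `nonsing_stab_isMaximalIn`: the statement in the `Cfsg.Geo` vocabulary.
-/

set_option autoImplicit false

namespace Cfsg.Agent.Helper45.OmegaParity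

open Matrix QuadraticMap Module Cfsg.Agent.Helper44

variable {F : Type*} [Field F] {ι : Type} [Fintype ι] [DecidableEq ι]

/-- a functional non-degenerate quadratic form as a Mathlib quadratic form -/
noncomputable def qfOfGeo (Qf : (ι → F) → F) (hQf : Cfsg.Geo.IsNondegenerateQuadraticForm Qf) :
    QuadraticForm F (ι → F) where
  toFun := Qf
  toFun_smul := fun c x => by rw [hQf.smul, smul_eq_mul, pow_two]
  exists_companion' := ⟨LinearMap.mk₂ F (QuadraticMap.polar Qf) hQf.polar_bilinear.add_left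
      (fun c x y => by rw [hQf.polar_bilinear.smul_left, smul_eq_mul])
      hQf.polar_bilinear.add_right
      (fun c x y => by rw [hQf.polar_bilinear.smul_right, smul_eq_mul]),
    fun x y => by simp [QuadraticMap.polar]⟩

theorem coe_qfOfGeo (Qf : (ι → F) → F) (hQf : Cfsg.Geo.IsNondegenerateQuadraticForm Qf) :
    ⇑(qfOfGeo Qf hQf) = Qf := rfl

theorem nondeg_of_geo (Q : QuadraticForm F (ι → F))
    (hQf : Cfsg.Geo.IsNondegenerateQuadraticForm ⇑Q) :
    (QuadraticMap.polarBilin Q).Nondegenerate := by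
  refine ⟨fun x hx => ?_, fun y hy => ?_⟩
  · by_contra hne
    obtain ⟨-, ⟨z, hz⟩⟩ := hQf.nondegenerate x hne
    exact hz (by have := hx z; rwa [QuadraticMap.polarBilin_apply_apply] at this)
  · by_contra hne
    obtain ⟨⟨z, hz⟩, -⟩ := hQf.nondegenerate y hne
    exact hz (by have := hy z; rwa [QuadraticMap.polarBilin_apply_apply] at this)

theorem charP_two_of_not_odd [Fintype F] (h : ¬ Odd (Fintype.card F)) : CharP F 2 := by
  have h2 : Fintype.card F % 2 = 0 := Nat.even_iff.1 (Nat.not_odd_iff_even.1 h)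
  have h3 : ringChar F = 2 := FiniteField.even_card_iff_char_two.2 h2
  exact ringChar.of_eq h3

variable (Q : QuadraticForm F (ι → F))

/-- an isometry fixing `v` stabilises the line spanned by `v` -/
theorem mem_subspaceStabilizer_of_fix (g : Cfsg.isometryGroup F ⇑Q) (v : ι → F)
    (hg : lin Q g v = v) :
    (g : Matrix.GeneralLinearGroup ι F) ∈ Cfsg.Geo.subspaceStabilizer (Submodule.span F {v}) := by
  intro x
  show x ∈ Submodule.span F {v} ↔ lin Q g x ∈ Submodule.span F {v}
  constructor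
  · intro hx
    obtain ⟨c, rfl⟩ := Submodule.mem_span_singleton.1 hx
    rw [map_smul, hg]
    exact Submodule.smul_mem _ c (Submodule.mem_span_singleton_self v)
  · intro hx
    obtain ⟨c, hc⟩ := Submodule.mem_span_singleton.1 hx
    have h1 : lin Q g (c • v) = lin Q g x := by rw [map_smul, hg, hc]
    rw [← lin_injective Q g h1]
    exact Submodule.smul_mem _ c (Submodule.mem_span_singleton_self v)

/-- in characteristic 2, an isometry stabilising the line of a non-singular `v` fixes `v` -/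
theorem fix_of_mem_subspaceStabilizer [CharP F 2] (g : Cfsg.isometryGroup F ⇑Q) (v : ι → F)
    (hv : Q v ≠ 0)
    (hg : (g : Matrix.GeneralLinearGroup ι F) ∈
      Cfsg.Geo.subspaceStabilizer (Submodule.span F {v})) :
    lin Q g v = v := by
  have h1 : lin Q g v ∈ Submodule.span F {v} := (hg v).1 (Submodule.mem_span_singleton_self v)
  obtain ⟨c, hc⟩ := Submodule.mem_span_singleton.1 h1
  exact eq_of_smul_level Q hv (lin_isometry Q g v) c hc.symm

/-- **Maximality of the stabiliser of a non-singular vector** (characteristic 2), in the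
`Cfsg.Geo` vocabulary, for a Mathlib quadratic form. -/
theorem nonsing_stab_isMaximalIn_aux [Fintype F] [CharP F 2]
    (hQ : (QuadraticMap.polarBilin Q).Nondegenerate) (hn : 8 < Fintype.card ι) (v : ι → F)
    (hv : Q v ≠ 0) :
    Cfsg.Geo.IsMaximalIn (Cfsg.Geo.omegaGL ⇑Q)
      (Cfsg.Geo.subspaceStabilizer (Submodule.span F {v}) ⊓ Cfsg.Geo.omegaGL ⇑Q) := by
  refine ⟨lt_of_le_of_ne inf_le_right ?_, ?_⟩
  · intro heq
    obtain ⟨g, hg, hgv⟩ := exists_Omega_move Q hQ (by omega) hv
    have h1 : (g : Matrix.GeneralLinearGroup ι F) ∈ Cfsg.Geo.omegaGL ⇑Q := ⟨g, hg, rfl⟩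
    rw [← heq] at h1
    exact hgv (fix_of_mem_subspaceStabilizer Q g v hv h1.1)
  · intro M' hHM hMΩ
    by_cases hle : M' ≤ Cfsg.Geo.subspaceStabilizer (Submodule.span F {v}) ⊓ Cfsg.Geo.omegaGL ⇑Q
    · left
      exact le_antisymm hle hHM
    · right
      obtain ⟨g, hgM, hgH⟩ := SetLike.not_le_iff_exists.1 hle
      obtain ⟨g', hg'Ω, rfl⟩ := hMΩ hgM
      have hMle : M'.comap (Cfsg.isometryGroup F ⇑Q).subtype ≤ Cfsg.Omega F ⇑Q := by
        intro m hm
        obtain ⟨m', hm', hmm'⟩ := hMΩ (Subgroup.mem_comap.1 hm)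
        have : m' = m := Subtype.ext hmm'
        rwa [← this]
      have hH : ∀ ω ∈ Cfsg.Omega F ⇑Q, lin Q ω v = v →
          ω ∈ M'.comap (Cfsg.isometryGroup F ⇑Q).subtype := by
        intro ω hω hωv
        exact Subgroup.mem_comap.2
          (hHM ⟨mem_subspaceStabilizer_of_fix Q ω v hωv, ⟨ω, hω, rfl⟩⟩)
      have hg'v : lin Q g' v ≠ v := by
        intro h
        exact hgH ⟨mem_subspaceStabilizer_of_fix Q g' v h, ⟨g', hg'Ω, rfl⟩⟩
      have hfin := Omega_le_of_stab_lt Q hQ hn hv _ hMle hH g' (Subgroup.mem_comap.2 hgM) hg'v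
      apply le_antisymm hMΩ
      rintro _ ⟨ω, hω, rfl⟩
      exact Subgroup.mem_comap.1 (hfin hω)

/-- the same, for a functional quadratic form -/
theorem nonsing_stab_isMaximalIn [Fintype F] (Qf : (ι → F) → F)
    (hQf : Cfsg.Geo.IsNondegenerateQuadraticForm Qf) (hchar : ¬ Odd (Fintype.card F))
    (hn : 8 < Fintype.card ι) (v : ι → F) (hv : Qf v ≠ 0) :
    Cfsg.Geo.IsMaximalIn (Cfsg.Geo.omegaGL Qf)
      (Cfsg.Geo.subspaceStabilizer (Submodule.span F {v}) ⊓ Cfsg.Geo.omegaGL Qf) := by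
  have : CharP F 2 := charP_two_of_not_odd hchar
  obtain ⟨Q, hQcoe⟩ : ∃ Q : QuadraticForm F (ι → F), ⇑Q = Qf := ⟨qfOfGeo Qf hQf, rfl⟩
  subst hQcoe
  exact nonsing_stab_isMaximalIn_aux Q (nondeg_of_geo Q hQf) hn v hv

end Cfsg.Agent.Helper45.OmegaParity
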