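import Mathlib
import Cfsg.Prelude.Def_ClassicalGeometry
import Cfsg.Agent.Helper45.NonsingMax2

/-!
# Characteristic 2: `O(Q)` is a maximal subgroup of `Sp(polar Q)`

For `g` preserving the polar form of `Q` (finite field of characteristic 2) there is a unique
*defect vector* `a` with `Q (g x) = Q x + B(x,a)²`.  The defect vectors of a subgroup `M ≥ O(Q)`
are closed under the relation `b₁ ~ b₂ ↔ Q b₁ + Q b₂ + B(b₁,b₂) + B(b₁,b₂)² = c₀`, and every `b`
with `Q b = s² + s` is joined to `0` by a path of length two.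

* `exists_defect`, `exists_isometry_map_vec` (Witt for vectors), `mem_of_defect`.
-/

set_option autoImplicit false

namespace Cfsg.Agent.Helper45.OmegaParity

open Matrix QuadraticMap Module

variable {F : Type*} [Field F] {ι : Type} [Fintype ι] [DecidableEq ι]
variable (Q : QuadraticForm F (ι → F))

theorem glAct_mul (g h : GL ι F) (x : ι → F) :
    ((g * h : GL ι F) : Matrix ι ι F) *ᵥ x
      = (g : Matrix ι ι F) *ᵥ ((h : Matrix ι ι F) *ᵥ x) := by
  rw [Units.val_mul, Matrix.mulVec_mulVec]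

theorem glAct_inv_act (g : GL ι F) (x : ι → F) :
    ((g⁻¹ : GL ι F) : Matrix ι ι F) *ᵥ ((g : Matrix ι ι F) *ᵥ x) = x := by
  rw [Matrix.mulVec_mulVec, ← Units.val_mul, inv_mul_cancel, Units.val_one, Matrix.one_mulVec]

theorem glAct_act_inv (g : GL ι F) (x : ι → F) :
    (g : Matrix ι ι F) *ᵥ (((g⁻¹ : GL ι F) : Matrix ι ι F) *ᵥ x) = x := by
  rw [Matrix.mulVec_mulVec, ← Units.val_mul, mul_inv_cancel, Units.val_one, Matrix.one_mulVec]

theorem glAct_ne_zero (g : GL ι F) {x : ι → F} (hx : x ≠ 0) : (g : Matrix ι ι F) *ᵥ x ≠ 0 := by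
  intro h
  apply hx
  rw [← glAct_inv_act g x, h, Matrix.mulVec_zero]

/-- an isometry of `Q` preserves the polar form -/
theorem polar_of_isometry (h : GL ι F) (hh : ∀ x, Q ((h : Matrix ι ι F) *ᵥ x) = Q x)
    (u v : ι → F) :
    polar ⇑Q ((h : Matrix ι ι F) *ᵥ u) ((h : Matrix ι ι F) *ᵥ v) = polar ⇑Q u v := by
  unfold QuadraticMap.polar
  rw [← Matrix.mulVec_add, hh, hh, hh]

/-- **Witt for vectors**: two non-zero vectors with the same `Q`-value are conjugate under the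
isometry group. -/
theorem exists_isometry_map_vec (hQ : (QuadraticMap.polarBilin Q).Nondegenerate) {d d' : ι → F}
    (hd : d ≠ 0) (hd' : d' ≠ 0) (h : Q d = Q d') :
    ∃ g : GL ι F, (∀ x, Q ((g : Matrix ι ι F) *ᵥ x) = Q x) ∧ (g : Matrix ι ι F) *ᵥ d = d' := by
  let e : Submodule.span F {d} ≃ₗ[F] Submodule.span F {d'} :=
    (LinearEquiv.coord F (ι → F) d hd).trans (LinearEquiv.toSpanNonzeroSingleton F (ι → F) d' hd')
  have he : ∀ u : Submodule.span F {d}, ((e u : Submodule.span F {d'}) : ι → F)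
      = (LinearEquiv.coord F (ι → F) d hd u) • d' := fun u => rfl
  obtain ⟨gl, hgl, hext⟩ := WittQuad.witt Q hQ (Submodule.span F {d}) (Submodule.span F {d'}) e
    (fun u => by
      rw [he u]
      conv_rhs => rw [← LinearEquiv.coord_apply_smul F (ι → F) d hd u]
      rw [QuadraticMap.map_smul, QuadraticMap.map_smul, h])
  refine ⟨WittQuad.glOfLin gl, fun x => by rw [WittQuad.glOfLin_mulVec]; exact hgl x, ?_⟩
  rw [WittQuad.glOfLin_mulVec]
  have h1 := hext ⟨d, Submodule.mem_span_singleton_self d⟩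
  rw [he, LinearEquiv.coord_self, one_smul] at h1
  exact h1

section chartwo

variable [Fintype F] [CharP F 2]

/-- **defect vector** of an isometry of the polar form -/
theorem exists_defect (hQ : (QuadraticMap.polarBilin Q).Nondegenerate) (g : GL ι F)
    (hg : ∀ u v, polar ⇑Q ((g : Matrix ι ι F) *ᵥ u) ((g : Matrix ι ι F) *ᵥ v) = polar ⇑Q u v) :
    ∃ a : ι → F, ∀ x, Q ((g : Matrix ι ι F) *ᵥ x) = Q x + (polar ⇑Q x a) ^ 2 := by
  haveI : ExpChar F 2 := ExpChar.prime Nat.prime_two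
  have hadd : ∀ x y : ι → F, Q ((g : Matrix ι ι F) *ᵥ (x + y)) + Q (x + y)
      = (Q ((g : Matrix ι ι F) *ᵥ x) + Q x) + (Q ((g : Matrix ι ι F) *ᵥ y) + Q y) := by
    intro x y
    rw [Matrix.mulVec_add, QuadraticMap.map_add ⇑Q, QuadraticMap.map_add ⇑Q x y, hg x y]
    have h2 : polar ⇑Q x y + polar ⇑Q x y = 0 := CharTwo.add_self_eq_zero _
    linear_combination h2
  have hsmul : ∀ (c : F) (x : ι → F), Q ((g : Matrix ι ι F) *ᵥ (c • x)) + Q (c • x)
      = c ^ 2 * (Q ((g : Matrix ι ι F) *ᵥ x) + Q x) := by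
    intro c x
    rw [Matrix.mulVec_smul, QuadraticMap.map_smul, QuadraticMap.map_smul, smul_eq_mul, smul_eq_mul]
    ring
  let lam : (ι → F) →ₗ[F] F :=
    { toFun := fun x => (frobeniusEquiv F 2).symm (Q ((g : Matrix ι ι F) *ᵥ x) + Q x)
      map_add' := fun x y => by rw [hadd, map_add]
      map_smul' := fun c x => by
        rw [hsmul, map_mul, RingHom.id_apply, smul_eq_mul]
        congr 1
        rw [← frobenius_def, ← frobeniusEquiv_apply, RingEquiv.symm_apply_apply] }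
  have hlam : ∀ x, (lam x) ^ 2 = Q ((g : Matrix ι ι F) *ᵥ x) + Q x := by
    intro x
    show ((frobeniusEquiv F 2).symm (Q ((g : Matrix ι ι F) *ᵥ x) + Q x)) ^ 2 = _
    rw [← frobenius_def, ← frobeniusEquiv_apply, RingEquiv.apply_symm_apply]
  refine ⟨(LinearMap.BilinForm.toDual (QuadraticMap.polarBilin Q) hQ).symm lam, fun x => ?_⟩
  have h1 : QuadraticMap.polarBilin Q
      ((LinearMap.BilinForm.toDual (QuadraticMap.polarBilin Q) hQ).symm lam) x = lam x :=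
    LinearMap.BilinForm.apply_toDual_symm_apply _ _
  rw [QuadraticMap.polarBilin_apply_apply] at h1
  rw [QuadraticMap.polar_comm, h1, hlam]
  have h2 : Q x + Q x = 0 := CharTwo.add_self_eq_zero _
  linear_combination -h2

theorem add_ne_zero_of_ne_chartwo {b₁ b₂ : ι → F} (h : b₂ ≠ b₁) : b₁ + b₂ ≠ 0 := by
  intro h0
  apply h
  have h1 : b₂ = -b₁ := eq_neg_of_add_eq_zero_right h0
  rw [h1]
  funext i
  exact CharTwo.neg_eq _

/-- **Maximality of `O(Q)` in `Sp(polar Q)`, core form**: a subgroup `M` of the isometry group of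
the polar form containing all isometries of `Q` and one non-isometry contains every `t` whose
defect vector `b` satisfies `Q b = s² + s`. -/
theorem mem_of_defect (hQ : (QuadraticMap.polarBilin Q).Nondegenerate)
    (hn : 4 < Fintype.card ι) (M : Subgroup (GL ι F))
    (hH : ∀ h : GL ι F, (∀ x, Q ((h : Matrix ι ι F) *ᵥ x) = Q x) → h ∈ M)
    (hM : ∀ g ∈ M, ∀ u v,
      polar ⇑Q ((g : Matrix ι ι F) *ᵥ u) ((g : Matrix ι ι F) *ᵥ v) = polar ⇑Q u v)
    (g₀ : GL ι F) (hg₀ : g₀ ∈ M) (hg₀Q : ¬ ∀ x, Q ((g₀ : Matrix ι ι F) *ᵥ x) = Q x)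
    (t : GL ι F) (b : ι → F) (s : F) (hb : Q b = s ^ 2 + s)
    (ht : ∀ x, Q ((t : Matrix ι ι F) *ᵥ x) = Q x + (polar ⇑Q x b) ^ 2) : t ∈ M := by
  obtain ⟨a₀, ha₀⟩ := exists_defect Q hQ g₀ (hM g₀ hg₀)
  have ha₀0 : a₀ ≠ 0 := by
    rintro rfl
    apply hg₀Q
    intro x
    rw [ha₀ x, QuadraticMap.polar_zero_right]
    ring
  -- closure
  have hclos : ∀ m ∈ M, ∀ b₁ b₂ : ι → F,
      (∀ x, Q ((m : Matrix ι ι F) *ᵥ x) = Q x + (polar ⇑Q x b₁) ^ 2) → b₂ ≠ b₁ →
      Q b₁ + Q b₂ + polar ⇑Q b₁ b₂ + (polar ⇑Q b₁ b₂) ^ 2 = Q a₀ →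
      ∃ m' ∈ M, ∀ x, Q ((m' : Matrix ι ι F) *ᵥ x) = Q x + (polar ⇑Q x b₂) ^ 2 := by
    intro m hm b₁ b₂ hmb hne hrel
    have hd0 : b₁ + b₂ ≠ 0 := add_ne_zero_of_ne_chartwo hne
    have hQmd : Q ((m : Matrix ι ι F) *ᵥ (b₁ + b₂)) = Q a₀ := by
      rw [hmb, QuadraticMap.map_add ⇑Q, QuadraticMap.polar_add_left, polar_self_chartwo, zero_add,
        QuadraticMap.polar_comm ⇑Q b₂ b₁]
      exact hrel
    obtain ⟨h, hhQ, hhd⟩ := exists_isometry_map_vec Q hQ (glAct_ne_zero m hd0) ha₀0 hQmd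
    refine ⟨g₀ * h * m, M.mul_mem (M.mul_mem hg₀ (hH h hhQ)) hm, fun x => ?_⟩
    rw [glAct_mul, glAct_mul, ha₀, hhQ, hmb, ← hhd, polar_of_isometry Q h hhQ, hM m hm,
      QuadraticMap.polar_add_right]
    have h2 : (polar ⇑Q x b₁ + polar ⇑Q x b₂) ^ 2 = (polar ⇑Q x b₁) ^ 2 + (polar ⇑Q x b₂) ^ 2 :=
      CharTwo.add_sq _ _
    have h3 : (polar ⇑Q x b₁) ^ 2 + (polar ⇑Q x b₁) ^ 2 = 0 := CharTwo.add_self_eq_zero _
    rw [h2]
    linear_combination h3
  by_cases hb0 : b = 0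
  · apply hH
    intro x
    rw [ht x, hb0, QuadraticMap.polar_zero_right]
    ring
  -- choose `s' ≠ 0` with `Q b = s'² + s'`
  obtain ⟨s', hs'0, hs'⟩ : ∃ s' : F, s' ≠ 0 ∧ Q b = s' ^ 2 + s' := by
    by_cases hs : s = 0
    · refine ⟨1, one_ne_zero, ?_⟩
      rw [hb, hs]
      have : (1 : F) + 1 = 0 := CharTwo.add_self_eq_zero _
      linear_combination -this
    · exact ⟨s, hs, hb⟩
  have hli : LinearIndependent F ![b] := LinearIndependent.of_subsingleton 0 (by simpa using hb0)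
  obtain ⟨x₁, hx₁, hx₁Q⟩ := exists_polar_eq_Q_eq Q hQ ![b] hli ![s'] (Q a₀) (by omega)
  have hbx₁ : polar ⇑Q b x₁ = s' := hx₁ 0
  have hx₁0 : x₁ ≠ 0 := by
    rintro rfl
    rw [QuadraticMap.polar_zero_right] at hbx₁
    exact hs'0 hbx₁.symm
  have hx₁b : b ≠ x₁ := by
    rintro rfl
    rw [polar_self_chartwo] at hbx₁
    exact hs'0 hbx₁.symm
  obtain ⟨m₁, hm₁, hm₁Q⟩ := hclos 1 M.one_mem 0 x₁
    (fun x => by
      rw [Units.val_one, Matrix.one_mulVec, QuadraticMap.polar_zero_right]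
      ring)
    hx₁0
    (by
      rw [map_zero, QuadraticMap.polar_zero_left, hx₁Q]
      ring)
  obtain ⟨m₂, hm₂, hm₂Q⟩ := hclos m₁ hm₁ x₁ b hm₁Q hx₁b
    (by
      rw [hx₁Q, hs', QuadraticMap.polar_comm ⇑Q x₁ b, hbx₁]
      have h3 : s' ^ 2 + s' + (s' ^ 2 + s') = 0 := CharTwo.add_self_eq_zero _
      linear_combination h3)
  have h4 : t * m₂⁻¹ ∈ M := by
    apply hH
    intro y
    rw [glAct_mul, ht, ← hm₂Q, glAct_act_inv]
  have h5 := M.mul_mem h4 hm₂
  rwa [inv_mul_cancel_right] at h5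

end chartwo

end Cfsg.Agent.Helper45.OmegaParity
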