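import Mathlib
import Cfsg.Agent.Helper99.QSpDefs
import Cfsg.Agent.Helper4.QSpQE2
import Cfsg.Agent.Helper94.OrC7
import Cfsg.Agent.Helper43.OrthInvI
import Cfsg.Agent.Helper45.OmegaParity

/-! Piece (QH2) of helper99's S5974 (WANTED #5836): in characteristic two an involution of `Ω⁺_{2d}` fixes a
hyperbolic `2e`-space provided `d` is odd or `e` is even.  (helper45) -/

set_option autoImplicit false
set_option linter.unusedSectionVars false

namespace Cfsg.Agent.Helper45.QSp

open Module Polynomial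
open Cfsg.Agent.Helper59.InvChain Cfsg.Agent.Helper59.Elusive
open Cfsg.Agent.Helper99.SpStruct Cfsg.Agent.Helper99.RDecomp
open Cfsg.Agent.Helper44 Cfsg.Agent.Helper44.QType
open Cfsg.Agent.Helper99.QSp
open Cfsg.Agent.Helper94

universe u

variable {F : Type u} [Field F] [Fintype F]

section frames

variable {d e : ℕ}

/-- the standard frame along an index map -/
def stdFrame (F : Type u) [Field F] {d e : ℕ} (ι : Fin e → Fin d) :
    Fin e → (Fin d ⊕ Fin d → F) × (Fin d ⊕ Fin d → F) :=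
  fun a => (Pi.single (Sum.inl (ι a)) 1, Pi.single (Sum.inr (ι a)) 1)

theorem pB_plusForm_apply (u v : Fin d ⊕ Fin d → F) :
    pB (plusForm d F) u v = ∑ i : Fin d, (u (.inl i) * v (.inr i) + v (.inl i) * u (.inr i)) := by
  rw [pB_apply, plusForm_coe]
  exact polar_quadFormPlus d u v

theorem plusForm_single (i : Fin d ⊕ Fin d) (c : F) : plusForm d F (Pi.single i c) = 0 := by
  classical
  rw [plusForm_coe]
  unfold Cfsg.quadFormPlus
  apply Finset.sum_eq_zero
  intro j _
  rcases i with i | i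
  · have : (Pi.single (Sum.inl i) c : Fin d ⊕ Fin d → F) (Sum.inr j) = 0 := by
      simp [Pi.single_apply]
    rw [this, mul_zero]
  · have : (Pi.single (Sum.inr i) c : Fin d ⊕ Fin d → F) (Sum.inl j) = 0 := by
      simp [Pi.single_apply]
    rw [this, zero_mul]

theorem isQFrame_stdFrame {ι : Fin e → Fin d} (hι : Function.Injective ι) :
    IsQFrame (plusForm d F) (stdFrame F ι) := by
  classical
  refine ⟨⟨fun a => ⟨?_, ?_, ?_⟩, fun a b hab => ?_⟩, fun a => ⟨plusForm_single _ _, plusForm_single _ _⟩⟩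
  · rw [pB_plusForm_apply]; simp [stdFrame, Pi.single_apply]
  · rw [pB_plusForm_apply]; simp [stdFrame, Pi.single_apply]
  · rw [pB_plusForm_apply]; simp [stdFrame, Pi.single_apply]
  · have h1 : ι a ≠ ι b := hι.ne hab
    have h2 : ι b ≠ ι a := Ne.symm h1
    refine ⟨?_, ?_, ?_, ?_⟩
    · rw [pB_plusForm_apply]; simp [stdFrame, Pi.single_apply]
    · rw [pB_plusForm_apply]; simp [stdFrame, Pi.single_apply, h1, h2]
    · rw [pB_plusForm_apply]; simp [stdFrame, Pi.single_apply, h1, h2]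
    · rw [pB_plusForm_apply]; simp [stdFrame, Pi.single_apply]

end frames

section inv

variable {d e : ℕ}

/-- a map preserves the span of a frame when it maps the frame vectors into the span -/
theorem map_hSpan_le {V : Type*} [AddCommGroup V] [Module F V] [FiniteDimensional F V]
    (s : Fin e → V × V)
    (T : V →ₗ[F] V)
    (h : ∀ a, T (s a).1 ∈ Tn.hSpan (F := F) s ∧ T (s a).2 ∈ Tn.hSpan (F := F) s) :
    (Tn.hSpan (F := F) s).map T ≤ Tn.hSpan (F := F) s := by
  rw [Submodule.map_le_iff_le_comap]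
  exact Tn.hSpan_le s h

open Cfsg.Agent.Helper43.SpInv Cfsg.Agent.Helper43.OrthInv Cfsg.Agent.Helper94.SpC
  Cfsg.Agent.Helper94.OrC
open Matrix

theorem Ps_mulVec_single_inl (s : ℕ) (j : Fin d) :
    Ps F d s *ᵥ Pi.single (Sum.inl j) 1 =
      if j.val < s then Pi.single (Sum.inr j) 1 else Pi.single (Sum.inl j) 1 := by
  classical
  funext x
  rcases x with i | i
  · rw [Ps_mulVec_inl]
    unfold wv
    by_cases hij : i = j
    · subst hij
      split_ifs <;> simp [Pi.single_apply]
    · split_ifs <;> simp [Pi.single_apply, hij]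
  · rw [Ps_mulVec_inr]
    unfold wv
    by_cases hij : i = j
    · subst hij
      split_ifs <;> simp [Pi.single_apply]
    · split_ifs <;> simp [Pi.single_apply, hij]

theorem Ps_mulVec_single_inr (s : ℕ) (j : Fin d) :
    Ps F d s *ᵥ Pi.single (Sum.inr j) 1 =
      if j.val < s then Pi.single (Sum.inl j) 1 else Pi.single (Sum.inr j) 1 := by
  classical
  funext x
  rcases x with i | i
  · rw [Ps_mulVec_inl]
    unfold wv
    by_cases hij : i = j
    · subst hij
      split_ifs <;> simp [Pi.single_apply]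
    · split_ifs <;> simp [Pi.single_apply, hij]
  · rw [Ps_mulVec_inr]
    unfold wv
    by_cases hij : i = j
    · subst hij
      split_ifs <;> simp [Pi.single_apply]
    · split_ifs <;> simp [Pi.single_apply, hij]

/-- every standard frame is invariant under the swap involutions -/
theorem Ps_inv (s : ℕ) (ι : Fin e → Fin d) :
    (Tn.hSpan (F := F) (stdFrame F ι)).map (Matrix.toLin' (Ps F d s)) ≤
      Tn.hSpan (F := F) (stdFrame F ι) := by
  apply map_hSpan_le
  intro a
  have h1 := Tn.fst_mem_hSpan (F := F) (stdFrame F ι) a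
  have h2 := Tn.snd_mem_hSpan (F := F) (stdFrame F ι) a
  constructor
  · rw [Matrix.toLin'_apply]
    show Ps F d s *ᵥ Pi.single (Sum.inl (ι a)) 1 ∈ _
    rw [Ps_mulVec_single_inl]
    split_ifs
    · exact h2
    · exact h1
  · rw [Matrix.toLin'_apply]
    show Ps F d s *ᵥ Pi.single (Sum.inr (ι a)) 1 ∈ _
    rw [Ps_mulVec_single_inr]
    split_ifs
    · exact h1
    · exact h2

theorem T0_mulVec_single_inl (k : ℕ) (j : Fin d) :
    T0 F d k *ᵥ Pi.single (Sum.inl j) 1 = Pi.single (Sum.inl j) 1 := by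
  classical
  funext x
  rcases x with i | i
  · unfold T0
    rw [tS_mulVec_inl]
    have : ((Pi.single (Sum.inl j) 1 : Fin d ⊕ Fin d → F) ∘ Sum.inr) = 0 := by
      funext l
      simp [Pi.single_apply]
    rw [this, Matrix.mulVec_zero, Pi.zero_apply, add_zero]
  · unfold T0
    rw [tS_mulVec_inr]

theorem T0_mulVec_single_inr_lt {k : ℕ} (hk : 2 * k ≤ d) (j j' : Fin d) (hj : j.val < 2 * k)
    (hj' : j'.val = partner k j.val) :
    T0 F d k *ᵥ Pi.single (Sum.inr j) 1 =
      Pi.single (Sum.inr j) 1 + Pi.single (Sum.inl j') 1 := by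
  classical
  funext x
  rcases x with i | i
  · unfold T0
    rw [tS_mulVec_inl, Hn_mulVec 0 hk, zero_mul, ite_self, add_zero, Pi.add_apply]
    have h0 : (Pi.single (Sum.inr j) 1 : Fin d ⊕ Fin d → F) (Sum.inl i) = 0 := by
      simp [Pi.single_apply]
    rw [h0, zero_add, zero_add]
    by_cases hi : i = j'
    · subst hi
      have hlt : i.val < 2 * k := by rw [hj']; exact partner_lt hj
      rw [dif_pos hlt]
      have h1 : (⟨partner k i.val, lt_of_lt_of_le (partner_lt hlt) hk⟩ : Fin d) = j :=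
        Fin.ext (by simp only [hj', partner_partner hj])
      rw [h1]
      simp [Pi.single_apply]
    · have h2 : (Pi.single (Sum.inl j') 1 : Fin d ⊕ Fin d → F) (Sum.inl i) = 0 := by
        simp [Pi.single_apply, hi]
      rw [h2]
      split_ifs with hlt
      · have h1 : (⟨partner k i.val, lt_of_lt_of_le (partner_lt hlt) hk⟩ : Fin d) ≠ j := by
          intro h
          apply hi
          apply Fin.ext
          rw [hj', ← h]
          exact (partner_partner hlt).symm
        simp [Pi.single_apply, h1]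
      · rfl
  · unfold T0
    rw [tS_mulVec_inr, Pi.add_apply]
    have h0 : (Pi.single (Sum.inl j') 1 : Fin d ⊕ Fin d → F) (Sum.inr i) = 0 := by
      simp [Pi.single_apply]
    rw [h0, add_zero]

theorem T0_mulVec_single_inr_ge {k : ℕ} (hk : 2 * k ≤ d) (j : Fin d) (hj : ¬ j.val < 2 * k) :
    T0 F d k *ᵥ Pi.single (Sum.inr j) 1 = Pi.single (Sum.inr j) 1 := by
  classical
  funext x
  rcases x with i | i
  · unfold T0
    rw [tS_mulVec_inl, Hn_mulVec 0 hk, zero_mul, ite_self, add_zero]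
    have h0 : (Pi.single (Sum.inr j) 1 : Fin d ⊕ Fin d → F) (Sum.inl i) = 0 := by
      simp [Pi.single_apply]
    rw [h0, zero_add]
    split_ifs with hlt
    · have h1 : (⟨partner k i.val, lt_of_lt_of_le (partner_lt hlt) hk⟩ : Fin d) ≠ j := by
        intro h
        apply hj
        rw [← h]
        exact partner_lt hlt
      simp [Pi.single_apply, h1]
    · rfl
  · unfold T0
    rw [tS_mulVec_inr]

/-- a standard frame whose index set is closed under the pairing is invariant under the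
normal form of type `a` -/
theorem T0_inv {k : ℕ} (hk : 2 * k ≤ d) (ι : Fin e → Fin d)
    (hcl : ∀ a : Fin e, (ι a).val < 2 * k → ∃ b : Fin e, (ι b).val = partner k (ι a).val) :
    (Tn.hSpan (F := F) (stdFrame F ι)).map (Matrix.toLin' (T0 F d k)) ≤
      Tn.hSpan (F := F) (stdFrame F ι) := by
  apply map_hSpan_le
  intro a
  have h1 := Tn.fst_mem_hSpan (F := F) (stdFrame F ι) a
  have h2 := Tn.snd_mem_hSpan (F := F) (stdFrame F ι) a
  constructor
  · rw [Matrix.toLin'_apply]
    show T0 F d k *ᵥ Pi.single (Sum.inl (ι a)) 1 ∈ _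
    rw [T0_mulVec_single_inl]
    exact h1
  · rw [Matrix.toLin'_apply]
    show T0 F d k *ᵥ Pi.single (Sum.inr (ι a)) 1 ∈ _
    by_cases hlt : (ι a).val < 2 * k
    · obtain ⟨b, hb⟩ := hcl a hlt
      rw [T0_mulVec_single_inr_lt hk (ι a) (ι b) hlt hb]
      exact Submodule.add_mem _ h2 (Tn.fst_mem_hSpan (F := F) (stdFrame F ι) b)
    · rw [T0_mulVec_single_inr_ge hk (ι a) hlt]
      exact h2

end inv

section idx

open Cfsg.Agent.Helper94.SpC

/-- the index function with image `[0,a) ∪ [k,k+a) ∪ [2k,2k+t)`, `a = min (e/2) k`, `t = e - 2a` -/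
def idxFun (e k a : ℕ) : ℕ :=
  if a < min (e / 2) k then a
  else if a < 2 * min (e / 2) k then a - min (e / 2) k + k
  else a - 2 * min (e / 2) k + 2 * k

theorem idxFun_lt {d e k : ℕ} (hk : 2 * k ≤ d) (he : e ≤ d) (hcond : Odd d ∨ Even e) {a : ℕ}
    (ha : a < e) : idxFun e k a < d := by
  unfold idxFun
  rw [Nat.odd_iff, Nat.even_iff] at hcond
  split_ifs <;> omega

theorem idxFun_inj {e k a b : ℕ} (h : idxFun e k a = idxFun e k b) : a = b := by
  unfold idxFun at h
  split_ifs at h <;> omega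

theorem idxFun_closed {e k a : ℕ} (ha : a < e) (hlt : idxFun e k a < 2 * k) :
    ∃ b, b < e ∧ idxFun e k b = partner k (idxFun e k a) := by
  by_cases h1 : a < min (e / 2) k
  · refine ⟨a + min (e / 2) k, by omega, ?_⟩
    unfold idxFun partner
    split_ifs <;> omega
  · by_cases h2 : a < 2 * min (e / 2) k
    · refine ⟨a - min (e / 2) k, by omega, ?_⟩
      unfold idxFun partner
      split_ifs <;> omega
    · exfalso
      unfold idxFun at hlt
      rw [if_neg h1, if_neg h2] at hlt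
      omega

end idx

section main

open Cfsg.Agent.Helper43.SpInv Cfsg.Agent.Helper43.OrthInv Cfsg.Agent.Helper94.SpC
  Cfsg.Agent.Helper94.OrC
open Matrix

variable {d e : ℕ}

/-- transport of an invariant frame along a conjugation -/
theorem exists_of_isConj_frame (x y : ↥(Cfsg.isometryGroup F (Cfsg.quadFormPlus d F)))
    (h : IsConj x y) (s : Fin e → (Fin d ⊕ Fin d → F) × (Fin d ⊕ Fin d → F))
    (hs : IsQFrame (plusForm d F) s)
    (hinv : (Tn.hSpan (F := F) s).map (Matrix.toLin' ((y : GL (Fin d ⊕ Fin d) F) :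
        Matrix (Fin d ⊕ Fin d) (Fin d ⊕ Fin d) F)) ≤ Tn.hSpan (F := F) s) :
    ∃ W : Submodule F (Fin d ⊕ Fin d → F), finrank F ↥W = 2 * e ∧
      Nd (pB (plusForm d F)) W ∧ Hyp (plusForm d F) W ∧
      W.map (Matrix.toLin' ((x : GL (Fin d ⊕ Fin d) F) :
        Matrix (Fin d ⊕ Fin d) (Fin d ⊕ Fin d) F)) ≤ W := by
  obtain ⟨c, hc⟩ := isConj_iff.mp h
  set g : ↥(Cfsg.isometryGroup F (Cfsg.quadFormPlus d F)) := c⁻¹ with hg
  have hxg : x * g = g * y := by rw [← hc, hg]; group
  set G : Matrix (Fin d ⊕ Fin d) (Fin d ⊕ Fin d) F := ((g : GL (Fin d ⊕ Fin d) F) :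
    Matrix (Fin d ⊕ Fin d) (Fin d ⊕ Fin d) F) with hG
  have hGiso : ∀ v, plusForm d F (G *ᵥ v) = plusForm d F v := fun v => isometryGroup_apply g v
  have hpB : ∀ u v, pB (plusForm d F) (G *ᵥ u) (G *ᵥ v) = pB (plusForm d F) u v := by
    intro u v
    have := isom_pB (Q := plusForm d F) (y := Matrix.toLin' G)
      (fun v => by rw [Matrix.toLin'_apply]; exact hGiso v) u v
    rwa [Matrix.toLin'_apply, Matrix.toLin'_apply] at this
  set s' : Fin e → (Fin d ⊕ Fin d → F) × (Fin d ⊕ Fin d → F) :=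
    fun a => (G *ᵥ (s a).1, G *ᵥ (s a).2) with hs'def
  have hs' : IsQFrame (plusForm d F) s' := by
    refine ⟨⟨fun a => ⟨?_, ?_, ?_⟩, fun a b hab => ⟨?_, ?_, ?_, ?_⟩⟩, fun a => ⟨?_, ?_⟩⟩
    · show pB _ (G *ᵥ _) (G *ᵥ _) = 0
      rw [hpB]; exact (hs.1.1 a).1
    · show pB _ (G *ᵥ _) (G *ᵥ _) = 0
      rw [hpB]; exact (hs.1.1 a).2.1
    · show pB _ (G *ᵥ _) (G *ᵥ _) = 1
      rw [hpB]; exact (hs.1.1 a).2.2
    · show pB _ (G *ᵥ _) (G *ᵥ _) = 0
      rw [hpB]; exact (hs.1.2 a b hab).1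
    · show pB _ (G *ᵥ _) (G *ᵥ _) = 0
      rw [hpB]; exact (hs.1.2 a b hab).2.1
    · show pB _ (G *ᵥ _) (G *ᵥ _) = 0
      rw [hpB]; exact (hs.1.2 a b hab).2.2.1
    · show pB _ (G *ᵥ _) (G *ᵥ _) = 0
      rw [hpB]; exact (hs.1.2 a b hab).2.2.2
    · show plusForm d F (G *ᵥ _) = 0
      rw [hGiso]; exact (hs.2 a).1
    · show plusForm d F (G *ᵥ _) = 0
      rw [hGiso]; exact (hs.2 a).2
  refine ⟨Tn.hSpan (F := F) s', Tn.finrank_hSpan (pB_symm _) hs'.1, Tn.nd_hSpan (pB_symm _) hs'.1,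
    Cfsg.Agent.Helper4.QSp.hyp_hSpan _ hs', ?_⟩
  have hle : Tn.hSpan (F := F) s ≤ (Tn.hSpan (F := F) s').comap (Matrix.toLin' G) := by
    apply Tn.hSpan_le
    intro a
    constructor
    · show Matrix.toLin' G (s a).1 ∈ Tn.hSpan (F := F) s'
      rw [Matrix.toLin'_apply]
      exact Tn.fst_mem_hSpan s' a
    · show Matrix.toLin' G (s a).2 ∈ Tn.hSpan (F := F) s'
      rw [Matrix.toLin'_apply]
      exact Tn.snd_mem_hSpan s' a
  have key : ∀ u ∈ Tn.hSpan (F := F) s,
      ((x : GL (Fin d ⊕ Fin d) F) : Matrix (Fin d ⊕ Fin d) (Fin d ⊕ Fin d) F) *ᵥ (G *ᵥ u) ∈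
        Tn.hSpan (F := F) s' := by
    intro u hu
    rw [hG, ← isometryGroup_mul_mulVec, hxg, isometryGroup_mul_mulVec]
    have h1 : ((y : GL (Fin d ⊕ Fin d) F) : Matrix (Fin d ⊕ Fin d) (Fin d ⊕ Fin d) F) *ᵥ u ∈
        Tn.hSpan (F := F) s := by
      apply hinv
      exact ⟨u, hu, by rw [Matrix.toLin'_apply]⟩
    have h2 := hle h1
    rw [Submodule.mem_comap, Matrix.toLin'_apply] at h2
    exact h2
  apply map_hSpan_le
  intro a
  constructor
  · rw [Matrix.toLin'_apply]
    exact key _ (Tn.fst_mem_hSpan s a)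
  · rw [Matrix.toLin'_apply]
    exact key _ (Tn.snd_mem_hSpan s a)

/-- (QH2) characteristic two: involutions of `Ω⁺_{2d}` fix hyperbolic `2e`-spaces if `d` is odd or
`e` is even -/
theorem exists_inv_hyp_char_two [CharP F 2] (d e : ℕ) (hd : 3 ≤ d) (he : e ≤ d)
    (hcond : Odd d ∨ Even e) (x : ↥(Cfsg.isometryGroup F (Cfsg.quadFormPlus d F)))
    (hx : x * x = 1) (hxΩ : x ∈ Cfsg.Omega F (Cfsg.quadFormPlus d F)) :
    ∃ W : Submodule F (Fin d ⊕ Fin d → F), finrank F ↥W = 2 * e ∧
      Nd (pB (plusForm d F)) W ∧ Hyp (plusForm d F) W ∧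
      W.map (Matrix.toLin' ((x : GL (Fin d ⊕ Fin d) F) :
        Matrix (Fin d ⊕ Fin d) (Fin d ⊕ Fin d) F)) ≤ W := by
  classical
  set X : Matrix (Fin d ⊕ Fin d) (Fin d ⊕ Fin d) F := ((x : GL (Fin d ⊕ Fin d) F) :
    Matrix (Fin d ⊕ Fin d) (Fin d ⊕ Fin d) F) with hX
  have hXX : X * X = 1 := coe_mul_self x hx
  have hsq := Cfsg.Agent.S2166.sub_one_sq X hXX
  have hrk := Matrix.rank_add_rank_le_card_of_mul_eq_zero hsq
  rw [Fintype.card_sum, Fintype.card_fin] at hrk
  have hev : Even (X - 1).rank :=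
    (Cfsg.Agent.Helper45.OmegaParity.mem_Omega_iff_even_rank (plusForm d F)
      (nondegenerate_plusForm d)
      (Or.inr (by rw [Fintype.card_sum, Fintype.card_fin]; omega)) x).mp hxΩ
  obtain ⟨k, hk⟩ := hev
  by_cases htau : tauQ (Cfsg.quadFormPlus d F) X
  · have h2k : 2 * k ≤ d := by omega
    have hconj : IsConj x (x0 F d k) :=
      isConj_x0 x (by rw [pow_two]; exact hx) h2k (by rw [← hX, hk]; ring)
        (fun v => by rw [sub_one_mulVec_eq_add]; exact htau v)
    let ι : Fin e → Fin d := fun a => ⟨idxFun e k a.val, idxFun_lt h2k he hcond a.isLt⟩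
    have hι : Function.Injective ι :=
      fun a b hab => Fin.ext (idxFun_inj (congrArg Fin.val hab))
    apply exists_of_isConj_frame x (x0 F d k) hconj (stdFrame F ι) (isQFrame_stdFrame hι)
    rw [x0_coe]
    apply T0_inv h2k
    intro a hlt
    obtain ⟨b, hb, hb'⟩ := idxFun_closed a.isLt hlt
    exact ⟨⟨b, hb⟩, hb'⟩
  · have hr1 : 1 ≤ (X - 1).rank := by
      rw [Nat.one_le_iff_ne_zero]
      intro h0
      apply htau
      unfold Matrix.rank at h0
      rw [Submodule.finrank_eq_zero, LinearMap.range_eq_bot] at h0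
      intro v
      have h1 := LinearMap.congr_fun h0 v
      simp only [Matrix.mulVecLin_apply, LinearMap.zero_apply] at h1
      rw [sub_one_mulVec_eq_add] at h1
      rw [h1]
      exact map_zero (plusForm d F)
    have hrd : (X - 1).rank ≤ d := by omega
    have hconj : IsConj x (RepO d (X - 1).rank hr1 hrd false) := by
      apply (isConj_iff_invariants (plusForm d F) (nondegenerate_plusForm d) x
        (RepO d (X - 1).rank hr1 hrd false) hx (RepO_mul_self _ hr1 hrd false)).mpr
      refine ⟨?_, ?_⟩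
      · rw [RepO_coe, rank_Rep_sub_one hrd false (by simp)]
      · rw [RepO_coe]
        constructor
        · intro h
          exact absurd h htau
        · intro h
          exact absurd ((tauQ_Rep_iff hr1 hrd false).mp h) (by simp)
    apply exists_of_isConj_frame x _ hconj (stdFrame F (Fin.castLE he))
      (isQFrame_stdFrame (Fin.castLE_injective he))
    rw [RepO_coe]
    have hRep : Cfsg.Agent.Helper43.OrthInv.Rep F d (X - 1).rank false = Ps F d (X - 1).rank := by
      unfold Cfsg.Agent.Helper43.OrthInv.Rep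
      simp
    rw [hRep]
    exact Ps_inv _ _

end main

end Cfsg.Agent.Helper45.QSp
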