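import Mathlib
import Cfsg.Agent.Helper99.QSpDefs
import Cfsg.Agent.Helper99.SpNdF
import Cfsg.Agent.Helper94.OrD4
import Cfsg.Agent.Helper44.OrthRealizeE
import Cfsg.Agent.Helper43.OrthInvI

/-! Piece (QH2d) of helper99's S5974 (WANTED #5836): in characteristic two the involution `x0` of type `a_d`
(`d = 2k`) of `O⁺_{2d}` fixes only nondegenerate subspaces of dimension divisible by four.  (helper45) -/

set_option autoImplicit false
set_option linter.unusedSectionVars false

namespace Cfsg.Agent.Helper45.QSp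

open Module Polynomial
open Cfsg.Agent.Helper59.InvChain Cfsg.Agent.Helper59.Elusive
open Cfsg.Agent.Helper99.SpStruct Cfsg.Agent.Helper99.RDecomp
open Cfsg.Agent.Helper44 Cfsg.Agent.Helper44.QType
open Cfsg.Agent.Helper99.QSp

universe u

variable {F : Type u} [Field F] [Fintype F]

/-- (QH2d) characteristic two: the involution `x0` of type `a_d` (`d = 2k`) fixes only
nondegenerate subspaces of dimension divisible by four -/
theorem four_dvd_of_inv_x0 [CharP F 2] (d k : ℕ) (hdk : d = 2 * k)
    (W : Submodule F (Fin d ⊕ Fin d → F)) (hW : Nd (pB (plusForm d F)) W)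
    (hinv : W.map (Matrix.toLin' (Cfsg.Agent.Helper94.OrC.T0 F d k)) ≤ W) :
    4 ∣ finrank F ↥W := by
  classical
  have h2 : (2 : F) = 0 := CharTwo.two_eq_zero
  set T : Matrix (Fin d ⊕ Fin d) (Fin d ⊕ Fin d) F := Cfsg.Agent.Helper94.OrC.T0 F d k with hT
  set N : Module.End F (Fin d ⊕ Fin d → F) := Matrix.toLin' (T - 1) with hN
  have hTT : T * T = 1 := Cfsg.Agent.Helper43.SpInv.tS_mul_self _
  have hNv : ∀ v, N v = T.mulVec v - v := by
    intro v
    rw [hN, Matrix.toLin'_apply, Matrix.sub_mulVec, Matrix.one_mulVec]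
  have hTv : ∀ v, v + N v = T.mulVec v := by
    intro v
    rw [hNv]
    abel
  have hTiso : ∀ v, (plusForm d F) (Matrix.toLin' T v) = (plusForm d F) v := by
    intro v
    rw [Matrix.toLin'_apply, plusForm_coe]
    exact Cfsg.Agent.Helper94.OrC.T0_isometry k v
  have hB : (pB (plusForm d F)).IsAlt := by
    intro v
    rw [pB_self, h2, zero_mul]
  have hiso : ∀ u v, pB (plusForm d F) (u + N u) (v + N v) = pB (plusForm d F) u v := by
    intro u v
    rw [hTv, hTv]
    have := isom_pB (Q := plusForm d F) (y := Matrix.toLin' T) hTiso u v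
    rwa [Matrix.toLin'_apply, Matrix.toLin'_apply] at this
  have hN2 : N ^ 2 = 0 := by
    rw [hN, pow_two, Module.End.mul_eq_comp, ← Matrix.toLin'_mul]
    have : (T - 1) * (T - 1) = 0 := by
      rw [sub_mul, mul_sub, mul_sub, hTT, mul_one, one_mul, mul_one]
      have h3 : (1 : Matrix (Fin d ⊕ Fin d) (Fin d ⊕ Fin d) F) - T - (T - 1) = 2 • (1 - T) := by
        rw [two_smul]; abel
      rw [h3]
      ext i j
      simp [h2]
    rw [this, map_zero]
  have htau : ∀ v, pB (plusForm d F) v (N v) = 0 := by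
    intro v
    have h3 := Cfsg.Agent.Helper43.OrthInv.polar_sub_one (plusForm d F) T
      (fun x => by rw [plusForm_coe]; exact Cfsg.Agent.Helper94.OrC.T0_isometry k x) v
    have h4 := Cfsg.Agent.Helper94.OrC.tauQ_T0 (F := F) (m := d) k v
    rw [plusForm_coe, h4] at h3
    exact h3
  have hker : 2 * Cfsg.Agent.Helper43.JT.kdim N 1 = finrank F (Fin d ⊕ Fin d → F) := by
    unfold Cfsg.Agent.Helper43.JT.kdim
    rw [pow_one]
    have hrk := Cfsg.Agent.Helper94.OrC.rank_T0_sub_one (F := F) (m := d) (k := k) (by omega)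
    have hrn := LinearMap.finrank_range_add_finrank_ker N
    have hrange : finrank F ↥(LinearMap.range N) = 2 * k := by
      rw [← hrk, Matrix.rank, hN]
      rfl
    rw [hrange] at hrn
    have hfin : finrank F (Fin d ⊕ Fin d → F) = 2 * d := by
      rw [Module.finrank_pi, Fintype.card_sum, Fintype.card_fin]
      ring
    rw [hfin] at hrn ⊢
    omega
  have hWinv : Cfsg.Agent.Helper99.SpNd.Inv N W := by
    intro w hw
    rw [hNv]
    apply W.sub_mem _ hw
    apply hinv
    exact ⟨w, hw, by rw [Matrix.toLin'_apply]⟩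
  exact Cfsg.Agent.Helper99.SpNd.four_dvd_of_a_type (pB (plusForm d F)) hB N hiso hN2 htau hker W hWinv hW

end Cfsg.Agent.Helper45.QSp
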