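import Mathlib
import Cfsg.Agent.Helper99.QSpMain

/-!
# `PΩ⁺_{2d}(q)` on elliptic `m`-spaces (S5988): definitions and the bridge to the statement

Built on helper99's `QSp` engine (S5974).  (helper45)
-/

set_option autoImplicit false
set_option linter.unusedSectionVars false

namespace Cfsg.Agent.Helper45.Ell

open Module Polynomial Matrix
open Cfsg
open Cfsg.Agent.Helper59.InvChain Cfsg.Agent.Helper59.Elusive
open Cfsg.Agent.Helper99.SpStruct Cfsg.Agent.Helper99.RDecomp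
open Cfsg.Agent.Helper44 Cfsg.Agent.Helper44.QType
open Cfsg.Agent.Helper99.QSp
open Cfsg.Agent.Helper99.QSpGlue Cfsg.Agent.Helper99.QSpMain

universe u v

/-! ## arithmetic predicates -/

/-- the consequence of `r ∣ #(elliptic 2e-spaces)` in terms of `i = ord_r(q)` -/
def StarE (i d e : ℕ) : Prop :=
  (∃ k : ℕ, k + 1 < e ∧ (i ∣ d - k ∨ (i ∣ 2 * (d - k - 1) ∧ ¬ i ∣ d - k - 1))) ∨
    i ∣ d - e + 1 ∨ i ∣ d - e

/-- the right hand side of S5988 for even `i` -/
def EvenRHSE (i c d m : ℕ) : Prop :=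
  ((2 * d) % c = 0 ∧ (Odd ((2 * d) / i) ∨ (m % c = 0 ∧ Odd (m / i)))) ∨
    (i ≤ m ∧ ((0 < m % c ∧ m % c < (2 * d) % c) ∨
      (0 < m % c ∧ m % c = (2 * d) % c ∧ Odd ((2 * d + m - 2 * ((2 * d) % c)) / i)) ∨
      (m % c = 0 ∧ 0 < (2 * d) % c ∧ Odd (m / i))))

/-! ## elliptic subspaces -/

section typed

variable {F : Type u} [Field F] [Fintype F]
variable {V : Type v} [AddCommGroup V] [Module F V] [FiniteDimensional F V]

/-- a nondegenerate `2e`-space is not hyperbolic iff it has type `-1` -/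
theorem not_hyp_iff_qType (Q : QuadraticForm F V) {W : Submodule F V} (hW : Nd (pB Q) W) {e : ℕ}
    (hdim : finrank F ↥W = 2 * e) : ¬ Hyp Q W ↔ QType Q W e (-1) := by
  obtain ⟨ε, hε, hty⟩ := exists_qType Q hW hdim
  rw [hyp_iff_qType Q hW hdim]
  constructor
  · intro h
    rcases hε with rfl | rfl
    · exact absurd hty h
    · exact hty
  · intro h h1
    have := h.unique h1
    norm_num at this

end typed

variable {F : Type u} [Field F] {d : ℕ}

/-- the property of the statement S5988, in our language -/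
def GoodE (F : Type u) [Field F] (d m : ℕ) (A : Matrix (Fin d ⊕ Fin d) (Fin d ⊕ Fin d) F) : Prop :=
  ∃ W : Submodule F (Fin d ⊕ Fin d → F), finrank F ↥W = m ∧ Nd (pB (plusForm d F)) W ∧
    ¬ Hyp (plusForm d F) W ∧ Inv (Matrix.toLin' A) W

/-- nondegeneracy, in the form of the statement S5988 -/
theorem nd_iff_geo {W : Submodule F (Fin d ⊕ Fin d → F)} :
    Nd (pB (plusForm d F)) W ↔
      Cfsg.Geo.IsNondegenerateOn (QuadraticMap.polar (Cfsg.quadFormPlus d F)) W := by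
  rw [nd_iff_stmt]
  unfold Cfsg.Geo.IsNondegenerateOn
  constructor
  · intro h w hw hw0
    obtain ⟨v, hv, hne⟩ := h w hw hw0
    refine ⟨⟨v, hv, ?_⟩, ⟨v, hv, hne⟩⟩
    rw [QuadraticMap.polar_comm]
    exact hne
  · intro h u hu hu0
    exact (h u hu hu0).2

/-- plus type, in the form of the statement S5988 -/
theorem hyp_iff_geo {W : Submodule F (Fin d ⊕ Fin d → F)} :
    Hyp (plusForm d F) W ↔ Cfsg.Geo.IsPlusTypeOn (Cfsg.quadFormPlus d F) W := Iff.rfl

theorem goodE_iff_stmt {m : ℕ} (A : Matrix (Fin d ⊕ Fin d) (Fin d ⊕ Fin d) F) :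
    (∃ W : Submodule F (Fin d ⊕ Fin d → F), (Module.finrank F ↥W = m ∧
        Cfsg.Geo.IsNondegenerateOn (QuadraticMap.polar (Cfsg.quadFormPlus d F)) W ∧
        ¬ Cfsg.Geo.IsPlusTypeOn (Cfsg.quadFormPlus d F) W) ∧
        W.map (Matrix.toLin' A) ≤ W) ↔ GoodE F d m A := by
  constructor
  · rintro ⟨W, ⟨h1, h2, h3⟩, h4⟩
    exact ⟨W, h1, nd_iff_geo.mpr h2, fun h => h3 (hyp_iff_geo.mp h), h4⟩
  · rintro ⟨W, h1, h2, h3, h4⟩
    exact ⟨W, ⟨h1, nd_iff_geo.mp h2, fun h => h3 (hyp_iff_geo.mpr h)⟩, h4⟩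

end Cfsg.Agent.Helper45.Ell
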