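import Mathlib
import Cfsg.Prelude.Def_Classical

set_option autoImplicit false
open Matrix

namespace Cfsg.Agent.Helper45

theorem mem_isometryGroup_iff {ι : Type} [Fintype ι] [DecidableEq ι] {F : Type*} [Field F]
    (Q : (ι → F) → F) (g : GL ι F) :
    g ∈ Cfsg.isometryGroup F Q ↔ ∀ u, Q ((g : Matrix ι ι F) *ᵥ u) = Q u := by
  constructor
  · intro h u
    exact h u u
  · intro h u _
    exact h u

/-- Conjugation composed with a field embedding gives an injective hom of isometry groups. -/
theorem exists_hom_of_conj {ι : Type} [Fintype ι] [DecidableEq ι] {F K : Type*} [Field F] [Field K]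
    (f : F →+* K) (Q : (ι → F) → F) (Q' : (ι → K) → K) (C C' : Matrix ι ι K)
    (hCC' : C * C' = 1) (hC'C : C' * C = 1)
    (h : ∀ g : Matrix ι ι F, (∀ v, Q (g *ᵥ v) = Q v) → ∀ w, Q' ((C * g.map f * C') *ᵥ w) = Q' w) :
    ∃ φ : Cfsg.isometryGroup F Q →* Cfsg.isometryGroup K Q', Function.Injective φ := by
  let ψ : Matrix ι ι F →* Matrix ι ι K :=
    { toFun := fun g => C * g.map f * C'
      map_one' := by
        rw [Matrix.map_one f (map_zero f) (map_one f), Matrix.mul_one, hCC']
      map_mul' := fun g k => by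
        rw [Matrix.map_mul]
        calc C * (g.map f * k.map f) * C' = C * g.map f * 1 * k.map f * C' := by noncomm_ring
          _ = _ := by rw [← hC'C]; noncomm_ring }
  have hψ : ∀ g, ψ g = C * g.map f * C' := fun g => rfl
  have hψinj : Function.Injective ψ := by
    intro g k hgk
    rw [hψ, hψ] at hgk
    have h1 : C' * (C * g.map f * C') * C = C' * (C * k.map f * C') * C := by rw [hgk]
    have e : ∀ X : Matrix ι ι K, C' * (C * X * C') * C = X := by
      intro X
      calc C' * (C * X * C') * C = (C' * C) * X * (C' * C) := by noncomm_ring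
        _ = X := by rw [hC'C, Matrix.one_mul, Matrix.mul_one]
    rw [e, e] at h1
    exact Matrix.map_injective f.injective h1
  let Φ : GL ι F →* GL ι K := Units.map ψ
  let φ : Cfsg.isometryGroup F Q →* Cfsg.isometryGroup K Q' :=
    (Φ.comp (Cfsg.isometryGroup F Q).subtype).codRestrict (Cfsg.isometryGroup K Q') (by
      intro g
      rw [mem_isometryGroup_iff]
      intro w
      have hg := (mem_isometryGroup_iff Q g.1).1 g.2
      exact h _ hg w)
  refine ⟨φ, ?_⟩
  intro g k hgk
  have h1 : Φ g.1 = Φ k.1 := congrArg Subtype.val hgk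
  exact Subtype.ext (Units.map_injective hψinj h1)

/-- Reindexing gives an injective hom of isometry groups. -/
theorem exists_hom_of_reindex {ι ι' : Type} [Fintype ι] [DecidableEq ι] [Fintype ι'] [DecidableEq ι']
    {K : Type*} [Field K] (ε : ι ≃ ι') (Q : (ι → K) → K) (Q' : (ι' → K) → K)
    (h : ∀ w, Q' w = Q (w ∘ ε)) :
    ∃ φ : Cfsg.isometryGroup K Q →* Cfsg.isometryGroup K Q', Function.Injective φ := by
  let ψ : Matrix ι ι K →* Matrix ι' ι' K := ((reindexRingEquiv K ε).toRingHom : _ →* _)
  have hψinj : Function.Injective ψ := (reindexRingEquiv K ε).injective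
  let Φ : GL ι K →* GL ι' K := Units.map ψ
  let φ : Cfsg.isometryGroup K Q →* Cfsg.isometryGroup K Q' :=
    (Φ.comp (Cfsg.isometryGroup K Q).subtype).codRestrict (Cfsg.isometryGroup K Q') (by
      intro g
      rw [mem_isometryGroup_iff]
      intro w
      have hg := (mem_isometryGroup_iff Q g.1).1 g.2
      show Q' (((g.1 : Matrix ι ι K).submatrix ε.symm ε.symm) *ᵥ w) = Q' w
      rw [h, h, Matrix.submatrix_mulVec_equiv]
      have : ((g.1 : Matrix ι ι K) *ᵥ (w ∘ ε.symm.symm)) ∘ ε.symm ∘ ε =
          (g.1 : Matrix ι ι K) *ᵥ (w ∘ ε) := by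
        ext i
        simp
      rw [Function.comp_assoc, this]
      exact hg _)
  refine ⟨φ, ?_⟩
  intro g k hgk
  have h1 : Φ g.1 = Φ k.1 := congrArg Subtype.val hgk
  exact Subtype.ext (Units.map_injective hψinj h1)

open Polynomial in
/-- An anisotropic binary quadratic form over a finite field has a separable root in the
quadratic extension. -/
theorem exists_root_of_aniso {F K : Type*} [Field F] [Fintype F] [Field K] [Fintype K] [Algebra F K]
    (hd : Module.finrank F K = 2) (a c : F)
    (hac : ∀ z₁ z₂ : F, z₁ ^ 2 + a * z₁ * z₂ + c * z₂ ^ 2 = 0 → z₁ = 0 ∧ z₂ = 0) :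
    ∃ α : K, α ^ 2 + algebraMap F K a * α + algebraMap F K c = 0 ∧
      2 * α + algebraMap F K a ≠ 0 := by
  let f : F[X] := X ^ 2 + C a * X + C c
  have hf : f = X ^ 2 + C a * X + C c := rfl
  have hdeg : f.natDegree = 2 := by rw [hf]; compute_degree!
  have hmonic : f.Monic := by rw [hf]; monicity!
  have hirr : Irreducible f := by
    rw [Polynomial.Monic.irreducible_iff_roots_eq_zero_of_degree_le_three hmonic (by omega) (by omega)]
    rw [Multiset.eq_zero_iff_forall_notMem]
    intro x hx
    rw [mem_roots hmonic.ne_zero, IsRoot, hf] at hx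
    simp only [eval_add, eval_pow, eval_X, eval_mul, eval_C] at hx
    have := hac x 1 (by rw [← hx]; ring)
    exact one_ne_zero this.2
  have : Fact (Irreducible f) := ⟨hirr⟩
  have hfin : Module.finrank F (AdjoinRoot f) = 2 := by
    rw [(AdjoinRoot.powerBasis hmonic.ne_zero).finrank, AdjoinRoot.powerBasis_dim, hdeg]
  obtain ⟨g⟩ := FiniteField.nonempty_algHom_of_finrank_dvd (F := F) (K := AdjoinRoot f) (L := K)
    (by rw [hfin, hd])
  have h1' : aeval (g (AdjoinRoot.root f)) f = 0 := by
    rw [aeval_algHom_apply, AdjoinRoot.aeval_eq, AdjoinRoot.mk_self, map_zero]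
  obtain ⟨α, h1⟩ : ∃ α : K, aeval α f = 0 := ⟨_, h1'⟩
  clear h1' g
  refine ⟨α, ?_, ?_⟩
  · rw [hf] at h1
    simpa using h1
  · have hsep : f.Separable := PerfectField.separable_of_irreducible hirr
    obtain ⟨u, v, huv⟩ := hsep
    have h2 := congrArg (aeval α) huv
    rw [map_add, map_mul, map_mul, h1, mul_zero, zero_add, map_one] at h2
    intro h3
    have h4 : aeval α (derivative f) = 0 := by
      rw [hf]
      simp only [derivative_X_pow, derivative_mul, derivative_C, derivative_X,
        map_add, map_mul, aeval_X, aeval_C, map_pow]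
      rw [← h3]
      simp [map_ofNat]
    rw [h4, mul_zero] at h2
    exact zero_ne_one h2

end Cfsg.Agent.Helper45
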