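import Mathlib

set_option autoImplicit false

namespace Cfsg.Agent.Helper45

section Field
variable {K F : Type*} [Field K] [Fintype K] [Field F] [Fintype F]

/-- For finite fields with `|K| = |F|^2` there is an algebra structure making `K` of rank 2 over `F`. -/
theorem exists_algebra_of_card_sq {q : ℕ} (hK : Fintype.card K = q ^ 2) (hF : Fintype.card F = q) :
    ∃ (_ : Algebra F K), Module.finrank F K = 2 := by
  obtain ⟨p, hp⟩ := CharP.exists F
  obtain ⟨p', hp'⟩ := CharP.exists K
  obtain ⟨n, hpp, hn⟩ := FiniteField.card F p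
  obtain ⟨n', hpp', hn'⟩ := FiniteField.card K p'
  have hpp'' : p' = p := by
    have h1 : p' ∣ p ^ ((n : ℕ) * 2) := by
      rw [pow_mul, ← hn, hF, ← hK, hn']
      exact dvd_pow_self _ n'.ne_zero
    exact (Nat.prime_dvd_prime_iff_eq hpp' hpp).1 (hpp'.dvd_of_dvd_pow h1)
  subst hpp''
  have : Fact p'.Prime := ⟨hpp⟩
  let _i1 : Algebra (ZMod p') F := ZMod.algebra F p'
  let _i2 : Algebra (ZMod p') K := ZMod.algebra K p'
  have h1 : p' ^ Module.finrank (ZMod p') F = q := by
    rw [FiniteField.pow_finrank_eq_card, hF]
  have h2 : p' ^ Module.finrank (ZMod p') K = q ^ 2 := by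
    rw [FiniteField.pow_finrank_eq_card, hK]
  have h3 : Module.finrank (ZMod p') K = Module.finrank (ZMod p') F * 2 := by
    apply Nat.pow_right_injective hpp.two_le
    show p' ^ _ = p' ^ _
    rw [h2, pow_mul, h1]
  obtain ⟨f⟩ := FiniteField.nonempty_algHom_of_finrank_dvd (F := ZMod p') (K := F) (L := K)
    (by rw [h3]; exact dvd_mul_right _ _)
  let _i3 : Algebra F K := f.toRingHom.toAlgebra
  refine ⟨inferInstance, ?_⟩
  have h4 : Fintype.card K = Fintype.card F ^ Module.finrank F K := Module.card_eq_pow_finrank
  rw [hK, hF] at h4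
  have hq : 2 ≤ q := by rw [← hF]; exact Fintype.one_lt_card
  exact (Nat.pow_right_injective hq h4).symm

end Field

open Polynomial in
/-- Elements of an extension of a finite field `F` fixed by the `|F|`-power map lie in `F`. -/
theorem mem_range_of_pow_card_eq {F K : Type*} [Field F] [Fintype F] [Field K] [Algebra F K]
    (r : K) (hr : r ^ Fintype.card F = r) : ∃ c : F, algebraMap F K c = r := by
  classical
  by_contra hne
  simp only [not_exists] at hne
  set q := Fintype.card F with hq
  have hq1 : 1 < q := Fintype.one_lt_card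
  let Z : Finset K := insert r (Finset.univ.image (algebraMap F K))
  have hZ : Z.val ⊆ (X ^ q - X : K[X]).roots := by
    intro x hx
    rw [Finset.mem_val, Finset.mem_insert, Finset.mem_image] at hx
    rw [mem_roots (FiniteField.X_pow_card_sub_X_ne_zero K hq1), IsRoot, eval_sub, eval_pow, eval_X,
      sub_eq_zero]
    rcases hx with rfl | ⟨c, _, rfl⟩
    · exact hr
    · rw [← map_pow, FiniteField.pow_card]
  have h1 := card_le_degree_of_subset_roots hZ
  rw [FiniteField.X_pow_card_sub_X_natDegree_eq K hq1] at h1
  have h2 : Z.card = q + 1 := by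
    rw [Finset.card_insert_of_notMem, Finset.card_image_of_injective _ (algebraMap F K).injective,
      Finset.card_univ]
    intro hmem
    rw [Finset.mem_image] at hmem
    obtain ⟨c, _, hc⟩ := hmem
    exact hne c hc
  omega

end Cfsg.Agent.Helper45
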