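import Mathlib
import Cfsg.Prelude.Def_LieClassical
import Cfsg.Agent.Helper45.FiniteFields

set_option autoImplicit false
open Matrix

namespace Cfsg.Agent.Helper45

section ResScalars
variable {F K : Type*} [Field F] [Field K] [Algebra F K] {ι : Type*} [Fintype ι] [DecidableEq ι]
  (b : Module.Basis (Fin 2) F K)

/-- From `F`-coordinates to `K`-vectors. -/
noncomputable def resT (w : ι × Fin 2 → F) : ι → K := fun i => ∑ u, w (i, u) • b u

/-- Restriction of scalars on matrices, as a ring hom. -/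
noncomputable def resPhi : Matrix ι ι K →+* Matrix (ι × Fin 2) (ι × Fin 2) F :=
  (Matrix.compRingEquiv ι (Fin 2) F).toRingHom.comp (Algebra.leftMulMatrix b).toRingHom.mapMatrix

theorem resPhi_apply (g : Matrix ι ι K) (i j : ι) (u v : Fin 2) :
    resPhi b g (i, u) (j, v) = Algebra.leftMulMatrix b (g i j) u v := rfl

theorem resPhi_injective : Function.Injective (resPhi (ι := ι) b) := by
  intro g h hgh
  ext i j
  apply Algebra.leftMulMatrix_injective b
  ext u v
  have := congrFun (congrFun hgh (i, u)) (j, v)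
  exact this

omit [Fintype ι] [DecidableEq ι] in
theorem mul_sum_smul (x : K) (c : Fin 2 → F) :
    x * ∑ v, c v • b v = ∑ u, (∑ v, Algebra.leftMulMatrix b x u v * c v) • b u := by
  have h1 : b.repr (x * ∑ v, c v • b v) = Algebra.leftMulMatrix b x *ᵥ c := by
    rw [← Algebra.leftMulMatrix_mulVec_repr, b.repr_sum_self]
  conv_lhs => rw [← b.sum_repr (x * ∑ v, c v • b v)]
  apply Finset.sum_congr rfl
  intro u _
  rw [h1]
  rfl

theorem resT_resPhi (g : Matrix ι ι K) (w : ι × Fin 2 → F) :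
    resT b (resPhi b g *ᵥ w) = g *ᵥ resT b w := by
  funext i
  simp only [resT, mulVec, dotProduct]
  have : ∀ j, g i j * ∑ u, w (j, u) • b u =
      ∑ u, (∑ v, Algebra.leftMulMatrix b (g i j) u v * w (j, v)) • b u :=
    fun j => mul_sum_smul b (g i j) (fun v => w (j, v))
  simp only [this]
  rw [Finset.sum_comm]
  apply Finset.sum_congr rfl
  intro u _
  rw [← Finset.sum_smul]
  congr 1
  rw [Fintype.sum_prod_type]
  rfl

omit [Fintype ι] [DecidableEq ι] in
theorem resT_apply (w : ι × Fin 2 → F) (i : ι) :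
    resT b w i = algebraMap F K (w (i, 0)) * b 0 + algebraMap F K (w (i, 1)) * b 1 := by
  simp only [resT, Fin.sum_univ_two, Algebra.smul_def]

end ResScalars

section Herm
variable {F K : Type*} [Field F] [Fintype F] [Field K] [Algebra F K]
  (b : Module.Basis (Fin 2) F K)

/-- The `|F|`-power Frobenius of `K`. -/
noncomputable abbrev frob (F K : Type*) [Field F] [Fintype F] [Field K] [Algebra F K] : K →ₐ[F] K :=
  FiniteField.frobeniusAlgHom F K

theorem hermForm_eq_frob (n : ℕ) (u v : Fin n → K) :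
    Cfsg.hermForm n K (Fintype.card F) u v = ∑ i, u i * frob F K (v i) := rfl

theorem frob_resT {ι : Type*} (w : ι × Fin 2 → F) (i : ι) :
    frob F K (resT b w i) =
      algebraMap F K (w (i, 0)) * frob F K (b 0) + algebraMap F K (w (i, 1)) * frob F K (b 1) := by
  rw [resT_apply, map_add, map_mul, map_mul, AlgHom.commutes, AlgHom.commutes]

/-- the alternating form in `F`-coordinates -/
def omega2 {F : Type*} [Field F] {ι : Type*} [Fintype ι] (w w' : ι × Fin 2 → F) : F :=
  ∑ i, (w (i, 0) * w' (i, 1) - w (i, 1) * w' (i, 0))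

theorem herm_sub_herm (n : ℕ) (w w' : Fin n × Fin 2 → F) :
    Cfsg.hermForm n K (Fintype.card F) (resT b w) (resT b w') -
      Cfsg.hermForm n K (Fintype.card F) (resT b w') (resT b w) =
    (b 0 * frob F K (b 1) - b 1 * frob F K (b 0)) * algebraMap F K (omega2 w w') := by
  rw [hermForm_eq_frob, hermForm_eq_frob, omega2, map_sum, Finset.mul_sum, ← Finset.sum_sub_distrib]
  apply Finset.sum_congr rfl
  intro i _
  rw [frob_resT, frob_resT, resT_apply, resT_apply, map_sub, map_mul, map_mul]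
  ring

theorem z0_ne_zero : b 0 * frob F K (b 1) - b 1 * frob F K (b 0) ≠ 0 := by
  intro h0
  have hb1 : b 1 ≠ 0 := b.ne_zero 1
  have hs1 : frob F K (b 1) ≠ 0 := by
    intro h
    exact hb1 ((map_eq_zero_iff (frob F K) (frob F K).toRingHom.injective).1 h)
  have hfix : frob F K (b 0 / b 1) = b 0 / b 1 := by
    rw [map_div₀, div_eq_div_iff hs1 hb1]
    linear_combination -h0
  have hfix' : (b 0 / b 1) ^ Fintype.card F = b 0 / b 1 := hfix
  obtain ⟨c, hc⟩ := mem_range_of_pow_card_eq (F := F) (b 0 / b 1) hfix'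
  have h2 : b 0 = c • b 1 := by
    rw [Algebra.smul_def, hc, div_mul_cancel₀ _ hb1]
  have hli := b.linearIndependent
  rw [Fintype.linearIndependent_iff] at hli
  have := hli ![1, -c] (by
    rw [Fin.sum_univ_two]
    simp [h2])
  have h3 := this 0
  simp at h3

theorem omega2_resPhi (n : ℕ) (g : Matrix (Fin n) (Fin n) K)
    (hg : ∀ u v, Cfsg.hermForm n K (Fintype.card F) (g *ᵥ u) (g *ᵥ v) =
      Cfsg.hermForm n K (Fintype.card F) u v) (w w' : Fin n × Fin 2 → F) :
    omega2 (resPhi b g *ᵥ w) (resPhi b g *ᵥ w') = omega2 w w' := by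
  apply (algebraMap F K).injective
  apply mul_left_cancel₀ (z0_ne_zero b)
  rw [← herm_sub_herm, ← herm_sub_herm, resT_resPhi, resT_resPhi, hg, hg]

end Herm

/-- pairs to sums -/
def eSum (ι : Type*) : ι × Fin 2 ≃ ι ⊕ ι where
  toFun p := ![Sum.inl p.1, Sum.inr p.1] p.2
  invFun := Sum.elim (fun i => (i, 0)) (fun i => (i, 1))
  left_inv := by
    rintro ⟨i, u⟩
    fin_cases u <;> rfl
  right_inv := by
    rintro (i | i) <;> rfl

section Sympl
variable {F : Type*} [Field F] {ι : Type*} [Fintype ι] [DecidableEq ι]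

theorem dot_J (w w' : ι ⊕ ι → F) :
    w ⬝ᵥ (J ι F *ᵥ w') = - omega2 (w ∘ eSum ι) (w' ∘ eSum ι) := by
  simp only [J, fromBlocks_mulVec, dotProduct, Fintype.sum_sum_type, omega2, eSum, Sum.elim_inl,
    Sum.elim_inr, Function.comp, Equiv.coe_fn_mk, zero_mulVec, neg_mulVec, one_mulVec, zero_add,
    add_zero, Pi.neg_apply]
  rw [← Finset.sum_add_distrib, ← Finset.sum_neg_distrib]
  apply Finset.sum_congr rfl
  intro i _
  simp
  ring

theorem sympl_of_omega2 (A : Matrix (ι × Fin 2) (ι × Fin 2) F)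
    (hA : ∀ w w', omega2 (A *ᵥ w) (A *ᵥ w') = omega2 w w') :
    reindex (eSum ι) (eSum ι) A ∈ symplecticGroup ι F := by
  rw [SymplecticGroup.mem_iff']
  set A' := reindex (eSum ι) (eSum ι) A with hA'
  have hcomp : ∀ w : ι ⊕ ι → F, (A' *ᵥ w) ∘ eSum ι = A *ᵥ (w ∘ eSum ι) := by
    intro w
    rw [hA', reindex_apply, submatrix_mulVec_equiv]
    ext p
    simp
  have key : ∀ w w' : ι ⊕ ι → F, w ⬝ᵥ ((A'ᵀ * J ι F * A') *ᵥ w') = w ⬝ᵥ (J ι F *ᵥ w') := by
    intro w w'
    rw [← mulVec_mulVec, ← mulVec_mulVec, dotProduct_mulVec, vecMul_transpose, dot_J, dot_J, hcomp,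
      hcomp, hA]
  ext i j
  have := key (Pi.single i 1) (Pi.single j 1)
  rw [mulVec_single_one, mulVec_single_one, single_one_dotProduct, single_one_dotProduct] at this
  exact this

end Sympl

end Cfsg.Agent.Helper45
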