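import Mathlib
import Cfsg.Prelude.Def_LieClassical
import Cfsg.Agent.Helper45.Isometry
import Cfsg.Agent.Helper45.ResScalars

set_option autoImplicit false
open Matrix

namespace Cfsg.Agent.Helper45

/-- binary quadratic form -/
def binForm {F : Type*} [Field F] (A B C : F) (z₀ z₁ : F) : F := A * z₀ ^ 2 + B * z₀ * z₁ + C * z₁ ^ 2

/-- A linear equivalence transporting one form to another gives an injective hom of isometry
groups (different index types allowed). -/
theorem exists_hom_of_linearEquiv {ι₁ ι₂ : Type} [Fintype ι₁] [DecidableEq ι₁] [Fintype ι₂]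
    [DecidableEq ι₂] {F : Type*} [Field F] (Q₁ : (ι₁ → F) → F) (Q₂ : (ι₂ → F) → F)
    (C : (ι₁ → F) ≃ₗ[F] (ι₂ → F)) (hC : ∀ w, Q₂ (C w) = Q₁ w) :
    ∃ φ : Cfsg.isometryGroup F Q₁ →* Cfsg.isometryGroup F Q₂, Function.Injective φ := by
  let ψ : Matrix ι₁ ι₁ F ≃ₐ[F] Matrix ι₂ ι₂ F :=
    (Matrix.toLinAlgEquiv' (n := ι₁) (R := F)).trans
      ((C.conjAlgEquiv F).trans LinearMap.toMatrixAlgEquiv')
  have hψ : ∀ (g : Matrix ι₁ ι₁ F) (v : ι₂ → F), (ψ g) *ᵥ v = C (g *ᵥ C.symm v) := by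
    intro g v
    rw [← Matrix.toLinAlgEquiv'_apply (ψ g) v]
    show Matrix.toLinAlgEquiv' (LinearMap.toMatrixAlgEquiv'
      (C.conjAlgEquiv F (Matrix.toLinAlgEquiv' g))) v = _
    rw [Matrix.toLinAlgEquiv'_toMatrixAlgEquiv', LinearEquiv.conjAlgEquiv_apply]
    simp
  let Φ : GL ι₁ F →* GL ι₂ F := Units.map (ψ : Matrix ι₁ ι₁ F →* Matrix ι₂ ι₂ F)
  have hΦ : ∀ g : GL ι₁ F, ((Φ g : GL ι₂ F) : Matrix ι₂ ι₂ F) = ψ (g : Matrix ι₁ ι₁ F) :=
    fun g => rfl
  let φ : Cfsg.isometryGroup F Q₁ →* Cfsg.isometryGroup F Q₂ :=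
    (Φ.comp (Cfsg.isometryGroup F Q₁).subtype).codRestrict (Cfsg.isometryGroup F Q₂) (by
      intro g
      rw [mem_isometryGroup_iff]
      intro v
      have hg := (mem_isometryGroup_iff Q₁ g.1).1 g.2
      show Q₂ ((ψ (g.1 : Matrix ι₁ ι₁ F)) *ᵥ v) = Q₂ v
      rw [hψ, hC, hg, ← hC, LinearEquiv.apply_symm_apply])
  refine ⟨φ, ?_⟩
  intro g k hgk
  have h1 : Φ g.1 = Φ k.1 := congrArg Subtype.val hgk
  have h2 : ψ (g.1 : Matrix ι₁ ι₁ F) = ψ (k.1 : Matrix ι₁ ι₁ F) := by
    rw [← hΦ, ← hΦ, h1]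
  exact Subtype.ext (Units.ext (ψ.injective h2))


/-- orthogonal sum of copies of a binary form -/
def sumBinForm {F : Type*} [Field F] {ι : Type*} [Fintype ι] (A B C : F) (w : ι × Fin 2 → F) : F :=
  ∑ i, binForm A B C (w (i, 0)) (w (i, 1))

section
variable {F K : Type*} [Field F] [Fintype F] [Field K] [Algebra F K]
  (b : Module.Basis (Fin 2) F K) (A B C : F)
  (hA : algebraMap F K A = b 0 * frob F K (b 0))
  (hB : algebraMap F K B = b 0 * frob F K (b 1) + b 1 * frob F K (b 0))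
  (hC : algebraMap F K C = b 1 * frob F K (b 1))

include hA hB hC in
theorem herm_self (n : ℕ) (w : Fin n × Fin 2 → F) :
    Cfsg.hermForm n K (Fintype.card F) (resT b w) (resT b w) =
      algebraMap F K (sumBinForm A B C w) := by
  rw [hermForm_eq_frob, sumBinForm, map_sum]
  apply Finset.sum_congr rfl
  intro i _
  rw [frob_resT, resT_apply, binForm]
  simp only [map_add, map_mul, map_pow, hA, hB, hC]
  ring

include hA hB hC in
theorem sumBinForm_resPhi (n : ℕ) (g : Matrix (Fin n) (Fin n) K)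
    (hg : ∀ u v, Cfsg.hermForm n K (Fintype.card F) (g *ᵥ u) (g *ᵥ v) =
      Cfsg.hermForm n K (Fintype.card F) u v) (w : Fin n × Fin 2 → F) :
    sumBinForm A B C (resPhi b g *ᵥ w) = sumBinForm A B C w := by
  apply (algebraMap F K).injective
  rw [← herm_self b A B C hA hB hC, ← herm_self b A B C hA hB hC, resT_resPhi, hg]

include hA hB hC in
theorem exists_hom_GU (n : ℕ) :
    ∃ φ : Cfsg.GU n K (Fintype.card F) →*
      Cfsg.isometryGroup F (sumBinForm (ι := Fin n) A B C), Function.Injective φ := by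
  let Φ : GL (Fin n) K →* GL (Fin n × Fin 2) F := Units.map ((resPhi (ι := Fin n) b : Matrix (Fin n) (Fin n) K →+* _) : Matrix (Fin n) (Fin n) K →* _)
  let φ : Cfsg.GU n K (Fintype.card F) →* Cfsg.isometryGroup F (sumBinForm (ι := Fin n) A B C) :=
    (Φ.comp (Cfsg.GU n K (Fintype.card F)).subtype).codRestrict _ (by
      intro g
      rw [mem_isometryGroup_iff]
      intro w
      exact sumBinForm_resPhi b A B C hA hB hC n _ g.2 w)
  refine ⟨φ, ?_⟩
  intro g k hgk
  have h1 : Φ g.1 = Φ k.1 := congrArg Subtype.val hgk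
  exact Subtype.ext (Units.map_injective (resPhi_injective b) h1)

end


section Pair
variable {F : Type*} [Field F] (a c : F) (M : Matrix (Fin 2) (Fin 2) F)

/-- first coordinate of `M z'` for the second block of the `j`-th pair -/
def up₀ (r : ℕ) (w : Fin (r + r) × Fin 2 → F) (j : Fin r) : F :=
  M 0 0 * w (Fin.natAdd r j, 0) + M 0 1 * w (Fin.natAdd r j, 1)
/-- second coordinate of `M z'` -/
def up₁ (r : ℕ) (w : Fin (r + r) × Fin 2 → F) (j : Fin r) : F :=
  M 1 0 * w (Fin.natAdd r j, 0) + M 1 1 * w (Fin.natAdd r j, 1)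
/-- `p = z - M z'` -/
def pp₀ (r : ℕ) (w : Fin (r + r) × Fin 2 → F) (j : Fin r) : F :=
  w (Fin.castAdd r j, 0) - up₀ M r w j
def pp₁ (r : ℕ) (w : Fin (r + r) × Fin 2 → F) (j : Fin r) : F :=
  w (Fin.castAdd r j, 1) - up₁ M r w j
/-- the dual coordinates -/
def ph₀ (r : ℕ) (w : Fin (r + r) × Fin 2 → F) (j : Fin r) : F :=
  2 * up₀ M r w j + a * up₁ M r w j + pp₀ M r w j
def ph₁ (r : ℕ) (w : Fin (r + r) × Fin 2 → F) (j : Fin r) : F :=
  a * up₀ M r w j + 2 * c * up₁ M r w j + a * pp₀ M r w j + c * pp₁ M r w j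

/-- the pairing map as a function -/
def pairFun (r : ℕ) (w : Fin (r + r) × Fin 2 → F) : Fin (r + r) ⊕ Fin (r + r) → F :=
  Sum.elim (Fin.addCases (fun j => ph₀ a M r w j) (fun j => ph₁ a c M r w j))
    (Fin.addCases (fun j => pp₀ M r w j) (fun j => pp₁ M r w j))

theorem pairFun_inl_cast (r : ℕ) (w : Fin (r + r) × Fin 2 → F) (j : Fin r) :
    pairFun a c M r w (Sum.inl (Fin.castAdd r j)) = ph₀ a M r w j := by
  simp only [pairFun, Sum.elim_inl, Fin.addCases_left]

theorem pairFun_inl_nat (r : ℕ) (w : Fin (r + r) × Fin 2 → F) (j : Fin r) :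
    pairFun a c M r w (Sum.inl (Fin.natAdd r j)) = ph₁ a c M r w j := by
  simp only [pairFun, Sum.elim_inl, Fin.addCases_right]

theorem pairFun_inr_cast (r : ℕ) (w : Fin (r + r) × Fin 2 → F) (j : Fin r) :
    pairFun a c M r w (Sum.inr (Fin.castAdd r j)) = pp₀ M r w j := by
  simp only [pairFun, Sum.elim_inr, Fin.addCases_left]

theorem pairFun_inr_nat (r : ℕ) (w : Fin (r + r) × Fin 2 → F) (j : Fin r) :
    pairFun a c M r w (Sum.inr (Fin.natAdd r j)) = pp₁ M r w j := by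
  simp only [pairFun, Sum.elim_inr, Fin.addCases_right]

/-- the pairing map as a linear map -/
def pairMap (r : ℕ) : (Fin (r + r) × Fin 2 → F) →ₗ[F] (Fin (r + r) ⊕ Fin (r + r) → F) where
  toFun := pairFun a c M r
  map_add' w w' := by
    funext i
    rcases i with i | i
    · refine Fin.addCases (fun j => ?_) (fun j => ?_) i
      · simp only [Pi.add_apply, pairFun_inl_cast, ph₀, pp₀, up₀, up₁]; ring
      · simp only [Pi.add_apply, pairFun_inl_nat, ph₁, pp₀, pp₁, up₀, up₁]; ring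
    · refine Fin.addCases (fun j => ?_) (fun j => ?_) i
      · simp only [Pi.add_apply, pairFun_inr_cast, pp₀, up₀]; ring
      · simp only [Pi.add_apply, pairFun_inr_nat, pp₁, up₁]; ring
  map_smul' t w := by
    funext i
    rcases i with i | i
    · refine Fin.addCases (fun j => ?_) (fun j => ?_) i
      · simp only [Pi.smul_apply, smul_eq_mul, RingHom.id_apply, pairFun_inl_cast, ph₀, pp₀, up₀, up₁]
        ring
      · simp only [Pi.smul_apply, smul_eq_mul, RingHom.id_apply, pairFun_inl_nat, ph₁, pp₀, pp₁, up₀,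
          up₁]
        ring
    · refine Fin.addCases (fun j => ?_) (fun j => ?_) i
      · simp only [Pi.smul_apply, smul_eq_mul, RingHom.id_apply, pairFun_inr_cast, pp₀, up₀]; ring
      · simp only [Pi.smul_apply, smul_eq_mul, RingHom.id_apply, pairFun_inr_nat, pp₁, up₁]; ring

theorem pairMap_apply (r : ℕ) (w : Fin (r + r) × Fin 2 → F) :
    pairMap a c M r w = pairFun a c M r w := rfl

/-- the key identity of the pairing trick -/
theorem pair_identity (hM : ∀ z₀ z₁ : F, binForm 1 a c (M 0 0 * z₀ + M 0 1 * z₁) (M 1 0 * z₀ + M 1 1 * z₁) =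
      - binForm 1 a c z₀ z₁) (r : ℕ) (w : Fin (r + r) × Fin 2 → F) (j : Fin r) :
    ph₀ a M r w j * pp₀ M r w j + ph₁ a c M r w j * pp₁ M r w j =
      binForm 1 a c (w (Fin.castAdd r j, 0)) (w (Fin.castAdd r j, 1)) +
        binForm 1 a c (w (Fin.natAdd r j, 0)) (w (Fin.natAdd r j, 1)) := by
  have h := hM (w (Fin.natAdd r j, 0)) (w (Fin.natAdd r j, 1))
  have h' : binForm 1 a c (w (Fin.natAdd r j, 0)) (w (Fin.natAdd r j, 1)) =
      - binForm 1 a c (up₀ M r w j) (up₁ M r w j) := by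
    rw [up₀, up₁, h, neg_neg]
  rw [h']
  simp only [ph₀, ph₁, pp₀, pp₁, binForm]
  ring

theorem plus_pairMap (hM : ∀ z₀ z₁ : F, binForm 1 a c (M 0 0 * z₀ + M 0 1 * z₁) (M 1 0 * z₀ + M 1 1 * z₁) =
      - binForm 1 a c z₀ z₁) (r : ℕ) (w : Fin (r + r) × Fin 2 → F) :
    Cfsg.quadFormPlus (r + r) F (pairMap a c M r w) = sumBinForm 1 a c w := by
  rw [pairMap_apply, Cfsg.quadFormPlus, sumBinForm, Fin.sum_univ_add, Fin.sum_univ_add,
    ← Finset.sum_add_distrib, ← Finset.sum_add_distrib]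
  apply Finset.sum_congr rfl
  intro j _
  rw [pairFun_inl_cast, pairFun_inl_nat, pairFun_inr_cast, pairFun_inr_nat, pair_identity a c M hM]

theorem pairMap_injective (hdisc : a ^ 2 - 4 * c ≠ 0)
    (hac : ∀ z₁ z₂ : F, z₁ ^ 2 + a * z₁ * z₂ + c * z₂ ^ 2 = 0 → z₁ = 0 ∧ z₂ = 0)
    (hM : ∀ z₀ z₁ : F, binForm 1 a c (M 0 0 * z₀ + M 0 1 * z₁) (M 1 0 * z₀ + M 1 1 * z₁) =
      - binForm 1 a c z₀ z₁) (r : ℕ) : Function.Injective (pairMap a c M r) := by
  rw [injective_iff_map_eq_zero]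
  intro w hw
  rw [pairMap_apply] at hw
  have key : ∀ j : Fin r, (w (Fin.castAdd r j, 0) = 0 ∧ w (Fin.castAdd r j, 1) = 0) ∧
      (w (Fin.natAdd r j, 0) = 0 ∧ w (Fin.natAdd r j, 1) = 0) := by
    intro j
    have e1 := congrFun hw (Sum.inl (Fin.castAdd r j))
    have e2 := congrFun hw (Sum.inl (Fin.natAdd r j))
    have e3 := congrFun hw (Sum.inr (Fin.castAdd r j))
    have e4 := congrFun hw (Sum.inr (Fin.natAdd r j))
    rw [pairFun_inl_cast, Pi.zero_apply] at e1
    rw [pairFun_inl_nat, Pi.zero_apply] at e2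
    rw [pairFun_inr_cast, Pi.zero_apply] at e3
    rw [pairFun_inr_nat, Pi.zero_apply] at e4
    rw [ph₀, e3, add_zero] at e1
    rw [ph₁, e3, e4, mul_zero, mul_zero, add_zero, add_zero] at e2
    have hu0 : up₀ M r w j = 0 := by
      have : (a ^ 2 - 4 * c) * up₀ M r w j = 0 := by linear_combination a * e2 - 2 * c * e1
      exact (mul_eq_zero.1 this).resolve_left hdisc
    have hu1 : up₁ M r w j = 0 := by
      have : (a ^ 2 - 4 * c) * up₁ M r w j = 0 := by linear_combination a * e1 - 2 * e2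
      exact (mul_eq_zero.1 this).resolve_left hdisc
    have h := hM (w (Fin.natAdd r j, 0)) (w (Fin.natAdd r j, 1))
    have hz' : w (Fin.natAdd r j, 0) = 0 ∧ w (Fin.natAdd r j, 1) = 0 := by
      apply hac
      have h2 : binForm 1 a c (w (Fin.natAdd r j, 0)) (w (Fin.natAdd r j, 1)) = 0 := by
        have : binForm 1 a c (up₀ M r w j) (up₁ M r w j) = 0 := by
          rw [hu0, hu1, binForm]; ring
        rw [up₀, up₁, h] at this
        exact neg_eq_zero.1 this
      rw [binForm] at h2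
      linear_combination h2
    refine ⟨⟨?_, ?_⟩, hz'⟩
    · rw [pp₀, hu0, sub_zero] at e3; exact e3
    · rw [pp₁, hu1, sub_zero] at e4; exact e4
  funext ⟨i, u⟩
  refine Fin.addCases (fun j => ?_) (fun j => ?_) i
  · fin_cases u
    · exact (key j).1.1
    · exact (key j).1.2
  · fin_cases u
    · exact (key j).2.1
    · exact (key j).2.2

/-- the pairing map as a linear equivalence -/
noncomputable def pairEquiv (hdisc : a ^ 2 - 4 * c ≠ 0)
    (hac : ∀ z₁ z₂ : F, z₁ ^ 2 + a * z₁ * z₂ + c * z₂ ^ 2 = 0 → z₁ = 0 ∧ z₂ = 0)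
    (hM : ∀ z₀ z₁ : F, binForm 1 a c (M 0 0 * z₀ + M 0 1 * z₁) (M 1 0 * z₀ + M 1 1 * z₁) =
      - binForm 1 a c z₀ z₁) (r : ℕ) :
    (Fin (r + r) × Fin 2 → F) ≃ₗ[F] (Fin (r + r) ⊕ Fin (r + r) → F) :=
  (pairMap a c M r).linearEquivOfInjective (pairMap_injective a c M hdisc hac hM r) (by
    rw [Module.finrank_fintype_fun_eq_card, Module.finrank_fintype_fun_eq_card]
    simp only [Fintype.card_prod, Fintype.card_sum, Fintype.card_fin]
    ring)

/-- restriction to the first `n` blocks -/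
def restrBlocks (n : ℕ) : (Fin (n + 1) × Fin 2 → F) →ₗ[F] (Fin n × Fin 2 → F) :=
  LinearMap.funLeft F F (fun p : Fin n × Fin 2 => (Fin.castSucc p.1, p.2))

/-- the last block -/
def lastBlock (n : ℕ) : (Fin (n + 1) × Fin 2 → F) →ₗ[F] (Fin 2 → F) :=
  LinearMap.funLeft F F (fun u : Fin 2 => (Fin.last n, u))

/-- the pairing map in the odd case -/
def oddMap (r : ℕ) :
    (Fin (r + r + 1) × Fin 2 → F) →ₗ[F] ((Fin (r + r) ⊕ Fin (r + r)) ⊕ Fin 2 → F) :=
  (LinearEquiv.sumArrowLequivProdArrow (Fin (r + r) ⊕ Fin (r + r)) (Fin 2) F F).symm.toLinearMap ∘ₗ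
    (((pairMap a c M r) ∘ₗ (restrBlocks (r + r))).prod (lastBlock (r + r)))

theorem oddMap_inl (r : ℕ) (w : Fin (r + r + 1) × Fin 2 → F) (i : Fin (r + r) ⊕ Fin (r + r)) :
    oddMap a c M r w (Sum.inl i) = pairMap a c M r (restrBlocks (r + r) w) i := by
  simp [oddMap]

theorem oddMap_inr (r : ℕ) (w : Fin (r + r + 1) × Fin 2 → F) (u : Fin 2) :
    oddMap a c M r w (Sum.inr u) = w (Fin.last (r + r), u) := by
  simp [oddMap, lastBlock, LinearMap.funLeft]

theorem minus_oddMap (hM : ∀ z₀ z₁ : F, binForm 1 a c (M 0 0 * z₀ + M 0 1 * z₁) (M 1 0 * z₀ + M 1 1 * z₁) =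
      - binForm 1 a c z₀ z₁) (r : ℕ) (w : Fin (r + r + 1) × Fin 2 → F) :
    Cfsg.quadFormMinus (r + r) F a c (oddMap a c M r w) = sumBinForm 1 a c w := by
  have h1 := plus_pairMap a c M hM r (restrBlocks (r + r) w)
  rw [Cfsg.quadFormPlus] at h1
  rw [Cfsg.quadFormMinus, sumBinForm, Fin.sum_univ_castSucc]
  simp only [oddMap_inl, oddMap_inr]
  rw [h1, sumBinForm, binForm]
  simp only [restrBlocks, LinearMap.funLeft_apply]
  ring

theorem oddMap_injective (hdisc : a ^ 2 - 4 * c ≠ 0)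
    (hac : ∀ z₁ z₂ : F, z₁ ^ 2 + a * z₁ * z₂ + c * z₂ ^ 2 = 0 → z₁ = 0 ∧ z₂ = 0)
    (hM : ∀ z₀ z₁ : F, binForm 1 a c (M 0 0 * z₀ + M 0 1 * z₁) (M 1 0 * z₀ + M 1 1 * z₁) =
      - binForm 1 a c z₀ z₁) (r : ℕ) : Function.Injective (oddMap a c M r) := by
  rw [injective_iff_map_eq_zero]
  intro w hw
  have h1 : restrBlocks (r + r) w = 0 := by
    apply pairMap_injective a c M hdisc hac hM r
    rw [map_zero]
    funext i
    rw [← oddMap_inl, hw]
    rfl
  funext ⟨i, u⟩
  refine Fin.lastCases ?_ (fun i' => ?_) i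
  · rw [← oddMap_inr a c M r w u, hw]; rfl
  · have := congrFun h1 (i', u)
    simpa [restrBlocks, LinearMap.funLeft] using this

/-- the odd pairing map as a linear equivalence -/
noncomputable def oddEquiv (hdisc : a ^ 2 - 4 * c ≠ 0)
    (hac : ∀ z₁ z₂ : F, z₁ ^ 2 + a * z₁ * z₂ + c * z₂ ^ 2 = 0 → z₁ = 0 ∧ z₂ = 0)
    (hM : ∀ z₀ z₁ : F, binForm 1 a c (M 0 0 * z₀ + M 0 1 * z₁) (M 1 0 * z₀ + M 1 1 * z₁) =
      - binForm 1 a c z₀ z₁) (r : ℕ) :
    (Fin (r + r + 1) × Fin 2 → F) ≃ₗ[F] ((Fin (r + r) ⊕ Fin (r + r)) ⊕ Fin 2 → F) :=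
  (oddMap a c M r).linearEquivOfInjective (oddMap_injective a c M hdisc hac hM r) (by
    rw [Module.finrank_fintype_fun_eq_card, Module.finrank_fintype_fun_eq_card]
    simp only [Fintype.card_prod, Fintype.card_sum, Fintype.card_fin]
    ring)

end Pair


section Setup
variable {F K : Type*} [Field F] [Fintype F] [Field K] [Algebra F K] (a c : F) (α : K)
  (hα : α ^ 2 + algebraMap F K a * α + algebraMap F K c = 0)
  (hα2 : 2 * α + algebraMap F K a ≠ 0)
  (hac : ∀ z₁ z₂ : F, z₁ ^ 2 + a * z₁ * z₂ + c * z₂ ^ 2 = 0 → z₁ = 0 ∧ z₂ = 0)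

omit [Fintype F] in
include hα hac in
theorem root_not_mem_range (x : F) : algebraMap F K x ≠ α := by
  intro hx
  rw [← hx, ← map_pow, ← map_mul, ← map_add, ← map_add] at hα
  have h0 : x ^ 2 + a * x + c = 0 := (map_eq_zero_iff _ (algebraMap F K).injective).1 hα
  have := hac x 1 (by rw [← h0]; ring)
  exact one_ne_zero this.2

include hα hac in
theorem frob_root : frob F K α = - algebraMap F K a - α := by
  have h1 : (frob F K α) ^ 2 + algebraMap F K a * frob F K α + algebraMap F K c = 0 := by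
    have := congrArg (frob F K) hα
    rw [map_add, map_add, map_mul, map_pow, AlgHom.commutes, AlgHom.commutes, map_zero] at this
    exact this
  have h2 : (frob F K α - α) * (frob F K α + α + algebraMap F K a) = 0 := by
    linear_combination h1 - hα
  rcases mul_eq_zero.1 h2 with h3 | h3
  · exfalso
    have h4 : α ^ Fintype.card F = α := sub_eq_zero.1 h3
    obtain ⟨x, hx⟩ := mem_range_of_pow_card_eq (F := F) α h4
    exact root_not_mem_range a c α hα hac x hx
  · linear_combination h3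

omit [Fintype F] in
include hα hα2 in
theorem disc_ne_zero : a ^ 2 - 4 * c ≠ 0 := by
  intro h0
  have h1 : (2 * α + algebraMap F K a) ^ 2 = algebraMap F K (a ^ 2 - 4 * c) := by
    rw [map_sub, map_pow, map_mul, map_ofNat]
    linear_combination 4 * hα
  rw [h0, map_zero] at h1
  exact hα2 ((pow_eq_zero_iff (two_ne_zero)).1 h1)

omit [Fintype F] in
include hα hac in
theorem linearIndependent_one_root : LinearIndependent F ![(1 : K), -α] := by
  rw [LinearIndependent.pair_iff]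
  intro s t hst
  have ht : t = 0 := by
    by_contra ht
    apply root_not_mem_range a c α hα hac (s / t)
    rw [Algebra.smul_def, Algebra.smul_def, mul_one] at hst
    rw [map_div₀, div_eq_iff ((map_ne_zero_iff _ (algebraMap F K).injective).2 ht)]
    linear_combination hst
  subst ht
  rw [zero_smul, add_zero, Algebra.smul_def, mul_one] at hst
  exact ⟨(map_eq_zero_iff _ (algebraMap F K).injective).1 hst, rfl⟩

end Setup


section Norm
variable {F K : Type*} [Field F] [Fintype F] [Field K] [Algebra F K]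
  (b : Module.Basis (Fin 2) F K) (A B C : F)
  (hA : algebraMap F K A = b 0 * frob F K (b 0))
  (hB : algebraMap F K B = b 0 * frob F K (b 1) + b 1 * frob F K (b 0))
  (hC : algebraMap F K C = b 1 * frob F K (b 1))

include hA hB hC in
theorem binForm_eq_norm (z₀ z₁ : F) :
    algebraMap F K (binForm A B C z₀ z₁) =
      (algebraMap F K z₀ * b 0 + algebraMap F K z₁ * b 1) *
        frob F K (algebraMap F K z₀ * b 0 + algebraMap F K z₁ * b 1) := by
  simp only [binForm, map_add, map_mul, map_pow, AlgHom.commutes, hA, hB, hC]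
  ring

include hA hB hC in
theorem binForm_leftMul (ζ : K) (hζ : ζ * frob F K ζ = -1) (z₀ z₁ : F) :
    binForm A B C
      (Algebra.leftMulMatrix b ζ 0 0 * z₀ + Algebra.leftMulMatrix b ζ 0 1 * z₁)
      (Algebra.leftMulMatrix b ζ 1 0 * z₀ + Algebra.leftMulMatrix b ζ 1 1 * z₁) =
    - binForm A B C z₀ z₁ := by
  apply (algebraMap F K).injective
  rw [map_neg, binForm_eq_norm b A B C hA hB hC, binForm_eq_norm b A B C hA hB hC]
  have h := mul_sum_smul b ζ ![z₀, z₁]
  simp only [Fin.sum_univ_two, Algebra.smul_def, Matrix.cons_val_zero, Matrix.cons_val_one] at h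
  rw [← h, map_mul]
  linear_combination (algebraMap F K z₀ * b 0 + algebraMap F K z₁ * b 1) *
    frob F K (algebraMap F K z₀ * b 0 + algebraMap F K z₁ * b 1) * hζ

end Norm

section Zeta
variable {F K : Type*} [Field F] [Fintype F] [Field K] [Fintype K] [Algebra F K]

theorem exists_norm_neg_one (hK : Fintype.card K = Fintype.card F ^ 2) :
    ∃ ζ : K, ζ * frob F K ζ = -1 := by
  obtain ⟨ζ, hζ⟩ := FiniteField.norm_surjective F K (-1)
  refine ⟨ζ, ?_⟩
  have h1 := FiniteField.algebraMap_norm_eq_pow (K := F) (K' := K) (x := ζ)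
  rw [hζ, Nat.card_eq_fintype_card, Nat.card_eq_fintype_card, hK] at h1
  have hq : 1 < Fintype.card F := Fintype.one_lt_card
  have h2 : (Fintype.card F ^ 2 - 1) / (Fintype.card F - 1) = Fintype.card F + 1 := by
    have h3 : Fintype.card F ^ 2 - 1 = (Fintype.card F + 1) * (Fintype.card F - 1) := by
      obtain ⟨k, hk⟩ : ∃ k, Fintype.card F = k + 1 := ⟨Fintype.card F - 1, by omega⟩
      rw [hk]
      simp only [Nat.add_sub_cancel]
      ring_nf
      omega
    rw [h3, Nat.mul_div_cancel _ (by omega)]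
  rw [h2, pow_succ, map_neg, map_one] at h1
  show ζ * ζ ^ Fintype.card F = -1
  rw [h1, mul_comm]

end Zeta


/-- Over a finite field there is an anisotropic binary quadratic form. -/
theorem exists_aniso (F : Type*) [Field F] [Finite F] :
    ∃ a c : F, ∀ z₁ z₂ : F, z₁ ^ 2 + a * z₁ * z₂ + c * z₂ ^ 2 = 0 → z₁ = 0 ∧ z₂ = 0 := by
  have hni : ¬ Function.Injective (fun x : F => x ^ 2 + x) := by
    intro h
    have : (0 : F) = -1 := h (by simp)
    have h1 : (1 : F) = 0 := by linear_combination this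
    exact one_ne_zero h1
  have hns : ¬ Function.Surjective (fun x : F => x ^ 2 + x) :=
    fun h => hni (Finite.injective_iff_surjective.2 h)
  simp only [Function.Surjective, not_forall, not_exists] at hns
  obtain ⟨c', hc'⟩ := hns
  refine ⟨1, -c', ?_⟩
  intro z₁ z₂ h
  have hz2 : z₂ = 0 := by
    by_contra hz2
    apply hc' (z₁ / z₂)
    field_simp
    linear_combination h
  subst hz2
  refine ⟨?_, rfl⟩
  have : z₁ ^ 2 = 0 := by linear_combination h
  exact pow_eq_zero_iff (two_ne_zero) |>.1 this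


section Main
variable {F K : Type*} [Field F] [Fintype F] [Field K] [Fintype K]

/-- All the data needed for the orthogonal embeddings of the unitary group. -/
theorem exists_orth_data (hK : Fintype.card K = Fintype.card F ^ 2) (a c : F)
    (hac : ∀ z₁ z₂ : F, z₁ ^ 2 + a * z₁ * z₂ + c * z₂ ^ 2 = 0 → z₁ = 0 ∧ z₂ = 0) :
    (a ^ 2 - 4 * c ≠ 0) ∧ (∃ M : Matrix (Fin 2) (Fin 2) F,
      ∀ z₀ z₁ : F, binForm 1 a c (M 0 0 * z₀ + M 0 1 * z₁) (M 1 0 * z₀ + M 1 1 * z₁) =
        - binForm 1 a c z₀ z₁) ∧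
    ∀ n : ℕ, ∃ φ : Cfsg.GU n K (Fintype.card F) →*
      Cfsg.isometryGroup F (sumBinForm (ι := Fin n) 1 a c), Function.Injective φ := by
  obtain ⟨alg, hd⟩ := exists_algebra_of_card_sq hK rfl
  let _ := alg
  have : Module.Finite F K := Module.finite_of_finrank_pos (by rw [hd]; norm_num)
  obtain ⟨α, hα, hα2⟩ := exists_root_of_aniso hd a c hac
  have hli := linearIndependent_one_root a c α hα hac
  let b : Module.Basis (Fin 2) F K :=
    basisOfLinearIndependentOfCardEqFinrank hli (by rw [hd, Fintype.card_fin])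
  have hb0 : b 0 = 1 := by
    show (basisOfLinearIndependentOfCardEqFinrank hli _) 0 = 1
    rw [coe_basisOfLinearIndependentOfCardEqFinrank]; rfl
  have hb1 : b 1 = -α := by
    show (basisOfLinearIndependentOfCardEqFinrank hli _) 1 = -α
    rw [coe_basisOfLinearIndependentOfCardEqFinrank]; rfl
  have hσ := frob_root a c α hα hac
  have hA : algebraMap F K 1 = b 0 * frob F K (b 0) := by
    rw [hb0, map_one, map_one, mul_one]
  have hB : algebraMap F K a = b 0 * frob F K (b 1) + b 1 * frob F K (b 0) := by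
    rw [hb0, hb1, map_one, map_neg, hσ]; ring
  have hC : algebraMap F K c = b 1 * frob F K (b 1) := by
    rw [hb1, map_neg, hσ]; linear_combination hα
  obtain ⟨ζ, hζ⟩ := exists_norm_neg_one (F := F) (K := K) hK
  refine ⟨disc_ne_zero a c α hα hα2, ⟨Algebra.leftMulMatrix b ζ, ?_⟩, ?_⟩
  · exact binForm_leftMul b 1 a c hA hB hC ζ hζ
  · intro n
    exact exists_hom_GU b 1 a c hA hB hC n

/-- `GU_{2r}(q)` embeds in `O⁺_{4r}(q)`. -/
theorem exists_hom_GU_plus (hK : Fintype.card K = Fintype.card F ^ 2) (r : ℕ) :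
    ∃ φ : Cfsg.GU (r + r) K (Fintype.card F) →*
      Cfsg.isometryGroup F (Cfsg.quadFormPlus (r + r) F), Function.Injective φ := by
  obtain ⟨a, c, hac⟩ := exists_aniso F
  obtain ⟨hdisc, ⟨M, hM⟩, hφ⟩ := exists_orth_data (K := K) hK a c hac
  obtain ⟨φ₁, hφ₁⟩ := hφ (r + r)
  obtain ⟨φ₂, hφ₂⟩ := exists_hom_of_linearEquiv (sumBinForm (ι := Fin (r + r)) 1 a c)
    (Cfsg.quadFormPlus (r + r) F) (pairEquiv a c M hdisc hac hM r) (by
      intro w
      exact plus_pairMap a c M hM r w)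
  exact ⟨φ₂.comp φ₁, hφ₂.comp hφ₁⟩

/-- `GU_{2r+1}(q)` embeds in `O⁻_{4r+2}(q)`. -/
theorem exists_hom_GU_minus (hK : Fintype.card K = Fintype.card F ^ 2) (r : ℕ) (a c : F)
    (hac : ∀ z₁ z₂ : F, z₁ ^ 2 + a * z₁ * z₂ + c * z₂ ^ 2 = 0 → z₁ = 0 ∧ z₂ = 0) :
    ∃ φ : Cfsg.GU (r + r + 1) K (Fintype.card F) →*
      Cfsg.isometryGroup F (Cfsg.quadFormMinus (r + r) F a c), Function.Injective φ := by
  obtain ⟨hdisc, ⟨M, hM⟩, hφ⟩ := exists_orth_data (K := K) hK a c hac
  obtain ⟨φ₁, hφ₁⟩ := hφ (r + r + 1)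
  obtain ⟨φ₂, hφ₂⟩ := exists_hom_of_linearEquiv (sumBinForm (ι := Fin (r + r + 1)) 1 a c)
    (Cfsg.quadFormMinus (r + r) F a c) (oddEquiv a c M hdisc hac hM r) (by
      intro w
      exact minus_oddMap a c M hM r w)
  exact ⟨φ₂.comp φ₁, hφ₂.comp hφ₁⟩

end Main

end Cfsg.Agent.Helper45
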