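import Mathlib
import Cfsg.Agent.Helper45.UnitaryOrth

set_option autoImplicit false
open Matrix

namespace Cfsg.Agent.Helper45

/-- A linear equivalence transporting one form to another gives an isomorphism of isometry
groups (different index types allowed), over a finite field. -/
theorem nonempty_mulEquiv_of_linearEquiv {ι₁ ι₂ : Type} [Fintype ι₁] [DecidableEq ι₁] [Fintype ι₂]
    [DecidableEq ι₂] {F : Type*} [Field F] [Finite F] (Q₁ : (ι₁ → F) → F) (Q₂ : (ι₂ → F) → F)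
    (C : (ι₁ → F) ≃ₗ[F] (ι₂ → F)) (hC : ∀ w, Q₂ (C w) = Q₁ w) :
    Nonempty (Cfsg.isometryGroup F Q₁ ≃* Cfsg.isometryGroup F Q₂) := by
  obtain ⟨φ, hφ⟩ := exists_hom_of_linearEquiv Q₁ Q₂ C hC
  obtain ⟨ψ, hψ⟩ := exists_hom_of_linearEquiv Q₂ Q₁ C.symm (by
    intro w
    rw [← hC, LinearEquiv.apply_symm_apply])
  have h1 : Nat.card (Cfsg.isometryGroup F Q₂) ≤ Nat.card (Cfsg.isometryGroup F Q₁) :=
    Nat.card_le_card_of_injective ψ hψ
  exact ⟨MulEquiv.ofBijective φ (hφ.bijective_of_nat_card_le h1)⟩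

/-- reindexing version -/
theorem nonempty_mulEquiv_of_equiv {ι₁ ι₂ : Type} [Fintype ι₁] [DecidableEq ι₁] [Fintype ι₂]
    [DecidableEq ι₂] {F : Type*} [Field F] [Finite F] (Q₁ : (ι₁ → F) → F) (Q₂ : (ι₂ → F) → F)
    (e : ι₂ ≃ ι₁) (hC : ∀ w, Q₂ (w ∘ e) = Q₁ w) :
    Nonempty (Cfsg.isometryGroup F Q₁ ≃* Cfsg.isometryGroup F Q₂) :=
  nonempty_mulEquiv_of_linearEquiv Q₁ Q₂ (LinearEquiv.funCongrLeft F F e) hC

end Cfsg.Agent.Helper45
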