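import Mathlib
import Cfsg.Prelude.Def_LieClassical
import Cfsg.Agent.Helper45.GUBasic

set_option autoImplicit false
open Matrix

namespace Cfsg.Agent.Helper45.GU

section
variable {F : Type*} [Field F] {q : ℕ} (n : ℕ) (bar : F →+* F) (hbar : ∀ x, bar x = x ^ q)

include hbar in
theorem mem_SU_iff (g : SpecialLinearGroup (Fin n) F) :
    g ∈ Cfsg.SU n F q ↔ ∀ u v, herm bar ((g : Matrix (Fin n) (Fin n) F) *ᵥ u)
      ((g : Matrix (Fin n) (Fin n) F) *ᵥ v) = herm bar u v := by
  simp only [← hermForm_eq n bar hbar]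
  exact Iff.rfl

theorem herm_diagonal (d : Fin n → F) (hd : ∀ i, d i * bar (d i) = 1) (u v : Fin n → F) :
    herm bar (diagonal d *ᵥ u) (diagonal d *ᵥ v) = herm bar u v := by
  simp only [herm, mulVec_diagonal, map_mul]
  apply Finset.sum_congr rfl
  intro i _
  linear_combination (u i * bar (v i)) * hd i

theorem herm_perm (σ : Equiv.Perm (Fin n)) (u v : Fin n → F) :
    herm bar (σ.permMatrix F *ᵥ u) (σ.permMatrix F *ᵥ v) = herm bar u v := by
  rw [permMatrix_mulVec, permMatrix_mulVec]
  simp only [herm, Function.comp]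
  exact Equiv.sum_comp σ (fun i => u i * bar (v i))

/-- diagonal elements of `SL` -/
def dgSL (d : Fin n → Fˣ) (hprod : ∏ i, d i = 1) : SpecialLinearGroup (Fin n) F :=
  ⟨diagonal (fun i => (d i : F)), by
    rw [det_diagonal]
    have := congrArg (fun x : Fˣ => (x : F)) hprod
    simpa using this⟩

include hbar in
theorem dgSL_mem (d : Fin n → Fˣ) (hd : ∀ i, d i ∈ U1 F q) (hprod : ∏ i, d i = 1) :
    dgSL n d hprod ∈ Cfsg.SU n F q := by
  rw [mem_SU_iff n bar hbar]
  intro u v
  exact herm_diagonal n bar _ (fun i => (mem_U1_iff bar hbar (d i)).1 (hd i)) u v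

/-- diagonal elements of `SU` -/
def dgSU (bar : F →+* F) (hbar : ∀ x, bar x = x ^ q) (d : Fin n → Fˣ) (hd : ∀ i, d i ∈ U1 F q)
    (hprod : ∏ i, d i = 1) : Cfsg.SU n F q :=
  ⟨dgSL n d hprod, dgSL_mem n bar hbar d hd hprod⟩

theorem dgSU_coe (d : Fin n → Fˣ) (hd : ∀ i, d i ∈ U1 F q) (hprod : ∏ i, d i = 1) :
    ((dgSU n bar hbar d hd hprod : Cfsg.SU n F q) : SpecialLinearGroup (Fin n) F).1
      = diagonal (fun i => (d i : F)) := rfl

/-- even permutation matrices in `SL` -/
def pmSL (σ : Equiv.Perm (Fin n)) (hσ : Equiv.Perm.sign σ = 1) : SpecialLinearGroup (Fin n) F :=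
  ⟨σ.permMatrix F, by rw [det_permutation, hσ]; simp⟩

include hbar in
theorem pmSL_mem (σ : Equiv.Perm (Fin n)) (hσ : Equiv.Perm.sign σ = 1) :
    (pmSL n σ hσ : SpecialLinearGroup (Fin n) F) ∈ Cfsg.SU n F q := by
  rw [mem_SU_iff n bar hbar]
  intro u v
  exact herm_perm n bar σ u v

/-- even permutation matrices in `SU` -/
def pmSU (bar : F →+* F) (hbar : ∀ x, bar x = x ^ q) (σ : Equiv.Perm (Fin n))
    (hσ : Equiv.Perm.sign σ = 1) : Cfsg.SU n F q :=
  ⟨pmSL n σ hσ, pmSL_mem n bar hbar σ hσ⟩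

theorem pmSU_coe (σ : Equiv.Perm (Fin n)) (hσ : Equiv.Perm.sign σ = 1) :
    ((pmSU n bar hbar σ hσ : Cfsg.SU n F q) : SpecialLinearGroup (Fin n) F).1 = σ.permMatrix F := rfl

theorem exists_third (hn : 3 ≤ n) (i j : Fin n) : ∃ k : Fin n, k ≠ i ∧ k ≠ j := by
  by_contra h
  push Not at h
  have : Fintype.card (Fin n) ≤ 2 := by
    calc Fintype.card (Fin n) = (Finset.univ : Finset (Fin n)).card := rfl
      _ ≤ ({i, j} : Finset (Fin n)).card := Finset.card_le_card (fun k _ => by
          by_cases hk : k = i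
          · simp [hk]
          · simp [h k hk])
      _ ≤ 2 := Finset.card_le_two
  rw [Fintype.card_fin] at this
  omega

include hbar in
theorem center_scalarSU (hn : 3 ≤ n) (u : Fˣ) (hu : u ∈ U1 F q) (hu1 : u ≠ 1)
    (z : Cfsg.SU n F q) (hz : z ∈ Subgroup.center (Cfsg.SU n F q)) :
    ∃ l : Fˣ, l ∈ U1 F q ∧
      ((z : SpecialLinearGroup (Fin n) F) : Matrix (Fin n) (Fin n) F) = diagonal (fun _ => (l : F)) := by
  rw [Subgroup.mem_center_iff] at hz
  set Z := ((z : SpecialLinearGroup (Fin n) F) : Matrix (Fin n) (Fin n) F) with hZ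
  have hcomm : ∀ g : Cfsg.SU n F q, ((g : SpecialLinearGroup (Fin n) F) : Matrix (Fin n) (Fin n) F) * Z
      = Z * ((g : SpecialLinearGroup (Fin n) F) : Matrix (Fin n) (Fin n) F) := by
    intro g
    have := congrArg (fun x : Cfsg.SU n F q =>
      ((x : SpecialLinearGroup (Fin n) F) : Matrix (Fin n) (Fin n) F)) (hz g)
    exact this
  have hoff : ∀ i j, j ≠ i → Z j i = 0 := by
    intro i j hji
    obtain ⟨k, hki, hkj⟩ := exists_third n hn i j
    let d : Fin n → Fˣ := fun x => if x = i then u else if x = k then u⁻¹ else 1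
    have hd : ∀ x, d x ∈ U1 F q := by
      intro x
      simp only [d]
      split_ifs
      · exact hu
      · exact Subgroup.inv_mem _ hu
      · exact Subgroup.one_mem _
    have hprod : ∏ x, d x = 1 := by
      rw [Finset.prod_eq_mul i k hki.symm]
      · simp [d, hki]
      · intro c _ hc
        simp [d, hc.1, hc.2]
      · intro h; exact absurd (Finset.mem_univ _) h
      · intro h; exact absurd (Finset.mem_univ _) h
    have h' := hcomm (dgSU n bar hbar d hd hprod)
    rw [dgSU_coe] at h'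
    have h2 := congrFun (congrFun h' j) i
    rw [diagonal_mul, mul_diagonal] at h2
    have e1 : d j = 1 := by simp [d, hji, hkj.symm]
    have e2 : d i = u := by simp [d]
    rw [e1, e2, Units.val_one, one_mul] at h2
    have hu' : (u : F) - 1 ≠ 0 := by
      intro h0
      apply hu1
      exact Units.ext (sub_eq_zero.1 h0)
    have : Z j i * ((u : F) - 1) = 0 := by linear_combination -h2
    exact (mul_eq_zero.1 this).resolve_right hu'
  have hdiag : ∀ i j, i ≠ j → Z i i = Z j j := by
    intro i j hij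
    obtain ⟨k, hki, hkj⟩ := exists_third n hn i j
    set σ : Equiv.Perm (Fin n) := Equiv.swap i j * Equiv.swap j k with hσdef
    have hσ : Equiv.Perm.sign σ = 1 := by
      rw [hσdef, Equiv.Perm.sign_mul, Equiv.Perm.sign_swap hij, Equiv.Perm.sign_swap hkj.symm]
      rfl
    have hσi : σ i = j := by
      rw [hσdef, Equiv.Perm.mul_apply, Equiv.swap_apply_of_ne_of_ne hij hki.symm, Equiv.swap_apply_left]
    have h' := hcomm (pmSU n bar hbar σ hσ)
    rw [pmSU_coe, PEquiv.toMatrix_toPEquiv_mul, PEquiv.mul_toMatrix_toPEquiv] at h'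
    have h2 := congrFun (congrFun h' i) j
    simp only [submatrix_apply, id] at h2
    rw [hσi] at h2
    have : σ.symm j = i := by rw [← hσi, Equiv.symm_apply_apply]
    rw [this] at h2
    exact h2.symm
  let i₀ : Fin n := ⟨0, by omega⟩
  have hZd : Z = diagonal (fun _ => Z i₀ i₀) := by
    ext a b
    by_cases hab : a = b
    · subst hab
      rw [diagonal_apply_eq]
      by_cases ha : a = i₀
      · rw [ha]
      · exact hdiag a i₀ ha
    · rw [diagonal_apply_ne _ hab]
      exact hoff b a hab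
  have hnorm : Z i₀ i₀ * bar (Z i₀ i₀) = 1 := by
    have h := (mem_SU_iff n bar hbar z.1).1 z.2 (Pi.single i₀ 1) (Pi.single i₀ 1)
    rw [← hZ, hZd] at h
    simp only [herm, mulVec_diagonal] at h
    simpa [Pi.single_apply] using h
  have hne : Z i₀ i₀ ≠ 0 := by
    intro h0
    rw [h0, zero_mul] at hnorm
    exact zero_ne_one hnorm
  refine ⟨Units.mk0 _ hne, ?_, ?_⟩
  · rw [mem_U1_iff bar hbar]
    exact hnorm
  · exact hZd

end


section
variable {F : Type*} [Field F] {q : ℕ} (n : ℕ) (bar : F →+* F) (hbar : ∀ x, bar x = x ^ q)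

/-- determinant into the norm-one group -/
def detU (bar : F →+* F) (hbar : ∀ x, bar x = x ^ q) : Cfsg.GU n F q →* U1 F q :=
  (Matrix.GeneralLinearGroup.det.comp (Cfsg.GU n F q).subtype).codRestrict (U1 F q) (fun g => by
    rw [mem_U1_iff bar hbar]
    exact det_mul_bar_det bar _ ((mem_GU_iff n bar hbar g.1).1 g.2))

theorem detU_coe (g : Cfsg.GU n F q) :
    ((detU n bar hbar g : U1 F q) : Fˣ) = Matrix.GeneralLinearGroup.det g.1 := rfl

theorem detU_surjective (hn : 1 ≤ n) : Function.Surjective (detU n bar hbar) := by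
  intro u
  let i₀ : Fin n := ⟨0, by omega⟩
  let dd : Fin n → Fˣ := Function.update (fun _ => 1) i₀ (u : Fˣ)
  have hdd : ∀ k, dd k ∈ U1 F q := by
    intro k
    by_cases hk : k = i₀
    · subst hk; simp [dd]
    · simp [dd, hk]
  refine ⟨⟨dgGL n dd, dgGL_mem n bar hbar dd hdd⟩, ?_⟩
  apply Subtype.ext
  rw [detU_coe, det_dgGL, Finset.prod_update_of_mem (Finset.mem_univ _)]
  simp

/-- an element of the kernel as an element of `SL` -/
def toSL (g : (detU n bar hbar).ker) : SpecialLinearGroup (Fin n) F :=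
  ⟨((g.1 : Cfsg.GU n F q) : GL (Fin n) F).1, by
    have h := g.2
    rw [MonoidHom.mem_ker] at h
    have h2 := congrArg (fun x : U1 F q => ((x : Fˣ) : F)) h
    exact h2⟩

theorem toSL_mem (g : (detU n bar hbar).ker) : toSL n bar hbar g ∈ Cfsg.SU n F q := by
  rw [mem_SU_iff n bar hbar]
  exact (mem_GU_iff n bar hbar g.1.1).1 g.1.2

/-- the kernel of `detU` is `SU` -/
def kerEquiv : (detU n bar hbar).ker ≃ Cfsg.SU n F q where
  toFun g := ⟨toSL n bar hbar g, toSL_mem n bar hbar g⟩
  invFun s := ⟨⟨Matrix.SpecialLinearGroup.toGL s.1, by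
      rw [mem_GU_iff n bar hbar]
      exact (mem_SU_iff n bar hbar s.1).1 s.2⟩, by
      rw [MonoidHom.mem_ker]
      apply Subtype.ext
      apply Units.ext
      rw [detU_coe]
      show (Matrix.SpecialLinearGroup.toGL s.1 : Matrix (Fin n) (Fin n) F).det = 1
      exact s.1.2⟩
  left_inv g := by
    apply Subtype.ext
    apply Subtype.ext
    apply Units.ext
    rfl
  right_inv s := by
    apply Subtype.ext
    apply Subtype.ext
    rfl

end

theorem card_U1 {F : Type*} [Field F] [Fintype F] {q : ℕ} (hF : Fintype.card F = q ^ 2) :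
    Nat.card (U1 F q) = q + 1 := by
  classical
  have hq : 2 ≤ q := by
    have := Fintype.one_lt_card (α := F)
    rw [hF] at this
    nlinarith
  rw [U1, IsCyclic.card_powMonoidHom_ker, Nat.card_eq_fintype_card, Fintype.card_units, hF]
  apply Nat.gcd_eq_right
  refine ⟨q - 1, ?_⟩
  obtain ⟨k, rfl⟩ : ∃ k, q = k + 1 := ⟨q - 1, by omega⟩
  simp only [Nat.add_sub_cancel]
  ring_nf
  omega

theorem card_GU_eq {F : Type*} [Field F] [Fintype F] {q : ℕ} (hF : Fintype.card F = q ^ 2) (n : ℕ)
    (hn : 1 ≤ n) : Nat.card (Cfsg.GU n F q) = (q + 1) * Nat.card (Cfsg.SU n F q) := by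
  obtain ⟨bar, hbar⟩ := exists_bar hF
  have h1 := Subgroup.card_mul_index (detU n bar hbar).ker
  rw [Subgroup.index_ker, MonoidHom.range_eq_top.2 (detU_surjective n bar hbar hn), Subgroup.card_top,
    card_U1 hF, Nat.card_congr (kerEquiv n bar hbar)] at h1
  rw [← h1, mul_comm]


section
variable {F : Type*} [Field F] {q : ℕ} (n : ℕ) (bar : F →+* F) (hbar : ∀ x, bar x = x ^ q)

/-- signed swap: permutation matrix of `swap i j` times `diag(-1 at i)` -/
def sswap (i j : Fin n) : Matrix (Fin n) (Fin n) F :=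
  (Equiv.swap i j).permMatrix F * diagonal (Function.update (fun _ => (1 : F)) i (-1))

theorem det_sswap (i j : Fin n) (hij : i ≠ j) : (sswap n i j : Matrix (Fin n) (Fin n) F).det = 1 := by
  rw [sswap, det_mul, det_permutation, Equiv.Perm.sign_swap hij, det_diagonal,
    Finset.prod_update_of_mem (Finset.mem_univ _)]
  simp

theorem herm_sswap (i j : Fin n) (u v : Fin n → F) :
    herm bar (sswap n i j *ᵥ u) (sswap n i j *ᵥ v) = herm bar u v := by
  rw [sswap, ← mulVec_mulVec, ← mulVec_mulVec, herm_perm, herm_diagonal]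
  intro k
  by_cases hk : k = i
  · subst hk; simp
  · simp [hk]

theorem sswap_apply (i j : Fin n) (hij : i ≠ j) : (sswap n i j : Matrix (Fin n) (Fin n) F) i j = 1 := by
  rw [sswap, mul_diagonal, Function.update_of_ne hij.symm, mul_one]
  simp [PEquiv.toMatrix_apply, Equiv.toPEquiv_apply]

/-- the signed swap in `SL` -/
def sswapSL (i j : Fin n) (hij : i ≠ j) : SpecialLinearGroup (Fin n) F :=
  ⟨sswap n i j, det_sswap n i j hij⟩

include hbar in
theorem sswapSL_mem (i j : Fin n) (hij : i ≠ j) :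
    (sswapSL n i j hij : SpecialLinearGroup (Fin n) F) ∈ Cfsg.SU n F q := by
  rw [mem_SU_iff n bar hbar]
  intro x y
  exact herm_sswap n bar i j x y

include hbar in
theorem center_scalar2 (hn : 2 ≤ n) (u : Fˣ) (hu : u ∈ U1 F q) (hu2 : u ^ 2 ≠ 1)
    (z : Cfsg.SU n F q) (hz : z ∈ Subgroup.center (Cfsg.SU n F q)) :
    ∃ l : Fˣ, l ∈ U1 F q ∧
      ((z : SpecialLinearGroup (Fin n) F) : Matrix (Fin n) (Fin n) F) = diagonal (fun _ => (l : F)) := by
  rw [Subgroup.mem_center_iff] at hz
  set Z := ((z : SpecialLinearGroup (Fin n) F) : Matrix (Fin n) (Fin n) F) with hZ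
  have hcomm : ∀ g : Cfsg.SU n F q, ((g : SpecialLinearGroup (Fin n) F) : Matrix (Fin n) (Fin n) F) * Z
      = Z * ((g : SpecialLinearGroup (Fin n) F) : Matrix (Fin n) (Fin n) F) := by
    intro g
    have := congrArg (fun x : Cfsg.SU n F q =>
      ((x : SpecialLinearGroup (Fin n) F) : Matrix (Fin n) (Fin n) F)) (hz g)
    exact this
  have hoff : ∀ i j, j ≠ i → Z j i = 0 := by
    intro i j hji
    let d : Fin n → Fˣ := fun x => if x = i then u else if x = j then u⁻¹ else 1
    have hd : ∀ x, d x ∈ U1 F q := by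
      intro x
      simp only [d]
      split_ifs
      · exact hu
      · exact Subgroup.inv_mem _ hu
      · exact Subgroup.one_mem _
    have hprod : ∏ x, d x = 1 := by
      rw [Finset.prod_eq_mul i j hji.symm]
      · simp [d, hji]
      · intro c _ hc
        simp [d, hc.1, hc.2]
      · intro h; exact absurd (Finset.mem_univ _) h
      · intro h; exact absurd (Finset.mem_univ _) h
    have h' := hcomm (dgSU n bar hbar d hd hprod)
    rw [dgSU_coe] at h'
    have h2 := congrFun (congrFun h' j) i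
    rw [diagonal_mul, mul_diagonal] at h2
    have e1 : d j = u⁻¹ := by simp [d, hji]
    have e2 : d i = u := by simp [d]
    rw [e1, e2] at h2
    have hu' : ((u⁻¹ : Fˣ) : F) - (u : F) ≠ 0 := by
      intro h0
      apply hu2
      have h3 : ((u⁻¹ : Fˣ) : F) = (u : F) := sub_eq_zero.1 h0
      have h4 : u⁻¹ = u := Units.ext h3
      rw [pow_two]
      calc u * u = u⁻¹ * u := by rw [h4]
        _ = 1 := inv_mul_cancel u
    have : Z j i * (((u⁻¹ : Fˣ) : F) - (u : F)) = 0 := by linear_combination h2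
    exact (mul_eq_zero.1 this).resolve_right hu'
  have hZdiag : ∀ a b, a ≠ b → Z a b = 0 := fun a b hab => hoff b a hab
  have hdiag : ∀ i j, i ≠ j → Z i i = Z j j := by
    intro i j hij
    have h' := hcomm ⟨sswapSL n i j hij, sswapSL_mem n bar hbar i j hij⟩
    have h2 := congrFun (congrFun h' i) j
    have e1 : ((sswap n i j : Matrix (Fin n) (Fin n) F) * Z) i j
        = (sswap n i j : Matrix (Fin n) (Fin n) F) i j * Z j j := by
      rw [Matrix.mul_apply, Finset.sum_eq_single j]
      · intro b _ hb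
        rw [hZdiag b j hb, mul_zero]
      · intro h; exact absurd (Finset.mem_univ _) h
    have e2 : (Z * (sswap n i j : Matrix (Fin n) (Fin n) F)) i j
        = Z i i * (sswap n i j : Matrix (Fin n) (Fin n) F) i j := by
      rw [Matrix.mul_apply, Finset.sum_eq_single i]
      · intro b _ hb
        rw [hZdiag i b hb.symm, zero_mul]
      · intro h; exact absurd (Finset.mem_univ _) h
    have h3 : ((sswap n i j : Matrix (Fin n) (Fin n) F) * Z) i j
        = (Z * (sswap n i j : Matrix (Fin n) (Fin n) F)) i j := h2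
    rw [e1, e2, sswap_apply n i j hij, one_mul, mul_one] at h3
    exact h3.symm
  let i₀ : Fin n := ⟨0, by omega⟩
  have hZd : Z = diagonal (fun _ => Z i₀ i₀) := by
    ext a b
    by_cases hab : a = b
    · subst hab
      rw [diagonal_apply_eq]
      by_cases ha : a = i₀
      · rw [ha]
      · exact hdiag a i₀ ha
    · rw [diagonal_apply_ne _ hab]
      exact hoff b a hab
  have hnorm : Z i₀ i₀ * bar (Z i₀ i₀) = 1 := by
    have h := (mem_SU_iff n bar hbar z.1).1 z.2 (Pi.single i₀ 1) (Pi.single i₀ 1)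
    rw [← hZ, hZd] at h
    simp only [herm, mulVec_diagonal] at h
    simpa [Pi.single_apply] using h
  have hne : Z i₀ i₀ ≠ 0 := by
    intro h0
    rw [h0, zero_mul] at hnorm
    exact zero_ne_one hnorm
  refine ⟨Units.mk0 _ hne, ?_, ?_⟩
  · rw [mem_U1_iff bar hbar]
    exact hnorm
  · exact hZd

end

theorem card_center_SU {F : Type*} [Field F] [Fintype F] {q : ℕ} (hF : Fintype.card F = q ^ 2) (n : ℕ)
    (hn : 2 ≤ n) : Nat.card (Subgroup.center (Cfsg.SU n F q)) = Nat.gcd n (q + 1) := by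
  classical
  obtain ⟨bar, hbar⟩ := exists_bar hF
  have hq : 2 ≤ q := by
    have := Fintype.one_lt_card (α := F)
    rw [hF] at this
    nlinarith
  have hcardU : Nat.card (U1 F q) = q + 1 := card_U1 hF
  let K : Subgroup (U1 F q) := (powMonoidHom n : U1 F q →* U1 F q).ker
  have hcardK : Nat.card K = Nat.gcd n (q + 1) := by
    rw [IsCyclic.card_powMonoidHom_ker, hcardU, Nat.gcd_comm]
  rw [← hcardK]
  obtain ⟨u, hu⟩ := IsCyclic.exists_generator (α := U1 F q)
  have hu2 : (u : Fˣ) ^ 2 ≠ 1 := by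
    intro h
    have h1 : u ^ 2 = 1 := Subtype.ext h
    have h2 := orderOf_dvd_of_pow_eq_one h1
    rw [orderOf_eq_card_of_forall_mem_zpowers hu, hcardU] at h2
    have := Nat.le_of_dvd (by norm_num) h2
    omega
  let i₀ : Fin n := ⟨0, by omega⟩
  have hK : ∀ v : K, ∏ _i : Fin n, ((v : U1 F q) : Fˣ) = 1 := by
    intro v
    rw [Finset.prod_const, Finset.card_univ, Fintype.card_fin]
    have h1 : (v : U1 F q) ^ n = 1 := v.2
    have h2 := congrArg (fun x : U1 F q => (x : Fˣ)) h1
    exact h2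
  let sc : K → Cfsg.SU n F q := fun v =>
    dgSU n bar hbar (fun _ => ((v : U1 F q) : Fˣ)) (fun _ => (v : U1 F q).2) (hK v)
  have hsc_coe : ∀ v : K, ((sc v : SpecialLinearGroup (Fin n) F) : Matrix (Fin n) (Fin n) F)
      = diagonal (fun _ => (((v : U1 F q) : Fˣ) : F)) := fun v => rfl
  have hsc_center : ∀ v : K, sc v ∈ Subgroup.center (Cfsg.SU n F q) := by
    intro v
    rw [Subgroup.mem_center_iff]
    intro g
    apply Subtype.ext
    apply Subtype.ext
    show (g.1 : Matrix (Fin n) (Fin n) F) * diagonal (fun _ => (((v : U1 F q) : Fˣ) : F))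
      = diagonal (fun _ => (((v : U1 F q) : Fˣ) : F)) * (g.1 : Matrix (Fin n) (Fin n) F)
    ext a b
    rw [mul_diagonal, diagonal_mul, mul_comm]
  symm
  apply Nat.card_congr
  refine Equiv.ofBijective (fun v => (⟨sc v, hsc_center v⟩ : Subgroup.center (Cfsg.SU n F q))) ⟨?_, ?_⟩
  · intro v w h
    have h1 : ((sc v : SpecialLinearGroup (Fin n) F) : Matrix (Fin n) (Fin n) F)
        = ((sc w : SpecialLinearGroup (Fin n) F) : Matrix (Fin n) (Fin n) F) := by
      have := congrArg (fun x : Subgroup.center (Cfsg.SU n F q) =>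
        (((x : Cfsg.SU n F q) : SpecialLinearGroup (Fin n) F) : Matrix (Fin n) (Fin n) F)) h
      exact this
    rw [hsc_coe, hsc_coe] at h1
    have h2 := congrFun (congrFun h1 i₀) i₀
    rw [diagonal_apply_eq, diagonal_apply_eq] at h2
    exact Subtype.ext (Subtype.ext (Units.ext h2))
  · rintro ⟨z, hz⟩
    obtain ⟨l, hl, hzl⟩ := center_scalar2 n bar hbar hn (u : Fˣ) u.2 hu2 z hz
    have hln : (⟨l, hl⟩ : U1 F q) ^ n = 1 := by
      apply Subtype.ext
      apply Units.ext
      show (l : F) ^ n = 1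
      have hdet := z.1.2
      rw [hzl, det_diagonal, Finset.prod_const, Finset.card_univ, Fintype.card_fin] at hdet
      exact hdet
    refine ⟨⟨⟨l, hl⟩, hln⟩, ?_⟩
    apply Subtype.ext
    apply Subtype.ext
    apply Subtype.ext
    show diagonal (fun _ => (l : F)) = _
    exact hzl.symm


end Cfsg.Agent.Helper45.GU
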