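import Mathlib
import Cfsg.Prelude.Def_ClassicalGeometry
import Cfsg.Agent.Helper44.EichlerOmega
import Cfsg.Agent.Helper45.NonsingMax2

/-!
# Maximality of the stabiliser of a totally singular subspace in `Ω`

`eDir Q M`: the singular vectors `u` all of whose Eichler transformations `E(u,w)`, `w ∈ u^⊥`, lie
in the subgroup `M`.  If `M` contains the stabiliser in `Ω` of a totally singular `W`, then
`W ⊆ eDir Q M`; `eDir Q M` is `M`-invariant; two non-orthogonal members force every singular vector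
into `eDir Q M`, hence `Ω ≤ M` as `Ω` is generated by the Eichler transformations
(`Helper44.Omega_eq_eichlerGroup`).
-/

set_option autoImplicit false

namespace Cfsg.Agent.Helper45.OmegaParity

open Matrix QuadraticMap Module Cfsg.Agent.Helper44

variable {F : Type*} [Field F] {ι : Type} [Fintype ι] [DecidableEq ι]
variable (Q : QuadraticForm F (ι → F))

/-- the Eichler directions of a subgroup -/
def eDir (M : Subgroup (Cfsg.isometryGroup F ⇑Q)) : Set (ι → F) :=
  {u | Q u = 0 ∧ ∀ w : ι → F, polar ⇑Q u w = 0 → Helper5.eichlerO Q u w ∈ M}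

variable {Q}

theorem eDir_zero (M : Subgroup (Cfsg.isometryGroup F ⇑Q)) : (0 : ι → F) ∈ eDir Q M := by
  refine ⟨map_zero _, fun w _ => ?_⟩
  have h1 : Helper5.eichlerO Q 0 w = 1 := by
    apply Helper5.isom_ext
    intro x
    rw [Helper5.lin_eichlerO Q (map_zero _) (QuadraticMap.polar_zero_left _ _),
      Helper5.lin_one_apply]
    simp
  rw [h1]
  exact M.one_mem

theorem eDir_smul {M : Subgroup (Cfsg.isometryGroup F ⇑Q)} {u : ι → F} (hu : u ∈ eDir Q M)
    (c : F) : c • u ∈ eDir Q M := by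
  refine ⟨by rw [QuadraticMap.map_smul, hu.1, smul_zero], fun w hw => ?_⟩
  by_cases hc : c = 0
  · subst hc
    rw [zero_smul]
    exact (eDir_zero M).2 w (QuadraticMap.polar_zero_left _ _)
  · have huw : polar ⇑Q u w = 0 := by
      rw [QuadraticMap.polar_smul_left, smul_eq_mul] at hw
      exact (mul_eq_zero.1 hw).resolve_left hc
    rw [Helper5.eichlerO_smul_left Q hu.1 huw c]
    exact hu.2 _ (by rw [QuadraticMap.polar_smul_right, huw, smul_zero])

theorem eDir_map {M : Subgroup (Cfsg.isometryGroup F ⇑Q)} {u : ι → F} (hu : u ∈ eDir Q M)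
    {g : Cfsg.isometryGroup F ⇑Q} (hg : g ∈ M) : lin Q g u ∈ eDir Q M := by
  refine ⟨by rw [lin_isometry]; exact hu.1, fun w hw => ?_⟩
  have h1 : polar ⇑Q u (lin Q g⁻¹ w) = 0 := by
    rw [← polar_lin Q g, lin_lin_inv]
    exact hw
  have h2 := Helper5.eichlerO_conj Q g hu.1 h1
  rw [lin_lin_inv] at h2
  rw [← h2]
  exact M.mul_mem (M.mul_mem hg (hu.2 _ h1)) (M.inv_mem hg)

/-- the Eichler transformations `E(u,·)` are transitive on the singular vectors with a given
non-zero polar value against `u` -/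
theorem eichler_move {u u' y : ι → F} (hu : Q u = 0) (hu' : Q u' = 0) (hy : Q y = 0)
    (hb : polar ⇑Q u u' ≠ 0) (hby : polar ⇑Q u y = polar ⇑Q u u') :
    polar ⇑Q u ((polar ⇑Q u u')⁻¹ • (u' - y)) = 0 ∧
      lin Q (Helper5.eichlerO Q u ((polar ⇑Q u u')⁻¹ • (u' - y))) u' = y := by
  have h0 : polar ⇑Q u ((polar ⇑Q u u')⁻¹ • (u' - y)) = 0 := by
    rw [QuadraticMap.polar_smul_right, QuadraticMap.polar_sub_right, hby, sub_self, smul_zero]
  refine ⟨h0, ?_⟩
  rw [Helper5.lin_eichlerO Q hu h0]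
  set b := polar ⇑Q u u' with hbdef
  have hu'u' : polar ⇑Q u' u' = 0 := by rw [QuadraticMap.polar_self, hu', smul_zero]
  have hQd : Q (u' - y) = - polar ⇑Q u' y := by
    have h3 : u' - y = u' + (-y) := sub_eq_add_neg u' y
    rw [h3, QuadraticMap.map_add ⇑Q, QuadraticMap.map_neg, QuadraticMap.polar_neg_right, hu', hy]
    ring
  have e1 : polar ⇑Q (b⁻¹ • (u' - y)) u' = -(b⁻¹ * polar ⇑Q u' y) := by
    rw [QuadraticMap.polar_smul_left, QuadraticMap.polar_sub_left, hu'u',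
      QuadraticMap.polar_comm ⇑Q y u', smul_eq_mul]
    ring
  have e2 : Q (b⁻¹ • (u' - y)) * b = -(b⁻¹ * polar ⇑Q u' y) := by
    rw [QuadraticMap.map_smul, hQd, smul_eq_mul]
    field_simp
  have e3 : b • (b⁻¹ • (u' - y)) = u' - y := by
    rw [smul_smul, mul_inv_cancel₀ hb, one_smul]
  rw [e1, e2, e3]
  module

/-- **key step**: two non-orthogonal Eichler directions `u, u'` force every singular `y` not
orthogonal to `u` to be an Eichler direction -/
theorem eDir_of_polar_ne {M : Subgroup (Cfsg.isometryGroup F ⇑Q)} {u u' y : ι → F}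
    (hu : u ∈ eDir Q M) (hu' : u' ∈ eDir Q M) (hb : polar ⇑Q u u' ≠ 0) (hy : Q y = 0)
    (hc : polar ⇑Q u y ≠ 0) : y ∈ eDir Q M := by
  have hy' : Q ((polar ⇑Q u u' / polar ⇑Q u y) • y) = 0 := by
    rw [QuadraticMap.map_smul, hy, smul_zero]
  have hby : polar ⇑Q u ((polar ⇑Q u u' / polar ⇑Q u y) • y) = polar ⇑Q u u' := by
    rw [QuadraticMap.polar_smul_right, smul_eq_mul, div_mul_cancel₀ _ hc]
  obtain ⟨h0, h1⟩ := eichler_move hu.1 hu'.1 hy' hb hby
  have h2 : (polar ⇑Q u u' / polar ⇑Q u y) • y ∈ eDir Q M := by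
    rw [← h1]
    exact eDir_map hu' (hu.2 _ h0)
  have h3 := eDir_smul h2 (polar ⇑Q u y / polar ⇑Q u u')
  have h4 : polar ⇑Q u y / polar ⇑Q u u' * (polar ⇑Q u u' / polar ⇑Q u y) = 1 := by
    field_simp
  rwa [smul_smul, h4, one_smul] at h3

/-- two non-orthogonal Eichler directions force all singular vectors to be Eichler directions -/
theorem eDir_all (hQ : (QuadraticMap.polarBilin Q).Nondegenerate)
    {M : Subgroup (Cfsg.isometryGroup F ⇑Q)} {u u' : ι → F}
    (hu : u ∈ eDir Q M) (hu' : u' ∈ eDir Q M) (hb : polar ⇑Q u u' ≠ 0) (z : ι → F)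
    (hz : Q z = 0) : z ∈ eDir Q M := by
  by_cases hz0 : z = 0
  · rw [hz0]; exact eDir_zero M
  by_cases huz : polar ⇑Q u z ≠ 0
  · exact eDir_of_polar_ne hu hu' hb hz huz
  push Not at huz
  have hu0 : u ≠ 0 := by
    rintro rfl
    exact hb (QuadraticMap.polar_zero_left _ _)
  obtain ⟨y₁, hy₁, huy₁⟩ := exists_hyp_partner Q hQ u hu0 hu.1
  obtain ⟨y₂, hy₂, hzy₂⟩ := exists_hyp_partner Q hQ z hz0 hz
  obtain ⟨y, hy, huy, hzy⟩ : ∃ y : ι → F, Q y = 0 ∧ polar ⇑Q u y ≠ 0 ∧ polar ⇑Q z y ≠ 0 := by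
    by_cases h1 : polar ⇑Q z y₁ ≠ 0
    · exact ⟨y₁, hy₁, by rw [huy₁]; exact one_ne_zero, h1⟩
    push Not at h1
    by_cases h2 : polar ⇑Q u y₂ ≠ 0
    · exact ⟨y₂, hy₂, h2, by rw [hzy₂]; exact one_ne_zero⟩
    push Not at h2
    have huu : polar ⇑Q u u = 0 := by rw [QuadraticMap.polar_self, hu.1, smul_zero]
    refine ⟨y₁ + y₂ + (-polar ⇑Q y₁ y₂) • u, ?_, ?_, ?_⟩
    · rw [QuadraticMap.map_add ⇑Q, QuadraticMap.map_add ⇑Q, QuadraticMap.map_smul, hy₁, hy₂,
        hu.1, QuadraticMap.polar_smul_right, QuadraticMap.polar_add_left,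
        QuadraticMap.polar_comm ⇑Q y₁ u, QuadraticMap.polar_comm ⇑Q y₂ u, huy₁, h2, smul_eq_mul,
        smul_eq_mul]
      ring
    · rw [QuadraticMap.polar_add_right, QuadraticMap.polar_add_right,
        QuadraticMap.polar_smul_right, huy₁, h2, huu, smul_zero, add_zero, add_zero]
      exact one_ne_zero
    · rw [QuadraticMap.polar_add_right, QuadraticMap.polar_add_right,
        QuadraticMap.polar_smul_right, h1, hzy₂, QuadraticMap.polar_comm ⇑Q z u, huz, smul_zero,
        add_zero, zero_add]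
      exact one_ne_zero
  have hyD : y ∈ eDir Q M := eDir_of_polar_ne hu hu' hb hy huy
  exact eDir_of_polar_ne hyD hu (by rw [QuadraticMap.polar_comm]; exact huy) hz
    (by rw [QuadraticMap.polar_comm]; exact hzy)

theorem Omega_le_of_eDir_all [Fintype F] (hQ : (QuadraticMap.polarBilin Q).Nondegenerate)
    (hn : 6 ≤ Fintype.card ι) {M : Subgroup (Cfsg.isometryGroup F ⇑Q)}
    (h : ∀ z : ι → F, Q z = 0 → z ∈ eDir Q M) : Cfsg.Omega F ⇑Q ≤ M := by
  rw [Omega_eq_eichlerGroup Q hQ hn]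
  unfold Helper5.eichlerGroup
  rw [Subgroup.closure_le]
  rintro g ⟨u, w, hu, huw, rfl⟩
  exact (h u hu).2 w huw

theorem polar_eq_zero_of_ts {W : Submodule F (ι → F)} (hW : ∀ w ∈ W, Q w = 0) {u x : ι → F}
    (hu : u ∈ W) (hx : x ∈ W) : polar ⇑Q u x = 0 := by
  unfold QuadraticMap.polar
  rw [hW _ (W.add_mem hu hx), hW u hu, hW x hx]
  ring

/-- the totally singular subspace consists of Eichler directions of any overgroup of its
stabiliser in `Ω` -/
theorem le_eDir [Fintype F] (hQ : (QuadraticMap.polarBilin Q).Nondegenerate)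
    (hn : 5 ≤ Fintype.card ι) (W : Submodule F (ι → F)) (hW : ∀ w ∈ W, Q w = 0)
    {M : Subgroup (Cfsg.isometryGroup F ⇑Q)} (hP : stab Q W ⊓ Cfsg.Omega F ⇑Q ≤ M)
    {u : ι → F} (hu : u ∈ W) : u ∈ eDir Q M := by
  refine ⟨hW u hu, fun w huw => hP ⟨?_, eichlerO_mem_Omega Q hQ hn u w⟩⟩
  apply mem_stab_of_forall
  intro x hx
  rw [Helper5.lin_eichlerO Q (hW u hu) huw, polar_eq_zero_of_ts hW hu hx, zero_smul, mul_zero,
    zero_smul, sub_zero, sub_zero]
  exact W.add_mem hx (W.smul_mem _ hu)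

end Cfsg.Agent.Helper45.OmegaParity
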