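import Mathlib
import Cfsg.Prelude.Def_ClassicalGeometry
import Cfsg.Prelude.Def_GeometricClasses
import Cfsg.Agent.Helper45.TsMax

/-!
# Maximality of the stabiliser of a totally singular subspace in `Ω`: assembly

* `Omega_le_of_ts_stab_lt`: core statement in the isometry group.
* `ts_stab_isMaximalIn`: the statement in the `Cfsg.Geo` vocabulary, under the hypothesis `hext`
  that a totally singular subspace properly containing `W` forces `2 (dim W + 1) < n`.
-/

set_option autoImplicit false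

namespace Cfsg.Agent.Helper45.OmegaParity

open Matrix QuadraticMap Module Cfsg.Agent.Helper44

variable {F : Type*} [Field F] {ι : Type} [Fintype ι] [DecidableEq ι]
variable (Q : QuadraticForm F (ι → F))

/-- **Maximality, core form**: a subgroup `M ≤ Ω` containing the stabiliser in `Ω` of the totally
singular subspace `W` and an element not stabilising `W` contains `Ω`. -/
theorem Omega_le_of_ts_stab_lt [Fintype F] (hQ : (QuadraticMap.polarBilin Q).Nondegenerate)
    (hn : 6 ≤ Fintype.card ι) (W : Submodule F (ι → F)) (hW : ∀ w ∈ W, Q w = 0)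
    (hext : ∀ x : ι → F, Q x = 0 → x ∉ W → (∀ u ∈ W, polar ⇑Q u x = 0) →
      2 * (finrank F W + 1) < Fintype.card ι)
    (M : Subgroup (Cfsg.isometryGroup F ⇑Q)) (hP : stab Q W ⊓ Cfsg.Omega F ⇑Q ≤ M)
    (g : Cfsg.isometryGroup F ⇑Q) (hg : g ∈ M) (hgW : g ∉ stab Q W) :
    Cfsg.Omega F ⇑Q ≤ M := by
  have hWD : ∀ u ∈ W, u ∈ eDir Q M := fun u hu => le_eDir hQ (by omega) W hW hP hu
  obtain ⟨x, hxD, hxW⟩ : ∃ x ∈ eDir Q M, x ∉ W := by
    by_contra hcon
    push Not at hcon
    apply hgW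
    apply mem_stab_of_forall
    intro x hx
    exact hcon _ (eDir_map (hWD x hx) hg)
  obtain ⟨u, u', hu, hu', hb⟩ : ∃ u u' : ι → F, u ∈ eDir Q M ∧ u' ∈ eDir Q M ∧
      polar ⇑Q u u' ≠ 0 := by
    by_cases hA : ∃ u ∈ W, polar ⇑Q u x ≠ 0
    · obtain ⟨u, huW, hux⟩ := hA
      exact ⟨u, x, hWD u huW, hxD, hux⟩
    push Not at hA
    have hk := hext x hxD.1 hxW hA
    obtain ⟨y₀, hy₀W, hy₀x⟩ : ∃ y₀ : ι → F, (∀ u ∈ W, polar ⇑Q u y₀ = 0) ∧
        polar ⇑Q y₀ x ≠ 0 := by
      by_contra hcon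
      push Not at hcon
      apply hxW
      have h1 : x ∈ LinearMap.BilinForm.orthogonal (QuadraticMap.polarBilin Q)
          (LinearMap.BilinForm.orthogonal (QuadraticMap.polarBilin Q) W) := by
        rw [LinearMap.BilinForm.mem_orthogonal_iff]
        intro y₀ hy₀
        rw [LinearMap.BilinForm.mem_orthogonal_iff] at hy₀
        show QuadraticMap.polarBilin Q y₀ x = 0
        rw [QuadraticMap.polarBilin_apply_apply]
        apply hcon y₀
        intro u hu
        have := hy₀ u hu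
        rw [QuadraticMap.polarBilin_apply_apply] at this
        exact this
      rwa [LinearMap.BilinForm.orthogonal_orthogonal hQ (polarBilin_isRefl Q)] at h1
    set c : F := Q y₀ / polar ⇑Q y₀ x with hc
    have hxx : polar ⇑Q x x = 0 := by rw [QuadraticMap.polar_self, hxD.1, smul_zero]
    have hyQ : Q (y₀ + (-c) • x) = 0 := by
      rw [QuadraticMap.map_add ⇑Q, QuadraticMap.map_smul, hxD.1, QuadraticMap.polar_smul_right,
        smul_eq_mul, smul_eq_mul, hc]
      field_simp
      ring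
    have hyx : polar ⇑Q (y₀ + (-c) • x) x = polar ⇑Q y₀ x := by
      rw [QuadraticMap.polar_add_left, QuadraticMap.polar_smul_left, hxx, smul_zero, add_zero]
    have hyW : ∀ u ∈ W, polar ⇑Q u (y₀ + (-c) • x) = 0 := by
      intro u hu
      rw [QuadraticMap.polar_add_right, QuadraticMap.polar_smul_right, hy₀W u hu, hA u hu,
        smul_zero, add_zero]
    set y : ι → F := y₀ + (-c) • x with hy
    have hUd : finrank F (W ⊔ Submodule.span F {y} : Submodule F (ι → F)) ≤ finrank F W + 1 := by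
      have h1 : finrank F (W ⊔ Submodule.span F {y} : Submodule F (ι → F)) ≤
          finrank F W + finrank F (Submodule.span F {y}) :=
        Submodule.finrank_add_le_finrank_add_finrank W (Submodule.span F {y})
      have h3 := finrank_span_one_le (F := F) y
      omega
    obtain ⟨z, hz, hzU⟩ := exists_nonsingular_orth Q hQ (W ⊔ Submodule.span F {y}) (by omega)
    have hzy : polar ⇑Q y z = 0 := by
      rw [QuadraticMap.polar_comm]
      exact hzU y (Submodule.mem_sup_right (Submodule.mem_span_singleton_self y))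
    have hzW : ∀ u ∈ W, polar ⇑Q z u = 0 := fun u hu => hzU u (Submodule.mem_sup_left hu)
    have hg₁ : Helper5.eichlerO Q y z ∈ M := by
      refine hP ⟨?_, eichlerO_mem_Omega Q hQ (by omega) y z⟩
      apply mem_stab_of_forall
      intro x' hx'
      rw [Helper5.lin_eichlerO Q hyQ hzy, hzW x' hx', QuadraticMap.polar_comm ⇑Q y x',
        hyW x' hx']
      simp only [zero_smul, mul_zero, sub_zero, add_zero]
      exact hx'
    refine ⟨x, lin Q (Helper5.eichlerO Q y z) x, hxD, eDir_map hxD hg₁, ?_⟩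
    rw [Helper5.lin_eichlerO Q hyQ hzy]
    rw [QuadraticMap.polar_sub_right, QuadraticMap.polar_sub_right, QuadraticMap.polar_add_right,
      QuadraticMap.polar_smul_right, QuadraticMap.polar_smul_right, QuadraticMap.polar_smul_right,
      hxx, QuadraticMap.polar_comm ⇑Q x y, QuadraticMap.polar_comm ⇑Q x z, hyx]
    simp only [smul_eq_mul]
    have h5 : 0 + polar ⇑Q z x * polar ⇑Q y₀ x - polar ⇑Q y₀ x * polar ⇑Q z x -
        Q z * polar ⇑Q y₀ x * polar ⇑Q y₀ x = -(Q z * polar ⇑Q y₀ x * polar ⇑Q y₀ x) := by ring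
    rw [h5]
    exact neg_ne_zero.2 (mul_ne_zero (mul_ne_zero hz hy₀x) hy₀x)
  exact Omega_le_of_eDir_all hQ hn (eDir_all hQ hu hu' hb)

/-- some element of `Ω` does not stabilise a given non-zero totally singular subspace -/
theorem exists_Omega_not_stab [Fintype F] (hQ : (QuadraticMap.polarBilin Q).Nondegenerate)
    (hn : 5 ≤ Fintype.card ι) (W : Submodule F (ι → F)) (hW : ∀ w ∈ W, Q w = 0) (hW0 : W ≠ ⊥) :
    ∃ g ∈ Cfsg.Omega F ⇑Q, g ∉ stab Q W := by
  obtain ⟨u, huW, hu0⟩ := Submodule.exists_mem_ne_zero_of_ne_bot hW0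
  obtain ⟨u', hu', huu'⟩ := exists_hyp_partner Q hQ u hu0 (hW u huW)
  obtain ⟨w, hw, hwU⟩ := exists_nonsingular_orth Q hQ (Submodule.span F {u, u'})
    (by have := finrank_span_two_le (F := F) u u'; omega)
  have hwu : polar ⇑Q w u = 0 := hwU u (Submodule.subset_span (by simp))
  have hwu' : polar ⇑Q w u' = 0 := hwU u' (Submodule.subset_span (by simp))
  have hu'w : polar ⇑Q u' w = 0 := by rw [QuadraticMap.polar_comm]; exact hwu'
  refine ⟨Helper5.eichlerO Q u' w, eichlerO_mem_Omega Q hQ hn u' w, fun hst => ?_⟩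
  have h1 : lin Q (Helper5.eichlerO Q u' w) u ∈ W := by
    have h2 : lin Q (Helper5.eichlerO Q u' w) u ∈ W.map (lin Q (Helper5.eichlerO Q u' w)) :=
      Submodule.mem_map_of_mem huW
    rwa [(mem_stab Q W _).1 hst] at h2
  have h3 := polar_eq_zero_of_ts hW huW h1
  have huu : polar ⇑Q u u = 0 := by rw [QuadraticMap.polar_self, hW u huW, smul_zero]
  rw [Helper5.lin_eichlerO Q hu' hu'w, QuadraticMap.polar_sub_right, QuadraticMap.polar_sub_right,
    QuadraticMap.polar_add_right, QuadraticMap.polar_smul_right, QuadraticMap.polar_smul_right,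
    QuadraticMap.polar_smul_right, huu, huu', hwu, QuadraticMap.polar_comm ⇑Q u w, hwu,
    QuadraticMap.polar_comm ⇑Q u' u, huu'] at h3
  simp only [smul_eq_mul, mul_one, zero_mul, mul_zero, add_zero, sub_zero, zero_sub,
    neg_eq_zero] at h3
  exact hw h3

/-- membership in the `Geo` stabiliser versus `stab` -/
theorem mem_subspaceStabilizer_iff_stab (g : Cfsg.isometryGroup F ⇑Q) (W : Submodule F (ι → F)) :
    (g : Matrix.GeneralLinearGroup ι F) ∈ Cfsg.Geo.subspaceStabilizer W ↔ g ∈ stab Q W := by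
  constructor
  · intro hg
    apply mem_stab_of_forall
    intro x hx
    exact (hg x).1 hx
  · intro hg x
    show x ∈ W ↔ lin Q g x ∈ W
    rw [mem_stab] at hg
    constructor
    · intro hx
      rw [← hg]
      exact Submodule.mem_map_of_mem hx
    · intro hx
      rw [← hg] at hx
      obtain ⟨x', hx', hxx'⟩ := hx
      rw [← lin_injective Q g hxx']
      exact hx'

/-- **Maximality of the stabiliser of a totally singular subspace**, `Cfsg.Geo` vocabulary, for a
Mathlib quadratic form. -/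
theorem ts_stab_isMaximalIn_aux [Fintype F] (hQ : (QuadraticMap.polarBilin Q).Nondegenerate)
    (hn : 6 ≤ Fintype.card ι) (W : Submodule F (ι → F)) (hW0 : W ≠ ⊥) (hW : ∀ w ∈ W, Q w = 0)
    (hext : ∀ x : ι → F, Q x = 0 → x ∉ W → (∀ u ∈ W, polar ⇑Q u x = 0) →
      2 * (finrank F W + 1) < Fintype.card ι) :
    Cfsg.Geo.IsMaximalIn (Cfsg.Geo.omegaGL ⇑Q)
      (Cfsg.Geo.subspaceStabilizer W ⊓ Cfsg.Geo.omegaGL ⇑Q) := by
  refine ⟨lt_of_le_of_ne inf_le_right ?_, ?_⟩
  · intro heq
    obtain ⟨g, hg, hgW⟩ := exists_Omega_not_stab Q hQ (by omega) W hW hW0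
    have h1 : (g : Matrix.GeneralLinearGroup ι F) ∈ Cfsg.Geo.omegaGL ⇑Q := ⟨g, hg, rfl⟩
    rw [← heq] at h1
    exact hgW ((mem_subspaceStabilizer_iff_stab Q g W).1 h1.1)
  · intro M' hHM hMΩ
    by_cases hle : M' ≤ Cfsg.Geo.subspaceStabilizer W ⊓ Cfsg.Geo.omegaGL ⇑Q
    · left
      exact le_antisymm hle hHM
    · right
      obtain ⟨g, hgM, hgH⟩ := SetLike.not_le_iff_exists.1 hle
      obtain ⟨g', hg'Ω, rfl⟩ := hMΩ hgM
      have hP : stab Q W ⊓ Cfsg.Omega F ⇑Q ≤ M'.comap (Cfsg.isometryGroup F ⇑Q).subtype := by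
        rintro ω ⟨hω1, hω2⟩
        exact Subgroup.mem_comap.2
          (hHM ⟨(mem_subspaceStabilizer_iff_stab Q ω W).2 hω1, ⟨ω, hω2, rfl⟩⟩)
      have hg'W : g' ∉ stab Q W := by
        intro h
        exact hgH ⟨(mem_subspaceStabilizer_iff_stab Q g' W).2 h, ⟨g', hg'Ω, rfl⟩⟩
      have hfin := Omega_le_of_ts_stab_lt Q hQ hn W hW hext _ hP g' (Subgroup.mem_comap.2 hgM)
        hg'W
      apply le_antisymm hMΩ
      rintro _ ⟨ω, hω, rfl⟩
      exact Subgroup.mem_comap.1 (hfin hω)

/-- a singular vector orthogonal to but outside a totally singular `W` gives a larger totally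
singular subspace -/
theorem exists_ts_extension (W : Submodule F (ι → F)) (hW : ∀ w ∈ W, Q w = 0) (x : ι → F)
    (hx : Q x = 0) (hxW : x ∉ W) (hor : ∀ u ∈ W, polar ⇑Q u x = 0) :
    ∃ W' : Submodule F (ι → F), (∀ w ∈ W', Q w = 0) ∧ finrank F W + 1 ≤ finrank F W' := by
  refine ⟨W ⊔ Submodule.span F {x}, ?_, ?_⟩
  · intro w hw
    obtain ⟨a, ha, b, hb, rfl⟩ := Submodule.mem_sup.1 hw
    obtain ⟨c, rfl⟩ := Submodule.mem_span_singleton.1 hb
    rw [QuadraticMap.map_add ⇑Q, hW a ha, QuadraticMap.map_smul, hx,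
      QuadraticMap.polar_smul_right, hor a ha]
    simp
  · have hlt : W < W ⊔ Submodule.span F {x} := by
      refine lt_of_le_of_ne le_sup_left ?_
      intro heq
      apply hxW
      rw [heq]
      exact Submodule.mem_sup_right (Submodule.mem_span_singleton_self x)
    exact Submodule.finrank_lt_finrank_of_lt hlt

/-- a totally singular subspace has dimension at most half the dimension of the space -/
theorem ts_two_mul_finrank_le (hQ : (QuadraticMap.polarBilin Q).Nondegenerate)
    (W' : Submodule F (ι → F)) (hW' : ∀ w ∈ W', Q w = 0) :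
    2 * finrank F W' ≤ Fintype.card ι := by
  have h1 := Submodule.finrank_mono (ts_le_orthogonal Q W' hW')
  have h2 := LinearMap.BilinForm.finrank_orthogonal hQ W'
  rw [Module.finrank_fintype_fun_eq_card] at h2
  have h3 := Submodule.finrank_le W'
  rw [Module.finrank_fintype_fun_eq_card] at h3
  omega

/-- the same, for a functional quadratic form -/
theorem geo_ts_two_mul_finrank_le (Qf : (ι → F) → F)
    (hQf : Cfsg.Geo.IsNondegenerateQuadraticForm Qf) (W' : Submodule F (ι → F))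
    (hW' : Cfsg.Geo.IsTotallySingularQuad Qf W') : 2 * finrank F W' ≤ Fintype.card ι := by
  obtain ⟨Q, hQcoe⟩ : ∃ Q : QuadraticForm F (ι → F), ⇑Q = Qf := ⟨qfOfGeo Qf hQf, rfl⟩
  subst hQcoe
  exact ts_two_mul_finrank_le Q (nondeg_of_geo Q hQf) W' hW'

/-- the same, for a functional quadratic form -/
theorem ts_stab_isMaximalIn [Fintype F] (Qf : (ι → F) → F)
    (hQf : Cfsg.Geo.IsNondegenerateQuadraticForm Qf) (hn : 6 ≤ Fintype.card ι)
    (W : Submodule F (ι → F)) (hW0 : W ≠ ⊥) (hW : Cfsg.Geo.IsTotallySingularQuad Qf W)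
    (hext : ∀ W' : Submodule F (ι → F), Cfsg.Geo.IsTotallySingularQuad Qf W' →
      finrank F W + 1 ≤ finrank F W' → 2 * (finrank F W + 1) < Fintype.card ι) :
    Cfsg.Geo.IsMaximalIn (Cfsg.Geo.omegaGL Qf)
      (Cfsg.Geo.subspaceStabilizer W ⊓ Cfsg.Geo.omegaGL Qf) := by
  obtain ⟨Q, hQcoe⟩ : ∃ Q : QuadraticForm F (ι → F), ⇑Q = Qf := ⟨qfOfGeo Qf hQf, rfl⟩
  subst hQcoe
  refine ts_stab_isMaximalIn_aux Q (nondeg_of_geo Q hQf) hn W hW0 hW ?_
  intro x hx hxW hor
  obtain ⟨W', hW', hdim⟩ := exists_ts_extension Q W hW x hx hxW hor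
  exact hext W' hW' hdim

end Cfsg.Agent.Helper45.OmegaParity
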