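import Mathlib
import Cfsg.Agent.Helper44.QTypeClassify
import Cfsg.Agent.Helper44.QTypeAniso
import Cfsg.Agent.Helper44.OrthRealizeC
import Cfsg.Agent.Helper44.OrthOddA
import Cfsg.Agent.Helper44.StdNondeg
import Cfsg.Agent.Helper45.IsoEquiv
import Cfsg.Agent.S0286
import Cfsg.Agent.S0287
import Cfsg.Agent.S0288

/-!
# S5981 (helper44), pieces (IDX1p), (IDX1m), (IDX2): the orders of the isometry groups of arbitrary
nondegenerate quadratic forms over a finite field (helper45)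
-/

set_option autoImplicit false
open scoped MatrixGroups

namespace Cfsg.Agent.Helper45.QSim

open Matrix Cfsg.Geo QuadraticMap Polynomial Cfsg.Agent.Helper44.QType
open Cfsg.Agent.Helper44

universe u

variable {F : Type u} [Field F] [Fintype F] {n : ℕ}

theorem sepLeft_of_nondeg (Q : QuadraticForm F (Fin n → F)) (hQ : (polarBilin Q).Nondegenerate) :
    ∀ x : Fin n → F, (∀ y, polar Q x y = 0) → x = 0 := by
  intro x hx
  exact hQ.1 x hx

/-- (IDX1p) -/
theorem card_isometryGroup_plus {q : ℕ} (hq : Fintype.card F = q)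
    (Q : QuadraticForm F (Fin n → F)) (hQ : (polarBilin Q).Nondegenerate) {m : ℕ}
    (hnm : n = 2 * m) (hm : 1 ≤ m) (hT : HasType (⇑Q) m 1) :
    Nat.card (Cfsg.isometryGroup F (⇑Q))
      = 2 * q ^ (m * (m - 1)) * (q ^ m - 1) * ∏ i ∈ Finset.range (m - 1), (q ^ (2 * (i + 1)) - 1) := by
  have hV : Module.finrank F (Fin n → F) = 2 * m := by
    rw [Module.finrank_fintype_fun_eq_card, Fintype.card_fin, hnm]
  have hV' : Module.finrank F (Fin m ⊕ Fin m → F) = 2 * m := by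
    rw [Module.finrank_fintype_fun_eq_card, Fintype.card_sum, Fintype.card_fin]
    ring
  obtain ⟨g, hg⟩ := exists_isometry_of_hasType Q (plusForm m F) hV hV' (sepLeft_of_nondeg Q hQ)
    (fun x hx => (nondegenerate_plusForm (F := F) m).1 x hx) hT (hasType_plus m)
  rw [Nat.card_congr (Cfsg.Agent.Helper45.nonempty_mulEquiv_of_linearEquiv (⇑Q)
    (Cfsg.quadFormPlus m F) g hg).some.toEquiv]
  exact Cfsg.Agent.S0287.result hq m hm

/-- (IDX1m) -/
theorem card_isometryGroup_minus {q : ℕ} (hq : Fintype.card F = q)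
    (Q : QuadraticForm F (Fin n → F)) (hQ : (polarBilin Q).Nondegenerate) {m : ℕ}
    (hnm : n = 2 * m) (hm : 1 ≤ m) (hT : HasType (⇑Q) m (-1)) :
    Nat.card (Cfsg.isometryGroup F (⇑Q))
      = 2 * q ^ (m * (m - 1)) * (q ^ m + 1) * ∏ i ∈ Finset.range (m - 1), (q ^ (2 * (i + 1)) - 1) := by
  obtain ⟨ζ, hζ, hD⟩ := exists_irred_param (F := F)
  have hab : ∀ z₁ z₂ : F, z₁ ^ 2 + 1 * z₁ * z₂ + ζ * z₂ ^ 2 = 0 → z₁ = 0 ∧ z₂ = 0 := by
    intro z₁ z₂ h
    by_cases h2 : z₂ = 0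
    · subst h2
      refine ⟨?_, rfl⟩
      have : z₁ ^ 2 = 0 := by linear_combination h
      exact pow_eq_zero_iff two_ne_zero |>.mp this
    · exfalso
      apply hζ (z₁ / z₂)
      field_simp
      linear_combination h
  obtain ⟨k, rfl⟩ : ∃ k, m = k + 1 := ⟨m - 1, by omega⟩
  have hV : Module.finrank F (Fin n → F) = 2 * (k + 1) := by
    rw [Module.finrank_fintype_fun_eq_card, Fintype.card_fin, hnm]
  have hV' : Module.finrank F ((Fin k ⊕ Fin k) ⊕ Fin 2 → F) = 2 * (k + 1) := by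
    rw [Module.finrank_fintype_fun_eq_card, Fintype.card_sum, Fintype.card_sum, Fintype.card_fin,
      Fintype.card_fin]
    ring
  obtain ⟨g, hg⟩ := exists_isometry_of_hasType Q (minusForm k F 1 ζ) hV hV' (sepLeft_of_nondeg Q hQ)
    (fun x hx => (nondegenerate_minusForm (F := F) k 1 ζ hD).1 x hx) hT (hasType_minus k 1 ζ hab)
  rw [Nat.card_congr (Cfsg.Agent.Helper45.nonempty_mulEquiv_of_linearEquiv (⇑Q)
    (Cfsg.quadFormMinus k F 1 ζ) g hg).some.toEquiv]
  exact Cfsg.Agent.S0288.result hq (k + 1) hm 1 ζ hab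

/-- (IDX2) -/
theorem card_isometryGroup_odd {q : ℕ} (hq : Fintype.card F = q) (hodd : Odd q)
    (Q : QuadraticForm F (Fin n → F)) (hQ : (polarBilin Q).Nondegenerate) {m : ℕ}
    (hnm : n = 2 * m + 1) :
    Nat.card (Cfsg.isometryGroup F (⇑Q))
      = 2 * q ^ (m ^ 2) * ∏ i ∈ Finset.range m, (q ^ (2 * (i + 1)) - 1) := by
  have hV : Module.finrank F (Fin n → F) = 2 * m + 1 := by
    rw [Module.finrank_fintype_fun_eq_card, Fintype.card_fin, hnm]
  obtain ⟨a, g, ha, hg⟩ := exists_similarity_odd Q hV (sepLeft_of_nondeg Q hQ)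
  rw [Nat.card_congr (Cfsg.Agent.Helper45.nonempty_mulEquiv_of_linearEquiv (⇑Q)
    (fun w => a * Cfsg.quadFormOdd m F w) g hg).some.toEquiv]
  have hsub : Cfsg.isometryGroup F (fun w : Unit ⊕ (Fin m ⊕ Fin m) → F => a * Cfsg.quadFormOdd m F w)
      = Cfsg.isometryGroup F (Cfsg.quadFormOdd m F) := by
    ext x
    exact mem_isometryGroup_smul_iff _ a ha x
  rw [hsub]
  exact Cfsg.Agent.S0286.result hq hodd m

end Cfsg.Agent.Helper45.QSim
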