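import Mathlib
import Cfsg.Prelude.Def_LieClassical
import Cfsg.Agent.Helper45.GUBasic
import Cfsg.Agent.Helper45.GUCard
import Cfsg.Agent.Helper45.SUBasic

set_option autoImplicit false
open Matrix

/-!
# Transvections in the unitary groups

A transvection (rank one, square zero) preserving the Hermitian form is `1 + c v v^*` with `v`
isotropic and `c` of trace zero; any two of them are conjugate in `SU_n`, `n ≥ 3`.
-/

namespace Cfsg.Agent.Helper45.GU

section HermAlg
variable {F : Type*} [Field F] {n : ℕ} (bar : F →+* F)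

theorem herm_add_left (x x' y : Fin n → F) :
    herm bar (x + x') y = herm bar x y + herm bar x' y := by
  simp only [herm, Pi.add_apply, add_mul, Finset.sum_add_distrib]

theorem herm_add_right (x y y' : Fin n → F) :
    herm bar x (y + y') = herm bar x y + herm bar x y' := by
  simp only [herm, Pi.add_apply, map_add, mul_add, Finset.sum_add_distrib]

theorem herm_smul_left (c : F) (x y : Fin n → F) : herm bar (c • x) y = c * herm bar x y := by
  simp only [herm, Pi.smul_apply, smul_eq_mul, Finset.mul_sum, mul_assoc]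

theorem herm_smul_right (c : F) (x y : Fin n → F) :
    herm bar x (c • y) = bar c * herm bar x y := by
  simp only [herm, Pi.smul_apply, smul_eq_mul, map_mul, Finset.mul_sum]
  apply Finset.sum_congr rfl
  intro i _
  ring

theorem herm_conj (hinv : ∀ a, bar (bar a) = a) (x y : Fin n → F) :
    bar (herm bar x y) = herm bar y x := by
  simp only [herm, map_sum, map_mul, hinv]
  apply Finset.sum_congr rfl
  intro i _
  ring

theorem herm_single_left (i : Fin n) (u : Fin n → F) :
    herm bar (Pi.single i 1) u = bar (u i) := by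
  simp [herm, Pi.single_apply]

theorem herm_zero_left (y : Fin n → F) : herm bar 0 y = 0 := by
  simp [herm]

/-- the matrix `1 + c v v^*` -/
def tvMat (v : Fin n → F) (c : F) : Matrix (Fin n) (Fin n) F :=
  1 + c • vecMulVec v (bar ∘ v)

theorem tvMat_mulVec (v : Fin n → F) (c : F) (x : Fin n → F) :
    tvMat bar v c *ᵥ x = x + (c * herm bar x v) • v := by
  rw [tvMat, add_mulVec, one_mulVec, smul_mulVec, vecMulVec_mulVec, herm_eq,
    dotProduct_comm, op_smul_eq_smul, smul_smul]

theorem exists_vecMulVec_of_rank_one (N : Matrix (Fin n) (Fin n) F) (h : N.rank = 1) :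
    ∃ u w : Fin n → F, u ≠ 0 ∧ w ≠ 0 ∧ N = vecMulVec u w := by
  rw [Matrix.rank, finrank_eq_one_iff'] at h
  obtain ⟨⟨u, hu⟩, hu0, hspan⟩ := h
  have hu0' : u ≠ 0 := fun h0 => hu0 (Subtype.ext h0)
  have hc : ∀ j : Fin n, ∃ c : F, c • u = N *ᵥ Pi.single j 1 := by
    intro j
    obtain ⟨c, hc⟩ := hspan ⟨N *ᵥ Pi.single j 1, LinearMap.mem_range_self N.mulVecLin _⟩
    exact ⟨c, congrArg Subtype.val hc⟩
  choose w hw using hc
  have hN : N = vecMulVec u w := by
    ext i j
    have := congrFun (hw j) i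
    rw [mulVec_single_one] at this
    rw [vecMulVec_apply, mul_comm]
    simpa using this.symm
  refine ⟨u, w, hu0', ?_, hN⟩
  rintro rfl
  apply hu0'
  obtain ⟨x, hx⟩ := hu
  rw [← hx, hN]
  ext i
  simp [vecMulVec, mulVec, dotProduct]

end HermAlg

section TvForm
variable {F : Type*} [Field F] {n : ℕ} (bar : F →+* F)

theorem exists_herm_ne_zero (u : Fin n → F) (hu : u ≠ 0) : ∃ x, herm bar x u ≠ 0 := by
  by_contra hcon
  push Not at hcon
  apply hu
  ext i
  have := hcon (Pi.single i 1)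
  rw [herm_single_left] at this
  have h2 : u i = 0 := by
    by_contra h
    exact (map_ne_zero bar).mpr h this
  simpa using h2

/-- a unitary transvection is `1 + c v v^*` with `v` isotropic and `c` of trace zero -/
theorem tv_form (hinv : ∀ a, bar (bar a) = a) (S : Matrix (Fin n) (Fin n) F)
    (hS : ∀ x y, herm bar (S *ᵥ x) (S *ᵥ y) = herm bar x y)
    (hrank : (S - 1).rank = 1) (hsq : (S - 1) * (S - 1) = 0) :
    ∃ (v : Fin n → F) (c : F), v ≠ 0 ∧ c ≠ 0 ∧ herm bar v v = 0 ∧ bar c = -c ∧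
      S = tvMat bar v c := by
  obtain ⟨u, w, hu, hw, hN⟩ := exists_vecMulVec_of_rank_one (S - 1) hrank
  have hSx : ∀ x, S *ᵥ x = x + (w ⬝ᵥ x) • u := by
    intro x
    have : S = 1 + vecMulVec u w := by rw [← hN]; abel
    rw [this, add_mulVec, one_mulVec, vecMulVec_mulVec, op_smul_eq_smul]
  -- a vector with `w ⬝ᵥ x0 ≠ 0`
  obtain ⟨x0, hx0⟩ : ∃ x0, w ⬝ᵥ x0 ≠ 0 := by
    by_contra hcon
    push Not at hcon
    apply hw
    ext j
    have := hcon (Pi.single j 1)
    simpa using this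
  -- `w ⬝ᵥ u = 0`
  have hwu : w ⬝ᵥ u = 0 := by
    have h1 : ((S - 1) * (S - 1)) *ᵥ x0 = 0 := by rw [hsq, zero_mulVec]
    rw [hN, ← mulVec_mulVec, vecMulVec_mulVec, vecMulVec_mulVec, op_smul_eq_smul,
      op_smul_eq_smul, dotProduct_smul, smul_eq_mul] at h1
    have h2 : w ⬝ᵥ x0 * w ⬝ᵥ u = 0 := by
      by_contra h
      apply hu
      have h3 := congrArg (fun z => (w ⬝ᵥ x0 * w ⬝ᵥ u)⁻¹ • z) h1
      simp only [smul_smul, smul_zero] at h3
      rw [inv_mul_cancel₀ h, one_smul] at h3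
      exact h3
    exact (mul_eq_zero.mp h2).resolve_left hx0
  -- expansion of unitarity
  have hexp : ∀ x y, bar (w ⬝ᵥ y) * herm bar x u + (w ⬝ᵥ x) * herm bar u y
      + (w ⬝ᵥ x) * bar (w ⬝ᵥ y) * herm bar u u = 0 := by
    intro x y
    have := hS x y
    rw [hSx, hSx, herm_add_left, herm_add_right, herm_add_right, herm_smul_left, herm_smul_left,
      herm_smul_right, herm_smul_right] at this
    linear_combination this
  have huu : herm bar u u = 0 := by
    have := hexp x0 u
    rw [hwu, map_zero, zero_mul, mul_zero, zero_mul, add_zero, zero_add] at this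
    exact (mul_eq_zero.mp this).resolve_left hx0
  have hexp2 : ∀ x y, bar (w ⬝ᵥ y) * herm bar x u + (w ⬝ᵥ x) * herm bar u y = 0 := by
    intro x y
    have := hexp x y
    rw [huu, mul_zero, add_zero] at this
    exact this
  have hb0 : bar (w ⬝ᵥ x0) ≠ 0 := (map_ne_zero bar).mpr hx0
  set d : F := -herm bar u x0 / bar (w ⬝ᵥ x0) with hd
  have hxu : ∀ x, herm bar x u = d * (w ⬝ᵥ x) := by
    intro x
    have := hexp2 x x0
    rw [hd]
    field_simp
    linear_combination this
  have hd0 : d ≠ 0 := by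
    intro h0
    obtain ⟨x, hx⟩ := exists_herm_ne_zero bar u hu
    apply hx
    rw [hxu, h0, zero_mul]
  have hwx : ∀ x, w ⬝ᵥ x = d⁻¹ * herm bar x u := by
    intro x
    rw [hxu, inv_mul_cancel_left₀ hd0]
  have hwe : w = d⁻¹ • (bar ∘ u) := by
    ext j
    have := hwx (Pi.single j 1)
    rw [herm_single_left] at this
    simpa using this
  refine ⟨u, d⁻¹, hu, inv_ne_zero hd0, huu, ?_, ?_⟩
  · obtain ⟨x1, hx1⟩ := exists_herm_ne_zero bar u hu
    have := hexp2 x1 x1
    rw [hwx, map_mul, ← herm_conj bar hinv x1 u] at this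
    have h2 : bar (herm bar x1 u) ≠ 0 := (map_ne_zero bar).mpr hx1
    have h3 : (bar d⁻¹ + d⁻¹) * (bar (herm bar x1 u) * herm bar x1 u) = 0 := by
      linear_combination this
    have h4 := (mul_eq_zero.mp h3).resolve_right (mul_ne_zero h2 hx1)
    exact eq_neg_of_add_eq_zero_left h4
  · rw [tvMat, ← vecMulVec_smul, ← hwe, ← hN]
    abel

end TvForm

section Conj
variable {F : Type*} [Field F] {n : ℕ} (bar : F →+* F)

/-- Witt: the unitary group is transitive on nonzero vectors of equal norm -/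
theorem exists_unitary_map' [Finite F] (hne : bar ≠ RingHom.id F) (hinv : ∀ a, bar (bar a) = a)
    (v w : Fin n → F) (hv0 : v ≠ 0) (hw0 : w ≠ 0) (hvw : herm bar v v = herm bar w w) :
    ∃ g : (Fin n → F) ≃ₗ[F] (Fin n → F), (∀ x y, herm bar (g x) (g y) = herm bar x y) ∧ g v = w := by
  let φ : (F ∙ v) ≃ₗ[F] (F ∙ w) :=
    (LinearEquiv.toSpanNonzeroSingleton F _ v hv0).symm.trans
      (LinearEquiv.toSpanNonzeroSingleton F _ w hw0)
  have hφ : ∀ c : F, ((φ (LinearEquiv.toSpanNonzeroSingleton F _ v hv0 c) : F ∙ w) : Fin n → F)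
      = c • w := by
    intro c
    show ((LinearEquiv.toSpanNonzeroSingleton F _ w hw0)
      ((LinearEquiv.toSpanNonzeroSingleton F _ v hv0).symm
        (LinearEquiv.toSpanNonzeroSingleton F _ v hv0 c)) : Fin n → F) = c • w
    rw [LinearEquiv.symm_apply_apply, LinearEquiv.toSpanNonzeroSingleton_apply]
  obtain ⟨g, hg1, hg2⟩ := Cfsg.Agent.S0751.result bar hne hinv (Bform n bar)
    (Bform_isSymm n bar hinv) (Bform_nondegenerate n bar) (F ∙ v) (F ∙ w) φ (by
      intro x x'
      obtain ⟨c, rfl⟩ := (LinearEquiv.toSpanNonzeroSingleton F _ v hv0).surjective x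
      obtain ⟨c', rfl⟩ := (LinearEquiv.toSpanNonzeroSingleton F _ v hv0).surjective x'
      rw [hφ, hφ, Bform_apply, Bform_apply]
      simp only [LinearEquiv.toSpanNonzeroSingleton_apply]
      rw [herm_smul_smul, herm_smul_smul, hvw])
  refine ⟨g, fun x y => ?_, ?_⟩
  · have := hg1 y x
    rw [Bform_apply, Bform_apply] at this
    exact this
  · have := hg2 (LinearEquiv.toSpanNonzeroSingleton F _ v hv0 1)
    rw [hφ] at this
    simpa using this

/-- a unitary matrix of determinant one mapping `v` to `v1`, when `v1` has a zero coordinate -/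
theorem exists_special_unitary_map [Finite F] (hne : bar ≠ RingHom.id F)
    (hinv : ∀ a, bar (bar a) = a)
    (v v1 : Fin n → F) (hv0 : v ≠ 0) (hv1 : v1 ≠ 0) (hvv : herm bar v v = herm bar v1 v1)
    (k : Fin n) (hk : v1 k = 0) :
    ∃ G : Matrix (Fin n) (Fin n) F, G.det = 1 ∧
      (∀ x y, herm bar (G *ᵥ x) (G *ᵥ y) = herm bar x y) ∧ G *ᵥ v = v1 := by
  obtain ⟨g0, hg0, hg0v⟩ := exists_unitary_map' bar hne hinv v v1 hv0 hv1 hvv
  set G0 : Matrix (Fin n) (Fin n) F := LinearMap.toMatrix' g0.toLinearMap with hG0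
  have hG0x : ∀ x, G0 *ᵥ x = g0 x := by
    intro x
    rw [hG0, LinearMap.toMatrix'_mulVec]
    rfl
  have hG0u : ∀ x y, herm bar (G0 *ᵥ x) (G0 *ᵥ y) = herm bar x y := by
    intro x y
    rw [hG0x, hG0x, hg0]
  have hdet := det_mul_bar_det bar G0 hG0u
  have hdet0 : G0.det ≠ 0 := by
    intro h0
    rw [h0, zero_mul] at hdet
    exact zero_ne_one hdet
  set a : F := (G0.det)⁻¹ with ha
  have haa : a * bar a = 1 := by
    rw [ha, map_inv₀, ← mul_inv, hdet, inv_one]
  set d : Fin n → F := Function.update (fun _ => (1 : F)) k a with hd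
  have hdd : ∀ i, d i * bar (d i) = 1 := by
    intro i
    by_cases hi : i = k
    · subst hi
      simp only [hd, Function.update_self]
      exact haa
    · simp only [hd, Function.update_of_ne hi, map_one, mul_one]
  refine ⟨diagonal d * G0, ?_, ?_, ?_⟩
  · rw [det_mul, det_diagonal, hd, Finset.prod_update_of_mem (Finset.mem_univ _)]
    simp only [Finset.prod_const_one, mul_one]
    rw [ha, inv_mul_cancel₀ hdet0]
  · intro x y
    rw [← mulVec_mulVec, ← mulVec_mulVec, herm_diagonal n bar d hdd, hG0u]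
  · rw [← mulVec_mulVec, hG0x, hg0v]
    ext i
    rw [mulVec_diagonal]
    by_cases hi : i = k
    · subst hi
      rw [hk, mul_zero]
    · simp only [hd, Function.update_of_ne hi, one_mul]

/-- conjugating a transvection by a unitary map -/
theorem mul_tvMat_comm (G : Matrix (Fin n) (Fin n) F)
    (hG : ∀ x y, herm bar (G *ᵥ x) (G *ᵥ y) = herm bar x y)
    (v v0 : Fin n → F) (c μ : F) (hμ : μ ≠ 0) (hGv : G *ᵥ v = μ • v0) :
    G * tvMat bar v c = tvMat bar v0 (c * μ * bar μ) * G := by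
  rw [ext_iff_mulVec]
  intro x
  rw [← mulVec_mulVec, ← mulVec_mulVec, tvMat_mulVec, tvMat_mulVec, mulVec_add, mulVec_smul, hGv]
  congr 1
  have h1 : herm bar (G *ᵥ x) v0 = (bar μ)⁻¹ * herm bar x v := by
    have hv0 : v0 = μ⁻¹ • (G *ᵥ v) := by
      rw [hGv, smul_smul, inv_mul_cancel₀ hμ, one_smul]
    rw [hv0, herm_smul_right, hG, map_inv₀]
  rw [h1, smul_smul]
  congr 1
  have hb : bar μ ≠ 0 := (map_ne_zero bar).mpr hμ
  field_simp

end Conj

section Grp2
variable {F : Type*} [Field F] [Fintype F] {q : ℕ} {n : ℕ} (bar : F →+* F)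
  (hbar : ∀ x, bar x = x ^ q)

include hbar in
/-- an `SU`-conjugate of the transvection `1 + c v v^*` with prescribed centre and scalar -/
theorem exists_conj_tv (hne : bar ≠ RingHom.id F) (hinv : ∀ a, bar (bar a) = a)
    (s : Cfsg.SU n F q) (v : Fin n → F) (c : F) (hv0 : v ≠ 0) (hvv : herm bar v v = 0)
    (hs : ((s : SpecialLinearGroup (Fin n) F) : Matrix (Fin n) (Fin n) F) = tvMat bar v c)
    (v0 : Fin n → F) (hv00 : v0 ≠ 0) (hv0v0 : herm bar v0 v0 = 0) (k : Fin n) (hk : v0 k = 0)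
    (μ : F) (hμ : μ ≠ 0) :
    ∃ g : Cfsg.SU n F q,
      (((g * s * g⁻¹ : Cfsg.SU n F q) : SpecialLinearGroup (Fin n) F) :
        Matrix (Fin n) (Fin n) F) = tvMat bar v0 (c * μ * bar μ) := by
  obtain ⟨G, hdet, hGu, hGv⟩ := exists_special_unitary_map bar hne hinv v (μ • v0) hv0
    (smul_ne_zero hμ hv00) (by rw [hvv, herm_smul_smul, hv0v0, mul_zero])
    k (by rw [Pi.smul_apply, hk, smul_zero])
  let gSL : SpecialLinearGroup (Fin n) F := ⟨G, hdet⟩
  have hgmem : gSL ∈ Cfsg.SU n F q := by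
    rw [mem_SU_iff n bar hbar]
    exact hGu
  refine ⟨⟨gSL, hgmem⟩, ?_⟩
  have hcomm := mul_tvMat_comm bar G hGu v v0 c μ hμ hGv
  have h1 : (((⟨gSL, hgmem⟩ * s * (⟨gSL, hgmem⟩ : Cfsg.SU n F q)⁻¹ : Cfsg.SU n F q) :
      SpecialLinearGroup (Fin n) F) : Matrix (Fin n) (Fin n) F)
      = G * ((s : SpecialLinearGroup (Fin n) F) : Matrix (Fin n) (Fin n) F)
        * ((gSL⁻¹ : SpecialLinearGroup (Fin n) F) : Matrix (Fin n) (Fin n) F) := rfl
  have h2 : G * ((gSL⁻¹ : SpecialLinearGroup (Fin n) F) : Matrix (Fin n) (Fin n) F) = 1 := by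
    have h3 : ((gSL * gSL⁻¹ : SpecialLinearGroup (Fin n) F) : Matrix (Fin n) (Fin n) F) = 1 := by
      rw [mul_inv_cancel]
      rfl
    exact h3
  rw [h1, hs, hcomm, Matrix.mul_assoc, h2, Matrix.mul_one]

end Grp2

end Cfsg.Agent.Helper45.GU
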