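import Mathlib
import Cfsg.Prelude.Def_LieClassical
import Cfsg.Agent.Helper45.SUTransv
import Cfsg.Prelude.Def_ClassicalGeometry

set_option autoImplicit false
open Matrix

/-!
# More on unitary transvections: group structure, Witt for families
-/

namespace Cfsg.Agent.Helper45.GU

section TvGroup
variable {F : Type*} [Field F] {n : ℕ} (bar : F →+* F)

theorem det_tvMat (v : Fin n → F) (c : F) (hvv : herm bar v v = 0) : (tvMat bar v c).det = 1 := by
  have h : tvMat bar v c = 1 + replicateCol Unit (c • v) * replicateRow Unit (bar ∘ v) := by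
    rw [tvMat, ← vecMulVec_eq, smul_vecMulVec]
  rw [h, det_one_add_replicateCol_mul_replicateRow, dotProduct_smul, dotProduct_comm, ← herm_eq, hvv,
    smul_zero, add_zero]

theorem herm_tvMat (hinv : ∀ a, bar (bar a) = a) (v : Fin n → F) (c : F)
    (hvv : herm bar v v = 0) (hc : bar c = -c) (x y : Fin n → F) :
    herm bar (tvMat bar v c *ᵥ x) (tvMat bar v c *ᵥ y) = herm bar x y := by
  rw [tvMat_mulVec, tvMat_mulVec, herm_add_left, herm_add_right, herm_add_right, herm_smul_left,
    herm_smul_left, herm_smul_right, herm_smul_right, hvv, map_mul, hc,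
    herm_conj bar hinv y v]
  ring

theorem tvMat_mul (v : Fin n → F) (c c' : F) (hvv : herm bar v v = 0) :
    tvMat bar v c * tvMat bar v c' = tvMat bar v (c + c') := by
  rw [ext_iff_mulVec]
  intro x
  rw [← mulVec_mulVec, tvMat_mulVec, tvMat_mulVec, tvMat_mulVec, herm_add_left, herm_smul_left, hvv,
    mul_zero, add_zero, add_assoc, ← add_smul]
  congr 2
  ring

theorem tvMat_zero (v : Fin n → F) : tvMat bar v 0 = 1 := by
  rw [tvMat, zero_smul, add_zero]

/-- commuting transvections with orthogonal centres -/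
theorem tvMat_mul_mulVec_of_orth (v w : Fin n → F) (c c' : F) (hvw : herm bar w v = 0)
    (x : Fin n → F) :
    (tvMat bar v c * tvMat bar w c') *ᵥ x
      = x + (c * herm bar x v) • v + (c' * herm bar x w) • w := by
  rw [← mulVec_mulVec, tvMat_mulVec, tvMat_mulVec, herm_add_left, herm_smul_left, hvw, mul_zero,
    add_zero]
  abel

end TvGroup

section Fam
variable {F : Type*} [Field F] {n : ℕ} (bar : F →+* F)

theorem herm_sum_left {ι : Type*} (s : Finset ι) (f : ι → Fin n → F) (y : Fin n → F) :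
    herm bar (∑ i ∈ s, f i) y = ∑ i ∈ s, herm bar (f i) y := by
  simp only [herm, Finset.sum_apply, Finset.sum_mul]
  exact Finset.sum_comm

theorem herm_sum_right {ι : Type*} (s : Finset ι) (x : Fin n → F) (f : ι → Fin n → F) :
    herm bar x (∑ i ∈ s, f i) = ∑ i ∈ s, herm bar x (f i) := by
  simp only [herm, Finset.sum_apply, map_sum, Finset.mul_sum]
  exact Finset.sum_comm

theorem herm_lincomb {k : ℕ} (u : Fin k → Fin n → F) (c c' : Fin k → F) :
    herm bar (∑ i, c i • u i) (∑ j, c' j • u j)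
      = ∑ i, ∑ j, c i * bar (c' j) * herm bar (u i) (u j) := by
  rw [herm_sum_left]
  apply Finset.sum_congr rfl
  intro i _
  rw [herm_sum_right]
  apply Finset.sum_congr rfl
  intro j _
  rw [herm_smul_smul]

/-- Witt: the unitary group is transitive on independent families with the same Gram matrix -/
theorem exists_unitary_map_fam [Finite F] (hne : bar ≠ RingHom.id F)
    (hinv : ∀ a, bar (bar a) = a) {k : ℕ} (u v : Fin k → Fin n → F)
    (hu : ∀ c : Fin k → F, ∑ i, c i • u i = 0 → c = 0)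
    (hv : ∀ c : Fin k → F, ∑ i, c i • v i = 0 → c = 0)
    (hG : ∀ i j, herm bar (u i) (u j) = herm bar (v i) (v j)) :
    ∃ g : (Fin n → F) ≃ₗ[F] (Fin n → F), (∀ x y, herm bar (g x) (g y) = herm bar x y) ∧
      ∀ i, g (u i) = v i := by
  set ψu : (Fin k → F) →ₗ[F] (Fin n → F) := Fintype.linearCombination F u with hψu
  set ψv : (Fin k → F) →ₗ[F] (Fin n → F) := Fintype.linearCombination F v with hψv
  have hψu_apply : ∀ c, ψu c = ∑ i, c i • u i := fun c => Fintype.linearCombination_apply F u c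
  have hψv_apply : ∀ c, ψv c = ∑ i, c i • v i := fun c => Fintype.linearCombination_apply F v c
  have hinju : Function.Injective ψu := by
    rw [← LinearMap.ker_eq_bot, LinearMap.ker_eq_bot']
    intro c hc
    exact hu c (by rw [← hψu_apply]; exact hc)
  have hinjv : Function.Injective ψv := by
    rw [← LinearMap.ker_eq_bot, LinearMap.ker_eq_bot']
    intro c hc
    exact hv c (by rw [← hψv_apply]; exact hc)
  let eu := LinearEquiv.ofInjective ψu hinju
  let ev := LinearEquiv.ofInjective ψv hinjv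
  let φ : LinearMap.range ψu ≃ₗ[F] LinearMap.range ψv := eu.symm.trans ev
  have hφ : ∀ c, ((φ (eu c) : LinearMap.range ψv) : Fin n → F) = ψv c := by
    intro c
    show ((ev (eu.symm (eu c)) : LinearMap.range ψv) : Fin n → F) = ψv c
    rw [LinearEquiv.symm_apply_apply]
    rfl
  have heu : ∀ c, ((eu c : LinearMap.range ψu) : Fin n → F) = ψu c := fun c => rfl
  obtain ⟨g, hg1, hg2⟩ := Cfsg.Agent.S0751.result bar hne hinv (Bform n bar)
    (Bform_isSymm n bar hinv) (Bform_nondegenerate n bar) _ _ φ (by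
      intro x x'
      obtain ⟨c, rfl⟩ := eu.surjective x
      obtain ⟨c', rfl⟩ := eu.surjective x'
      rw [hφ, hφ, heu, heu, Bform_apply, Bform_apply, hψu_apply, hψu_apply, hψv_apply, hψv_apply,
        herm_lincomb, herm_lincomb]
      apply Finset.sum_congr rfl
      intro i _
      apply Finset.sum_congr rfl
      intro j _
      rw [hG])
  refine ⟨g, fun x y => ?_, ?_⟩
  · have := hg1 y x
    rw [Bform_apply, Bform_apply] at this
    exact this
  · intro i
    have := hg2 (eu (Pi.single i 1))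
    rw [hφ, heu, hψu_apply, hψv_apply] at this
    simpa [Pi.single_apply] using this

end Fam

section TvElt
variable {F : Type*} [Field F] {q : ℕ} {n : ℕ} (bar : F →+* F)

theorem tvMat_sub_one_mulVec (v : Fin n → F) (c : F) (x : Fin n → F) :
    (tvMat bar v c - 1) *ᵥ x = (c * herm bar x v) • v := by
  rw [sub_mulVec, tvMat_mulVec, one_mulVec, add_sub_cancel_left]

theorem isTransvection_tvMat (v : Fin n → F) (c : F) (hv : v ≠ 0) (hc : c ≠ 0)
    (hvv : herm bar v v = 0) : Cfsg.IsTransvection (tvMat bar v c) := by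
  constructor
  · apply le_antisymm
    · have : tvMat bar v c - 1 = vecMulVec (c • v) (bar ∘ v) := by
        rw [tvMat, add_sub_cancel_left, smul_vecMulVec]
      rw [this]
      exact rank_vecMulVec_le _ _
    · rw [Nat.one_le_iff_ne_zero]
      intro h0
      rw [Matrix.rank, Submodule.finrank_eq_zero] at h0
      obtain ⟨x0, hx0⟩ := exists_herm_ne_zero bar v hv
      have hmem : (tvMat bar v c - 1) *ᵥ x0 ∈ LinearMap.range (tvMat bar v c - 1).mulVecLin :=
        LinearMap.mem_range_self _ x0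
      rw [h0, Submodule.mem_bot, tvMat_sub_one_mulVec] at hmem
      exact smul_ne_zero (mul_ne_zero hc hx0) hv hmem
  · rw [ext_iff_mulVec]
    intro x
    rw [← mulVec_mulVec, tvMat_sub_one_mulVec, tvMat_sub_one_mulVec, herm_smul_left, hvv, mul_zero,
      mul_zero, zero_smul, zero_mulVec]

/-- the transvection as an element of `SL` -/
def tvSL (v : Fin n → F) (c : F) (hvv : herm bar v v = 0) : SpecialLinearGroup (Fin n) F :=
  ⟨tvMat bar v c, det_tvMat bar v c hvv⟩

theorem tvSL_coe (v : Fin n → F) (c : F) (hvv : herm bar v v = 0) :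
    ((tvSL bar v c hvv : SpecialLinearGroup (Fin n) F) : Matrix (Fin n) (Fin n) F)
      = tvMat bar v c := rfl

theorem tvSL_mem (hbar : ∀ x, bar x = x ^ q) (hinv : ∀ a, bar (bar a) = a) (v : Fin n → F) (c : F)
    (hvv : herm bar v v = 0) (hc : bar c = -c) : tvSL bar v c hvv ∈ Cfsg.SU n F q := by
  rw [mem_SU_iff n bar hbar]
  intro x y
  rw [tvSL_coe]
  exact herm_tvMat bar hinv v c hvv hc x y

/-- the transvection as an element of `SU` -/
def tvSU (hbar : ∀ x, bar x = x ^ q) (hinv : ∀ a, bar (bar a) = a) (v : Fin n → F) (c : F)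
    (hvv : herm bar v v = 0) (hc : bar c = -c) : Cfsg.SU n F q :=
  ⟨tvSL bar v c hvv, tvSL_mem bar hbar hinv v c hvv hc⟩

theorem tvSU_coe (hbar : ∀ x, bar x = x ^ q) (hinv : ∀ a, bar (bar a) = a) (v : Fin n → F) (c : F)
    (hvv : herm bar v v = 0) (hc : bar c = -c) :
    (((tvSU bar hbar hinv v c hvv hc : Cfsg.SU n F q) : SpecialLinearGroup (Fin n) F) :
      Matrix (Fin n) (Fin n) F) = tvMat bar v c := rfl

theorem SU_ext {a b : Cfsg.SU n F q}
    (h : ((a : SpecialLinearGroup (Fin n) F) : Matrix (Fin n) (Fin n) F)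
      = ((b : SpecialLinearGroup (Fin n) F) : Matrix (Fin n) (Fin n) F)) : a = b :=
  Subtype.ext (Subtype.ext h)

theorem SU_coe_mul (a b : Cfsg.SU n F q) :
    (((a * b : Cfsg.SU n F q) : SpecialLinearGroup (Fin n) F) : Matrix (Fin n) (Fin n) F)
      = ((a : SpecialLinearGroup (Fin n) F) : Matrix (Fin n) (Fin n) F)
        * ((b : SpecialLinearGroup (Fin n) F) : Matrix (Fin n) (Fin n) F) := rfl

end TvElt

section Comm3
variable {F : Type*} [Field F] [Fintype F] {q : ℕ} {n : ℕ} (bar : F →+* F)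
  (hbar : ∀ x, bar x = x ^ q)

/-- a standard isotropic vector with vanishing third coordinate -/
theorem exists_std_isotropic (hne : bar ≠ RingHom.id F) (hinv : ∀ a, bar (bar a) = a)
    (hn : 3 ≤ n) :
    ∃ (v0 : Fin n → F) (k : Fin n), v0 ≠ 0 ∧ herm bar v0 v0 = 0 ∧ v0 k = 0 := by
  obtain ⟨θ, hθ⟩ := Cfsg.Agent.Helper13.exists_norm_eq bar hne hinv (a := -1)
    (by rw [map_neg, map_one]) (neg_ne_zero.mpr one_ne_zero)
  let i0 : Fin n := ⟨0, by omega⟩
  let i1 : Fin n := ⟨1, by omega⟩
  let i2 : Fin n := ⟨2, by omega⟩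
  have h01 : i0 ≠ i1 := by simp [i0, i1, Fin.ext_iff]
  have h02 : i2 ≠ i0 := by simp [i0, i2, Fin.ext_iff]
  have h12 : i2 ≠ i1 := by simp [i1, i2, Fin.ext_iff]
  set v0 : Fin n → F := Pi.single i0 1 + θ • Pi.single i1 1 with hv0def
  have hv0k : v0 i2 = 0 := by
    simp [hv0def, h02, h12]
  have hv0i0 : v0 i0 = 1 := by
    simp [hv0def, h01]
  have hv00 : v0 ≠ 0 := by
    intro h
    rw [h] at hv0i0
    simp at hv0i0
  have hv0v0 : herm bar v0 v0 = 0 := by
    rw [hv0def, herm_add_left, herm_smul_left, herm_single_left, herm_single_left]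
    simp only [Pi.add_apply, Pi.smul_apply, Pi.single_apply, smul_eq_mul, if_true, h01, h01.symm,
      if_false, mul_zero, add_zero, mul_one, zero_add, map_one]
    rw [mul_comm]
    linear_combination hθ
  exact ⟨v0, i2, hv00, hv0v0, hv0k⟩

include hbar in
/-- for `q ≥ 3` some transvection of `SU_n` is a commutator -/
theorem exists_tv_commutator_of_three_le (hF : Fintype.card F = q ^ 2) (hne : bar ≠ RingHom.id F)
    (hinv : ∀ a, bar (bar a) = a) (hn : 3 ≤ n) (hq : 3 ≤ q) :
    ∃ T : Cfsg.SU n F q, T ∈ commutatorSet (Cfsg.SU n F q) ∧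
      Cfsg.IsTransvection ((T : SpecialLinearGroup (Fin n) F) : Matrix (Fin n) (Fin n) F) := by
  classical
  obtain ⟨v0, k, hv00, hv0v0, hv0k⟩ := exists_std_isotropic bar hne hinv hn
  -- a nonzero trace-zero element
  obtain ⟨x0, hx0⟩ := Cfsg.Agent.Helper13.exists_not_fixed bar hne
  set c1 : F := x0 - bar x0 with hc1
  have hc1_ne : c1 ≠ 0 := sub_ne_zero.mpr (Ne.symm hx0)
  have hc1_tr : bar c1 = -c1 := by rw [hc1, map_sub, hinv]; ring
  -- an element of the fixed field other than 0, 1
  have hcardK : Fintype.card (Cfsg.Agent.Helper13.fixedField bar) = q := by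
    have h1 := Cfsg.Agent.Helper13.card_eq_card_fixedField_sq bar hne hinv
    rw [hF] at h1
    exact (Nat.pow_left_injective (n := 2) (by norm_num) h1).symm
  obtain ⟨a, ha0, ha1⟩ : ∃ a : Cfsg.Agent.Helper13.fixedField bar, a ≠ 0 ∧ a ≠ 1 := by
    by_contra hcon
    push Not at hcon
    have hsub : (Finset.univ : Finset (Cfsg.Agent.Helper13.fixedField bar)) ⊆ {0, 1} := by
      intro a _
      by_cases h : a = 0
      · simp [h]
      · simp [hcon a h]
    have := Finset.card_le_card hsub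
    rw [Finset.card_univ, hcardK] at this
    have h2 : ({0, 1} : Finset (Cfsg.Agent.Helper13.fixedField bar)).card ≤ 2 :=
      Finset.card_insert_le _ _
    omega
  have hafix : bar (a : F) = a := a.2
  have ha0' : (a : F) ≠ 0 := fun h => ha0 (Subtype.ext h)
  have ha1' : (a : F) ≠ 1 := fun h => ha1 (Subtype.ext h)
  set c2 : F := a * c1 with hc2
  have hc2_tr : bar c2 = -c2 := by rw [hc2, map_mul, hafix, hc1_tr]; ring
  have hc3_tr : bar (c1 - c2) = -(c1 - c2) := by rw [map_sub, hc1_tr, hc2_tr]; ring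
  have hc3_ne : c1 - c2 ≠ 0 := by
    rw [hc2]
    intro h
    have : (1 - (a : F)) * c1 = 0 := by linear_combination h
    rcases mul_eq_zero.mp this with h1 | h1
    · exact ha1' (by linear_combination -h1)
    · exact hc1_ne h1
  obtain ⟨μ, hμ⟩ := Cfsg.Agent.Helper13.exists_norm_eq bar hne hinv hafix ha0'
  have hμ0 : μ ≠ 0 := by
    rintro rfl
    rw [mul_zero] at hμ
    exact ha0' hμ.symm
  set T1 := tvSU bar hbar hinv v0 c1 hv0v0 hc1_tr with hT1
  set T2 := tvSU bar hbar hinv v0 c2 hv0v0 hc2_tr with hT2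
  set T3 := tvSU bar hbar hinv v0 (c1 - c2) hv0v0 hc3_tr with hT3
  obtain ⟨g, hg⟩ := exists_conj_tv bar hbar hne hinv T1 v0 c1 hv00 hv0v0 rfl v0 hv00 hv0v0 k hv0k μ hμ0
  have hgT : g * T1 * g⁻¹ = T2 := by
    apply SU_ext
    rw [hg, hT2, tvSU_coe, hc2]
    congr 1
    rw [mul_assoc, mul_comm μ, hμ, mul_comm]
  have h31 : T3 * T2 = T1 := by
    apply SU_ext
    rw [SU_coe_mul, hT3, hT2, hT1, tvSU_coe, tvSU_coe, tvSU_coe, tvMat_mul bar v0 _ _ hv0v0,
      sub_add_cancel]
  refine ⟨T3, ?_, ?_⟩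
  · refine ⟨T1, g, ?_⟩
    rw [commutatorElement_def]
    have : T1 * g * T1⁻¹ * g⁻¹ = T1 * (g * T1 * g⁻¹)⁻¹ := by group
    rw [this, hgT, ← h31]
    group
  · rw [hT3, tvSU_coe]
    exact isTransvection_tvMat bar v0 _ hv00 hc3_ne hv0v0

end Comm3

section Comm2
variable {F : Type*} [Field F] [Fintype F] {n : ℕ} (bar : F →+* F)

omit [Fintype F] in
theorem herm_pair_left (i j : Fin n) (y : Fin n → F) :
    herm bar (Pi.single i 1 + Pi.single j 1) y = bar (y i) + bar (y j) := by
  rw [herm_add_left, herm_single_left, herm_single_left]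

/-- for `q = 2`, `n ≥ 4` some transvection of `SU_n` is a commutator -/
theorem exists_tv_commutator_of_two (hbar : ∀ x, bar x = x ^ 2) (hF : Fintype.card F = 2 ^ 2)
    (hne : bar ≠ RingHom.id F)
    (hinv : ∀ a, bar (bar a) = a) (hn : 4 ≤ n) :
    ∃ T : Cfsg.SU n F 2, T ∈ commutatorSet (Cfsg.SU n F 2) ∧
      Cfsg.IsTransvection ((T : SpecialLinearGroup (Fin n) F) : Matrix (Fin n) (Fin n) F) := by
  classical
  -- characteristic two
  have h2 : (2 : F) = 0 := by
    have h := Nat.cast_card_eq_zero F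
    rw [hF] at h
    have h' : (2 : F) ^ 2 = 0 := by exact_mod_cast h
    exact pow_eq_zero_iff (by norm_num) |>.mp h'
  have hneg : ∀ x : F, -x = x := by
    intro x
    linear_combination (-x) * h2
  -- a primitive cube root of unity
  obtain ⟨ω, hω0, hω1⟩ : ∃ ω : F, ω ≠ 0 ∧ ω ≠ 1 := by
    by_contra hcon
    push Not at hcon
    have hsub : (Finset.univ : Finset F) ⊆ {0, 1} := by
      intro a _
      by_cases h : a = 0
      · simp [h]
      · simp [hcon a h]
    have := Finset.card_le_card hsub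
    rw [Finset.card_univ, hF] at this
    have h2' : ({0, 1} : Finset F).card ≤ 2 := Finset.card_insert_le _ _
    omega
  have hcube : ∀ x : F, x ≠ 0 → x ^ 3 = 1 := by
    intro x hx
    have := FiniteField.pow_card_sub_one_eq_one x hx
    rw [hF] at this
    exact this
  have hω : ω ^ 2 + ω + 1 = 0 := by
    have h := hcube ω hω0
    have h3 : (ω - 1) * (ω ^ 2 + ω + 1) = 0 := by linear_combination h
    exact (mul_eq_zero.mp h3).resolve_left (sub_ne_zero.mpr hω1)
  have hbω : bar ω = ω ^ 2 := hbar ω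
  have hbω2 : bar (ω ^ 2) = ω := by
    rw [hbar, ← pow_mul]
    have := hcube ω hω0
    linear_combination ω * this
  have hb1 : bar (1 : F) = -1 := by rw [map_one, hneg]
  -- the indices
  let i0 : Fin n := ⟨0, by omega⟩
  let i1 : Fin n := ⟨1, by omega⟩
  let i2 : Fin n := ⟨2, by omega⟩
  let i3 : Fin n := ⟨3, by omega⟩
  have h01 : i0 ≠ i1 := by simp [i0, i1, Fin.ext_iff]
  have h02 : i0 ≠ i2 := by simp [i0, i2, Fin.ext_iff]
  have h03 : i0 ≠ i3 := by simp [i0, i3, Fin.ext_iff]
  have h12 : i1 ≠ i2 := by simp [i1, i2, Fin.ext_iff]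
  have h13 : i1 ≠ i3 := by simp [i1, i3, Fin.ext_iff]
  have h23 : i2 ≠ i3 := by simp [i2, i3, Fin.ext_iff]
  set v : Fin n → F := Pi.single i0 1 + Pi.single i1 1 with hv
  set w : Fin n → F := Pi.single i2 1 + Pi.single i3 1 with hw
  have hv_i0 : v i0 = 1 := by simp [hv, h01]
  have hv_i1 : v i1 = 1 := by simp [hv, h01.symm]
  have hv_i2 : v i2 = 0 := by simp [hv, h02.symm, h12.symm]
  have hv_i3 : v i3 = 0 := by simp [hv, h03.symm, h13.symm]
  have hw_i0 : w i0 = 0 := by simp [hw, h02, h03]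
  have hw_i1 : w i1 = 0 := by simp [hw, h12, h13]
  have hw_i2 : w i2 = 1 := by simp [hw, h23]
  have hw_i3 : w i3 = 1 := by simp [hw, h23.symm]
  have hvy : ∀ y, herm bar v y = bar (y i0) + bar (y i1) := fun y => herm_pair_left bar i0 i1 y
  have hwy : ∀ y, herm bar w y = bar (y i2) + bar (y i3) := fun y => herm_pair_left bar i2 i3 y
  have hvv : herm bar v v = 0 := by
    rw [hvy, hv_i0, hv_i1, map_one]; linear_combination h2
  have hww : herm bar w w = 0 := by
    rw [hwy, hw_i2, hw_i3, map_one]; linear_combination h2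
  have hvw : herm bar v w = 0 := by
    rw [hvy, hw_i0, hw_i1, map_zero, add_zero]
  have hwv : herm bar w v = 0 := by
    rw [hwy, hv_i2, hv_i3, map_zero, add_zero]
  have hX : ∀ a b a' b' : F, herm bar (a • v + b • w) (a' • v + b' • w) = 0 := by
    intro a b a' b'
    rw [herm_add_left, herm_add_right, herm_add_right, herm_smul_smul, herm_smul_smul,
      herm_smul_smul, herm_smul_smul, hvv, hww, hvw, hwv]
    ring
  set u1 : Fin n → F := v + ω • w with hu1
  set u2 : Fin n → F := v + ω ^ 2 • w with hu2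
  set u3 : Fin n → F := v + w with hu3
  have hu1' : u1 = (1 : F) • v + ω • w := by rw [one_smul]
  have hu2' : u2 = (1 : F) • v + ω ^ 2 • w := by rw [one_smul]
  have hu3' : u3 = (1 : F) • v + (1 : F) • w := by rw [one_smul, one_smul]
  have hv' : v = (1 : F) • v + (0 : F) • w := by rw [one_smul, zero_smul, add_zero]
  have hw' : w = (0 : F) • v + (1 : F) • w := by rw [one_smul, zero_smul, zero_add]
  have hu1u1 : herm bar u1 u1 = 0 := by rw [hu1', hX]
  have hu2u2 : herm bar u2 u2 = 0 := by rw [hu2', hX]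
  have hu3u3 : herm bar u3 u3 = 0 := by rw [hu3', hX]
  have hu3u2 : herm bar u3 u2 = 0 := by rw [hu3', hu2', hX]
  have hu3u1 : herm bar u3 u1 = 0 := by rw [hu3', hu1', hX]
  have hu2u1 : herm bar u2 u1 = 0 := by rw [hu2', hu1', hX]
  -- the five transvections
  set Tv := tvSU bar hbar hinv v 1 hvv hb1 with hTv
  set Tw := tvSU bar hbar hinv w 1 hww hb1 with hTw
  set T1 := tvSU bar hbar hinv u1 1 hu1u1 hb1 with hT1
  set T2 := tvSU bar hbar hinv u2 1 hu2u2 hb1 with hT2
  set T3 := tvSU bar hbar hinv u3 1 hu3u3 hb1 with hT3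
  -- the identity `T1 T2 T3 = Tv Tw`
  have hid : T1 * T2 * T3 = Tv * Tw := by
    apply SU_ext
    rw [SU_coe_mul, SU_coe_mul, SU_coe_mul, hT1, hT2, hT3, hTv, hTw, tvSU_coe, tvSU_coe, tvSU_coe,
      tvSU_coe, tvSU_coe, ext_iff_mulVec]
    intro x
    rw [tvMat_mul_mulVec_of_orth bar v w 1 1 hwv, ← mulVec_mulVec,
      tvMat_mul_mulVec_of_orth bar u1 u2 1 1 hu2u1, tvMat_mulVec bar u3]
    set α := herm bar x v with hα
    set β := herm bar x w with hβ
    have e3 : herm bar x u3 = α + β := by rw [hu3, herm_add_right]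
    have e2 : herm bar x u2 = α + ω * β := by
      rw [hu2, herm_add_right, herm_smul_right, hbω2]
    have e1 : herm bar x u1 = α + ω ^ 2 * β := by
      rw [hu1, herm_add_right, herm_smul_right, hbω]
    have e31 : herm bar u3 u1 = 0 := hu3u1
    have e32 : herm bar u3 u2 = 0 := hu3u2
    rw [herm_add_left, herm_add_left, herm_smul_left, herm_smul_left, e31, e32, e1, e2, e3]
    ext i
    simp only [Pi.add_apply, Pi.smul_apply, smul_eq_mul, hu1, hu2, hu3]
    have hω3 : ω ^ 3 = 1 := hcube ω hω0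
    linear_combination (α * v i + β * w i) * h2 + (β * v i + α * w i) * hω
      + (2 * β * w i) * hω3
  -- Witt: an isometry mapping `u1, u2` to `v, w`
  obtain ⟨g0, hg0, hg0u⟩ := exists_unitary_map_fam bar hne hinv ![u1, u2] ![v, w]
    (by
      intro c hc
      rw [Fin.sum_univ_two] at hc
      simp only [Matrix.cons_val_zero, Matrix.cons_val_one] at hc
      have ha := congrFun hc i0
      have hb := congrFun hc i2
      simp only [hu1, hu2, Pi.add_apply, Pi.smul_apply, smul_eq_mul, hv_i0, hw_i0, hv_i2, hw_i2,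
        Pi.zero_apply, mul_zero, add_zero, mul_one, zero_add] at ha hb
      have hc0 : c 0 = 0 := by
        linear_combination hb - ω ^ 2 * ha + c 0 * hω - ω * c 0 * h2
      have hc1 : c 1 = 0 := by
        rw [hc0, zero_add] at ha
        exact ha
      ext i
      fin_cases i
      · exact hc0
      · exact hc1)
    (by
      intro c hc
      rw [Fin.sum_univ_two] at hc
      simp only [Matrix.cons_val_zero, Matrix.cons_val_one] at hc
      have ha := congrFun hc i0
      have hb := congrFun hc i2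
      simp only [Pi.add_apply, Pi.smul_apply, smul_eq_mul, hv_i0, hw_i0, hv_i2, hw_i2,
        Pi.zero_apply, mul_zero, add_zero, mul_one, zero_add] at ha hb
      ext i
      fin_cases i
      · exact ha
      · exact hb)
    (by
      have hU : ∀ i : Fin 2, ∃ a b : F, (![u1, u2] : Fin 2 → Fin n → F) i = a • v + b • w := by
        rw [Fin.forall_fin_two]
        exact ⟨⟨1, ω, hu1'⟩, ⟨1, ω ^ 2, hu2'⟩⟩
      have hV : ∀ i : Fin 2, ∃ a b : F, (![v, w] : Fin 2 → Fin n → F) i = a • v + b • w := by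
        rw [Fin.forall_fin_two]
        exact ⟨⟨1, 0, hv'⟩, ⟨0, 1, hw'⟩⟩
      intro i j
      obtain ⟨a, b, e1⟩ := hU i
      obtain ⟨a', b', e2⟩ := hU j
      obtain ⟨a1, b1, e3⟩ := hV i
      obtain ⟨a1', b1', e4⟩ := hV j
      rw [e1, e2, e3, e4, hX, hX])
  have hg0u1 : g0 u1 = v := hg0u 0
  have hg0u2 : g0 u2 = w := hg0u 1
  -- the matrix of `g0`, corrected to determinant one
  set G0 : Matrix (Fin n) (Fin n) F := LinearMap.toMatrix' g0.toLinearMap with hG0
  have hG0x : ∀ x, G0 *ᵥ x = g0 x := by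
    intro x
    rw [hG0, LinearMap.toMatrix'_mulVec]
    rfl
  have hG0u : ∀ x y, herm bar (G0 *ᵥ x) (G0 *ᵥ y) = herm bar x y := by
    intro x y
    rw [hG0x, hG0x, hg0]
  have hdet := det_mul_bar_det bar G0 hG0u
  set δ : F := G0.det with hδ
  have hδ0 : δ ≠ 0 := by
    intro h0
    rw [h0, zero_mul] at hdet
    exact zero_ne_one hdet
  have hδ3 : δ ^ 3 = 1 := hcube δ hδ0
  set d0 : Fin n → F := Function.update (fun _ => (1 : F)) i0 δ with hd0
  set d1 : Fin n → F := Function.update (fun _ => (1 : F)) i1 δ with hd1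
  have hdd0 : ∀ i, d0 i * bar (d0 i) = 1 := by
    intro i
    by_cases hi : i = i0
    · subst hi
      simp only [hd0, Function.update_self]
      exact hdet
    · simp only [hd0, Function.update_of_ne hi, map_one, mul_one]
  have hdd1 : ∀ i, d1 i * bar (d1 i) = 1 := by
    intro i
    by_cases hi : i = i1
    · subst hi
      simp only [hd1, Function.update_self]
      exact hdet
    · simp only [hd1, Function.update_of_ne hi, map_one, mul_one]
  have hdet0 : (diagonal d0).det = δ := by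
    rw [det_diagonal, hd0, Finset.prod_update_of_mem (Finset.mem_univ _)]
    simp only [Finset.prod_const_one, mul_one]
  have hdet1 : (diagonal d1).det = δ := by
    rw [det_diagonal, hd1, Finset.prod_update_of_mem (Finset.mem_univ _)]
    simp only [Finset.prod_const_one, mul_one]
  set G : Matrix (Fin n) (Fin n) F := diagonal d0 * (diagonal d1 * G0) with hG
  have hGdet : G.det = 1 := by
    rw [hG, det_mul, det_mul, hdet0, hdet1]
    linear_combination hδ3
  have hGx : ∀ x, G *ᵥ x = diagonal d0 *ᵥ (diagonal d1 *ᵥ (G0 *ᵥ x)) := by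
    intro x
    rw [hG, ← mulVec_mulVec, ← mulVec_mulVec]
  have hGu : ∀ x y, herm bar (G *ᵥ x) (G *ᵥ y) = herm bar x y := by
    intro x y
    rw [hGx x, hGx y, herm_diagonal n bar d0 hdd0, herm_diagonal n bar d1 hdd1, hG0u]
  have hv_apply : ∀ i, i ≠ i0 → i ≠ i1 → v i = 0 := by
    intro i hi0 hi1
    simp [hv, hi0, hi1]
  have hw_apply : ∀ i, i ≠ i2 → i ≠ i3 → w i = 0 := by
    intro i hi2 hi3
    simp [hw, hi2, hi3]
  have hGu1 : G *ᵥ u1 = δ • v := by
    rw [hGx, hG0x, hg0u1]
    ext i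
    rw [mulVec_diagonal, mulVec_diagonal, Pi.smul_apply, smul_eq_mul]
    by_cases hi0 : i = i0
    · rw [hi0, hd0, hd1, Function.update_self, Function.update_of_ne h01, hv_i0]
      ring
    · by_cases hi1 : i = i1
      · rw [hi1, hd0, hd1, Function.update_self, Function.update_of_ne h01.symm, hv_i1]
        ring
      · rw [hv_apply i hi0 hi1]
        ring
  have hGu2 : G *ᵥ u2 = (1 : F) • w := by
    rw [hGx, hG0x, hg0u2, one_smul]
    ext i
    rw [mulVec_diagonal, mulVec_diagonal]
    by_cases hi0 : i = i0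
    · rw [hi0, hw_i0]
      ring
    · by_cases hi1 : i = i1
      · rw [hi1, hw_i1]
        ring
      · rw [hd0, hd1, Function.update_of_ne hi0, Function.update_of_ne hi1]
        ring
  let gSL : SpecialLinearGroup (Fin n) F := ⟨G, hGdet⟩
  have hgmem : gSL ∈ Cfsg.SU n F 2 := by
    rw [mem_SU_iff n bar hbar]
    exact hGu
  set g : Cfsg.SU n F 2 := ⟨gSL, hgmem⟩ with hg
  have hc1 := mul_tvMat_comm bar G hGu u1 v 1 δ hδ0 hGu1
  have hc2 := mul_tvMat_comm bar G hGu u2 w 1 1 one_ne_zero hGu2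
  have hconj : g * (T1 * T2) = (Tv * Tw) * g := by
    apply SU_ext
    rw [SU_coe_mul, SU_coe_mul, SU_coe_mul, SU_coe_mul, hT1, hT2, hTv, hTw, tvSU_coe, tvSU_coe,
      tvSU_coe, tvSU_coe]
    show G * (tvMat bar u1 1 * tvMat bar u2 1) = tvMat bar v 1 * tvMat bar w 1 * G
    rw [← Matrix.mul_assoc, hc1, Matrix.mul_assoc, hc2, ← Matrix.mul_assoc, one_mul, hdet,
      one_mul, map_one, mul_one]
  refine ⟨T3, ?_, ?_⟩
  · refine ⟨(T1 * T2)⁻¹, g, ?_⟩
    rw [commutatorElement_def, inv_inv]
    have h1 : g * (T1 * T2) * g⁻¹ = Tv * Tw := by rw [hconj]; group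
    have h2' : (T1 * T2)⁻¹ * g * (T1 * T2) * g⁻¹ = (T1 * T2)⁻¹ * (g * (T1 * T2) * g⁻¹) := by group
    rw [h2', h1, ← hid]
    group
  · rw [hT3, tvSU_coe]
    refine isTransvection_tvMat bar u3 1 ?_ one_ne_zero hu3u3
    intro h0
    have := congrFun h0 i0
    rw [hu3, Pi.add_apply, hv_i0, hw_i0, add_zero, Pi.zero_apply] at this
    exact one_ne_zero this

end Comm2

end Cfsg.Agent.Helper45.GU
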