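import Mathlib
import Cfsg.Agent.Helper37.BalA
import Cfsg.Agent.Helper37.OutPslD

/-!
Helper45: local balance for `PSL_n(F)` (S2686), part A: abstract group theory.
`NoNC p X`: the group `X` has no nontrivial normal subgroup of order prime to `p`.
-/

set_option autoImplicit false
set_option linter.unusedSectionVars false

namespace Cfsg.Agent.Helper45.LBL

open Cfsg.Agent.Helper14.AutPSL Cfsg.Agent.Helper37.OutPsl

/-- `X` has no nontrivial normal subgroup of order prime to `p` -/
def NoNC (p : ℕ) (X : Type*) [Group X] : Prop :=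
  ∀ M : Subgroup X, M.Normal → (Nat.card ↥M).Coprime p → M = ⊥

section abstract

variable {p : ℕ} {X Y : Type*} [Group X] [Group Y]

theorem NoNC.of_mulEquiv (e : X ≃* Y) (h : NoNC p X) : NoNC p Y := by
  intro M hMn hMc
  have h1 : (M.map e.symm.toMonoidHom).Normal := hMn.map _ e.symm.surjective
  have h2 : Nat.card ↥(M.map e.symm.toMonoidHom) = Nat.card ↥M :=
    Subgroup.card_map_of_injective e.symm.injective
  have h3 := h _ h1 (by rw [h2]; exact hMc)
  exact (Subgroup.map_eq_bot_iff_of_injective _ e.symm.injective).1 h3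

/-- a simple group of order divisible by `p` -/
theorem NoNC.of_simple (hp1 : p ≠ 1) (hs : IsSimpleGroup X) (hp : p ∣ Nat.card X) : NoNC p X := by
  intro M hMn hMc
  rcases hs.eq_bot_or_eq_top_of_normal M hMn with h | h
  · exact h
  · exfalso
    rw [h] at hMc
    have h1 : Nat.card ↥(⊤ : Subgroup X) = Nat.card X := Nat.card_congr Subgroup.topEquiv.toEquiv
    rw [h1] at hMc
    have h2 : p ∣ 1 := by
      have := Nat.dvd_gcd hp (dvd_refl p)
      rwa [Nat.Coprime.gcd_eq_one hMc] at this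
    exact hp1 (Nat.dvd_one.1 h2)

/-- a direct product -/
theorem NoNC.prod (hX : NoNC p X) (hY : NoNC p Y) : NoNC p (X × Y) := by
  intro M hMn hMc
  have h1 : (M.map (MonoidHom.fst X Y)).Normal := hMn.map _ Prod.fst_surjective
  have h2 : (M.map (MonoidHom.snd X Y)).Normal := hMn.map _ Prod.snd_surjective
  have h3 : M.map (MonoidHom.fst X Y) = ⊥ := by
    apply hX _ h1
    exact Nat.Coprime.coprime_dvd_left (Subgroup.card_map_dvd M (MonoidHom.fst X Y)) hMc
  have h4 : M.map (MonoidHom.snd X Y) = ⊥ := by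
    apply hY _ h2
    exact Nat.Coprime.coprime_dvd_left (Subgroup.card_map_dvd M (MonoidHom.snd X Y)) hMc
  rw [eq_bot_iff]
  intro x hx
  rw [Subgroup.mem_bot]
  have h5 : x.1 ∈ M.map (MonoidHom.fst X Y) := ⟨x, hx, rfl⟩
  have h6 : x.2 ∈ M.map (MonoidHom.snd X Y) := ⟨x, hx, rfl⟩
  rw [h3, Subgroup.mem_bot] at h5
  rw [h4, Subgroup.mem_bot] at h6
  exact Prod.ext h5 h6

/-- a group with a normal subgroup `L` with `NoNC p L` and trivial centraliser -/
theorem NoNC.of_normal (L : Subgroup X) [hLn : L.Normal] (hL : NoNC p ↥L)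
    (hc : ∀ x : X, (∀ l ∈ L, x * l = l * x) → x = 1) : NoNC p X := by
  intro M hMn hMc
  have hn : ((M ⊓ L).subgroupOf L).Normal := by
    constructor
    intro z hz c
    rw [Subgroup.mem_subgroupOf] at hz ⊢
    have hz' := Subgroup.mem_inf.1 hz
    exact Subgroup.mem_inf.2 ⟨hMn.conj_mem _ hz'.1 _, hLn.conj_mem _ hz'.2 _⟩
  have hcard : (Nat.card ↥((M ⊓ L).subgroupOf L)).Coprime p := by
    have h1 : Nat.card ↥((M ⊓ L).subgroupOf L) = Nat.card ↥(M ⊓ L) :=
      Nat.card_congr (Subgroup.subgroupOfEquivOfLe inf_le_right).toEquiv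
    rw [h1]
    exact Nat.Coprime.coprime_dvd_left (Subgroup.card_dvd_of_le inf_le_left) hMc
  have h := hL _ hn hcard
  rw [Subgroup.subgroupOf_eq_bot, disjoint_iff, inf_assoc, inf_idem] at h
  rw [eq_bot_iff]
  intro x hx
  rw [Subgroup.mem_bot]
  apply hc
  intro l hl
  have h1 : x * l * x⁻¹ * l⁻¹ ∈ M ⊓ L := by
    refine Subgroup.mem_inf.2 ⟨?_, ?_⟩
    · have := hMn.conj_mem _ (Subgroup.inv_mem _ hx) l
      have h2 := Subgroup.mul_mem _ hx this
      have h3 : x * (l * x⁻¹ * l⁻¹) = x * l * x⁻¹ * l⁻¹ := by group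
      rwa [h3] at h2
    · exact Subgroup.mul_mem _ (hLn.conj_mem _ hl x) (Subgroup.inv_mem _ hl)
  rw [h, Subgroup.mem_bot] at h1
  calc x * l = (x * l * x⁻¹ * l⁻¹) * l * x := by group
    _ = l * x := by rw [h1, one_mul]

/-- a normal subgroup of order `ℓ` with coprime index contains every element of `ℓ`-power order -/
theorem mem_of_pow_eq_one_of_coprime [Finite X] (M : Subgroup X) [hMn : M.Normal] {k : ℕ}
    (hk : (M.index).Coprime k) {x : X} (hx : x ^ k = 1) : x ∈ M := by
  have h1 : ((QuotientGroup.mk x : X ⧸ M)) ^ k = 1 := by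
    rw [← QuotientGroup.mk_pow, hx, QuotientGroup.mk_one]
  have h2 : orderOf (QuotientGroup.mk x : X ⧸ M) ∣ k := orderOf_dvd_of_pow_eq_one h1
  have h3 : orderOf (QuotientGroup.mk x : X ⧸ M) ∣ M.index := by
    rw [Subgroup.index_eq_card]
    exact orderOf_dvd_natCard _
  have h4 : orderOf (QuotientGroup.mk x : X ⧸ M) ∣ 1 := by
    have := Nat.dvd_gcd h3 h2
    rwa [Nat.Coprime.gcd_eq_one hk] at this
  have h5 : (QuotientGroup.mk x : X ⧸ M) = 1 := orderOf_eq_one_iff.1 (Nat.dvd_one.1 h4)
  exact (QuotientGroup.eq_one_iff x).1 h5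

end abstract

/-! ### automorphisms and inner automorphisms -/

section aut

variable {K : Type*} [Group K]

/-- an automorphism commuting with `conj k` fixes `k` when the centre is trivial -/
theorem apply_eq_of_commute_conj (hZ : Subgroup.center K = ⊥) (y : MulAut K) (k : K)
    (h : y * MulAut.conj k = MulAut.conj k * y) : y k = k := by
  have h2 : y * MulAut.conj k = MulAut.conj (y k) * y := by
    ext x
    simp [MulAut.mul_apply, MulAut.conj_apply]
  rw [h2] at h
  have h3 : MulAut.conj (y k) = MulAut.conj k := mul_right_cancel h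
  have h4 : (y k)⁻¹ * k ∈ Subgroup.center K := by
    rw [Subgroup.mem_center_iff]
    intro g
    have h5 := congrArg (fun ψ : MulAut K => ψ g) h3
    simp only [MulAut.conj_apply] at h5
    calc g * ((y k)⁻¹ * k) = (y k)⁻¹ * (y k * g * (y k)⁻¹) * k := by group
      _ = (y k)⁻¹ * (k * g * k⁻¹) * k := by rw [h5]
      _ = (y k)⁻¹ * k * g := by group
  rw [hZ, Subgroup.mem_bot] at h4
  exact (inv_mul_eq_one.1 h4)

theorem commute_conj_of_apply_eq (y : MulAut K) (k : K) (h : y k = k) :
    y * MulAut.conj k = MulAut.conj k * y := by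
  have h2 : y * MulAut.conj k = MulAut.conj (y k) * y := by
    ext x
    simp [MulAut.mul_apply, MulAut.conj_apply]
  rw [h2, h]

end aut

/-! ### the centre of `PSL_n(F)` -/

section psl

variable {n : ℕ} {F : Type*} [Field F]

theorem center_PSL_eq_bot (hn : 2 ≤ n) :
    Subgroup.center (Matrix.ProjectiveSpecialLinearGroup (Fin n) F) = ⊥ := by
  rw [eq_bot_iff]
  intro x hx
  rw [Subgroup.mem_bot]
  obtain ⟨s, rfl⟩ := prj_surjective x
  have h1 : MulAut.conj (prj s) = 1 := by
    ext y
    rw [MulAut.conj_apply, MulAut.one_apply]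
    have := Subgroup.mem_center_iff.1 hx y
    rw [← this]
    group
  rw [← pslOf_slConj_toGL] at h1
  have h2 : pslOf (slConj (Matrix.SpecialLinearGroup.toGL s) * slField (1 : F ≃+* F)) = 1 := by
    rw [slField_one, mul_one]
    exact h1
  obtain ⟨-, d, hd⟩ := eq_of_pslOf_eq_one hn h2
  have h3 : s ∈ Subgroup.center (Matrix.SpecialLinearGroup (Fin n) F) := by
    rw [Subgroup.mem_center_iff]
    intro t
    apply Subtype.ext
    rw [Matrix.SpecialLinearGroup.coe_mul, Matrix.SpecialLinearGroup.coe_mul]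
    have h4 : (s : Matrix (Fin n) (Fin n) F) = d • (1 : Matrix (Fin n) (Fin n) F) := hd
    rw [h4, Matrix.mul_smul, Matrix.smul_mul, Matrix.mul_one, Matrix.one_mul]
  exact (QuotientGroup.eq_one_iff s).2 h3

end psl

end Cfsg.Agent.Helper45.LBL
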