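import Mathlib
import Cfsg.Agent.Helper45.LBLA
import Cfsg.Agent.Helper37.OutPslE
import Cfsg.Agent.Helper14.AutCount

/-!
Helper45: local balance for `PSL_n(F)` (S2686), part B: rigidity lemmas with weak hypotheses:
an automorphism `conj g ∘ τ (∘ inverse transpose)` fixing the images of few transvections.
-/

set_option autoImplicit false
set_option linter.unusedSectionVars false

namespace Cfsg.Agent.Helper45.LBL

open Matrix Cfsg.Agent.Helper14.AutPSL Cfsg.Agent.Helper37.OutPsl

variable {n : ℕ} {F : Type*} [Field F]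

/-- if `g τ(a) ∈ F a` for the standard basis vectors and the vectors `e_i + x e_j` (`x ∈ S ∋ 1`)
then `g` is scalar and `τ` fixes `S` pointwise -/
theorem scalar_of_eigen (hn : 2 ≤ n) (g : GL (Fin n) F) (τ : F ≃+* F) (S : Set F)
    (h1S : (1 : F) ∈ S)
    (K1 : ∀ i : Fin n, ∃ c : F, (g : Matrix (Fin n) (Fin n) F) *ᵥ
      (fun k => τ ((Pi.single i (1 : F) : Fin n → F) k)) = c • Pi.single i (1 : F))
    (K2 : ∀ i j : Fin n, i ≠ j → ∀ x ∈ S, ∃ c : F, (g : Matrix (Fin n) (Fin n) F) *ᵥ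
      (fun k => τ ((Pi.single i (1 : F) + Pi.single j x : Fin n → F) k))
        = c • (Pi.single i (1 : F) + Pi.single j x)) :
    (∀ x ∈ S, τ x = x) ∧
      ∃ c : F, (g : Matrix (Fin n) (Fin n) F) = c • (1 : Matrix (Fin n) (Fin n) F) := by
  set G : Matrix (Fin n) (Fin n) F := (g : Matrix (Fin n) (Fin n) F) with hG
  -- step 1: `G` is diagonal
  have h1 : ∀ i k : Fin n, k ≠ i → G k i = 0 := by
    intro i k hki
    obtain ⟨c, hc⟩ := K1 i
    rw [map_single_one] at hc
    have := congrFun hc k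
    rw [Matrix.mulVec, dotProduct, Finset.sum_eq_single i] at this
    · simpa [Pi.single_apply, hki] using this
    · intro l _ hl
      simp [Pi.single_apply, hl]
    · intro hi; exact absurd (Finset.mem_univ i) hi
  have hmv : ∀ (v : Fin n → F) (k : Fin n), (G *ᵥ v) k = G k k * v k := by
    intro v k
    rw [Matrix.mulVec, dotProduct, Finset.sum_eq_single k]
    · intro l _ hl
      rw [h1 l k (Ne.symm hl), zero_mul]
    · intro hk; exact absurd (Finset.mem_univ k) hk
  -- step 2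
  have h2 : ∀ i j : Fin n, i ≠ j → ∀ x ∈ S, G j j * τ x = G i i * x := by
    intro i j hij x hx
    obtain ⟨c, hc⟩ := K2 i j hij x hx
    have e1 := congrFun hc i
    have e2 := congrFun hc j
    rw [hmv] at e1 e2
    simp [Pi.single_apply, hij, hij.symm] at e1 e2
    rw [e2, ← e1]
  have h01 : (⟨0, by omega⟩ : Fin n) ≠ ⟨1, by omega⟩ := by
    intro h; have := congrArg Fin.val h; simp at this
  set i0 : Fin n := ⟨0, by omega⟩ with hi0
  set i1 : Fin n := ⟨1, by omega⟩ with hi1
  have h3 : ∀ j : Fin n, G j j = G i0 i0 := by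
    intro j
    by_cases hj : j = i0
    · rw [hj]
    · have := h2 i0 j (Ne.symm hj) 1 h1S
      rwa [map_one, mul_one, mul_one] at this
  have hGeq : G = G i0 i0 • (1 : Matrix (Fin n) (Fin n) F) := by
    ext k l
    rw [Matrix.smul_apply, Matrix.one_apply, smul_eq_mul]
    by_cases hkl : k = l
    · subst hkl; rw [if_pos rfl, mul_one, h3]
    · rw [if_neg hkl, mul_zero, h1 l k hkl]
  have hne : G i0 i0 ≠ 0 := by
    intro h0
    have hdet : G.det ≠ 0 := by
      have := (Matrix.isUnit_iff_isUnit_det G).mp ⟨g, rfl⟩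
      exact this.ne_zero
    rw [hGeq, h0, zero_smul] at hdet
    apply hdet
    haveI : Nonempty (Fin n) := ⟨i0⟩
    exact Matrix.det_zero
  refine ⟨?_, G i0 i0, hGeq⟩
  intro x hx
  have := h2 i0 i1 h01 x hx
  rw [h3 i1] at this
  exact mul_left_cancel₀ hne this

theorem single_ne_zero_one (i : Fin n) : (Pi.single i (1 : F) : Fin n → F) ≠ 0 := by
  intro h0
  have := congrFun h0 i
  simp at this

theorem single_dot_single {i j : Fin n} (hij : i ≠ j) :
    (Pi.single j (1 : F) : Fin n → F) ⬝ᵥ Pi.single i (1 : F) = 0 := by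
  rw [single_dotProduct, one_mul, Pi.single_apply, if_neg hij.symm]

/-- the functional `x e_i - e_j` kills `e_i + x e_j` -/
theorem pair_dot {i j : Fin n} (hij : i ≠ j) (x : F) :
    (Pi.single i x - Pi.single j (1 : F) : Fin n → F) ⬝ᵥ (Pi.single i (1 : F) + Pi.single j x)
      = 0 := by
  rw [sub_dotProduct, single_dotProduct, single_dotProduct]
  simp [Pi.single_apply, hij, hij.symm]

theorem pair_ne_zero {i j : Fin n} (hij : i ≠ j) (x : F) :
    (Pi.single i (1 : F) + Pi.single j x : Fin n → F) ≠ 0 := by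
  intro h0
  have := congrFun h0 i
  simp [Pi.single_apply, hij] at this

theorem pair_dual_ne_zero {i j : Fin n} (hij : i ≠ j) (x : F) :
    (Pi.single i x - Pi.single j (1 : F) : Fin n → F) ≠ 0 := by
  intro h0
  have := congrFun h0 j
  simp [Pi.single_apply, hij.symm] at this

/-- the eigenvector consequence of fixing the image of a transvection -/
theorem eigen_of_fix (hn : 2 ≤ n) {g : GL (Fin n) F} {τ : F ≃+* F} {a φ : Fin n → F}
    (hd : φ ⬝ᵥ a = 0) (ha : a ≠ 0) (hφ : φ ≠ 0)
    (h : pslOf (slConj g * slField τ) (prj (tv a φ hd)) = prj (tv a φ hd)) :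
    ∃ c : F, (g : Matrix (Fin n) (Fin n) F) *ᵥ (fun i => τ (a i)) = c • a := by
  haveI : Nonempty (Fin n) := ⟨⟨0, by omega⟩⟩
  rw [pslOf_prj, MulAut.mul_apply, slField_tv, slConj_tv] at h
  have h2 := IsTq.eq_of_mk_eq ⟨_, _, _, rfl⟩ ⟨_, _, _, rfl⟩ h
  obtain ⟨c, -, hb, -⟩ := tv_eq_tv _ _ ha hφ h2.symm
  exact ⟨c, hb⟩

/-- weak rigidity: `conj g ∘ τ` fixing the images of the transvections with entries in `S` -/
theorem weak_semilinear (hn : 2 ≤ n) (g : GL (Fin n) F) (τ : F ≃+* F) (S : Set F)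
    (h0S : (0 : F) ∈ S) (h1S : (1 : F) ∈ S) (hnS : ∀ x ∈ S, -x ∈ S)
    (h : ∀ (a φ : Fin n → F) (hd : φ ⬝ᵥ a = 0), (∀ i, a i ∈ S) → (∀ i, φ i ∈ S) →
      pslOf (slConj g * slField τ) (prj (tv a φ hd)) = prj (tv a φ hd)) :
    (∀ x ∈ S, τ x = x) ∧
      ∃ c : F, (g : Matrix (Fin n) (Fin n) F) = c • (1 : Matrix (Fin n) (Fin n) F) := by
  have hsingle : ∀ (i : Fin n) (x : F), x ∈ S → ∀ k, (Pi.single i x : Fin n → F) k ∈ S := by
    intro i x hx k
    by_cases hk : k = i
    · subst hk; simpa using hx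
    · simpa [Pi.single_apply, hk] using h0S
  have h01 : (⟨0, by omega⟩ : Fin n) ≠ ⟨1, by omega⟩ := by
    intro h; have := congrArg Fin.val h; simp at this
  apply scalar_of_eigen hn g τ S h1S
  · intro i
    obtain ⟨j, hij⟩ : ∃ j : Fin n, i ≠ j := by
      by_cases hi : i = ⟨0, by omega⟩
      · exact ⟨⟨1, by omega⟩, by rw [hi]; exact h01⟩
      · exact ⟨⟨0, by omega⟩, hi⟩
    exact eigen_of_fix hn (single_dot_single hij) (single_ne_zero_one i) (single_ne_zero_one j)
      (h _ _ _ (hsingle i 1 h1S) (hsingle j 1 h1S))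
  · intro i j hij x hx
    refine eigen_of_fix hn (pair_dot hij x) (pair_ne_zero hij x) (pair_dual_ne_zero hij x)
      (h _ _ _ ?_ ?_)
    · intro k
      rw [Pi.add_apply]
      by_cases hk : k = i
      · subst hk
        simpa [Pi.single_apply, hij] using h1S
      · by_cases hk' : k = j
        · subst hk'
          simpa [Pi.single_apply, hij.symm] using hx
        · simpa [Pi.single_apply, hk, hk'] using h0S
    · intro k
      rw [Pi.sub_apply]
      by_cases hk : k = i
      · subst hk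
        simpa [Pi.single_apply, hij] using hx
      · by_cases hk' : k = j
        · subst hk'
          simpa [Pi.single_apply, hij.symm] using hnS 1 h1S
        · simpa [Pi.single_apply, hk, hk'] using h0S

/-- weak version of `pslOf_invT_ne_one`: in dimension at least 3 no `conj g ∘ τ ∘ (inverse
transpose)` fixes the images of the elementary transvections -/
theorem weak_invT (hn : 3 ≤ n) (g : GL (Fin n) F) (τ : F ≃+* F)
    (h : ∀ (i j : Fin n) (hij : i ≠ j),
      pslOf (slConj g * slField τ * slInvT)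
        (prj (tv (Pi.single i (1 : F)) (Pi.single j (1 : F)) (single_dot_single hij)))
        = prj (tv (Pi.single i (1 : F)) (Pi.single j (1 : F)) (single_dot_single hij))) :
    False := by
  haveI : Nonempty (Fin n) := ⟨⟨0, by omega⟩⟩
  set i0 : Fin n := ⟨0, by omega⟩ with hi0
  set i1 : Fin n := ⟨1, by omega⟩ with hi1
  set i2 : Fin n := ⟨2, by omega⟩ with hi2
  have h01 : i0 ≠ i1 := by intro h; have := congrArg Fin.val h; simp [hi0, hi1] at this
  have h02 : i0 ≠ i2 := by intro h; have := congrArg Fin.val h; simp [hi0, hi2] at this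
  have h12 : i1 ≠ i2 := by intro h; have := congrArg Fin.val h; simp [hi1, hi2] at this
  have key : ∀ j : Fin n, j ≠ i0 → ∃ c : F,
      (g : Matrix (Fin n) (Fin n) F) *ᵥ (Pi.single j (1 : F)) = c • Pi.single i0 (1 : F) := by
    intro j hj
    have h1 := h i0 j (Ne.symm hj)
    rw [pslOf_prj, MulAut.mul_apply, MulAut.mul_apply, slInvT_tv, slField_tv, slConj_tv] at h1
    have h2 := IsTq.eq_of_mk_eq ⟨_, _, _, rfl⟩ ⟨_, _, _, rfl⟩ h1
    obtain ⟨c, -, hb, -⟩ := tv_eq_tv _ _ (single_ne_zero_one i0) (single_ne_zero_one j) h2.symm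
    rw [map_single_one] at hb
    exact ⟨c, hb⟩
  obtain ⟨c1, hc1⟩ := key i1 h01.symm
  obtain ⟨c2, hc2⟩ := key i2 h02.symm
  have h3 : (g : Matrix (Fin n) (Fin n) F) *ᵥ
      (c2 • Pi.single i1 (1 : F) - c1 • Pi.single i2 (1 : F)) = 0 := by
    rw [Matrix.mulVec_sub, Matrix.mulVec_smul, Matrix.mulVec_smul, hc1, hc2, smul_smul, smul_smul,
      mul_comm, sub_self]
  have h4 : (c2 • Pi.single i1 (1 : F) - c1 • Pi.single i2 (1 : F) : Fin n → F) = 0 := by
    have := congrArg (fun v => ((g⁻¹ : GL (Fin n) F) : Matrix (Fin n) (Fin n) F) *ᵥ v) h3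
    simp only [Matrix.mulVec_mulVec, gl_inv_mul, Matrix.one_mulVec, Matrix.mulVec_zero] at this
    exact this
  have e1 := congrFun h4 i1
  have e2 := congrFun h4 i2
  simp [Pi.single_apply, h12, h12.symm] at e1 e2
  rw [e1, zero_smul] at hc2
  have h5 : (Pi.single i2 (1 : F) : Fin n → F) = 0 := by
    have := congrArg (fun v => ((g⁻¹ : GL (Fin n) F) : Matrix (Fin n) (Fin n) F) *ᵥ v) hc2
    simp only [Matrix.mulVec_mulVec, gl_inv_mul, Matrix.one_mulVec, Matrix.mulVec_zero] at this
    exact this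
  have := congrFun h5 i2
  simp at this

/-- normal forms, with `ε = false` in dimension two -/
theorem exists_NF [Fintype F] {p f : ℕ} [Fact p.Prime] (hF : Fintype.card F = p ^ f) (hf : 1 ≤ f)
    (hn : 2 ≤ n) (β : MulAut (Matrix.ProjectiveSpecialLinearGroup (Fin n) F)) :
    ∃ (σ : F ≃+* F) (ε : Bool), NF β σ ε ∧ (n = 2 → ε = false) := by
  obtain ⟨g, σ, ε, hβ⟩ := exists_factorization hF hf hn β
  rw [← map_mul, ← map_mul] at hβ
  by_cases hn2 : n = 2
  · cases ε
    · exact ⟨σ, false, ⟨g, hβ⟩, fun _ => rfl⟩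
    · obtain ⟨J, hJ⟩ := exists_slInvT_eq_slConj (n := n) (F := F) hn2
      refine ⟨σ, false, ⟨g * glMap σ J, ?_⟩, fun _ => rfl⟩
      rw [hβ, slT_true, slT_false, mul_one, hJ, mul_assoc, slField_slConj, ← mul_assoc,
        ← slConj_mul]
  · exact ⟨σ, ε, ⟨g, hβ⟩, fun h => absurd h hn2⟩

end Cfsg.Agent.Helper45.LBL
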