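import Cfsg.Agent.Helper39.X648.Defs

/-!
# (A0c) for helper39's S3366: the pointwise facts about `u`
-/

set_option autoImplicit false

namespace Cfsg.Agent.Helper45.X648

open Cfsg.Agent.Helper39.X648

variable {X : Type*} [Group X] [Finite X] {R : Subgroup X} {π : X →* SL23}

/-- (A0c) the pointwise facts about `u` -/
theorem base_u (hπ : Function.Surjective π) (hker : ∀ g : X, π g = 1 ↔ g ∈ R)
    (hSL : SLFacts wSL) (u : X) (hu : π u = wSL) :
    u ∉ R ∧ u * u ∈ R ∧ (∀ g : X, g * u * g⁻¹ * u⁻¹ ∈ R) ∧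
    (∀ g : X, g * g ∈ R → g ∈ R ∨ g * u⁻¹ ∈ R) ∧ (∀ g : X, g ^ 8 ∈ R → g ^ 4 ∈ R) := by
  refine ⟨?_, ?_, ?_, ?_, ?_⟩
  · intro h
    rw [← hker, hu] at h
    exact hSL.w_ne h
  · rw [← hker, map_mul, hu]
    exact hSL.w_sq
  · intro g
    rw [← hker, map_mul, map_mul, map_mul, map_inv, map_inv, hu, hSL.w_cen (π g), mul_assoc wSL,
      mul_inv_cancel, mul_one, mul_inv_cancel]
  · intro g hg
    rw [← hker, map_mul] at hg
    rcases hSL.w_uniq (π g) hg with h | h
    · left
      rw [← hker]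
      exact h
    · right
      rw [← hker, map_mul, map_inv, hu, h, mul_inv_cancel]
  · intro g hg
    rw [← hker, map_pow] at hg
    rw [← hker, map_pow]
    exact hSL.no8 (π g) hg

end Cfsg.Agent.Helper45.X648
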