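import Cfsg.Agent.Helper39.X648.Defs

/-!
# (A0f) for helper39's S3366: `u` lies in every normal subgroup properly containing `R`
-/

set_option autoImplicit false

namespace Cfsg.Agent.Helper45.X648

open Cfsg.Agent.Helper39.X648

variable {X : Type*} [Group X] [Finite X] {R : Subgroup X} {π : X →* SL23}

/-- (A0f) -/
theorem base_u_normal (hπ : Function.Surjective π) (hker : ∀ g : X, π g = 1 ↔ g ∈ R)
    (hSL : SLFacts wSL) (u : X) (hu : π u = wSL) :
    ∀ N : Subgroup X, N.Normal → R ≤ N → N ≠ R → u ∈ N := by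
  intro N hN hRN hne
  have hmapN : (N.map π).Normal := hN.map π hπ
  have hne' : N.map π ≠ ⊥ := by
    intro h
    apply hne
    apply le_antisymm _ hRN
    intro n hn
    rw [← hker]
    have : π n ∈ N.map π := Subgroup.mem_map_of_mem π hn
    rw [h, Subgroup.mem_bot] at this
    exact this
  have hw := hSL.w_mem (N.map π) hmapN hne'
  obtain ⟨n, hn, hnw⟩ := Subgroup.mem_map.1 hw
  have hk : n⁻¹ * u ∈ R := by
    rw [← hker, map_mul, map_inv, hnw, hu, inv_mul_cancel]
  have : u = n * (n⁻¹ * u) := by group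
  rw [this]
  exact N.mul_mem hn (hRN hk)

end Cfsg.Agent.Helper45.X648
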