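import Mathlib
import Cfsg.Agent.Helper42.DZDefs
import Cfsg.Agent.Helper42.UnipH
import Cfsg.Agent.Helper81.DZISO

/-! Piece (ST) of helper42's S4538/S2440 (WANTED #5421), part a: the multiplicity of a character in a transitive
permutation character is the dimension of the fixed space of a point stabiliser; application to the flag
characters of `SL_n(F)`.  (helper45) -/

set_option autoImplicit false

namespace Cfsg.Agent.Helper45.DZ

open Matrix Cfsg Cfsg.Agent.Helper42.DZ
open scoped ComplexConjugate

section general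

variable {G : Type*} [Group G] [Fintype G]

/-- double counting for a class function and a transitive finite `G`-set -/
theorem sum_mul_card_fixedBy {X : Type*} [Fintype X] [MulAction G X] [MulAction.IsPretransitive G X]
    (χ : G → ℂ) (hχ : ∀ g t : G, χ (t * g * t⁻¹) = χ g) (x₀ : X) (H : Subgroup G) [Fintype H]
    (hH : ∀ g : G, g • x₀ = x₀ ↔ g ∈ H) :
    ∑ g : G, χ g * (Nat.card (MulAction.fixedBy X g) : ℂ) = (Fintype.card X : ℂ) * ∑ h : H, χ (h : G) := by
  classical
  have hcard : ∀ g : G, (Nat.card (MulAction.fixedBy X g) : ℂ) =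
      ∑ x : X, if g • x = x then (1 : ℂ) else 0 := by
    intro g
    rw [Finset.sum_boole, Nat.card_eq_fintype_card]
    congr 1
    rw [Fintype.card_subtype]
    rfl
  have hlhs : ∑ g : G, χ g * (Nat.card (MulAction.fixedBy X g) : ℂ) =
      ∑ x : X, ∑ g : G, χ g * (if g • x = x then (1 : ℂ) else 0) := by
    rw [Finset.sum_comm]
    refine Finset.sum_congr rfl fun g _ => ?_
    rw [hcard, Finset.mul_sum]
  rw [hlhs]
  have hf : ∀ x : X, ∑ g : G, χ g * (if g • x = x then (1 : ℂ) else 0) = ∑ h : H, χ (h : G) := by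
    intro x
    obtain ⟨t, rfl⟩ := MulAction.exists_smul_eq G x₀ x
    rw [← Equiv.sum_comp (MulAut.conj t).toEquiv]
    have hterm : ∀ g' : G, χ ((MulAut.conj t).toEquiv g') *
        (if (MulAut.conj t).toEquiv g' • t • x₀ = t • x₀ then (1 : ℂ) else 0) =
        if g' ∈ H then χ g' else 0 := by
      intro g'
      have e1 : (MulAut.conj t).toEquiv g' = t * g' * t⁻¹ := rfl
      rw [e1, hχ g' t]
      have e2 : (t * g' * t⁻¹) • t • x₀ = t • x₀ ↔ g' ∈ H := by
        rw [← hH g', smul_smul, inv_mul_cancel_right, mul_smul]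
        exact (MulAction.injective t).eq_iff
      simp only [e2]
      split_ifs <;> simp
    simp only [hterm]
    rw [← Finset.sum_filter]
    exact (Finset.sum_subtype (Finset.univ.filter (· ∈ H)) (by simp) χ)
  simp only [hf]
  rw [Finset.sum_const, Finset.card_univ, nsmul_eq_mul]

/-- the multiplicity of a class function in a transitive permutation character -/
theorem classInner_permChar_eq {X : Type*} [Fintype X] [MulAction G X] [MulAction.IsPretransitive G X]
    (χ : G → ℂ) (hχ : ∀ g t : G, χ (t * g * t⁻¹) = χ g) (x₀ : X) (H : Subgroup G) [Fintype H]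
    (hH : ∀ g : G, g • x₀ = x₀ ↔ g ∈ H) :
    classInner χ (fun g => (Nat.card (MulAction.fixedBy X g) : ℂ)) =
      (Fintype.card H : ℂ)⁻¹ * ∑ h : H, χ (h : G) := by
  unfold classInner
  simp only [Complex.conj_natCast]
  rw [sum_mul_card_fixedBy χ hχ x₀ H hH, ← mul_assoc]
  congr 1
  have hstab : MulAction.stabilizer G x₀ = H := by
    ext g
    rw [MulAction.mem_stabilizer_iff, hH]
  have h1 := MulAction.index_stabilizer_of_transitive G x₀
  rw [hstab] at h1
  have h2 := Subgroup.card_mul_index H
  rw [h1, Nat.card_eq_fintype_card, Nat.card_eq_fintype_card] at h2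
  have h3 : (Fintype.card H : ℂ) * (Fintype.card X : ℂ) = (Nat.card G : ℂ) := by
    exact_mod_cast h2
  have hH0 : (Fintype.card H : ℂ) ≠ 0 := by
    have : 0 < Fintype.card H := Fintype.card_pos
    exact_mod_cast this.ne'
  have hX0 : (Fintype.card X : ℂ) ≠ 0 := by
    have : Nonempty X := ⟨x₀⟩
    have : 0 < Fintype.card X := Fintype.card_pos
    exact_mod_cast this.ne'
  rw [← h3]
  field_simp

end general

section flag

variable {n : ℕ} {F : Type*} [Field F] [Fintype F]

/-- the multiplicity of a character of `SL_n(F)` in the flag character of the composition `α` is the dimension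
of the space of fixed vectors of the parabolic subgroup `PS α` -/
theorem classInner_flag [Fintype (SLn n F)] (hn : 0 < n) (α : Fin n → ℕ) {W : Type*} [AddCommGroup W]
    [Module ℂ W] [FiniteDimensional ℂ W] (ρ : Representation ℂ (SLn n F) W) :
    classInner ρ.character (fun s : SLn n F =>
        fixedPointCharacter (parabolicGL n F α) (Matrix.SpecialLinearGroup.toGL s)) =
      (Module.finrank ℂ (isoSub ρ (PS n F α) (fun _ => 1)) : ℂ) := by
  classical
  letI : Fintype (GL (Fin n) F ⧸ parabolicGL n F α) := Fintype.ofFinite _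
  letI : Fintype (PS n F α) := Fintype.ofFinite _
  letI act : MulAction (SLn n F) (GL (Fin n) F ⧸ parabolicGL n F α) :=
    MulAction.compHom _ (Matrix.SpecialLinearGroup.toGL)
  have hsmul : ∀ (s : SLn n F) (x : GL (Fin n) F ⧸ parabolicGL n F α),
      s • x = (Matrix.SpecialLinearGroup.toGL s) • x := fun _ _ => rfl
  let x₀ : GL (Fin n) F ⧸ parabolicGL n F α := QuotientGroup.mk 1
  haveI : MulAction.IsPretransitive (SLn n F) (GL (Fin n) F ⧸ parabolicGL n F α) := by
    rw [MulAction.isPretransitive_iff_base x₀]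
    intro x
    induction x using QuotientGroup.induction_on with
    | H g =>
      obtain ⟨s, d, hd, hs⟩ := Cfsg.Agent.Helper42.Unip.exists_SL_mul_diag hn g
      refine ⟨s, ?_⟩
      rw [hsmul, hs]
      show ((g * d * 1 : GL (Fin n) F) : GL (Fin n) F ⧸ parabolicGL n F α) = (g : GL (Fin n) F ⧸ parabolicGL n F α)
      rw [QuotientGroup.eq, mul_one, _root_.mul_inv_rev, inv_mul_cancel_right]
      exact Subgroup.inv_mem _ (Cfsg.Agent.Helper42.Unip.diagSub_le_parabolic α hd)
  have hH : ∀ s : SLn n F, s • x₀ = x₀ ↔ s ∈ PS n F α := by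
    intro s
    rw [hsmul]
    show ((Matrix.SpecialLinearGroup.toGL s * 1 : GL (Fin n) F) : GL (Fin n) F ⧸ parabolicGL n F α) =
      ((1 : GL (Fin n) F) : GL (Fin n) F ⧸ parabolicGL n F α) ↔ _
    rw [QuotientGroup.eq, mul_one, mul_one, inv_mem_iff]
    rfl
  have key := classInner_permChar_eq (G := SLn n F) (X := GL (Fin n) F ⧸ parabolicGL n F α) ρ.character
    (fun g t => Representation.char_conj ρ g t) x₀ (PS n F α) hH
  have hiso := Cfsg.Agent.Helper81.DZ.finrank_isoSub ρ (PS n F α) (fun _ => (1 : ℂ)) rfl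
    (fun _ _ _ _ => (one_mul 1).symm)
  rw [hiso]
  simp only [inv_one, mul_one]
  exact key

end flag

end Cfsg.Agent.Helper45.DZ
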