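import Mathlib
import Cfsg.Agent.Helper42.DZDefs
import Cfsg.Agent.Helper42.UnipH

/-! Piece (ST) of helper42's S4538/S2440 (WANTED #5421), part b: the flag characters of `SL_n(F)` attached to two
compositions which are rearrangements of each other coincide.  (helper45) -/

set_option autoImplicit false

namespace Cfsg.Agent.Helper45.DZ

open Matrix Cfsg Cfsg.Agent.Helper42.DZ Cfsg.Agent.Helper42.Unip
open scoped ComplexConjugate

section tables

variable {n : ℕ}

/-- permuting rows and columns of tables -/
def tablesPerm (α β : Fin n → ℕ) (σ τ : Equiv.Perm (Fin n)) :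
    Tables α β → Tables (α ∘ σ) (β ∘ τ) := fun t =>
  ⟨fun a b => t.1 (σ a) (τ b), by
    constructor
    · intro a
      rw [Equiv.sum_comp τ (fun b => t.1 (σ a) b)]
      exact t.2.1 (σ a)
    · intro b
      rw [Equiv.sum_comp σ (fun a => t.1 a (τ b))]
      exact t.2.2 (τ b)⟩

theorem tablesPerm_injective (α β : Fin n → ℕ) (σ τ : Equiv.Perm (Fin n)) :
    Function.Injective (tablesPerm α β σ τ) := by
  intro t t' h
  apply Subtype.ext
  funext a b
  have h1 := congrFun (congrFun (congrArg Subtype.val h) (σ.symm a)) (τ.symm b)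
  simpa [tablesPerm] using h1

theorem tablesPerm_surjective (α β : Fin n → ℕ) (σ τ : Equiv.Perm (Fin n)) :
    Function.Surjective (tablesPerm α β σ τ) := by
  intro t'
  refine ⟨⟨fun a b => t'.1 (σ.symm a) (τ.symm b), ?_, ?_⟩, ?_⟩
  · intro a
    rw [Equiv.sum_comp τ.symm (fun b => t'.1 (σ.symm a) b), t'.2.1]
    simp
  · intro b
    rw [Equiv.sum_comp σ.symm (fun a => t'.1 a (τ.symm b)), t'.2.2]
    simp
  · apply Subtype.ext
    funext a b
    simp [tablesPerm]

theorem card_tables_perm (α β : Fin n → ℕ) (σ τ : Equiv.Perm (Fin n)) :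
    Nat.card (Tables (α ∘ σ) (β ∘ τ)) = Nat.card (Tables α β) :=
  (Nat.card_congr (Equiv.ofBijective _ ⟨tablesPerm_injective α β σ τ, tablesPerm_surjective α β σ τ⟩)).symm

end tables

section flag

variable {n : ℕ} {F : Type*} [Field F] [Fintype F]

/-- rearranging a composition does not change the flag character of `SL_n(F)` -/
theorem flag_perm [Fintype (SLn n F)] (hn : 0 < n) (α : Fin n → ℕ) (hα : ∑ i, α i = n)
    (σ : Equiv.Perm (Fin n)) :
    (fun s : SLn n F => fixedPointCharacter (parabolicGL n F (α ∘ σ)) (Matrix.SpecialLinearGroup.toGL s)) =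
      fun s : SLn n F => fixedPointCharacter (parabolicGL n F α) (Matrix.SpecialLinearGroup.toGL s) := by
  have hβ : ∑ i, (α ∘ σ) i = n := (Equiv.sum_comp σ α).trans hα
  have h11 := classInner_parabolic_SL (F := F) hn (α ∘ σ) (α ∘ σ) hβ hβ
  have h12 := classInner_parabolic_SL (F := F) hn (α ∘ σ) α hβ hα
  have h21 := classInner_parabolic_SL (F := F) hn α (α ∘ σ) hα hβ
  have h22 := classInner_parabolic_SL (F := F) hn α α hα hα
  have e11 : Nat.card (Tables (α ∘ σ) (α ∘ σ)) = Nat.card (Tables α α) := card_tables_perm α α σ σ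
  have e12 : Nat.card (Tables (α ∘ σ) α) = Nat.card (Tables α α) := by
    have := card_tables_perm α α σ 1
    simpa using this
  have e21 : Nat.card (Tables α (α ∘ σ)) = Nat.card (Tables α α) := by
    have := card_tables_perm α α 1 σ
    simpa using this
  rw [e11] at h11
  rw [e12] at h12
  rw [e21] at h21
  have hzero := Cfsg.Agent.Helper74.classInner_self_eq_zero
    (φ := (fun s : SLn n F => fixedPointCharacter (parabolicGL n F (α ∘ σ)) (Matrix.SpecialLinearGroup.toGL s)) -
      fun s : SLn n F => fixedPointCharacter (parabolicGL n F α) (Matrix.SpecialLinearGroup.toGL s)) (by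
    rw [Cfsg.Agent.Helper74.classInner_sub_left, Cfsg.Agent.Helper74.classInner_sub_right,
      Cfsg.Agent.Helper74.classInner_sub_right, h11, h12, h21, h22]
    ring)
  exact sub_eq_zero.1 hzero

end flag

end Cfsg.Agent.Helper45.DZ
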