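import Mathlib
import Cfsg.Agent.Helper42.DZDefs
import Cfsg.Agent.Helper42.UnipH
import Cfsg.Agent.Helper42.StFlagA
import Cfsg.Agent.Helper33.DZW3

/-! Piece (ST) of helper42's S4538/S2440 (WANTED #5421), part c: the minimal parabolic subgroups of `SL_n(F)` as
`PS` of the compositions `(1,…,1,2,1,…,1,0)`.  (helper45) -/

set_option autoImplicit false

namespace Cfsg.Agent.Helper45.DZ

open Matrix Cfsg Cfsg.Agent.Helper42.DZ Cfsg.Agent.Helper42.Unip

variable {n : ℕ}

/-- the composition `(1,…,1,2,1,…,1,0)` with the `2` at position `m` -/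
def minComp (n m : ℕ) : Fin n → ℕ := fun k => if k.val = m then 2 else if k.val + 1 = n then 0 else 1

theorem psum_eq_prefSum (μ : Fin n → ℕ) (j : Fin n) :
    Cfsg.Agent.Helper42.StVal.psum μ j = Cfsg.Agent.S2420.prefSum μ (j.val + 1) := by
  unfold Cfsg.Agent.Helper42.StVal.psum Cfsg.Agent.S2420.prefSum
  refine Finset.sum_congr ?_ (fun _ _ => rfl)
  ext k
  simp only [Finset.mem_filter, Finset.mem_univ, true_and, Fin.le_def]
  omega

theorem prefSum_minComp (m : ℕ) (hm : m + 1 < n) : ∀ m' : ℕ, m' ≤ n →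
    Cfsg.Agent.S2420.prefSum (minComp n m) m' = if m' ≤ m then m' else if m' = n then n else m' + 1 := by
  intro m'
  induction m' with
  | zero =>
    intro _
    rw [Cfsg.Agent.S2420.prefSum_zero]
    simp
  | succ m' ih =>
    intro h
    have hlt : m' < n := h
    rw [Cfsg.Agent.S2420.prefSum_succ _ m' hlt, ih hlt.le]
    simp only [minComp]
    split_ifs <;> omega

theorem sum_minComp (m : ℕ) (hm : m + 1 < n) : ∑ i, minComp n m i = n := by
  rw [← Cfsg.Agent.S2420.prefSum_top (minComp n m) n le_rfl, prefSum_minComp m hm n le_rfl]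
  split_ifs <;> omega

theorem psum_minComp (m : ℕ) (hm : m + 1 < n) (k : Fin n) :
    Cfsg.Agent.Helper42.StVal.psum (minComp n m) k =
      if k.val + 1 ≤ m then k.val + 1 else if k.val + 1 = n then n else k.val + 2 := by
  rw [psum_eq_prefSum, prefSum_minComp m hm _ k.isLt]

/-- the block labelling of `minComp n m`: only the positions `m`, `m + 1` are merged -/
theorem compLabel_minComp_lt_iff (m : ℕ) (hm : m + 1 < n) (i j : Fin n) :
    compLabel (minComp n m) j < compLabel (minComp n m) i ↔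
      j.val < i.val ∧ ¬(j.val = m ∧ i.val = m + 1) := by
  rw [Cfsg.Agent.Helper42.StVal.compLabel_lt_iff]
  have hi := i.isLt
  have hj := j.isLt
  constructor
  · rintro ⟨k, hk1, hk2⟩
    rw [psum_minComp m hm k] at hk1 hk2
    have hk := k.isLt
    split_ifs at hk1 hk2 <;> omega
  · rintro ⟨hji, hne⟩
    by_cases h1 : j.val + 1 ≤ m
    · refine ⟨j, ?_, ?_⟩ <;> rw [psum_minComp m hm j] <;> split_ifs <;> omega
    · by_cases h2 : j.val = m
      · refine ⟨j, ?_, ?_⟩ <;> rw [psum_minComp m hm j] <;> split_ifs <;> omega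
      · have hk : j.val - 1 < n := by omega
        refine ⟨⟨j.val - 1, hk⟩, ?_, ?_⟩ <;> rw [psum_minComp m hm] <;> simp only <;> split_ifs <;> omega

/-- the compositions `minComp n m` are rearrangements of each other -/
theorem minComp_swap (m m' : ℕ) (hm : m + 1 < n) (hm' : m' + 1 < n) :
    minComp n m' = minComp n m ∘ Equiv.swap (⟨m, by omega⟩ : Fin n) ⟨m', by omega⟩ := by
  funext k
  simp only [Function.comp_apply, minComp]
  by_cases h1 : k = (⟨m, by omega⟩ : Fin n)
  · subst h1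
    rw [Equiv.swap_apply_left]
    simp only
    split_ifs <;> omega
  · by_cases h2 : k = (⟨m', by omega⟩ : Fin n)
    · subst h2
      rw [Equiv.swap_apply_right]
      simp only
      split_ifs <;> omega
    · rw [Equiv.swap_apply_of_ne_of_ne h1 h2]
      have h1' : k.val ≠ m := fun h => h1 (Fin.ext h)
      have h2' : k.val ≠ m' := fun h => h2 (Fin.ext h)
      rw [if_neg h1', if_neg h2']

section groups

variable {F : Type*} [Field F]

theorem mem_PS_iff (α : Fin n → ℕ) (g : SLn n F) :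
    g ∈ PS n F α ↔ ∀ r c : Fin n, compLabel α c < compLabel α r → g.1 r c = 0 := by
  constructor
  · intro h r c hrc
    exact h hrc
  · intro h r c hrc
    exact h r c hrc

theorem BS_le_PS (α : Fin n → ℕ) : BS n F ≤ PS n F α :=
  Subgroup.comap_mono (borel_le_parabolic α)

theorem prefSum_one : ∀ m' : ℕ, m' ≤ n → Cfsg.Agent.S2420.prefSum (fun _ : Fin n => 1) m' = m' := by
  intro m'
  induction m' with
  | zero =>
    intro _
    rw [Cfsg.Agent.S2420.prefSum_zero]
  | succ m' ih =>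
    intro h
    have hlt : m' < n := h
    rw [Cfsg.Agent.S2420.prefSum_succ _ m' hlt, ih hlt.le]

theorem PS_one_eq_BS : PS n F (fun _ => 1) = BS n F := by
  apply le_antisymm _ (BS_le_PS _)
  intro g hg
  rw [mem_BS]
  intro i j hji
  rw [mem_PS_iff] at hg
  apply hg
  rw [Cfsg.Agent.Helper42.StVal.compLabel_lt_iff]
  refine ⟨j, ?_, ?_⟩
  · rw [psum_eq_prefSum, prefSum_one _ j.isLt]
    omega
  · rw [psum_eq_prefSum, prefSum_one _ j.isLt]
    rw [Fin.lt_def] at hji
    omega

theorem mem_PS_minComp_iff (m : ℕ) (hm : m + 1 < n) (g : SLn n F) :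
    g ∈ PS n F (minComp n m) ↔
      ∀ r c : Fin n, c.val < r.val → ¬(c.val = m ∧ r.val = m + 1) → g.1 r c = 0 := by
  rw [mem_PS_iff]
  constructor
  · intro h r c h1 h2
    exact h r c ((compLabel_minComp_lt_iff m hm r c).2 ⟨h1, h2⟩)
  · intro h r c hrc
    obtain ⟨h1, h2⟩ := (compLabel_minComp_lt_iff m hm r c).1 hrc
    exact h r c h1 h2

/-- the monomial matrix `sd m (m+1)` lies in the minimal parabolic subgroup `PS (minComp n m)` -/
theorem sd_mem_PS_minComp (m : ℕ) (hm : m + 1 < n) (i j : Fin n) (hi : i.val = m) (hj : j.val = m + 1)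
    (hne : i ≠ j) : sd i j hne ∈ PS n F (minComp n m) := by
  rw [mem_PS_minComp_iff m hm]
  intro r c h1 h2
  rw [Cfsg.Agent.Helper33.DZ.sd_val]
  have hrc : r ≠ c := fun h => by rw [h] at h1; omega
  simp only [Matrix.sub_apply, Matrix.add_apply, Matrix.one_apply_ne hrc, Matrix.single_apply]
  have e1 : ¬(i = r ∧ j = c) := by
    rintro ⟨rfl, rfl⟩
    omega
  have e2 : ¬(j = r ∧ i = c) := by
    rintro ⟨rfl, rfl⟩
    omega
  have e3 : ¬(i = r ∧ i = c) := by
    rintro ⟨rfl, rfl⟩
    omega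
  have e4 : ¬(j = r ∧ j = c) := by
    rintro ⟨rfl, rfl⟩
    omega
  rw [if_neg e1, if_neg e2, if_neg e3, if_neg e4]
  simp

/-- a composition of `n` other than `(1,…,1)` has some `m + 1 ∈ [1, n-1]` which is not a partial sum -/
theorem exists_noncut (α : Fin n → ℕ) (hα : ∑ i, α i = n) (hne : α ≠ fun _ => 1) :
    ∃ m : ℕ, m + 1 < n ∧ ∀ k : Fin n, Cfsg.Agent.Helper42.StVal.psum α k ≠ m + 1 := by
  have hex : ∃ k₀ : Fin n, 2 ≤ α k₀ := by
    by_contra hcon
    push Not at hcon
    apply hne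
    have hle : ∀ i ∈ (Finset.univ : Finset (Fin n)), α i ≤ (fun _ : Fin n => 1) i := by
      intro i _
      have := hcon i
      show α i ≤ 1
      omega
    have hsum : ∑ i, α i = ∑ i : Fin n, (fun _ : Fin n => 1) i := by
      rw [hα]
      simp
    have := (Finset.sum_eq_sum_iff_of_le hle).1 hsum
    funext i
    exact this i (Finset.mem_univ i)
  obtain ⟨k₀, hk₀⟩ := hex
  have hstep := Cfsg.Agent.S2420.prefSum_succ α k₀.val k₀.isLt
  have htop : Cfsg.Agent.S2420.prefSum α (k₀.val + 1) ≤ n := by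
    have h1 := Cfsg.Agent.S2420.prefSum_mono α (show k₀.val + 1 ≤ n from k₀.isLt)
    have h2 := Cfsg.Agent.S2420.prefSum_top α n le_rfl
    omega
  refine ⟨Cfsg.Agent.S2420.prefSum α k₀.val, ?_, ?_⟩
  · have : α ⟨k₀.val, k₀.isLt⟩ = α k₀ := rfl
    omega
  · intro k
    rw [psum_eq_prefSum]
    have : α ⟨k₀.val, k₀.isLt⟩ = α k₀ := rfl
    by_cases hk : k.val < k₀.val
    · have := Cfsg.Agent.S2420.prefSum_mono α (show k.val + 1 ≤ k₀.val from hk)
      omega
    · have := Cfsg.Agent.S2420.prefSum_mono α (show k₀.val + 1 ≤ k.val + 1 by omega)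
      omega

/-- a parabolic subgroup other than the Borel subgroup contains a minimal parabolic subgroup -/
theorem exists_minComp_le (α : Fin n → ℕ) (hα : ∑ i, α i = n) (hne : α ≠ fun _ => 1) :
    ∃ m : ℕ, m + 1 < n ∧ PS n F (minComp n m) ≤ PS n F α := by
  obtain ⟨m, hm, hcut⟩ := exists_noncut α hα hne
  refine ⟨m, hm, ?_⟩
  intro g hg
  rw [mem_PS_minComp_iff m hm] at hg
  rw [mem_PS_iff]
  intro r c hrc
  obtain ⟨k, hk1, hk2⟩ := (Cfsg.Agent.Helper42.StVal.compLabel_lt_iff α r c).1 hrc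
  apply hg r c (by omega)
  rintro ⟨h1, h2⟩
  apply hcut k
  omega

end groups

end Cfsg.Agent.Helper45.DZ
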