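import Mathlib
import Cfsg.Agent.Helper42.DZDefs
import Cfsg.Agent.Helper42.UnipH
import Cfsg.Agent.Helper45.DZSTa
import Cfsg.Agent.Helper45.DZSTb
import Cfsg.Agent.Helper45.DZSTc
import Cfsg.Agent.Helper68.DZSTgen

/-! Piece (ST) of helper42's S4538/S2440 (WANTED #5421): an irreducible character of `SL_n(F)` occurring exactly
once in the flag permutation character is trivial or the Steinberg character.  (helper45) -/

set_option autoImplicit false

namespace Cfsg.Agent.Helper45.DZ

open Matrix Cfsg Cfsg.Agent.Helper42.DZ Cfsg.Agent.Helper42.Unip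
open scoped ComplexConjugate

/-- the subgroup of elements fixing a vector -/
def fixer {G W : Type*} [Group G] [AddCommGroup W] [Module ℂ W] (ρ : Representation ℂ G W) (v : W) :
    Subgroup G where
  carrier := {g | ρ g v = v}
  mul_mem' := by
    intro a b ha hb
    show ρ (a * b) v = v
    rw [map_mul, Module.End.mul_apply]
    have hb' : ρ b v = v := hb
    rw [hb']
    exact ha
  one_mem' := by
    show ρ 1 v = v
    rw [map_one]
    rfl
  inv_mem' := by
    intro a ha
    show ρ a⁻¹ v = v
    have ha' : ρ a v = v := ha
    conv_lhs => rw [← ha']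
    rw [← Module.End.mul_apply, ← map_mul, inv_mul_cancel, map_one]
    rfl

theorem mem_fixer {G W : Type*} [Group G] [AddCommGroup W] [Module ℂ W] (ρ : Representation ℂ G W) (v : W)
    (g : G) : g ∈ fixer ρ v ↔ ρ g v = v := Iff.rfl

variable {n : ℕ} {F : Type*} [Field F]

/-- (ST) an irreducible character occurring exactly once in the flag permutation character of
`SL_n(F)` is trivial or the Steinberg character -/
theorem irr_eq_one_or_steinberg [Fintype F] (hn : 0 < n) (χ : SLn n F → ℂ)
    (hχ : IsIrrCharacter (SLn n F) χ) [Fintype (BS n F)]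
    (h : ∑ b : BS n F, χ (b : SLn n F) = (Fintype.card (BS n F) : ℂ)) :
    χ = (fun _ => 1) ∨ χ = Cfsg.Agent.Helper42.Unip.unipotentSL n F (fun _ => 1) := by
  classical
  haveI : Fintype (SLn n F) := Fintype.ofFinite _
  have hirr1 := hχ
  obtain ⟨d, ρ, hρ, rfl⟩ := hχ
  -- fixed spaces
  have hmono : ∀ H K : Subgroup (SLn n F), H ≤ K →
      isoSub ρ K (fun _ => 1) ≤ isoSub ρ H (fun _ => 1) := fun H K hHK w hw g hg => hw g (hHK hg)
  have hB1 : Module.finrank ℂ (isoSub ρ (BS n F) (fun _ => 1)) = 1 := by
    have h1 := Cfsg.Agent.Helper81.DZ.finrank_isoSub ρ (BS n F) (fun _ => (1 : ℂ)) rfl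
      (fun _ _ _ _ => (one_mul 1).symm)
    simp only [inv_one, mul_one] at h1
    have hB0 : (Fintype.card (BS n F) : ℂ) ≠ 0 := by
      have : 0 < Fintype.card (BS n F) := Fintype.card_pos
      exact_mod_cast this.ne'
    rw [h, inv_mul_cancel₀ hB0] at h1
    exact_mod_cast h1
  -- multiplicities in the flag characters
  have hmult : ∀ α : Fin n → ℕ, classInner ρ.character (fun s : SLn n F =>
        fixedPointCharacter (parabolicGL n F α) (Matrix.SpecialLinearGroup.toGL s)) =
      (Module.finrank ℂ (isoSub ρ (PS n F α) (fun _ => 1)) : ℂ) := fun α => classInner_flag hn α ρ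
  -- the minimal parabolic subgroups all have fixed spaces of the same dimension
  have hindep : ∀ m m' : ℕ, m + 1 < n → m' + 1 < n →
      Module.finrank ℂ (isoSub ρ (PS n F (minComp n m)) (fun _ => 1)) =
        Module.finrank ℂ (isoSub ρ (PS n F (minComp n m')) (fun _ => 1)) := by
    intro m m' hm hm'
    have h1 := hmult (minComp n m)
    have h2 := hmult (minComp n m')
    have h3 : (fun s : SLn n F =>
        fixedPointCharacter (parabolicGL n F (minComp n m')) (Matrix.SpecialLinearGroup.toGL s)) =
        fun s : SLn n F =>
          fixedPointCharacter (parabolicGL n F (minComp n m)) (Matrix.SpecialLinearGroup.toGL s) := by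
      rw [minComp_swap m m' hm hm']
      exact flag_perm hn _ (sum_minComp m hm) _
    rw [h3, h1] at h2
    exact_mod_cast h2
  by_cases hcase : ∃ m : ℕ, m + 1 < n ∧
      Module.finrank ℂ (isoSub ρ (PS n F (minComp n m)) (fun _ => 1)) = 0
  · right
    obtain ⟨m₀, hm₀, h0⟩ := hcase
    have hall : ∀ α : Fin n → ℕ, ∑ i, α i = n → (α ≠ fun _ => 1) →
        classInner ρ.character (fun s : SLn n F =>
          fixedPointCharacter (parabolicGL n F α) (Matrix.SpecialLinearGroup.toGL s)) = 0 := by
      intro α hα hne
      obtain ⟨m, hm, hle⟩ := exists_minComp_le (F := F) α hα hne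
      have hle2 := Submodule.finrank_mono (hmono _ _ hle)
      rw [hindep m m₀ hm hm₀, h0] at hle2
      rw [hmult, Nat.le_zero.1 hle2, Nat.cast_zero]
    have hSt : classInner ρ.character (unipotentSL n F (fun _ => 1)) = 1 := by
      rw [unipotentSL_eq_sum, Cfsg.Agent.Helper74.classInner_sum_right, Finset.sum_eq_single 1]
      · unfold altTerm
        rw [if_pos (by intro i; simp)]
        have hα1 : (fun i : Fin n => (fun _ : Fin n => 1) i + i.val - ((1 : Equiv.Perm (Fin n)) i).val) =
            fun _ => 1 := by
          funext i
          simp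
        rw [hα1, Equiv.Perm.sign_one, Cfsg.Agent.Helper74.classInner_smul_right, hmult, PS_one_eq_BS, hB1]
        simp
      · intro κ _ hκ
        unfold altTerm
        split_ifs with hadm
        · rw [Cfsg.Agent.Helper74.classInner_smul_right,
            hall _ (sum_sub_perm (fun _ => 1) κ hadm (by simp)) ?_, mul_zero]
          intro hcon
          apply hκ
          ext i
          have h1 := congrFun hcon i
          have h2 := hadm i
          simp only at h1 h2
          rw [Equiv.Perm.one_apply]
          omega
        · unfold classInner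
          simp
      · intro h1
        exact absurd (Finset.mem_univ _) h1
    have hirr2 := unipotent_SL_isIrr (F := F) hn (fun _ => 1) monotone_const (by simp)
    by_contra hne
    have h3 := Cfsg.Agent.Helper74.irr_inner_ne (χ := ⟨_, hirr1⟩) (ψ := ⟨_, hirr2⟩)
      (fun h => hne (congrArg Subtype.val h))
    rw [hSt] at h3
    exact one_ne_zero h3
  · left
    push Not at hcase
    have heq : ∀ m : ℕ, m + 1 < n →
        isoSub ρ (PS n F (minComp n m)) (fun _ => 1) = isoSub ρ (BS n F) (fun _ => 1) := by
      intro m hm
      apply Submodule.eq_of_le_of_finrank_le (hmono _ _ (BS_le_PS _))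
      rw [hB1]
      have := hcase m hm
      omega
    have hinv : isoSub ρ (BS n F) (fun _ => 1) ≤ Representation.invariants ρ := by
      intro v hv
      rw [Representation.mem_invariants]
      intro g
      have hg : g ∈ fixer ρ v := by
        have htop : Subgroup.closure ((BS n F : Set (SLn n F)) ∪
            {g | ∃ (i j : Fin n) (hij : j.val = i.val + 1) (hne : i ≠ j), g = sd i j hne}) ≤ fixer ρ v := by
          rw [Subgroup.closure_le]
          rintro x (hx | ⟨i, j, hij, hne, rfl⟩)
          · show ρ x v = v
            rw [hv x hx, one_smul]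
          · show ρ (sd i j hne) v = v
            have hm : i.val + 1 < n := by
              have := j.isLt
              omega
            have hv' : v ∈ isoSub ρ (PS n F (minComp n i.val)) (fun _ => 1) := by
              rw [heq _ hm]
              exact hv
            rw [hv' _ (sd_mem_PS_minComp i.val hm i j rfl hij hne), one_smul]
        rw [Cfsg.Agent.Helper68.DZ.closure_BS_sd hn] at htop
        exact htop (Subgroup.mem_top g)
      exact hg
    have hfin := Submodule.finrank_mono hinv
    rw [hB1] at hfin
    haveI : Invertible (Nat.card (SLn n F) : ℂ) :=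
      invertibleOfNonzero (by exact_mod_cast Nat.card_pos.ne')
    have havg := Representation.card_inv_mul_sum_char_eq_finrank ρ
    have hne0 : classInner ρ.character (Cfsg.Agent.Helper74.irrTriv (SLn n F) : SLn n F → ℂ) ≠ 0 := by
      unfold classInner
      simp only [Cfsg.Agent.Helper74.irrTriv_apply, map_one, mul_one]
      rw [havg]
      have : 0 < Module.finrank ℂ (Representation.invariants ρ) := by omega
      exact_mod_cast this.ne'
    by_contra hne
    exact hne0 (Cfsg.Agent.Helper74.irr_inner_ne (χ := ⟨_, hirr1⟩) (ψ := Cfsg.Agent.Helper74.irrTriv (SLn n F))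
      (fun h => hne (congrArg Subtype.val h)))

end Cfsg.Agent.Helper45.DZ
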