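import Mathlib
import Cfsg.Prelude.Def_GeometricClasses
import Cfsg.Agent.Helper93.ParabolicMax

/-!
# The symplectic similarity group is maximal in `SL_n`

`f` a non-degenerate symplectic form on `F^n` (any field), `H = GSp(f) ∩ SL_n`.
For `H ≤ M ≤ SL_n` put `E_v(M) = {w ∈ v^⊥ | (x ↦ x + f(x,w) v) ∈ M}`.  The stabiliser of `v` in the
group generated by the symplectic transvections is transitive on `v^⊥ \ Fv`, so either
`E_v(M) = v^⊥` for all `v` (then `M` contains all transvections, `M = SL_n`), or `E_v(M) = Fv` for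
all `v ≠ 0` (then every element of `M` is a similarity).
-/

set_option autoImplicit false

namespace Cfsg.Agent.Helper45.SpInSL

open Cfsg.Geo Matrix Module Cfsg.Agent.Helper93

variable {F : Type*} [Field F] {n : ℕ}
variable {f : (Fin n → F) → (Fin n → F) → F} (hf : IsSymplecticForm f)

include hf

/-- the form as a Mathlib bilinear form -/
def fB : LinearMap.BilinForm F (Fin n → F) :=
  LinearMap.mk₂ F f hf.bilinear.add_left (fun c x y => by rw [hf.bilinear.smul_left, smul_eq_mul])
    hf.bilinear.add_right (fun c x y => by rw [hf.bilinear.smul_right, smul_eq_mul])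

theorem fB_apply (u v : Fin n → F) : fB hf u v = f u v := rfl

theorem fB_nondeg : (fB hf).Nondegenerate := by
  refine ⟨fun x hx => ?_, fun y hy => ?_⟩
  · by_contra hne
    obtain ⟨-, ⟨z, hz⟩⟩ := hf.nondegenerate x hne
    exact hz (hx z)
  · by_contra hne
    obtain ⟨⟨z, hz⟩, -⟩ := hf.nondegenerate y hne
    exact hz (hy z)

theorem f_add_left (x y v : Fin n → F) : f (x + y) v = f x v + f y v := hf.bilinear.add_left x y v
theorem f_add_right (v x y : Fin n → F) : f v (x + y) = f v x + f v y := hf.bilinear.add_right v x y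
theorem f_smul_left (c : F) (x v : Fin n → F) : f (c • x) v = c * f x v :=
  hf.bilinear.smul_left c x v
theorem f_smul_right (c : F) (v x : Fin n → F) : f v (c • x) = c * f v x :=
  hf.bilinear.smul_right c v x
theorem f_self (v : Fin n → F) : f v v = 0 := hf.alternating v
theorem f_skew (u v : Fin n → F) : f u v = - f v u := hf.skew u v

theorem f_zero_right (u : Fin n → F) : f u 0 = 0 := by
  have h := (fB hf u).map_zero
  exact h

theorem f_zero_left (u : Fin n → F) : f 0 u = 0 := by
  have h := LinearMap.map_zero₂ (fB hf) u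
  exact h

theorem f_sub_right (v x y : Fin n → F) : f v (x - y) = f v x - f v y := by
  have h := (fB hf v).map_sub x y
  exact h

theorem f_sub_left (x y v : Fin n → F) : f (x - y) v = f x v - f y v := by
  have h := LinearMap.map_sub₂ (fB hf) x y v
  exact h

theorem f_neg_right (v x : Fin n → F) : f v (-x) = - f v x := by
  have h := (fB hf v).map_neg x
  exact h

/-- the functional `x ↦ f x w` -/
def fd (w : Fin n → F) : Module.Dual F (Fin n → F) := (fB hf).flip w

theorem fd_apply (w x : Fin n → F) : fd hf w x = f x w := rfl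

/-- prescribed values against a linearly independent family -/
theorem exists_form_eq {k : ℕ} (xs : Fin k → (Fin n → F)) (hli : LinearIndependent F xs)
    (b : Fin k → F) : ∃ y : Fin n → F, ∀ i, f (xs i) y = b i := by
  let T : (Fin n → F) →ₗ[F] (Fin k → F) := LinearMap.pi (fun i => fB hf (xs i))
  have hT : ∀ y i, T y i = f (xs i) y := fun y i => rfl
  have hker : LinearMap.ker T =
      LinearMap.BilinForm.orthogonal (fB hf) (Submodule.span F (Set.range xs)) := by
    ext y
    rw [LinearMap.mem_ker, LinearMap.BilinForm.mem_orthogonal_iff]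
    constructor
    · intro h x hx
      induction hx using Submodule.span_induction with
      | mem x hx =>
        obtain ⟨i, rfl⟩ := hx
        show fB hf (xs i) y = 0
        have := congrFun h i
        rw [hT] at this
        exact this
      | zero =>
        show fB hf 0 y = 0
        simp
      | add x z _ _ hx hz =>
        show fB hf (x + z) y = 0
        rw [map_add, LinearMap.add_apply, show fB hf x y = 0 from hx,
          show fB hf z y = 0 from hz, add_zero]
      | smul c x _ hx =>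
        show fB hf (c • x) y = 0
        rw [map_smul, LinearMap.smul_apply, show fB hf x y = 0 from hx, smul_zero]
    · intro h
      funext i
      rw [hT]
      exact h (xs i) (Submodule.subset_span ⟨i, rfl⟩)
  have h1 := LinearMap.finrank_range_add_finrank_ker T
  have h2 := LinearMap.BilinForm.finrank_orthogonal (fB_nondeg hf) (Submodule.span F (Set.range xs))
  rw [← hker] at h2
  have h3 := finrank_span_eq_card hli
  rw [Fintype.card_fin] at h3
  have h4 := Submodule.finrank_le (Submodule.span F (Set.range xs))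
  have h5 : finrank F (LinearMap.range T) = finrank F (Fin k → F) := by
    rw [Module.finrank_fintype_fun_eq_card, Fintype.card_fin]
    omega
  have h6 : LinearMap.range T = ⊤ := Submodule.eq_top_of_finrank_eq h5
  obtain ⟨y, hy⟩ := LinearMap.range_eq_top.1 h6 b
  exact ⟨y, fun i => by rw [← hT, hy]⟩

/-- Riesz: every functional is `f(·, w)` -/
theorem exists_fd_eq (φ : Module.Dual F (Fin n → F)) : ∃ w : Fin n → F, φ = fd hf w := by
  refine ⟨-((LinearMap.BilinForm.toDual (fB hf) (fB_nondeg hf)).symm φ), ?_⟩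
  apply LinearMap.ext
  intro x
  rw [fd_apply, f_neg_right hf, f_skew hf, neg_neg]
  exact (LinearMap.BilinForm.apply_toDual_symm_apply (B := fB hf) (hB := fB_nondeg hf) φ x).symm

omit hf in
theorem tv_congr {φ φ' : Module.Dual F (Fin n → F)} (h : φ = φ') (v : Fin n → F) (hv : φ v = 0)
    (hv' : φ' v = 0) : tv φ v hv = tv φ' v hv' := by
  subst h
  rfl

/-- the symplectic transvection `x ↦ x + c f(x,v) v` -/
noncomputable def st (v : Fin n → F) (c : F) : Matrix.GeneralLinearGroup (Fin n) F :=
  tv (c • fd hf v) v (by rw [LinearMap.smul_apply, fd_apply, f_self hf, smul_zero])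

theorem st_mulVec (v : Fin n → F) (c : F) (x : Fin n → F) :
    ((st hf v c : Matrix.GeneralLinearGroup (Fin n) F) : Matrix (Fin n) (Fin n) F).mulVec x
      = x + (c * f x v) • v := by
  unfold st
  rw [tv_mulVec, LinearMap.smul_apply, fd_apply, smul_eq_mul]

theorem st_form (v : Fin n → F) (c : F) (x y : Fin n → F) :
    f (((st hf v c : Matrix.GeneralLinearGroup (Fin n) F) : Matrix (Fin n) (Fin n) F).mulVec x)
      (((st hf v c : Matrix.GeneralLinearGroup (Fin n) F) : Matrix (Fin n) (Fin n) F).mulVec y)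
      = f x y := by
  rw [st_mulVec, st_mulVec, f_add_left hf, f_add_right hf, f_add_right hf, f_smul_left hf,
    f_smul_left hf, f_smul_right hf, f_smul_right hf, f_self hf, f_skew hf v y]
  ring

/-- the group generated by the symplectic transvections -/
def spT : Subgroup (Matrix.GeneralLinearGroup (Fin n) F) :=
  Subgroup.closure {g | ∃ (u : Fin n → F) (c : F), g = st hf u c}

theorem st_mem_spT (u : Fin n → F) (c : F) : st hf u c ∈ spT hf :=
  Subgroup.subset_closure ⟨u, c, rfl⟩

theorem spT_form {g : Matrix.GeneralLinearGroup (Fin n) F} (hg : g ∈ spT hf) :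
    ∀ x y : Fin n → F, f ((g : Matrix (Fin n) (Fin n) F).mulVec x)
      ((g : Matrix (Fin n) (Fin n) F).mulVec y) = f x y := by
  unfold spT at hg
  induction hg using Subgroup.closure_induction with
  | mem g hg =>
    obtain ⟨u, c, rfl⟩ := hg
    exact st_form hf u c
  | one =>
    intro x y
    rw [Units.val_one, Matrix.one_mulVec, Matrix.one_mulVec]
  | mul a b _ _ ha hb =>
    intro x y
    rw [gl_mul_mulVec, gl_mul_mulVec, ha, hb]
  | inv a _ ha =>
    intro x y
    have h := ha (((a⁻¹ : Matrix.GeneralLinearGroup (Fin n) F) : Matrix (Fin n) (Fin n) F).mulVec x)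
      (((a⁻¹ : Matrix.GeneralLinearGroup (Fin n) F) : Matrix (Fin n) (Fin n) F).mulVec y)
    rw [gl_inv_mulVec, gl_inv_mulVec] at h
    exact h.symm

theorem spT_le : spT hf ≤ similarityGroup f ⊓ specialLinear (Fin n) F := by
  unfold spT
  rw [Subgroup.closure_le]
  rintro g ⟨u, c, rfl⟩
  refine ⟨⟨1, fun x y => ?_⟩, tv_mem_sl _ _ _⟩
  rw [st_form hf, Units.val_one, one_mul]

/-- one-step move by a symplectic transvection -/
theorem st_move {w w' : Fin n → F} (h : f w w' ≠ 0) :
    ((st hf (w - w') (f w w')⁻¹ : Matrix.GeneralLinearGroup (Fin n) F) :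
      Matrix (Fin n) (Fin n) F).mulVec w = w' := by
  rw [st_mulVec, f_sub_right hf, f_self hf, zero_sub, mul_neg, inv_mul_cancel₀ h, neg_smul,
    one_smul]
  abel

theorem st_fix {v u : Fin n → F} (c : F) (h : f v u = 0) :
    ((st hf u c : Matrix.GeneralLinearGroup (Fin n) F) : Matrix (Fin n) (Fin n) F).mulVec v = v := by
  rw [st_mulVec, h, mul_zero, zero_smul, add_zero]

omit hf in
theorem li_pair {v w : Fin n → F} (hv : v ≠ 0) (hw : w ∉ Submodule.span F {v}) :
    LinearIndependent F ![v, w] := by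
  rw [LinearIndependent.pair_iff]
  intro s t hst
  by_cases ht : t = 0
  · subst ht
    rw [zero_smul, add_zero] at hst
    exact ⟨(smul_eq_zero.1 hst).resolve_right hv, rfl⟩
  · exfalso
    apply hw
    have h1 : t • w = -(s • v) := eq_neg_of_add_eq_zero_right hst
    have h2 : w = (-(t⁻¹ * s)) • v := by
      calc w = t⁻¹ • (t • w) := by rw [smul_smul, inv_mul_cancel₀ ht, one_smul]
        _ = (-(t⁻¹ * s)) • v := by rw [h1, smul_neg, smul_smul, neg_smul]
    rw [h2]
    exact Submodule.smul_mem _ _ (Submodule.mem_span_singleton_self v)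

/-- **T2**: the stabiliser of `v` in `spT` is transitive on `v^⊥ \ Fv`. -/
theorem exists_spT_fix_map {v w w' : Fin n → F} (hv : v ≠ 0) (hw : f v w = 0) (hw' : f v w' = 0)
    (hwv : w ∉ Submodule.span F {v}) (hw'v : w' ∉ Submodule.span F {v}) :
    ∃ g ∈ spT hf, (g : Matrix (Fin n) (Fin n) F).mulVec v = v ∧
      (g : Matrix (Fin n) (Fin n) F).mulVec w = w' := by
  by_cases hne : f w w' ≠ 0
  · refine ⟨st hf (w - w') (f w w')⁻¹, st_mem_spT hf _ _, ?_, st_move hf hne⟩
    exact st_fix hf _ (by rw [f_sub_right hf, hw, hw', sub_zero])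
  push Not at hne
  obtain ⟨y, hvy, hwy, hw'y⟩ : ∃ y : Fin n → F, f v y = 0 ∧ f w y ≠ 0 ∧ f w' y ≠ 0 := by
    obtain ⟨y₁, hy₁⟩ := exists_form_eq hf ![v, w] (li_pair hv hwv) ![0, 1]
    obtain ⟨y₂, hy₂⟩ := exists_form_eq hf ![v, w'] (li_pair hv hw'v) ![0, 1]
    have h10 : f v y₁ = 0 := hy₁ 0
    have h11 : f w y₁ = 1 := hy₁ 1
    have h20 : f v y₂ = 0 := hy₂ 0
    have h21 : f w' y₂ = 1 := hy₂ 1
    by_cases h1 : f w' y₁ ≠ 0
    · exact ⟨y₁, h10, by rw [h11]; exact one_ne_zero, h1⟩
    push Not at h1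
    by_cases h2 : f w y₂ ≠ 0
    · exact ⟨y₂, h20, h2, by rw [h21]; exact one_ne_zero⟩
    push Not at h2
    refine ⟨y₁ + y₂, ?_, ?_, ?_⟩
    · rw [f_add_right hf, h10, h20, add_zero]
    · rw [f_add_right hf, h11, h2, add_zero]; exact one_ne_zero
    · rw [f_add_right hf, h1, h21, zero_add]; exact one_ne_zero
  have hyw' : f y w' ≠ 0 := by rw [f_skew hf]; exact neg_ne_zero.2 hw'y
  refine ⟨st hf (y - w') (f y w')⁻¹ * st hf (w - y) (f w y)⁻¹,
    Subgroup.mul_mem _ (st_mem_spT hf _ _) (st_mem_spT hf _ _), ?_, ?_⟩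
  · have e1 : ((st hf (w - y) (f w y)⁻¹ : Matrix.GeneralLinearGroup (Fin n) F) :
        Matrix (Fin n) (Fin n) F).mulVec v = v :=
      st_fix hf _ (by rw [f_sub_right hf, hw, hvy, sub_zero])
    have e2 : ((st hf (y - w') (f y w')⁻¹ : Matrix.GeneralLinearGroup (Fin n) F) :
        Matrix (Fin n) (Fin n) F).mulVec v = v :=
      st_fix hf _ (by rw [f_sub_right hf, hvy, hw', sub_zero])
    rw [gl_mul_mulVec, e1, e2]
  · rw [gl_mul_mulVec, st_move hf hwy, st_move hf hyw']

/-- **T1**: `spT` is transitive on non-zero vectors. -/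
theorem exists_spT_map {v v' : Fin n → F} (hv : v ≠ 0) (hv' : v' ≠ 0) :
    ∃ g ∈ spT hf, (g : Matrix (Fin n) (Fin n) F).mulVec v = v' := by
  by_cases hne : f v v' ≠ 0
  · exact ⟨st hf (v - v') (f v v')⁻¹, st_mem_spT hf _ _, st_move hf hne⟩
  push Not at hne
  obtain ⟨y, hvy, hv'y⟩ : ∃ y : Fin n → F, f v y ≠ 0 ∧ f v' y ≠ 0 := by
    obtain ⟨y₁, hy₁⟩ := exists_form_eq hf ![v]
      (LinearIndependent.of_subsingleton 0 (by simpa using hv)) ![1]
    obtain ⟨y₂, hy₂⟩ := exists_form_eq hf ![v']
      (LinearIndependent.of_subsingleton 0 (by simpa using hv')) ![1]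
    have h1 : f v y₁ = 1 := hy₁ 0
    have h2 : f v' y₂ = 1 := hy₂ 0
    by_cases h3 : f v' y₁ ≠ 0
    · exact ⟨y₁, by rw [h1]; exact one_ne_zero, h3⟩
    push Not at h3
    by_cases h4 : f v y₂ ≠ 0
    · exact ⟨y₂, h4, by rw [h2]; exact one_ne_zero⟩
    push Not at h4
    refine ⟨y₁ + y₂, ?_, ?_⟩
    · rw [f_add_right hf, h1, h4, add_zero]; exact one_ne_zero
    · rw [f_add_right hf, h3, h2, zero_add]; exact one_ne_zero
  have hyv' : f y v' ≠ 0 := by rw [f_skew hf]; exact neg_ne_zero.2 hv'y
  refine ⟨st hf (y - v') (f y v')⁻¹ * st hf (v - y) (f v y)⁻¹,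
    Subgroup.mul_mem _ (st_mem_spT hf _ _) (st_mem_spT hf _ _), ?_⟩
  rw [gl_mul_mulVec, st_move hf hvy, st_move hf hyv']

end Cfsg.Agent.Helper45.SpInSL
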