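import Mathlib
import Cfsg.Prelude.Def_GeometricClasses
import Cfsg.Agent.S0751

/-!
# Geometry of a non-degenerate unitary form `f` on `F^n` (finite `F`)

Basic identities, the sesquilinear packaging `fS`, orthogonal complements `perp`, and the
existence lemmas for isotropic vectors used in the maximality proof of `GU_n ∩ SL_n` in `SL_n`.
-/

set_option autoImplicit false

namespace Cfsg.Agent.Helper45.UnInSL

open Cfsg.Geo Module

variable {F : Type*} [Field F] {n : ℕ} {σ : F ≃+* F}
variable {f : (Fin n → F) → (Fin n → F) → F} (hf : IsUnitaryForm σ f)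

include hf

theorem f_add_left (x y v : Fin n → F) : f (x + y) v = f x v + f y v := hf.add_left x y v
theorem f_smul_left (c : F) (x v : Fin n → F) : f (c • x) v = c * f x v := hf.smul_left c x v
theorem f_herm (v w : Fin n → F) : f v w = σ (f w v) := hf.herm v w

theorem f_add_right (v x y : Fin n → F) : f v (x + y) = f v x + f v y := by
  rw [f_herm hf v (x + y), f_add_left hf, map_add, ← f_herm hf, ← f_herm hf]

theorem f_smul_right (c : F) (v x : Fin n → F) : f v (c • x) = σ c * f v x := by
  rw [f_herm hf v (c • x), f_smul_left hf, map_mul, ← f_herm hf]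

theorem f_zero_left (u : Fin n → F) : f 0 u = 0 := by
  have := f_smul_left hf 0 0 u
  rwa [zero_smul, zero_mul] at this

theorem f_zero_right (u : Fin n → F) : f u 0 = 0 := by
  rw [f_herm hf, f_zero_left hf, map_zero]

theorem f_neg_left (x v : Fin n → F) : f (-x) v = - f x v := by
  have := f_smul_left hf (-1) x v
  rwa [neg_one_smul, neg_one_mul] at this

theorem f_neg_right (v x : Fin n → F) : f v (-x) = - f v x := by
  rw [f_herm hf, f_neg_left hf, map_neg, ← f_herm hf]

theorem f_sub_left (x y v : Fin n → F) : f (x - y) v = f x v - f y v := by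
  rw [sub_eq_add_neg, f_add_left hf, f_neg_left hf, ← sub_eq_add_neg]

theorem f_sub_right (v x y : Fin n → F) : f v (x - y) = f v x - f v y := by
  rw [sub_eq_add_neg, f_add_right hf, f_neg_right hf, ← sub_eq_add_neg]

theorem f_eq_zero_symm {v w : Fin n → F} (h : f v w = 0) : f w v = 0 := by
  rw [f_herm hf, h, map_zero]

theorem f_self_fixed (v : Fin n → F) : σ (f v v) = f v v := (f_herm hf v v).symm

theorem sigma_sigma (a : F) : σ (σ a) = a := hf.involutive a

theorem sigma_ne_id : (σ : F →+* F) ≠ RingHom.id F := by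
  intro h
  apply hf.ne_refl
  ext a
  exact RingHom.congr_fun h a

/-- the form as a sesquilinear map: `fS w x = f x w` -/
def fS : (Fin n → F) →ₛₗ[(σ : F →+* F)] (Fin n → F) →ₗ[F] F :=
  LinearMap.mk₂'ₛₗ (σ : F →+* F) (RingHom.id F) (fun w x => f x w)
    (fun w w' x => f_add_right hf x w w')
    (fun c w x => by
      show f x (c • w) = (σ : F →+* F) c • f x w
      rw [f_smul_right hf]; rfl)
    (fun w x y => f_add_left hf x y w)
    (fun c w x => by
      show f (c • x) w = (RingHom.id F) c • f x w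
      rw [f_smul_left hf]; rfl)

theorem fS_apply (w x : Fin n → F) : fS hf w x = f x w := rfl

theorem fS_isSymm : (fS hf).IsSymm :=
  ⟨fun x y => by
    show σ (f y x) = f x y
    exact (f_herm hf x y).symm⟩

theorem fS_sepLeft : (fS hf).SeparatingLeft := by
  intro x hx
  by_contra hne
  obtain ⟨⟨y, hy⟩, -⟩ := hf.nondegenerate x hne
  exact hy (hx y)

/-- functional `x ↦ f x w` -/
def fd (w : Fin n → F) : Module.Dual F (Fin n → F) := fS hf w

theorem fd_apply (w x : Fin n → F) : fd hf w x = f x w := rfl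

theorem fd_add (w w' : Fin n → F) : fd hf (w + w') = fd hf w + fd hf w' := by
  apply LinearMap.ext
  intro x
  rw [LinearMap.add_apply, fd_apply, fd_apply, fd_apply, f_add_right hf]

theorem fd_neg (w : Fin n → F) : fd hf (-w) = - fd hf w := by
  apply LinearMap.ext
  intro x
  rw [LinearMap.neg_apply, fd_apply, fd_apply, f_neg_right hf]

/-- orthogonal complement -/
def perp (S : Submodule F (Fin n → F)) : Submodule F (Fin n → F) := S.orthogonalBilin (fS hf)

theorem mem_perp {S : Submodule F (Fin n → F)} {x : Fin n → F} :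
    x ∈ perp hf S ↔ ∀ s ∈ S, f x s = 0 := Iff.rfl

theorem perp_anti {S T : Submodule F (Fin n → F)} (h : S ≤ T) : perp hf T ≤ perp hf S :=
  fun _ hx s hs => hx s (h hs)

theorem mem_perp_span {s : Set (Fin n → F)} {x : Fin n → F} :
    x ∈ perp hf (Submodule.span F s) ↔ ∀ y ∈ s, f x y = 0 := by
  rw [mem_perp]
  constructor
  · intro h y hy
    exact h y (Submodule.subset_span hy)
  · intro h y hy
    induction hy using Submodule.span_induction with
    | mem y hy => exact h y hy
    | zero => exact f_zero_right hf x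
    | add a b _ _ ha hb => rw [f_add_right hf, ha, hb, add_zero]
    | smul c a _ ha => rw [f_smul_right hf, ha, mul_zero]

variable [Fintype F]

theorem exists_fd_eq (φ : Module.Dual F (Fin n → F)) : ∃ w : Fin n → F, φ = fd hf w := by
  obtain ⟨w, hw⟩ := Cfsg.Agent.S0751.riesz (fS hf) (fS_sepLeft hf) φ
  exact ⟨w, hw.symm⟩

theorem finrank_perp (S : Submodule F (Fin n → F)) :
    finrank F (perp hf S) + finrank F S = n := by
  have h1 := Cfsg.Agent.S0751.finrank_orth (fS hf) (fS_isSymm hf) (fS_sepLeft hf) S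
  rw [Module.finrank_fintype_fun_eq_card, Fintype.card_fin] at h1
  exact h1

theorem perp_perp (S : Submodule F (Fin n → F)) : perp hf (perp hf S) = S :=
  Cfsg.Agent.S0751.orth_orth (fS hf) (fS_isSymm hf) (fS_sepLeft hf) S

/-- a subspace of small dimension does not contain the perp of another small subspace -/
theorem exists_mem_perp_not_mem (S T : Submodule F (Fin n → F))
    (h : finrank F S + finrank F T < n) : ∃ x ∈ perp hf S, x ∉ T := by
  by_contra hcon
  push Not at hcon
  have h1 : perp hf S ≤ T := hcon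
  have h2 := Submodule.finrank_mono h1
  have h3 := finrank_perp hf S
  omega

omit hf [Fintype F] in
theorem finrank_sup_span_singleton_le (S : Submodule F (Fin n → F)) (x : Fin n → F) :
    finrank F (S ⊔ Submodule.span F {x} : Submodule F (Fin n → F)) ≤ finrank F S + 1 := by
  refine (Submodule.finrank_add_le_finrank_add_finrank _ _).trans ?_
  have : finrank F (Submodule.span F {x} : Submodule F (Fin n → F)) ≤ 1 := by
    have h := finrank_span_le_card (R := F) ({x} : Set (Fin n → F))
    simpa using h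
  omega

/-- an element `c₀ ≠ 0` with `σ c₀ = - c₀` -/
theorem exists_skew : ∃ c : F, c ≠ 0 ∧ σ c = -c := by
  obtain ⟨θ, hθ⟩ := Cfsg.Agent.Helper13.exists_not_fixed (σ : F →+* F) (sigma_ne_id hf)
  refine ⟨θ - σ θ, sub_ne_zero.mpr (Ne.symm hθ), ?_⟩
  rw [map_sub, sigma_sigma hf]
  ring

theorem exists_mem_perp_ne (S : Submodule F (Fin n → F)) {w₀ : Fin n → F} (hw₀ : w₀ ∉ S) :
    ∃ x ∈ perp hf S, f x w₀ ≠ 0 := by
  by_contra hcon
  push Not at hcon
  apply hw₀
  rw [← perp_perp hf S]
  intro x hx
  exact f_eq_zero_symm hf (hcon x hx)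

omit hf [Fintype F] in
theorem finrank_span_singleton_le_one (x : Fin n → F) :
    finrank F (Submodule.span F {x} : Submodule F (Fin n → F)) ≤ 1 := by
  have h := finrank_span_le_card (R := F) ({x} : Set (Fin n → F))
  simpa using h

omit hf [Fintype F] in
theorem finrank_span_pair_le (x y : Fin n → F) :
    finrank F (Submodule.span F {x, y} : Submodule F (Fin n → F)) ≤ 2 := by
  rw [Submodule.span_insert, sup_comm]
  have h1 := finrank_sup_span_singleton_le (Submodule.span F {y}) x
  have h2 := finrank_span_singleton_le_one y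
  omega

omit hf [Fintype F] in
theorem finrank_span_triple_le (x y z : Fin n → F) :
    finrank F (Submodule.span F {x, y, z} : Submodule F (Fin n → F)) ≤ 3 := by
  rw [Submodule.span_insert, sup_comm]
  have h1 := finrank_sup_span_singleton_le (Submodule.span F {y, z}) x
  have h2 := finrank_span_pair_le y z
  omega

/-- **key existence lemma**: an isotropic vector in `S^⊥` not orthogonal to `w₀ ∉ S` -/
theorem exists_isotropic (S : Submodule F (Fin n → F)) (hS : 2 * finrank F S + 4 < n)
    {w₀ : Fin n → F} (hw₀ : w₀ ∉ S) :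
    ∃ u ∈ perp hf S, f u u = 0 ∧ f u w₀ ≠ 0 := by
  obtain ⟨x, hxS, hxw⟩ := exists_mem_perp_ne hf S hw₀
  by_cases hxx : f x x = 0
  · exact ⟨x, hxS, hxx, hxw⟩
  set S₁ : Submodule F (Fin n → F) := S ⊔ Submodule.span F {x} ⊔ Submodule.span F {w₀} with hS₁
  have hd1 : finrank F S₁ ≤ finrank F S + 2 := by
    have h1 : finrank F S₁ ≤ finrank F (S ⊔ Submodule.span F {x} : Submodule F (Fin n → F)) + 1 :=
      finrank_sup_span_singleton_le (S ⊔ Submodule.span F {x}) w₀
    have h2 := finrank_sup_span_singleton_le S x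
    omega
  have hnot : ¬ perp hf S₁ ≤ perp hf (perp hf S₁) := by
    intro hle
    have h1 := Submodule.finrank_mono hle
    have h2 := finrank_perp hf S₁
    have h3 := finrank_perp hf (perp hf S₁)
    omega
  obtain ⟨z, hz, hzz⟩ := Cfsg.Agent.S0751.exists_nonisotropic (fS hf) (sigma_ne_id hf)
    (sigma_sigma hf) (fS_isSymm hf) (perp hf S₁) hnot
  rw [fS_apply] at hzz
  have hzS : z ∈ perp hf S := perp_anti hf (le_sup_left.trans le_sup_left) hz
  have hzx : f z x = 0 :=
    hz x ((le_sup_right.trans le_sup_left : Submodule.span F {x} ≤ S₁)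
      (Submodule.mem_span_singleton_self x))
  have hzw : f z w₀ = 0 :=
    hz w₀ ((le_sup_right : Submodule.span F {w₀} ≤ S₁) (Submodule.mem_span_singleton_self w₀))
  have hfix : (σ : F →+* F) (-(f x x) / f z z) = -(f x x) / f z z := by
    show σ (-(f x x) / f z z) = -(f x x) / f z z
    rw [map_div₀, map_neg, f_self_fixed hf, f_self_fixed hf]
  obtain ⟨c, hc⟩ := Cfsg.Agent.Helper13.exists_norm_eq (σ : F →+* F) (sigma_ne_id hf)
    (sigma_sigma hf) hfix (div_ne_zero (neg_ne_zero.2 hxx) hzz)
  have hc' : σ c * c = -(f x x) / f z z := hc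
  refine ⟨x + c • z, (perp hf S).add_mem hxS ((perp hf S).smul_mem c hzS), ?_, ?_⟩
  · rw [f_add_left hf, f_add_right hf, f_add_right hf, f_smul_left hf, f_smul_left hf,
      f_smul_right hf, f_smul_right hf, hzx, f_eq_zero_symm hf hzx]
    have : c * (σ c * f z z) = σ c * c * f z z := by ring
    rw [this, hc', div_mul_cancel₀ _ hzz]
    ring
  · rw [f_add_left hf, f_smul_left hf, hzw, mul_zero, add_zero]
    exact hxw

/-- the same, with the isotropic vector outside `S` -/
theorem exists_isotropic' (S : Submodule F (Fin n → F)) (hS : 2 * finrank F S + 6 < n)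
    {w₀ : Fin n → F} (hw₀ : w₀ ∉ S) :
    ∃ u ∈ perp hf S, f u u = 0 ∧ f u w₀ ≠ 0 ∧ u ∉ S := by
  obtain ⟨u, huS, huu, huw⟩ := exists_isotropic hf S (by omega) hw₀
  by_cases hu : u ∉ S
  · exact ⟨u, huS, huu, huw, hu⟩
  push Not at hu
  set S₂ : Submodule F (Fin n → F) := S ⊔ Submodule.span F {w₀} with hS₂
  have hd : finrank F S₂ ≤ finrank F S + 1 := finrank_sup_span_singleton_le S w₀
  obtain ⟨t, htS, ht2⟩ := exists_mem_perp_not_mem hf S S₂ (by omega)
  obtain ⟨u', hu'S, hu'u', hu't⟩ := exists_isotropic hf S₂ (by omega) ht2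
  have h1 : f u' u = 0 := hu'S u (le_sup_left (a := S) hu)
  have h2 : f u' w₀ = 0 :=
    hu'S w₀ ((le_sup_right : Submodule.span F {w₀} ≤ S₂) (Submodule.mem_span_singleton_self w₀))
  refine ⟨u + u', (perp hf S).add_mem huS (perp_anti hf le_sup_left hu'S), ?_, ?_, ?_⟩
  · rw [f_add_left hf, f_add_right hf, f_add_right hf, huu, hu'u', h1, f_eq_zero_symm hf h1]
    ring
  · rw [f_add_left hf, h2, add_zero]
    exact huw
  · intro hmem
    have h3 : u' ∈ S := by
      have := S.sub_mem hmem hu
      rwa [add_sub_cancel_left] at this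
    exact hu't (f_eq_zero_symm hf (htS u' h3))

/-- **spanning lemma**: a subspace containing all isotropic vectors of `S^⊥ \ S` contains `S^⊥` -/
theorem perp_le_of_isotropic (S : Submodule F (Fin n → F)) (hS : 2 * finrank F S + 6 < n)
    (W : Submodule F (Fin n → F))
    (h : ∀ y ∈ perp hf S, f y y = 0 → y ∉ S → y ∈ W) : perp hf S ≤ W := by
  have h1 : perp hf W ≤ S := by
    intro z hz
    by_contra hzS
    obtain ⟨u, huS, huu, huz, hu⟩ := exists_isotropic' hf S hS hzS
    exact huz (f_eq_zero_symm hf (hz u (h u huS huu hu)))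
  have := perp_anti hf h1
  rwa [perp_perp hf] at this

/-- connectivity: an isotropic vector non-orthogonal to two given non-zero vectors -/
theorem exists_isotropic_both (hn : 4 < n) {u v : Fin n → F} (hu : u ≠ 0) (hv : v ≠ 0) :
    ∃ y : Fin n → F, f y y = 0 ∧ f y u ≠ 0 ∧ f y v ≠ 0 := by
  have hbot : 2 * finrank F (⊥ : Submodule F (Fin n → F)) + 4 < n := by
    rw [finrank_bot]; omega
  obtain ⟨y₁, -, h11, h1u⟩ := exists_isotropic hf ⊥ hbot (w₀ := u) (by simpa using hu)
  obtain ⟨y₂, -, h22, h2v⟩ := exists_isotropic hf ⊥ hbot (w₀ := v) (by simpa using hv)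
  by_cases h1v : f y₁ v ≠ 0
  · exact ⟨y₁, h11, h1u, h1v⟩
  push Not at h1v
  by_cases h2u : f y₂ u ≠ 0
  · exact ⟨y₂, h22, h2u, h2v⟩
  push Not at h2u
  obtain ⟨c₀, hc₀, hσc₀⟩ := exists_skew hf
  -- `b` with `b ≠ 0` and `σ b * f y₁ y₂ + b * f y₂ y₁ = 0`
  obtain ⟨b, hb, hbt⟩ : ∃ b : F, b ≠ 0 ∧ σ b * f y₁ y₂ + b * f y₂ y₁ = 0 := by
    by_cases h21 : f y₂ y₁ = 0
    · exact ⟨1, one_ne_zero, by rw [h21, f_eq_zero_symm hf h21]; ring⟩
    · refine ⟨c₀ / f y₂ y₁, div_ne_zero hc₀ h21, ?_⟩
      rw [map_div₀, hσc₀, ← f_herm hf y₁ y₂, div_mul_cancel₀ _ h21]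
      have h12 : f y₁ y₂ ≠ 0 := fun h => h21 (f_eq_zero_symm hf h)
      rw [div_mul_cancel₀ _ h12]
      ring
  refine ⟨y₁ + b • y₂, ?_, ?_, ?_⟩
  · rw [f_add_left hf, f_add_right hf, f_add_right hf, f_smul_left hf, f_smul_left hf,
      f_smul_right hf, f_smul_right hf, h11, h22]
    linear_combination hbt
  · rw [f_add_left hf, f_smul_left hf, h2u, mul_zero, add_zero]
    exact h1u
  · rw [f_add_left hf, f_smul_left hf, h1v, zero_add]
    exact mul_ne_zero hb h2v

end Cfsg.Agent.Helper45.UnInSL
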