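import Mathlib
import Cfsg.Prelude.Def_GeometricClasses
import Cfsg.Agent.Helper45.UnForm
import Cfsg.Agent.Helper93.ParabolicMax

/-!
# `GU_n ∩ SL_n` (similarities of a unitary form, determinant one) is maximal in `SL_n`

Transvection sets `eSet M v`, Siegel elements `sg`, unitary transvections, and the two halves of
the dichotomy.
-/

set_option autoImplicit false

namespace Cfsg.Agent.Helper45.UnInSL

open Cfsg.Geo Matrix Module Cfsg.Agent.Helper93

variable {F : Type*} [Field F] {n : ℕ} {σ : F ≃+* F}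
variable {f : (Fin n → F) → (Fin n → F) → F} (hf : IsUnitaryForm σ f)

omit hf in
theorem tv_congr' {φ φ' : Module.Dual F (Fin n → F)} (h : φ = φ') (v : Fin n → F) (hv : φ v = 0)
    (hv' : φ' v = 0) : tv φ v hv = tv φ' v hv' := by
  subst h; rfl

omit hf in
theorem tv_add_dual (φ φ' : Module.Dual F (Fin n → F)) (v : Fin n → F) (h : φ v = 0)
    (h' : φ' v = 0) (h'' : (φ + φ') v = 0) : tv (φ + φ') v h'' = tv φ v h * tv φ' v h' := by
  apply gl_ext
  intro x
  rw [gl_mul_mulVec, tv_mulVec, tv_mulVec, tv_mulVec, map_add, map_smul, h, smul_zero, add_zero,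
    LinearMap.add_apply, add_smul]
  abel

omit hf in
theorem tv_neg_dual (φ : Module.Dual F (Fin n → F)) (v : Fin n → F) (h : φ v = 0)
    (h' : (-φ) v = 0) : tv (-φ) v h' = (tv φ v h)⁻¹ := by
  rw [eq_inv_iff_mul_eq_one]
  apply gl_ext
  intro x
  rw [gl_mul_mulVec, tv_mulVec, tv_mulVec, map_add, map_smul, h', smul_zero, add_zero,
    LinearMap.neg_apply, neg_smul, Units.val_one, Matrix.one_mulVec]
  abel

omit hf in
theorem tv_zero_dual (v : Fin n → F) (h : (0 : Module.Dual F (Fin n → F)) v = 0) :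
    tv (0 : Module.Dual F (Fin n → F)) v h = 1 := by
  apply gl_ext
  intro x
  rw [tv_mulVec, LinearMap.zero_apply, zero_smul, add_zero, Units.val_one, Matrix.one_mulVec]

/-! ### Siegel elements and unitary transvections -/

include hf

/-- `x ↦ x + a f(x,w) y - σ(a) f(x,y) w` for isotropic orthogonal `y`, `w` -/
noncomputable def sg (y w : Fin n → F) (a : F) (hyw : f y w = 0) (hyy : f y y = 0)
    (hww : f w w = 0) : Matrix.GeneralLinearGroup (Fin n) F :=
  tv (fd hf (σ a • w)) y (by rw [fd_apply, f_smul_right hf, hyw, mul_zero]) *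
    tv (fd hf (-(a • y))) w (by
      rw [fd_apply, f_neg_right hf, f_smul_right hf, f_eq_zero_symm hf hyw, mul_zero, neg_zero])

theorem sg_mulVec (y w : Fin n → F) (a : F) (hyw : f y w = 0) (hyy : f y y = 0)
    (hww : f w w = 0) (x : Fin n → F) :
    (sg hf y w a hyw hyy hww : Matrix (Fin n) (Fin n) F).mulVec x
      = x + (a * f x w) • y - (σ a * f x y) • w := by
  unfold sg
  rw [gl_mul_mulVec, tv_mulVec, tv_mulVec, fd_apply, fd_apply, f_add_left hf, f_smul_left hf,
    f_smul_right hf, f_smul_right hf, hww, f_neg_right hf, f_smul_right hf, sigma_sigma hf,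
    mul_zero, mul_zero, add_zero, neg_smul]
  abel

theorem sg_form (y w : Fin n → F) (a : F) (hyw : f y w = 0) (hyy : f y y = 0)
    (hww : f w w = 0) (x x' : Fin n → F) :
    f ((sg hf y w a hyw hyy hww : Matrix (Fin n) (Fin n) F).mulVec x)
      ((sg hf y w a hyw hyy hww : Matrix (Fin n) (Fin n) F).mulVec x') = f x x' := by
  have hwy : f w y = 0 := f_eq_zero_symm hf hyw
  have e1 : σ (f x' w) = f w x' := (f_herm hf w x').symm
  have e2 : σ (f x' y) = f y x' := (f_herm hf y x').symm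
  rw [sg_mulVec, sg_mulVec]
  simp only [f_add_left hf, f_add_right hf, f_sub_left hf, f_sub_right hf, f_smul_left hf,
    f_smul_right hf, map_mul, sigma_sigma hf, e1, e2, hyy, hww, hyw, hwy]
  ring

theorem sg_mem (y w : Fin n → F) (a : F) (hyw : f y w = 0) (hyy : f y y = 0)
    (hww : f w w = 0) :
    sg hf y w a hyw hyy hww ∈ similarityGroup f ⊓ specialLinear (Fin n) F := by
  refine ⟨⟨1, fun u v => ?_⟩, ?_⟩
  · rw [sg_form hf, Units.val_one, one_mul]
  · exact (specialLinear (Fin n) F).mul_mem (tv_mem_sl _ _ _) (tv_mem_sl _ _ _)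

/-- unitary transvection `x ↦ x + c f(x,u) u` -/
noncomputable def ut (u : Fin n → F) (c : F) (huu : f u u = 0) :
    Matrix.GeneralLinearGroup (Fin n) F :=
  tv (fd hf (σ c • u)) u (by rw [fd_apply, f_smul_right hf, huu, mul_zero])

theorem ut_mulVec (u : Fin n → F) (c : F) (huu : f u u = 0) (x : Fin n → F) :
    (ut hf u c huu : Matrix (Fin n) (Fin n) F).mulVec x = x + (c * f x u) • u := by
  unfold ut
  rw [tv_mulVec, fd_apply, f_smul_right hf, sigma_sigma hf]

theorem ut_mem (u : Fin n → F) (c : F) (huu : f u u = 0) (hc : σ c = -c) :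
    ut hf u c huu ∈ similarityGroup f ⊓ specialLinear (Fin n) F := by
  refine ⟨⟨1, fun x x' => ?_⟩, tv_mem_sl _ _ _⟩
  have e1 : σ (f x' u) = f u x' := (f_herm hf u x').symm
  rw [ut_mulVec, ut_mulVec, Units.val_one, one_mul]
  simp only [f_add_left hf, f_add_right hf, f_smul_left hf, f_smul_right hf, map_mul, e1, huu, hc]
  ring

/-! ### the sets `eSet M v` -/

/-- `w ∈ eSet M v` iff `f v w = 0` and the transvection `x ↦ x + f(x,w) v` lies in `M` -/
def eSet (M : Subgroup (Matrix.GeneralLinearGroup (Fin n) F)) (v : Fin n → F) :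
    Set (Fin n → F) :=
  {w | ∃ h : fd hf w v = 0, tv (fd hf w) v h ∈ M}

theorem eSet_map {M : Subgroup (Matrix.GeneralLinearGroup (Fin n) F)}
    {g : Matrix.GeneralLinearGroup (Fin n) F} (hgM : g ∈ M)
    (hg : ∀ a b : Fin n → F, f ((g : Matrix (Fin n) (Fin n) F).mulVec a)
      ((g : Matrix (Fin n) (Fin n) F).mulVec b) = f a b)
    {v w : Fin n → F} (hw : w ∈ eSet hf M v) :
    (g : Matrix (Fin n) (Fin n) F).mulVec w ∈ eSet hf M ((g : Matrix (Fin n) (Fin n) F).mulVec v) := by
  obtain ⟨h, hm⟩ := hw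
  have h' : fd hf ((g : Matrix (Fin n) (Fin n) F).mulVec w)
      ((g : Matrix (Fin n) (Fin n) F).mulVec v) = 0 := by
    rw [fd_apply, hg]
    exact h
  refine ⟨h', ?_⟩
  rw [tv_conj g (fd hf ((g : Matrix (Fin n) (Fin n) F).mulVec w)) v h']
  have e : dualPull (fd hf ((g : Matrix (Fin n) (Fin n) F).mulVec w)) g = fd hf w := by
    apply LinearMap.ext
    intro x
    rw [dualPull_apply, fd_apply, fd_apply, hg]
  rw [tv_congr' e v _ h]
  exact M.mul_mem (M.mul_mem hgM hm) (M.inv_mem hgM)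

theorem eSet_add {M : Subgroup (Matrix.GeneralLinearGroup (Fin n) F)} {v w w' : Fin n → F}
    (hw : w ∈ eSet hf M v) (hw' : w' ∈ eSet hf M v) : w + w' ∈ eSet hf M v := by
  obtain ⟨h, hm⟩ := hw
  obtain ⟨h', hm'⟩ := hw'
  have h'' : (fd hf w + fd hf w') v = 0 := by rw [LinearMap.add_apply, h, h', add_zero]
  have h3 : fd hf (w + w') v = 0 := by rw [fd_add hf]; exact h''
  refine ⟨h3, ?_⟩
  rw [tv_congr' (fd_add hf w w') v h3 h'', tv_add_dual _ _ v h h' h'']
  exact M.mul_mem hm hm'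

theorem eSet_neg {M : Subgroup (Matrix.GeneralLinearGroup (Fin n) F)} {v w : Fin n → F}
    (hw : w ∈ eSet hf M v) : -w ∈ eSet hf M v := by
  obtain ⟨h, hm⟩ := hw
  have h'' : (-fd hf w) v = 0 := by rw [LinearMap.neg_apply, h, neg_zero]
  have h3 : fd hf (-w) v = 0 := by rw [fd_neg hf]; exact h''
  refine ⟨h3, ?_⟩
  rw [tv_congr' (fd_neg hf w) v h3 h'', tv_neg_dual _ v h h'']
  exact M.inv_mem hm

theorem eSet_zero (M : Subgroup (Matrix.GeneralLinearGroup (Fin n) F)) (v : Fin n → F) :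
    (0 : Fin n → F) ∈ eSet hf M v := by
  have h : fd hf 0 v = 0 := by rw [fd_apply, f_zero_right hf]
  have e : fd hf 0 = 0 := by
    apply LinearMap.ext
    intro x
    rw [fd_apply, f_zero_right hf, LinearMap.zero_apply]
  refine ⟨h, ?_⟩
  rw [tv_congr' e v h (by rw [LinearMap.zero_apply]), tv_zero_dual]
  exact M.one_mem

/-- the largest `F`-subspace inside `eSet M v` -/
def eSub (M : Subgroup (Matrix.GeneralLinearGroup (Fin n) F)) (v : Fin n → F) :
    Submodule F (Fin n → F) where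
  carrier := {y | ∀ a : F, a • y ∈ eSet hf M v}
  zero_mem' := fun a => by rw [smul_zero]; exact eSet_zero hf M v
  add_mem' := fun {y y'} hy hy' a => by rw [smul_add]; exact eSet_add hf (hy a) (hy' a)
  smul_mem' := fun c y hy a => by rw [smul_smul]; exact hy (a * c)

theorem mem_eSub {M : Subgroup (Matrix.GeneralLinearGroup (Fin n) F)} {v y : Fin n → F} :
    y ∈ eSub hf M v ↔ ∀ a : F, a • y ∈ eSet hf M v := Iff.rfl

theorem mem_eSet_of_mem_eSub {M : Subgroup (Matrix.GeneralLinearGroup (Fin n) F)}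
    {v y : Fin n → F} (h : y ∈ eSub hf M v) : y ∈ eSet hf M v := by
  have := h 1
  rwa [one_smul] at this

/-- the Siegel move -/
theorem sg_move {M : Subgroup (Matrix.GeneralLinearGroup (Fin n) F)}
    (hM : similarityGroup f ⊓ specialLinear (Fin n) F ≤ M) {v w₀ y w : Fin n → F}
    (hw₀ : w₀ ∈ eSet hf M v) (hyy : f y y = 0) (hww : f w w = 0) (hyw : f y w = 0)
    (hvy : f v y = 0) (hvw : f v w = 0) (hw₀y : f w₀ y = 0) (hw₀w : f w₀ w ≠ 0) :
    y ∈ eSub hf M v := by
  intro a'
  have hmem := eSet_map hf (hM (sg_mem hf y w (a' / f w₀ w) hyw hyy hww))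
    (sg_form hf y w (a' / f w₀ w) hyw hyy hww) hw₀
  rw [sg_mulVec, sg_mulVec, hvy, hvw, hw₀y, div_mul_cancel₀ _ hw₀w] at hmem
  simp only [mul_zero, zero_smul, add_zero, sub_zero] at hmem
  have := eSet_add hf hmem (eSet_neg hf hw₀)
  rwa [add_comm w₀, add_neg_cancel_right] at this

end Cfsg.Agent.Helper45.UnInSL
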