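import Mathlib
import Cfsg.Agent.Helper45.C3UB

/-!
# Extracting the data `k, τ, ν` from a quadratic field subalgebra closed under adjoints
-/

set_option autoImplicit false
set_option linter.unusedSectionVars false
set_option linter.unusedVariables false
set_option linter.unusedSimpArgs false

namespace Cfsg.Agent.Helper45.C3U

open Matrix Cfsg Cfsg.Geo Cfsg.Agent.Helper94 Cfsg.Agent.Helper94.ORoot

variable {F : Type*} [Field F] {n : ℕ}
variable {Q : (Fin n → F) → F}

/-- a two-dimensional subalgebra has a non-scalar element and is spanned by `1` and it -/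
theorem exists_generator (K : Subalgebra F (Matrix (Fin n) (Fin n) F))
    (hfr : Module.finrank F K = 2) :
    ∃ k ∈ K, (∀ a : F, k ≠ a • (1 : Matrix (Fin n) (Fin n) F)) ∧
      ∀ x ∈ K, ∃ a b : F, x = a • (1 : Matrix (Fin n) (Fin n) F) + b • k := by
  have hfr' : Module.finrank F (Subalgebra.toSubmodule K) = 2 := hfr
  obtain ⟨k, hkK, hk⟩ : ∃ k ∈ K, ∀ a : F, k ≠ a • (1 : Matrix (Fin n) (Fin n) F) := by
    by_contra hcon
    push Not at hcon
    have hle : Subalgebra.toSubmodule K ≤ Submodule.span F {(1 : Matrix (Fin n) (Fin n) F)} := by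
      intro x hx
      obtain ⟨a, ha⟩ := hcon x hx
      rw [Submodule.mem_span_singleton]
      exact ⟨a, ha.symm⟩
    have h1 := Submodule.finrank_mono hle
    have h3 := finrank_span_le_card (R := F) ({(1 : Matrix (Fin n) (Fin n) F)} : Set _)
    simp at h3
    omega
  refine ⟨k, hkK, hk, ?_⟩
  have hli : LinearIndependent F ![(1 : Matrix (Fin n) (Fin n) F), k] := by
    rw [LinearIndependent.pair_iff]
    intro s t hst
    by_cases ht : t = 0
    · subst ht
      rw [zero_smul, add_zero] at hst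
      have h1 : (1 : Matrix (Fin n) (Fin n) F) ≠ 0 := by
        intro h0
        apply hk 0
        rw [zero_smul, ← mul_one k, h0, mul_zero]
      rcases smul_eq_zero.1 hst with h | h
      · exact ⟨h, rfl⟩
      · exact absurd h h1
    · exfalso
      apply hk (-(t⁻¹ * s))
      have h3 : t • k = -(s • (1 : Matrix (Fin n) (Fin n) F)) := eq_neg_of_add_eq_zero_right hst
      have h4 : k = t⁻¹ • (t • k) := by rw [smul_smul, inv_mul_cancel₀ ht, one_smul]
      rw [h4, h3]
      module
  have hsp : Submodule.span F (Set.range ![(1 : Matrix (Fin n) (Fin n) F), k])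
      ≤ Subalgebra.toSubmodule K := by
    rw [Submodule.span_le]
    rintro x ⟨i, rfl⟩
    fin_cases i
    · exact K.one_mem
    · exact hkK
  have hfr2 := finrank_span_eq_card hli
  rw [Fintype.card_fin] at hfr2
  have heq := Submodule.eq_of_le_of_finrank_eq hsp (by rw [hfr2, hfr'])
  intro x hx
  have hx' : x ∈ Submodule.span F (Set.range ![(1 : Matrix (Fin n) (Fin n) F), k]) := by
    rw [heq]; exact hx
  have hr : Set.range ![(1 : Matrix (Fin n) (Fin n) F), k] = {1, k} := by
    ext y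
    simp only [Set.mem_range, Set.mem_insert_iff, Set.mem_singleton_iff]
    constructor
    · rintro ⟨i, rfl⟩
      fin_cases i
      · left; rfl
      · right; rfl
    · rintro (rfl | rfl)
      · exact ⟨0, rfl⟩
      · exact ⟨1, rfl⟩
  rw [hr] at hx'
  obtain ⟨a, b, hab⟩ := Submodule.mem_span_pair.1 hx'
  exact ⟨a, b, hab.symm⟩

/-- **the data of a quadratic field of similitudes** -/
theorem exists_kdata (hQ : IsNondegenerateQuadraticForm Q) (hn : 0 < n)
    (K : Subalgebra F (Matrix (Fin n) (Fin n) F)) (hK : IsFieldSubalgebra 2 K)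
    (hac : IsAdjointClosedFor (QuadraticMap.polar Q) K)
    (hnsa : ¬ IsSelfAdjointFor (QuadraticMap.polar Q) K)
    (hsc : ∀ k ∈ K, ∃ c : F, ∀ v : Fin n → F, Q (k *ᵥ v) = c * Q v) :
    ∃ (k : Matrix (Fin n) (Fin n) F) (τ ν : F), k ∈ K ∧ KData Q k τ ν ∧
      ∀ x ∈ K, ∃ a b : F, x = a • (1 : Matrix (Fin n) (Fin n) F) + b • k := by
  obtain ⟨k, hkK, hkns, hgen⟩ := exists_generator K hK.finrank_eq
  obtain ⟨k', hk'K, hk'⟩ := hac k hkK
  have hmv : ∀ (a b : F) (v : Fin n → F),
      (a • (1 : Matrix (Fin n) (Fin n) F) + b • k) *ᵥ v = a • v + b • (k *ᵥ v) := by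
    intro a b v
    rw [Matrix.add_mulVec, Matrix.smul_mulVec, Matrix.smul_mulVec, Matrix.one_mulVec]
  -- a pair of vectors with non-zero polar value
  obtain ⟨u₀, v₀, huv₀⟩ : ∃ u₀ v₀ : Fin n → F, QuadraticMap.polar Q u₀ v₀ ≠ 0 := by
    have hne : (Pi.single (⟨0, hn⟩ : Fin n) (1 : F) : Fin n → F) ≠ 0 := by
      intro h0
      have := congrFun h0 ⟨0, hn⟩
      simp at this
    obtain ⟨⟨x, hx⟩, -⟩ := hQ.nondegenerate _ hne
    exact ⟨x, _, hx⟩
  -- self-adjoint elements are scalars
  have hSA : ∀ x ∈ K, (∀ u v : Fin n → F, QuadraticMap.polar Q (x *ᵥ u) v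
      = QuadraticMap.polar Q u (x *ᵥ v)) → ∃ a : F, x = a • (1 : Matrix (Fin n) (Fin n) F) := by
    intro x hx hsa
    obtain ⟨a, b, rfl⟩ := hgen x hx
    by_cases hb : b = 0
    · exact ⟨a, by rw [hb, zero_smul, add_zero]⟩
    · exfalso
      apply hnsa
      have hksa : ∀ u v : Fin n → F, QuadraticMap.polar Q (k *ᵥ u) v
          = QuadraticMap.polar Q u (k *ᵥ v) := by
        intro u v
        have := hsa u v
        rw [hmv, hmv, B_add_left hQ, B_add_right hQ, B_smul_left hQ, B_smul_left hQ,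
          B_smul_right hQ, B_smul_right hQ] at this
        have h1 : b * (QuadraticMap.polar Q (k *ᵥ u) v - QuadraticMap.polar Q u (k *ᵥ v)) = 0 := by
          linear_combination this
        rcases mul_eq_zero.1 h1 with h | h
        · exact absurd h hb
        · exact sub_eq_zero.1 h
      intro y hy u v
      obtain ⟨a', b', rfl⟩ := hgen y hy
      rw [hmv, hmv, B_add_left hQ, B_add_right hQ, B_smul_left hQ, B_smul_left hQ,
        B_smul_right hQ, B_smul_right hQ, hksa]
  have hswap : ∀ u v : Fin n → F, QuadraticMap.polar Q (k' *ᵥ u) v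
      = QuadraticMap.polar Q u (k *ᵥ v) := by
    intro u v
    rw [B_comm, ← hk' v u, B_comm]
  obtain ⟨τ, hτ⟩ := hSA (k + k') (K.add_mem hkK hk'K) (by
    intro u v
    rw [Matrix.add_mulVec, Matrix.add_mulVec, B_add_left hQ, B_add_right hQ, hk', hswap]
    ring)
  obtain ⟨ν, hν⟩ := hSA (k * k') (K.mul_mem hkK hk'K) (by
    intro u v
    rw [← Matrix.mulVec_mulVec, ← Matrix.mulVec_mulVec, hk', hswap])
  have hk'eq : k' = τ • (1 : Matrix (Fin n) (Fin n) F) - k := by
    rw [← hτ]; abel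
  have hsq : k * k = τ • k - ν • (1 : Matrix (Fin n) (Fin n) F) := by
    have h1 : k * k' = τ • k - k * k := by
      rw [hk'eq, mul_sub, Matrix.mul_smul, mul_one]
    rw [h1] at hν
    rw [← hν]; abel
  have hk'v : ∀ v : Fin n → F, k' *ᵥ v = τ • v - k *ᵥ v := by
    intro v
    rw [hk'eq, Matrix.sub_mulVec, Matrix.smul_mulVec, Matrix.one_mulVec]
  have hadj : ∀ u v : Fin n → F, QuadraticMap.polar Q (k *ᵥ u) v
      = τ * QuadraticMap.polar Q u v - QuadraticMap.polar Q u (k *ᵥ v) := by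
    intro u v
    rw [hk', hk'v, B_sub_right hQ, B_smul_right hQ]
  have hkkv : ∀ v : Fin n → F, k *ᵥ (k *ᵥ v) = τ • (k *ᵥ v) - ν • v := by
    intro v
    rw [Matrix.mulVec_mulVec, hsq, Matrix.sub_mulVec, Matrix.smul_mulVec, Matrix.smul_mulVec,
      Matrix.one_mulVec]
  have hBkk : ∀ u v : Fin n → F, QuadraticMap.polar Q (k *ᵥ u) (k *ᵥ v)
      = ν * QuadraticMap.polar Q u v := by
    intro u v
    rw [hadj, hkkv, B_sub_right hQ, B_smul_right hQ, B_smul_right hQ]
    ring
  refine ⟨k, τ, ν, hkK, ⟨hsq, ?_, hadj, ?_, ?_⟩, hgen⟩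
  · -- irreducibility
    intro γ h0
    have hx₁K : k - γ • (1 : Matrix (Fin n) (Fin n) F) ∈ K :=
      K.sub_mem hkK (K.smul_mem K.one_mem γ)
    have hx₁0 : k - γ • (1 : Matrix (Fin n) (Fin n) F) ≠ 0 := by
      intro h
      exact hkns γ (sub_eq_zero.1 h)
    obtain ⟨y, hyK, hy⟩ := hK.inv _ hx₁K hx₁0
    have hy' : y * (k - γ • (1 : Matrix (Fin n) (Fin n) F)) = 1 := by
      rw [← hK.comm _ hx₁K y hyK]; exact hy
    have hprod : (k - γ • (1 : Matrix (Fin n) (Fin n) F)) * (k - (τ - γ) • 1) = 0 := by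
      have : (k - γ • (1 : Matrix (Fin n) (Fin n) F)) * (k - (τ - γ) • 1)
          = k * k - τ • k + (γ * (τ - γ)) • (1 : Matrix (Fin n) (Fin n) F) := by
        rw [sub_mul, mul_sub, mul_sub, Matrix.mul_smul, Matrix.smul_mul, Matrix.smul_mul,
          Matrix.mul_smul, mul_one, one_mul, mul_one, smul_smul]
        module
      rw [this, hsq]
      have : τ • k - ν • (1 : Matrix (Fin n) (Fin n) F) - τ • k + (γ * (τ - γ)) • 1
          = (-(γ * γ - τ * γ + ν)) • (1 : Matrix (Fin n) (Fin n) F) := by module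
      rw [this, h0, neg_zero, zero_smul]
    have h1 : k - (τ - γ) • (1 : Matrix (Fin n) (Fin n) F) = 0 := by
      have : k - (τ - γ) • (1 : Matrix (Fin n) (Fin n) F)
          = y * ((k - γ • (1 : Matrix (Fin n) (Fin n) F)) * (k - (τ - γ) • 1)) := by
        rw [← mul_assoc, hy', one_mul]
      rw [this, hprod, mul_zero]
    exact hkns (τ - γ) (sub_eq_zero.1 h1)
  · -- `Q (k v) = ν Q v`
    obtain ⟨c, hc⟩ := hsc k hkK
    have h1 : QuadraticMap.polar Q (k *ᵥ u₀) (k *ᵥ v₀) = c * QuadraticMap.polar Q u₀ v₀ := by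
      unfold QuadraticMap.polar
      rw [← Matrix.mulVec_add, hc, hc, hc]
      ring
    rw [hBkk] at h1
    have h3 : c = ν := by
      have : (ν - c) * QuadraticMap.polar Q u₀ v₀ = 0 := by linear_combination h1
      rcases mul_eq_zero.1 this with h | h
      · exact (sub_eq_zero.1 h).symm
      · exact absurd h huv₀
    intro v
    rw [hc, h3]
  · -- `B (v, k v) = τ Q v`
    obtain ⟨c, hc⟩ := hsc k hkK
    have h1 : QuadraticMap.polar Q (k *ᵥ u₀) (k *ᵥ v₀) = c * QuadraticMap.polar Q u₀ v₀ := by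
      unfold QuadraticMap.polar
      rw [← Matrix.mulVec_add, hc, hc, hc]
      ring
    rw [hBkk] at h1
    have h3 : c = ν := by
      have : (ν - c) * QuadraticMap.polar Q u₀ v₀ = 0 := by linear_combination h1
      rcases mul_eq_zero.1 this with h | h
      · exact (sub_eq_zero.1 h).symm
      · exact absurd h huv₀
    obtain ⟨c₁, hc₁⟩ := hsc (1 + k) (K.add_mem K.one_mem hkK)
    have hB : ∀ v : Fin n → F, QuadraticMap.polar Q v (k *ᵥ v) = (c₁ - 1 - ν) * Q v := by
      intro v
      have := hc₁ v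
      rw [Matrix.add_mulVec, Matrix.one_mulVec, Q_add (Q := Q), hc, h3] at this
      linear_combination this
    have hpol : QuadraticMap.polar Q u₀ (k *ᵥ v₀) + QuadraticMap.polar Q v₀ (k *ᵥ u₀)
        = (c₁ - 1 - ν) * QuadraticMap.polar Q u₀ v₀ := by
      have h4 := hB (u₀ + v₀)
      rw [Matrix.mulVec_add, B_add_left hQ, B_add_right hQ, B_add_right hQ, hB u₀, hB v₀,
        Q_add (Q := Q)] at h4
      linear_combination h4
    have h5 : QuadraticMap.polar Q v₀ (k *ᵥ u₀)
        = τ * QuadraticMap.polar Q u₀ v₀ - QuadraticMap.polar Q u₀ (k *ᵥ v₀) := by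
      rw [B_comm, hadj]
    have h6 : c₁ - 1 - ν = τ := by
      have : (τ - (c₁ - 1 - ν)) * QuadraticMap.polar Q u₀ v₀ = 0 := by
        linear_combination hpol - h5
      rcases mul_eq_zero.1 this with h | h
      · exact (sub_eq_zero.1 h).symm
      · exact absurd h huv₀
    intro v
    rw [hB, h6]

end Cfsg.Agent.Helper45.C3U
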