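import Mathlib
import Cfsg.Agent.Helper45.C3UC
import Cfsg.Agent.Helper94.SubW3

/-!
# `K`-line root elements normalise `K`; an isometry preserving all singular `K`-lines normalises `K`
-/

set_option autoImplicit false
set_option linter.unusedSectionVars false
set_option linter.unusedVariables false
set_option linter.unusedSimpArgs false

namespace Cfsg.Agent.Helper45.C3U

open Matrix Cfsg Cfsg.Geo Cfsg.Agent.Helper94 Cfsg.Agent.Helper94.ORoot Cfsg.Agent.Helper94.SubW
open KData

variable {F : Type*} [Field F] {n : ℕ}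
variable (Qf : QuadraticForm F (Fin n → F)) (hQ : IsNondegenerateQuadraticForm ⇑Qf)
variable {k : Matrix (Fin n) (Fin n) F} {τ ν : F} (hk : KData ⇑Qf k τ ν)

include hk in
/-- the root elements of a singular `K`-line commute with `k` -/
theorem k_act_tg {u : Fin n → F} (hu : Qf u = 0) (c : F) (v : Fin n → F) :
    k *ᵥ act (tg hQ u (k *ᵥ u) c) v = act (tg hQ u (k *ᵥ u) c) (k *ᵥ v) := by
  have hsp := hk.sp hQ hu
  rw [act_tg hQ hsp, act_tg hQ hsp, Matrix.mulVec_sub, Matrix.mulVec_add, Matrix.mulVec_smul,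
    Matrix.mulVec_smul, hk.kk, hk.B_kk hQ, hk.adj' hQ u v]
  module

/-- an invertible matrix commuting with `k` normalises `K = F[k]` -/
theorem mem_normalizer_of_commute (K : Subalgebra F (Matrix (Fin n) (Fin n) F))
    (hgen : ∀ x ∈ K, ∃ a b : F, x = a • (1 : Matrix (Fin n) (Fin n) F) + b • k)
    (g : GL (Fin n) F) (hg : (g : Matrix (Fin n) (Fin n) F) * k = k * (g : Matrix (Fin n) (Fin n) F)) :
    g ∈ Cfsg.Geo.subalgebraNormalizer K := by
  have hgi : (g : Matrix (Fin n) (Fin n) F) * ((g⁻¹ : GL (Fin n) F) : Matrix (Fin n) (Fin n) F) = 1 := by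
    rw [← Units.val_mul, mul_inv_cancel, Units.val_one]
  have hig : ((g⁻¹ : GL (Fin n) F) : Matrix (Fin n) (Fin n) F) * (g : Matrix (Fin n) (Fin n) F) = 1 := by
    rw [← Units.val_mul, inv_mul_cancel, Units.val_one]
  have hcomm : ∀ x ∈ K, (g : Matrix (Fin n) (Fin n) F) * x
      * ((g⁻¹ : GL (Fin n) F) : Matrix (Fin n) (Fin n) F) = x := by
    intro x hx
    obtain ⟨a, b, rfl⟩ := hgen x hx
    rw [mul_add, Matrix.mul_smul, Matrix.mul_smul, mul_one, hg, add_mul, Matrix.smul_mul,
      Matrix.smul_mul, hgi, mul_assoc, hgi, mul_one]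
  intro x
  show x ∈ K ↔ (g : Matrix (Fin n) (Fin n) F) * x
    * ((g⁻¹ : GL (Fin n) F) : Matrix (Fin n) (Fin n) F) ∈ K
  constructor
  · intro hx
    rw [hcomm x hx]
    exact hx
  · intro hy
    obtain ⟨y, hydef⟩ : ∃ y, y = (g : Matrix (Fin n) (Fin n) F) * x
        * ((g⁻¹ : GL (Fin n) F) : Matrix (Fin n) (Fin n) F) := ⟨_, rfl⟩
    rw [← hydef] at hy
    have h1 := hcomm y hy
    have hyc : (g : Matrix (Fin n) (Fin n) F) * y = y * (g : Matrix (Fin n) (Fin n) F) := by
      have : (g : Matrix (Fin n) (Fin n) F) * y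
          = (g : Matrix (Fin n) (Fin n) F) * y
            * ((g⁻¹ : GL (Fin n) F) : Matrix (Fin n) (Fin n) F) * (g : Matrix (Fin n) (Fin n) F) := by
        rw [mul_assoc _ _ (g : Matrix (Fin n) (Fin n) F), hig, mul_one]
      rw [this, h1]
    have h3 : x = ((g⁻¹ : GL (Fin n) F) : Matrix (Fin n) (Fin n) F) * y
        * (g : Matrix (Fin n) (Fin n) F) := by
      rw [hydef, mul_assoc, mul_assoc, hig, mul_one, ← mul_assoc, hig, one_mul]
    have h4 : x = y := by
      rw [h3, mul_assoc, ← hyc, ← mul_assoc, hig, one_mul]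
    rw [h4]
    exact hy

include hk in
/-- the root elements of a singular `K`-line normalise `K` -/
theorem tg_mem_normalizer (K : Subalgebra F (Matrix (Fin n) (Fin n) F))
    (hgen : ∀ x ∈ K, ∃ a b : F, x = a • (1 : Matrix (Fin n) (Fin n) F) + b • k)
    {u : Fin n → F} (hu : Qf u = 0) (c : F) :
    ((tg hQ u (k *ᵥ u) c : ↥(isometryGroup F ⇑Qf)) : GL (Fin n) F)
      ∈ Cfsg.Geo.subalgebraNormalizer K := by
  apply mem_normalizer_of_commute K hgen
  apply Matrix.mulVec_injective
  funext v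
  rw [← Matrix.mulVec_mulVec, ← Matrix.mulVec_mulVec]
  exact (k_act_tg Qf hQ hk hu c v).symm

end Cfsg.Agent.Helper45.C3U
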