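import Mathlib
import Cfsg.Agent.Helper45.C3UD

/-!
# An isometry preserving all singular `K`-lines normalises `K`
-/

set_option autoImplicit false
set_option linter.unusedSectionVars false
set_option linter.unusedVariables false
set_option linter.unusedSimpArgs false

namespace Cfsg.Agent.Helper45.C3U

open Matrix Cfsg Cfsg.Geo Cfsg.Agent.Helper94 Cfsg.Agent.Helper94.ORoot Cfsg.Agent.Helper94.SubW
open KData Cfsg.Agent.Helper45.OrInSL

variable {F : Type*} [Field F] [Fintype F] {n : ℕ}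
variable (Qf : QuadraticForm F (Fin n → F)) (hQ : IsNondegenerateQuadraticForm ⇑Qf)
variable {k : Matrix (Fin n) (Fin n) F} {τ ν : F} (hk : KData ⇑Qf k τ ν)

theorem finrank_Kspan_le (x : Fin n → F) : Module.finrank F (Kspan k x) ≤ 2 :=
  finrank_span_pair_le x (k *ᵥ x)

include hQ hk in
/-- a linear map sending every singular vector into its `K`-line is in `K` -/
theorem linear_of_Kline (hn : 11 ≤ n) (L : (Fin n → F) →ₗ[F] (Fin n → F))
    (hL : ∀ x : Fin n → F, Qf x = 0 → L x ∈ Kspan k x) :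
    ∃ a b : F, ∀ v : Fin n → F, L v = a • v + b • (k *ᵥ v) := by
  -- comparison of coefficients along an orthogonal independent pair
  have step2 : ∀ (x₁ x₂ : Fin n → F) (a₁ b₁ a₂ b₂ : F), Qf x₁ = 0 → Qf x₂ = 0 → x₁ ≠ 0 →
      QuadraticMap.polar ⇑Qf x₁ x₂ = 0 → x₂ ∉ Kspan k x₁ → L x₁ = a₁ • x₁ + b₁ • (k *ᵥ x₁) →
      L x₂ = a₂ • x₂ + b₂ • (k *ᵥ x₂) → a₁ = a₂ ∧ b₁ = b₂ := by
    intro x₁ x₂ a₁ b₁ a₂ b₂ h₁ h₂ hx₁0 h12 hx₂n e₁ e₂
    have h3 : Qf (x₁ + x₂) = 0 := by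
      rw [Q_add (Q := ⇑Qf), h₁, h₂, h12]; ring
    obtain ⟨a₃, b₃, e₃⟩ := mem_Kspan.1 (hL _ h3)
    rw [map_add, e₁, e₂, Matrix.mulVec_add] at e₃
    have h4 : (a₁ - a₃) • x₁ + (b₁ - b₃) • (k *ᵥ x₁)
        + ((a₂ - a₃) • x₂ + (b₂ - b₃) • (k *ᵥ x₂)) = 0 := by
      have : (a₁ - a₃) • x₁ + (b₁ - b₃) • (k *ᵥ x₁)
          + ((a₂ - a₃) • x₂ + (b₂ - b₃) • (k *ᵥ x₂))
          = (a₁ • x₁ + b₁ • (k *ᵥ x₁) + (a₂ • x₂ + b₂ • (k *ᵥ x₂)))
            - (a₃ • (x₁ + x₂) + b₃ • (k *ᵥ x₁ + k *ᵥ x₂)) := by module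
      rw [this, e₃, sub_self]
    obtain ⟨h5, h6, h7, h8⟩ := hk.li4 hx₁0 hx₂n h4
    constructor
    · rw [sub_eq_zero.1 h5, sub_eq_zero.1 h7]
    · rw [sub_eq_zero.1 h6, sub_eq_zero.1 h8]
  -- comparison of coefficients for arbitrary singular vectors
  have step3 : ∀ (x₁ x₂ : Fin n → F) (a₁ b₁ a₂ b₂ : F), Qf x₁ = 0 → Qf x₂ = 0 → x₁ ≠ 0 →
      x₂ ≠ 0 → L x₁ = a₁ • x₁ + b₁ • (k *ᵥ x₁) →
      L x₂ = a₂ • x₂ + b₂ • (k *ᵥ x₂) → a₁ = a₂ ∧ b₁ = b₂ := by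
    intro x₁ x₂ a₁ b₁ a₂ b₂ h₁ h₂ hx₁0 hx₂0 e₁ e₂
    obtain ⟨S, hS⟩ : ∃ S : Submodule F (Fin n → F), S = Kspan k x₁ ⊔ Kspan k x₂ := ⟨_, rfl⟩
    have hfr : Module.finrank F S ≤ 4 := by
      rw [hS]
      have h1 := Submodule.finrank_add_le_finrank_add_finrank (Kspan k x₁) (Kspan k x₂)
      have h3 := finrank_Kspan_le (k := k) x₁
      have h4 := finrank_Kspan_le (k := k) x₂
      omega
    obtain ⟨x₃, hx₃S, hx₃Q, hx₃n⟩ := exists_sing_perp_not_mem' hQ S (by omega)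
    have hle₁ : Kspan k x₁ ≤ S := by rw [hS]; exact le_sup_left
    have hle₂ : Kspan k x₂ ≤ S := by rw [hS]; exact le_sup_right
    have hx₃0 : x₃ ≠ 0 := by
      rintro rfl
      exact hx₃n (Submodule.zero_mem _)
    obtain ⟨a₃, b₃, e₃⟩ := mem_Kspan.1 (hL _ hx₃Q)
    have h13 : QuadraticMap.polar ⇑Qf x₁ x₃ = 0 := by
      rw [B_comm]; exact hx₃S x₁ (hle₁ (self_mem_Kspan x₁))
    have h23 : QuadraticMap.polar ⇑Qf x₂ x₃ = 0 := by
      rw [B_comm]; exact hx₃S x₂ (hle₂ (self_mem_Kspan x₂))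
    have r1 := step2 x₁ x₃ a₁ b₁ a₃ b₃ h₁ hx₃Q hx₁0 h13 (fun h => hx₃n (hle₁ h)) e₁ e₃.symm
    have r2 := step2 x₂ x₃ a₂ b₂ a₃ b₃ h₂ hx₃Q hx₂0 h23 (fun h => hx₃n (hle₂ h)) e₂ e₃.symm
    exact ⟨r1.1.trans r2.1.symm, r1.2.trans r2.2.symm⟩
  -- a base point
  obtain ⟨x₀, -, hx₀Q, hx₀n⟩ := exists_sing_perp_not_mem' hQ (⊥ : Submodule F (Fin n → F))
    (by rw [finrank_bot]; omega)
  have hx₀0 : x₀ ≠ 0 := by
    rintro rfl
    exact hx₀n (Submodule.zero_mem _)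
  obtain ⟨a, b, e₀⟩ := mem_Kspan.1 (hL _ hx₀Q)
  refine ⟨a, b, ?_⟩
  obtain ⟨W, hW⟩ : ∃ W : Submodule F (Fin n → F), ∀ v, v ∈ W ↔ L v = a • v + b • (k *ᵥ v) := by
    refine ⟨LinearMap.ker (L - a • LinearMap.id - b • Matrix.mulVecLin k), fun v => ?_⟩
    rw [LinearMap.mem_ker, LinearMap.sub_apply, LinearMap.sub_apply, LinearMap.smul_apply,
      LinearMap.smul_apply, LinearMap.id_apply, Matrix.mulVecLin_apply]
    constructor
    · intro h
      have : L v = (L v - a • v - b • (k *ᵥ v)) + (a • v + b • (k *ᵥ v)) := by abel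
      rw [this, h, zero_add]
    · intro h
      rw [h]; abel
  have hall : perp hQ (⊥ : Submodule F (Fin n → F)) ≤ W := by
    apply perp_le_of_singular_gen hQ ⊥ (by rw [finrank_bot]; omega)
    intro y _ hyQ
    rw [hW]
    by_cases hy0 : y = 0
    · rw [hy0, map_zero, Matrix.mulVec_zero, smul_zero, smul_zero, add_zero]
    · obtain ⟨a', b', e'⟩ := mem_Kspan.1 (hL _ hyQ)
      obtain ⟨r1, r2⟩ := step3 x₀ y a b a' b' hx₀Q hyQ hx₀0 hy0 e₀.symm e'.symm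
      rw [r1, r2]
      exact e'.symm
  intro v
  rw [← hW]
  apply hall
  intro s hs
  rw [(Submodule.mem_bot F).1 hs]
  exact B_zero_right hQ v

include hQ hk in
/-- **an isometry outside the normaliser of `K` moves some singular `K`-line to a line that is not
`K`-invariant** -/
theorem exists_nonK_line (hn : 11 ≤ n) (K : Subalgebra F (Matrix (Fin n) (Fin n) F)) (hkK : k ∈ K)
    (hgen : ∀ x ∈ K, ∃ a b : F, x = a • (1 : Matrix (Fin n) (Fin n) F) + b • k)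
    (g : ↥(isometryGroup F ⇑Qf)) (hg : (g : GL (Fin n) F) ∉ Cfsg.Geo.subalgebraNormalizer K) :
    ∃ x : Fin n → F, Qf x = 0 ∧ x ≠ 0 ∧
      k *ᵥ (act g x) ∉ Submodule.span F {act g x, act g (k *ᵥ x)} := by
  by_contra hcon
  push Not at hcon
  apply hg
  obtain ⟨Gm, hGm⟩ : ∃ Gm : Matrix (Fin n) (Fin n) F, Gm = ((g : GL (Fin n) F) : Matrix _ _ F) :=
    ⟨_, rfl⟩
  obtain ⟨Gi, hGi⟩ : ∃ Gi : Matrix (Fin n) (Fin n) F,
      Gi = (((g : GL (Fin n) F)⁻¹ : GL (Fin n) F) : Matrix _ _ F) := ⟨_, rfl⟩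
  have hmi : Gm * Gi = 1 := by
    rw [hGm, hGi, ← Units.val_mul, mul_inv_cancel, Units.val_one]
  have him : Gi * Gm = 1 := by
    rw [hGm, hGi, ← Units.val_mul, inv_mul_cancel, Units.val_one]
  have hact : ∀ v, act g v = Gm *ᵥ v := by
    intro v; rw [hGm]; rfl
  -- the conjugate of `k`
  have hL : ∀ x : Fin n → F, Qf x = 0 → Matrix.mulVecLin (Gi * k * Gm) x ∈ Kspan k x := by
    intro x hx
    by_cases hx0 : x = 0
    · rw [hx0, map_zero]
      exact Submodule.zero_mem _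
    have h1 := hcon x hx hx0
    obtain ⟨a, b, hab⟩ := Submodule.mem_span_pair.1 h1
    rw [Matrix.mulVecLin_apply, ← Matrix.mulVec_mulVec, ← Matrix.mulVec_mulVec, ← hact, ← hab,
      hact, hact, Matrix.mulVec_add, Matrix.mulVec_smul, Matrix.mulVec_smul,
      Matrix.mulVec_mulVec, Matrix.mulVec_mulVec, him, Matrix.one_mulVec, Matrix.one_mulVec]
    rw [mem_Kspan]
    exact ⟨a, b, rfl⟩
  obtain ⟨a, b, hab⟩ := linear_of_Kline Qf hQ hk hn _ hL
  have hM : Gi * k * Gm = a • (1 : Matrix (Fin n) (Fin n) F) + b • k := by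
    apply Matrix.mulVec_injective
    funext v
    have := hab v
    rw [Matrix.mulVecLin_apply] at this
    rw [this, Matrix.add_mulVec, Matrix.smul_mulVec, Matrix.smul_mulVec, Matrix.one_mulVec]
  -- `k = Gm (a + b k) Gi`
  have hk1 : k = a • (1 : Matrix (Fin n) (Fin n) F) + b • (Gm * k * Gi) := by
    have h1 : k = Gm * (Gi * k * Gm) * Gi := by
      rw [← mul_assoc, ← mul_assoc, hmi, one_mul, mul_assoc, hmi, mul_one]
    conv_lhs => rw [h1, hM]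
    rw [mul_add, Matrix.mul_smul, Matrix.mul_smul, mul_one, add_mul, Matrix.smul_mul,
      Matrix.smul_mul, hmi]
  have hb : b ≠ 0 := by
    rintro rfl
    rw [zero_smul, add_zero] at hk1
    obtain ⟨x₀, -, hx₀Q, hx₀n⟩ := exists_sing_perp_not_mem' hQ (⊥ : Submodule F (Fin n → F))
      (by rw [finrank_bot]; omega)
    have hx₀0 : x₀ ≠ 0 := by
      rintro rfl
      exact hx₀n (Submodule.zero_mem _)
    have h1 : a • x₀ + (-1 : F) • (k *ᵥ x₀) = 0 := by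
      conv_lhs => rw [hk1]
      rw [Matrix.smul_mulVec, Matrix.one_mulVec]
      module
    have := (hk.li hx₀0 h1).2
    exact absurd this (by norm_num)
  have hk2 : Gm * k * Gi = b⁻¹ • (k - a • (1 : Matrix (Fin n) (Fin n) F)) := by
    have : k - a • (1 : Matrix (Fin n) (Fin n) F) = b • (Gm * k * Gi) := by
      conv_lhs => rw [hk1]
      abel
    rw [this, smul_smul, inv_mul_cancel₀ hb, one_smul]
  have hk2K : Gm * k * Gi ∈ K := by
    rw [hk2]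
    exact K.smul_mem (K.sub_mem hkK (K.smul_mem K.one_mem a)) _
  have hMK : Gi * k * Gm ∈ K := by
    rw [hM]
    exact K.add_mem (K.smul_mem K.one_mem a) (K.smul_mem hkK b)
  intro x
  show x ∈ K ↔ ((g : GL (Fin n) F) : Matrix _ _ F) * x
    * (((g : GL (Fin n) F)⁻¹ : GL (Fin n) F) : Matrix _ _ F) ∈ K
  rw [← hGm, ← hGi]
  constructor
  · intro hx
    obtain ⟨a', b', rfl⟩ := hgen x hx
    have : Gm * (a' • (1 : Matrix (Fin n) (Fin n) F) + b' • k) * Gi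
        = a' • (1 : Matrix (Fin n) (Fin n) F) + b' • (Gm * k * Gi) := by
      rw [mul_add, Matrix.mul_smul, Matrix.mul_smul, mul_one, add_mul, Matrix.smul_mul,
        Matrix.smul_mul, hmi]
    rw [this]
    exact K.add_mem (K.smul_mem K.one_mem a') (K.smul_mem hk2K b')
  · intro hy
    obtain ⟨a', b', hab'⟩ := hgen _ hy
    have h1 : x = Gi * (Gm * x * Gi) * Gm := by
      rw [← mul_assoc, ← mul_assoc, him, one_mul, mul_assoc, him, mul_one]
    rw [h1, hab']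
    have : Gi * (a' • (1 : Matrix (Fin n) (Fin n) F) + b' • k) * Gm
        = a' • (1 : Matrix (Fin n) (Fin n) F) + b' • (Gi * k * Gm) := by
      rw [mul_add, Matrix.mul_smul, Matrix.mul_smul, mul_one, add_mul, Matrix.smul_mul,
        Matrix.smul_mul, him]
    rw [this]
    exact K.add_mem (K.smul_mem K.one_mem a') (K.smul_mem hMK b')

end Cfsg.Agent.Helper45.C3U
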