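import Mathlib
import Cfsg.Agent.Helper45.C3UE
import Cfsg.Agent.Helper94.SubW6
import Cfsg.Agent.Helper45.TsMax

/-!
# The module of full root-group directions through a singular vector

For a subgroup `M'` of the isometry group and a singular vector `y`, `Dsub Qf M' hy` is the
subspace of all `w ∈ y^⊥` such that the whole root group `E(y, F w)` lies in `M'`.  When `M'`
contains the root groups of all singular `K`-lines, `Dsub` is stable under the maps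
`w ↦ B(x,w) k x - B(k x,w) x` for the singular `x` that are `K`-orthogonal to `y`.
-/

set_option autoImplicit false
set_option linter.unusedSectionVars false
set_option linter.unusedVariables false
set_option linter.unusedSimpArgs false

namespace Cfsg.Agent.Helper45.C3U

open Matrix Cfsg Cfsg.Geo Cfsg.Agent.Helper94 Cfsg.Agent.Helper94.ORoot Cfsg.Agent.Helper94.SubW
open KData Cfsg.Agent.Helper45.OrInSL

variable {F : Type*} [Field F] {n : ℕ}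
variable (Qf : QuadraticForm F (Fin n → F)) (hQ : IsNondegenerateQuadraticForm ⇑Qf)
variable {k : Matrix (Fin n) (Fin n) F} {τ ν : F} (hk : KData ⇑Qf k τ ν)
variable (M' : Subgroup ↥(isometryGroup F ⇑Qf))

/-- the directions `w ∈ y^⊥` whose root group `E(y, F w)` lies in `M'` -/
def Dsub {y : Fin n → F} (hy : Qf y = 0) : Submodule F (Fin n → F) where
  carrier := {w | QuadraticMap.polar ⇑Qf y w = 0 ∧
    ∀ c : F, Cfsg.Agent.Helper5.eichlerO Qf y (c • w) ∈ M'}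
  add_mem' := by
    rintro a b ⟨ha, ha'⟩ ⟨hb, hb'⟩
    refine ⟨by rw [QuadraticMap.polar_add_right, ha, hb, add_zero], fun c => ?_⟩
    rw [smul_add, ← Cfsg.Agent.Helper5.eichlerO_mul Qf hy
      (by rw [QuadraticMap.polar_smul_right, ha, smul_zero])
      (by rw [QuadraticMap.polar_smul_right, hb, smul_zero])]
    exact M'.mul_mem (ha' c) (hb' c)
  zero_mem' := ⟨QuadraticMap.polar_zero_right _ _, fun c => by
    rw [smul_zero, Cfsg.Agent.Helper5.eichlerO_zero]; exact M'.one_mem⟩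
  smul_mem' := by
    rintro c a ⟨ha, ha'⟩
    refine ⟨by rw [QuadraticMap.polar_smul_right, ha, smul_zero], fun d => ?_⟩
    rw [smul_smul]
    exact ha' _

theorem mem_Dsub {y : Fin n → F} (hy : Qf y = 0) {w : Fin n → F} :
    w ∈ Dsub Qf M' hy ↔ QuadraticMap.polar ⇑Qf y w = 0 ∧
      ∀ c : F, Cfsg.Agent.Helper5.eichlerO Qf y (c • w) ∈ M' := Iff.rfl

theorem tg_swap {p r : Fin n → F} (h : SP ⇑Qf p r) (c : F) : tg hQ r p c = tg hQ p r (-c) := by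
  apply iso_ext
  intro x
  rw [act_tg hQ h.symm, act_tg hQ h]
  module

theorem mem_Dsub_of_tg {y w : Fin n → F} (h : SP ⇑Qf y w) (hw : ∀ c : F, tg hQ y w c ∈ M') :
    w ∈ Dsub Qf M' h.1 := by
  refine ⟨h.2.2, fun c => ?_⟩
  rw [eichlerO_eq_tg Qf hQ h c, tg_swap Qf hQ h]
  exact hw _

theorem tg_mem_of_mem_Dsub {y w : Fin n → F} (h : SP ⇑Qf y w) (hw : w ∈ Dsub Qf M' h.1) (c : F) :
    tg hQ y w c ∈ M' := by
  have := hw.2 (-c)
  rwa [eichlerO_eq_tg Qf hQ h, tg_swap Qf hQ h, neg_neg] at this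

theorem tg_mem_of_mem_Dsub' {y w : Fin n → F} (h : SP ⇑Qf y w) (hw : w ∈ Dsub Qf M' h.1) (c : F) :
    tg hQ w y c ∈ M' := by
  rw [tg_swap Qf hQ h]
  exact tg_mem_of_mem_Dsub Qf hQ M' h hw _

include hQ in
theorem self_mem_Dsub {y : Fin n → F} (hy : Qf y = 0) : y ∈ Dsub Qf M' hy := by
  refine ⟨by rw [B_self hQ, hy, mul_zero], fun c => ?_⟩
  have h1 := Cfsg.Agent.Helper5.eichlerO_add_smul Qf hy (QuadraticMap.polar_zero_right _ _) c
  rw [zero_add, Cfsg.Agent.Helper5.eichlerO_zero] at h1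
  rw [h1]
  exact M'.one_mem

include hQ hk in
theorem k_mem_Dsub (hKM : ∀ u : Fin n → F, Qf u = 0 → ∀ c : F, tg hQ u (k *ᵥ u) c ∈ M')
    {y : Fin n → F} (hy : Qf y = 0) : k *ᵥ y ∈ Dsub Qf M' hy :=
  mem_Dsub_of_tg Qf hQ M' (hk.sp hQ hy) (hKM y hy)

include hQ in
/-- `Dsub` is stable under the stabiliser of `y` in `M'` -/
theorem Dsub_map {y : Fin n → F} (hy : Qf y = 0) {g : ↥(isometryGroup F ⇑Qf)} (hg : g ∈ M')
    (hgy : act g y = y) {w : Fin n → F} (hw : w ∈ Dsub Qf M' hy) : act g w ∈ Dsub Qf M' hy := by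
  refine ⟨?_, fun c => ?_⟩
  · have := B_act g y w
    rw [hgy] at this
    rw [this]
    exact hw.1
  · have h1 : QuadraticMap.polar ⇑Qf y (c • w) = 0 := by
      rw [QuadraticMap.polar_smul_right, hw.1, smul_zero]
    have h2 := Cfsg.Agent.Helper5.eichlerO_conj Qf g hy h1
    rw [← act_eq_lin, ← act_eq_lin, hgy, act_smul] at h2
    rw [← h2]
    exact M'.mul_mem (M'.mul_mem hg (hw.2 c)) (M'.inv_mem hg)

include hQ hk in
/-- the basic move -/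
theorem Dsub_P (hKM : ∀ u : Fin n → F, Qf u = 0 → ∀ c : F, tg hQ u (k *ᵥ u) c ∈ M')
    {y : Fin n → F} (hy : Qf y = 0) {x : Fin n → F} (hx : Qf x = 0)
    (hxy : QuadraticMap.polar ⇑Qf x y = 0) (hxky : QuadraticMap.polar ⇑Qf x (k *ᵥ y) = 0)
    {w : Fin n → F} (hw : w ∈ Dsub Qf M' hy) :
    QuadraticMap.polar ⇑Qf x w • (k *ᵥ x) - QuadraticMap.polar ⇑Qf (k *ᵥ x) w • x
      ∈ Dsub Qf M' hy := by
  have hsp := hk.sp hQ hx
  have hkxy : QuadraticMap.polar ⇑Qf (k *ᵥ x) y = 0 := by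
    rw [hk.adj, hxy, hxky]; ring
  have hfix : act (tg hQ x (k *ᵥ x) 1) y = y := by
    rw [act_tg hQ hsp, hxy, hkxy]
    module
  have h1 := Dsub_map Qf hQ M' hy (hKM x hx 1) hfix hw
  rw [act_tg hQ hsp] at h1
  have h2 := (Dsub Qf M' hy).sub_mem h1 hw
  have h3 : w + (1 * QuadraticMap.polar ⇑Qf x w) • (k *ᵥ x)
      - (1 * QuadraticMap.polar ⇑Qf (k *ᵥ x) w) • x - w
      = QuadraticMap.polar ⇑Qf x w • (k *ᵥ x) - QuadraticMap.polar ⇑Qf (k *ᵥ x) w • x := by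
    module
  rwa [h3] at h2

include hQ hk in
theorem Dsub_PA (hKM : ∀ u : Fin n → F, Qf u = 0 → ∀ c : F, tg hQ u (k *ᵥ u) c ∈ M')
    {y : Fin n → F} (hy : Qf y = 0) {x : Fin n → F} (hx : Qf x = 0)
    (hxy : QuadraticMap.polar ⇑Qf x y = 0) (hxky : QuadraticMap.polar ⇑Qf x (k *ᵥ y) = 0)
    {w : Fin n → F} (hw : w ∈ Dsub Qf M' hy) (h0 : QuadraticMap.polar ⇑Qf x w = 0)
    (h1 : QuadraticMap.polar ⇑Qf (k *ᵥ x) w ≠ 0) : x ∈ Dsub Qf M' hy := by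
  have h2 := Dsub_P Qf hQ hk M' hKM hy hx hxy hxky hw
  rw [h0, zero_smul, zero_sub] at h2
  have h3 := (Dsub Qf M' hy).smul_mem (-(QuadraticMap.polar ⇑Qf (k *ᵥ x) w)⁻¹) h2
  have h4 : (-(QuadraticMap.polar ⇑Qf (k *ᵥ x) w)⁻¹) • -(QuadraticMap.polar ⇑Qf (k *ᵥ x) w • x)
      = x := by
    rw [smul_neg, neg_smul, neg_neg, smul_smul, inv_mul_cancel₀ h1, one_smul]
  rwa [h4] at h3

include hQ hk in
theorem Dsub_PB (hKM : ∀ u : Fin n → F, Qf u = 0 → ∀ c : F, tg hQ u (k *ᵥ u) c ∈ M')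
    {y : Fin n → F} (hy : Qf y = 0) {x : Fin n → F} (hx : Qf x = 0)
    (hxy : QuadraticMap.polar ⇑Qf x y = 0) (hxky : QuadraticMap.polar ⇑Qf x (k *ᵥ y) = 0)
    {e : Fin n → F} (he : e ∈ Dsub Qf M' hy) (hke : k *ᵥ e ∈ Dsub Qf M' hy)
    (hne : QuadraticMap.polar ⇑Qf x e ≠ 0 ∨ QuadraticMap.polar ⇑Qf x (k *ᵥ e) ≠ 0) :
    x ∈ Dsub Qf M' hy ∧ k *ᵥ x ∈ Dsub Qf M' hy := by
  obtain ⟨a, ha⟩ : ∃ a, a = QuadraticMap.polar ⇑Qf x e := ⟨_, rfl⟩
  obtain ⟨b, hb⟩ : ∃ b, b = QuadraticMap.polar ⇑Qf x (k *ᵥ e) := ⟨_, rfl⟩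
  have h1 := Dsub_P Qf hQ hk M' hKM hy hx hxy hxky he
  have h2 := Dsub_P Qf hQ hk M' hKM hy hx hxy hxky hke
  rw [hk.B_kk hQ, ← ha, ← hb] at h2
  rw [hk.adj, ← ha, ← hb] at h1
  rw [← ha, ← hb] at hne
  have hΔ : b * b + τ * b * (-a) + ν * (-a) * (-a) ≠ 0 := by
    apply hk.norm_ne
    rcases hne with h | h
    · right; exact neg_ne_zero.2 h
    · left; exact h
  obtain ⟨Δ, hΔd⟩ : ∃ Δ, Δ = b * b + τ * b * (-a) + ν * (-a) * (-a) := ⟨_, rfl⟩
  rw [← hΔd] at hΔ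
  constructor
  · have h3 := (Dsub Qf M' hy).sub_mem ((Dsub Qf M' hy).smul_mem b h1)
      ((Dsub Qf M' hy).smul_mem a h2)
    have h4 : b • (a • (k *ᵥ x) - (τ * a - b) • x) - a • (b • (k *ᵥ x) - (ν * a) • x) = Δ • x := by
      rw [hΔd]; module
    rw [h4] at h3
    have h5 := (Dsub Qf M' hy).smul_mem Δ⁻¹ h3
    rwa [smul_smul, inv_mul_cancel₀ hΔ, one_smul] at h5
  · have h3 := (Dsub Qf M' hy).sub_mem ((Dsub Qf M' hy).smul_mem (ν * a) h1)
      ((Dsub Qf M' hy).smul_mem (τ * a - b) h2)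
    have h4 : (ν * a) • (a • (k *ᵥ x) - (τ * a - b) • x)
        - (τ * a - b) • (b • (k *ᵥ x) - (ν * a) • x) = Δ • (k *ᵥ x) := by
      rw [hΔd]; module
    rw [h4] at h3
    have h5 := (Dsub Qf M' hy).smul_mem Δ⁻¹ h3
    rwa [smul_smul, inv_mul_cancel₀ hΔ, one_smul] at h5

end Cfsg.Agent.Helper45.C3U
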