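import Mathlib
import Cfsg.Agent.Helper45.C3UF

/-!
# One non-`K`-line root group forces all root groups `E(y, N_y)`

`perp_le_Dsub`: if `M'` contains all root groups of singular `K`-lines and a root group `E(y, F z)`
with `z` outside the `K`-line of `y`, then it contains `E(y, w)` for all `w ∈ (K y)^⊥`.
-/

set_option autoImplicit false
set_option linter.unusedSectionVars false
set_option linter.unusedVariables false
set_option linter.unusedSimpArgs false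

namespace Cfsg.Agent.Helper45.C3U

open Matrix Cfsg Cfsg.Geo Cfsg.Agent.Helper94 Cfsg.Agent.Helper94.ORoot Cfsg.Agent.Helper94.SubW
open KData Cfsg.Agent.Helper45.OrInSL

variable {F : Type*} [Field F] [Fintype F] {n : ℕ}
variable (Qf : QuadraticForm F (Fin n → F)) (hQ : IsNondegenerateQuadraticForm ⇑Qf)
variable {k : Matrix (Fin n) (Fin n) F} {τ ν : F} (hk : KData ⇑Qf k τ ν)
variable (M' : Subgroup ↥(isometryGroup F ⇑Qf))

theorem polar_of_mem_perp {S : Submodule F (Fin n → F)} {x s : Fin n → F}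
    (hx : x ∈ perp hQ S) (hs : s ∈ S) : QuadraticMap.polar ⇑Qf x s = 0 :=
  (mem_perp hQ).1 hx s hs

include hk in
/-- the perp of a `k`-invariant subspace is `k`-invariant -/
theorem k_mem_perp (S : Submodule F (Fin n → F)) (hS : ∀ s ∈ S, k *ᵥ s ∈ S) {e : Fin n → F}
    (he : e ∈ perp hQ S) : k *ᵥ e ∈ perp hQ S := by
  rw [mem_perp]
  intro s hs
  rw [hk.adj, polar_of_mem_perp Qf hQ he hs, polar_of_mem_perp Qf hQ he (hS s hs)]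
  ring

include hk in
theorem k_mem_perp_Kspan {y e : Fin n → F} (he : e ∈ perp hQ (Kspan k y)) :
    k *ᵥ e ∈ perp hQ (Kspan k y) :=
  k_mem_perp Qf hQ hk _ (fun s hs => hk.k_mem_Kspan hs) he

include hQ hk in
/-- from one `K`-line `e, k e` of directions to all of `(K y)^⊥` -/
theorem Dsub_PD (hn : 11 ≤ n)
    (hKM : ∀ u : Fin n → F, Qf u = 0 → ∀ c : F, tg hQ u (k *ᵥ u) c ∈ M')
    {y : Fin n → F} (hy : Qf y = 0) {e : Fin n → F} (heN : e ∈ perp hQ (Kspan k y))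
    (heQ : Qf e = 0) (hen : e ∉ Kspan k y) (heD : e ∈ Dsub Qf M' hy)
    (hkeD : k *ᵥ e ∈ Dsub Qf M' hy) : perp hQ (Kspan k y) ≤ Dsub Qf M' hy := by
  have hfr := finrank_Kspan_le (k := k) y
  apply perp_le_of_singular_gen hQ (Kspan k y) (by omega)
  intro x hxN hxQ
  have hxy := polar_of_mem_perp Qf hQ hxN (self_mem_Kspan y)
  have hxky := polar_of_mem_perp Qf hQ hxN (k_self_mem_Kspan y)
  by_cases h1 : QuadraticMap.polar ⇑Qf x e ≠ 0 ∨ QuadraticMap.polar ⇑Qf x (k *ᵥ e) ≠ 0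
  · exact (Dsub_PB Qf hQ hk M' hKM hy hxQ hxy hxky heD hkeD h1).1
  push Not at h1
  obtain ⟨e', he'N, he'Q, he'e⟩ := exists_partner hQ (Kspan k y) heN heQ hen
  have he'D := Dsub_PB Qf hQ hk M' hKM hy he'Q (polar_of_mem_perp Qf hQ he'N (self_mem_Kspan y))
    (polar_of_mem_perp Qf hQ he'N (k_self_mem_Kspan y)) heD hkeD (Or.inl (by rw [he'e]; exact one_ne_zero))
  by_cases h2 : QuadraticMap.polar ⇑Qf x e' ≠ 0 ∨ QuadraticMap.polar ⇑Qf x (k *ᵥ e') ≠ 0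
  · exact (Dsub_PB Qf hQ hk M' hKM hy hxQ hxy hxky he'D.1 he'D.2 h2).1
  push Not at h2
  have hxe : Qf (x + e) = 0 := by
    rw [Q_add (Q := ⇑Qf), hxQ, heQ, h1.1]; ring
  have h3 := Dsub_PB Qf hQ hk M' hKM hy hxe
    (by rw [B_add_left hQ, hxy, polar_of_mem_perp Qf hQ heN (self_mem_Kspan y), add_zero])
    (by rw [B_add_left hQ, hxky, polar_of_mem_perp Qf hQ heN (k_self_mem_Kspan y), add_zero])
    he'D.1 he'D.2 (Or.inl (by
      rw [B_add_left hQ, h2.1, zero_add, B_comm, he'e]; exact one_ne_zero))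
  have h4 := (Dsub Qf M' hy).sub_mem h3.1 heD
  rwa [add_sub_cancel_right] at h4

include hQ hk in
/-- the radical of `K y + K z₁ + K x` lies in `K y` -/
theorem rad_S6 {y z₁ x : Fin n → F} (hz₁N : z₁ ∈ perp hQ (Kspan k y)) (hz₁Q : Qf z₁ = 0)
    (hxN : x ∈ perp hQ (Kspan k y)) (hxQ : Qf x = 0) (hxz : QuadraticMap.polar ⇑Qf x z₁ = 1) :
    (Kspan k y ⊔ Kspan k z₁ ⊔ Kspan k x) ⊓ perp hQ (Kspan k y ⊔ Kspan k z₁ ⊔ Kspan k x)
      ≤ Kspan k y := by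
  rintro v ⟨hvS, hvP⟩
  obtain ⟨γ, hγ⟩ : ∃ γ, γ = QuadraticMap.polar ⇑Qf (k *ᵥ x) z₁ := ⟨_, rfl⟩
  have hβ : γ * γ - τ * γ + ν ≠ 0 := hk.irr γ
  obtain ⟨s₁₂, hs₁₂, s₃, hs₃, rfl⟩ := Submodule.mem_sup.1 hvS
  obtain ⟨s₁, hs₁, s₂, hs₂, rfl⟩ := Submodule.mem_sup.1 hs₁₂
  obtain ⟨a₂, b₂, rfl⟩ := mem_Kspan.1 hs₂
  obtain ⟨a₃, b₃, rfl⟩ := mem_Kspan.1 hs₃
  have hz₁S : z₁ ∈ Kspan k y ⊔ Kspan k z₁ ⊔ Kspan k x :=
    le_sup_left (a := Kspan k y ⊔ Kspan k z₁) (le_sup_right (a := Kspan k y) (self_mem_Kspan z₁))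
  have hkz₁S : k *ᵥ z₁ ∈ Kspan k y ⊔ Kspan k z₁ ⊔ Kspan k x :=
    le_sup_left (a := Kspan k y ⊔ Kspan k z₁)
      (le_sup_right (a := Kspan k y) (k_self_mem_Kspan z₁))
  have hxS : x ∈ Kspan k y ⊔ Kspan k z₁ ⊔ Kspan k x :=
    le_sup_right (a := Kspan k y ⊔ Kspan k z₁) (self_mem_Kspan x)
  have hkxS : k *ᵥ x ∈ Kspan k y ⊔ Kspan k z₁ ⊔ Kspan k x :=
    le_sup_right (a := Kspan k y ⊔ Kspan k z₁) (k_self_mem_Kspan x)
  -- values of the form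
  have f1 : QuadraticMap.polar ⇑Qf s₁ z₁ = 0 := by rw [B_comm]; exact polar_of_mem_perp Qf hQ hz₁N hs₁
  have f2 : QuadraticMap.polar ⇑Qf s₁ (k *ᵥ z₁) = 0 := by
    rw [B_comm]; exact polar_of_mem_perp Qf hQ (k_mem_perp_Kspan Qf hQ hk hz₁N) hs₁
  have f3 : QuadraticMap.polar ⇑Qf s₁ x = 0 := by rw [B_comm]; exact polar_of_mem_perp Qf hQ hxN hs₁
  have f4 : QuadraticMap.polar ⇑Qf s₁ (k *ᵥ x) = 0 := by
    rw [B_comm]; exact polar_of_mem_perp Qf hQ (k_mem_perp_Kspan Qf hQ hk hxN) hs₁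
  have g1 : QuadraticMap.polar ⇑Qf z₁ z₁ = 0 := by rw [B_self hQ, hz₁Q, mul_zero]
  have g2 : QuadraticMap.polar ⇑Qf z₁ (k *ᵥ z₁) = 0 := by rw [hk.Bk, hz₁Q, mul_zero]
  have g3 : QuadraticMap.polar ⇑Qf (k *ᵥ z₁) z₁ = 0 := by rw [B_comm, g2]
  have g4 : QuadraticMap.polar ⇑Qf (k *ᵥ z₁) (k *ᵥ z₁) = 0 := by
    rw [hk.B_kk hQ, g1, mul_zero]
  have i1 : QuadraticMap.polar ⇑Qf x x = 0 := by rw [B_self hQ, hxQ, mul_zero]
  have i2 : QuadraticMap.polar ⇑Qf x (k *ᵥ x) = 0 := by rw [hk.Bk, hxQ, mul_zero]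
  have i3 : QuadraticMap.polar ⇑Qf (k *ᵥ x) x = 0 := by rw [B_comm, i2]
  have i4 : QuadraticMap.polar ⇑Qf (k *ᵥ x) (k *ᵥ x) = 0 := by
    rw [hk.B_kk hQ, i1, mul_zero]
  have j1 : QuadraticMap.polar ⇑Qf x (k *ᵥ z₁) = τ - γ := by
    rw [hk.adj' hQ, hxz, ← hγ, mul_one]
  have j2 : QuadraticMap.polar ⇑Qf (k *ᵥ x) (k *ᵥ z₁) = ν := by
    rw [hk.B_kk hQ, hxz, mul_one]
  have j3 : QuadraticMap.polar ⇑Qf z₁ x = 1 := by rw [B_comm, hxz]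
  have j4 : QuadraticMap.polar ⇑Qf z₁ (k *ᵥ x) = γ := by rw [B_comm, ← hγ]
  have j5 : QuadraticMap.polar ⇑Qf (k *ᵥ z₁) x = τ - γ := by rw [B_comm, j1]
  have j6 : QuadraticMap.polar ⇑Qf (k *ᵥ z₁) (k *ᵥ x) = ν := by rw [B_comm, j2]
  have E1 := polar_of_mem_perp Qf hQ hvP hz₁S
  have E2 := polar_of_mem_perp Qf hQ hvP hkz₁S
  have E3 := polar_of_mem_perp Qf hQ hvP hxS
  have E4 := polar_of_mem_perp Qf hQ hvP hkxS
  simp only [B_add_left hQ, B_smul_left hQ, f1, f2, f3, f4, g1, g2, g3, g4, i1, i2, i3, i4,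
    hxz, ← hγ, j1, j2, j3, j4, j5, j6] at E1 E2 E3 E4
  have hb₃ : b₃ = 0 := by
    have : b₃ * (γ * γ - τ * γ + ν) = 0 := by linear_combination E2 - (τ - γ) * E1
    exact (mul_eq_zero.1 this).resolve_right hβ
  have ha₃ : a₃ = 0 := by rw [hb₃] at E1; linear_combination E1
  have hb₂ : b₂ = 0 := by
    have : b₂ * (γ * γ - τ * γ + ν) = 0 := by linear_combination E4 - γ * E3
    exact (mul_eq_zero.1 this).resolve_right hβ
  have ha₂ : a₂ = 0 := by rw [hb₂] at E3; linear_combination E3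
  rw [ha₂, hb₂, ha₃, hb₃]
  simp only [zero_smul, add_zero]
  exact hs₁

include hQ hk in
/-- the step producing members of `Dsub` in `(K y + K z₁ + K x)^⊥` -/
theorem Dsub_PC_step
    (hKM : ∀ u : Fin n → F, Qf u = 0 → ∀ c : F, tg hQ u (k *ᵥ u) c ∈ M')
    {y : Fin n → F} (hy : Qf y = 0) {z₁ x : Fin n → F} (hz₁N : z₁ ∈ perp hQ (Kspan k y))
    (hz₁Q : Qf z₁ = 0) (hz₁D : z₁ ∈ Dsub Qf M' hy)
    (hxN : x ∈ perp hQ (Kspan k y)) (hxQ : Qf x = 0) (hxz : QuadraticMap.polar ⇑Qf x z₁ = 1)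
    {e₀ : Fin n → F} (he₀Q : Qf e₀ = 0)
    (he₀ : e₀ ∈ perp hQ (Kspan k y ⊔ Kspan k z₁ ⊔ Kspan k x)) : e₀ ∈ Dsub Qf M' hy := by
  obtain ⟨γ, hγ⟩ : ∃ γ, γ = QuadraticMap.polar ⇑Qf (k *ᵥ x) z₁ := ⟨_, rfl⟩
  have hβ : γ * γ - τ * γ + ν ≠ 0 := hk.irr γ
  have hx₁D := Dsub_P Qf hQ hk M' hKM hy hxQ (polar_of_mem_perp Qf hQ hxN (self_mem_Kspan y))
    (polar_of_mem_perp Qf hQ hxN (k_self_mem_Kspan y)) hz₁D
  rw [hxz, ← hγ, one_smul] at hx₁D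
  have hyS : y ∈ Kspan k y ⊔ Kspan k z₁ ⊔ Kspan k x :=
    le_sup_left (a := Kspan k y ⊔ Kspan k z₁) (le_sup_left (a := Kspan k y) (self_mem_Kspan y))
  have hkyS : k *ᵥ y ∈ Kspan k y ⊔ Kspan k z₁ ⊔ Kspan k x :=
    le_sup_left (a := Kspan k y ⊔ Kspan k z₁)
      (le_sup_left (a := Kspan k y) (k_self_mem_Kspan y))
  have hz₁S : z₁ ∈ Kspan k y ⊔ Kspan k z₁ ⊔ Kspan k x :=
    le_sup_left (a := Kspan k y ⊔ Kspan k z₁) (le_sup_right (a := Kspan k y) (self_mem_Kspan z₁))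
  have hxS : x ∈ Kspan k y ⊔ Kspan k z₁ ⊔ Kspan k x :=
    le_sup_right (a := Kspan k y ⊔ Kspan k z₁) (self_mem_Kspan x)
  have hkxS : k *ᵥ x ∈ Kspan k y ⊔ Kspan k z₁ ⊔ Kspan k x :=
    le_sup_right (a := Kspan k y ⊔ Kspan k z₁) (k_self_mem_Kspan x)
  have e1 := polar_of_mem_perp Qf hQ he₀ hyS
  have e2 := polar_of_mem_perp Qf hQ he₀ hkyS
  have e3 := polar_of_mem_perp Qf hQ he₀ hz₁S
  have e4 := polar_of_mem_perp Qf hQ he₀ hxS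
  have e5 := polar_of_mem_perp Qf hQ he₀ hkxS
  have hz₁y := polar_of_mem_perp Qf hQ hz₁N (self_mem_Kspan y)
  have hz₁ky := polar_of_mem_perp Qf hQ hz₁N (k_self_mem_Kspan y)
  have j3 : QuadraticMap.polar ⇑Qf z₁ x = 1 := by rw [B_comm, hxz]
  have j4 : QuadraticMap.polar ⇑Qf z₁ (k *ᵥ x) = γ := by rw [B_comm, ← hγ]
  have hsum : Qf (e₀ + z₁) = 0 := by
    rw [Q_add (Q := ⇑Qf), he₀Q, hz₁Q, e3]; ring
  have h1 := Dsub_PA Qf hQ hk M' hKM hy hsum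
    (by rw [B_add_left hQ, e1, hz₁y, add_zero])
    (by rw [B_add_left hQ, e2, hz₁ky, add_zero]) hx₁D
    (by
      rw [B_add_left hQ, B_sub_right hQ, B_sub_right hQ, B_smul_right hQ, B_smul_right hQ,
        e4, e5, j3, j4]
      ring)
    (by
      rw [Matrix.mulVec_add, B_add_left hQ, B_sub_right hQ, B_sub_right hQ, B_smul_right hQ,
        B_smul_right hQ, hk.B_kk hQ, hk.B_kk hQ, hk.adj e₀ x, hk.adj z₁ x, e4, e5, j3, j4]
      intro h0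
      apply hβ
      linear_combination h0)
  have h2 := (Dsub Qf M' hy).sub_mem h1 hz₁D
  rwa [add_sub_cancel_right] at h2

include hQ hk in
/-- **one direction outside the `K`-line of `y` forces all of `(K y)^⊥`** -/
theorem perp_le_Dsub (hn : 13 ≤ n)
    (hKM : ∀ u : Fin n → F, Qf u = 0 → ∀ c : F, tg hQ u (k *ᵥ u) c ∈ M')
    {y : Fin n → F} (hy : Qf y = 0) {z : Fin n → F} (hzD : z ∈ Dsub Qf M' hy)
    (hzn : z ∉ Kspan k y) : perp hQ (Kspan k y) ≤ Dsub Qf M' hy := by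
  have hfr := finrank_Kspan_le (k := k) y
  obtain ⟨x₀, hx₀N, hx₀Q, hx₀z, hx₀n⟩ := exists_singular_gen' hQ (Kspan k y) (by omega) hzn
  obtain ⟨z₁, hz₁⟩ : ∃ z₁, z₁ = QuadraticMap.polar ⇑Qf x₀ z • (k *ᵥ x₀)
      - QuadraticMap.polar ⇑Qf (k *ᵥ x₀) z • x₀ := ⟨_, rfl⟩
  have hz₁D : z₁ ∈ Dsub Qf M' hy := by
    rw [hz₁]
    exact Dsub_P Qf hQ hk M' hKM hy hx₀Q (polar_of_mem_perp Qf hQ hx₀N (self_mem_Kspan y))
      (polar_of_mem_perp Qf hQ hx₀N (k_self_mem_Kspan y)) hzD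
  have hz₁' : z₁ = (-QuadraticMap.polar ⇑Qf (k *ᵥ x₀) z) • x₀
      + QuadraticMap.polar ⇑Qf x₀ z • (k *ᵥ x₀) := by
    rw [hz₁]; module
  have hz₁Q : Qf z₁ = 0 := by
    rw [hz₁']
    exact Q_comb hQ (hk.sp hQ hx₀Q) _ _
  have hz₁N : z₁ ∈ perp hQ (Kspan k y) := by
    rw [hz₁]
    exact (perp hQ (Kspan k y)).sub_mem
      ((perp hQ (Kspan k y)).smul_mem _ (k_mem_perp_Kspan Qf hQ hk hx₀N))
      ((perp hQ (Kspan k y)).smul_mem _ hx₀N)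
  have hz₁n : z₁ ∉ Kspan k y := by
    intro h
    apply hx₀n
    rw [hz₁'] at h
    exact hk.mem_Kspan_of_comb (Or.inr hx₀z) h
  obtain ⟨x, hxN, hxQ, hxz⟩ := exists_partner hQ (Kspan k y) hz₁N hz₁Q hz₁n
  obtain ⟨S₆, hS₆⟩ : ∃ S₆ : Submodule F (Fin n → F),
      S₆ = Kspan k y ⊔ Kspan k z₁ ⊔ Kspan k x := ⟨_, rfl⟩
  have hS₆k : ∀ s ∈ S₆, k *ᵥ s ∈ S₆ := by
    intro s hs
    rw [hS₆] at hs ⊢
    obtain ⟨s₁₂, hs₁₂, s₃, hs₃, rfl⟩ := Submodule.mem_sup.1 hs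
    obtain ⟨s₁, hs₁, s₂, hs₂, rfl⟩ := Submodule.mem_sup.1 hs₁₂
    rw [Matrix.mulVec_add, Matrix.mulVec_add]
    exact Submodule.add_mem _
      (Submodule.mem_sup_left (Submodule.add_mem _
        (Submodule.mem_sup_left (hk.k_mem_Kspan hs₁))
        (Submodule.mem_sup_right (hk.k_mem_Kspan hs₂))))
      (Submodule.mem_sup_right (hk.k_mem_Kspan hs₃))
  have hR : S₆ ⊓ perp hQ S₆ ≤ Kspan k y := by
    rw [hS₆]
    exact rad_S6 Qf hQ hk hz₁N hz₁Q hxN hxQ hxz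
  have hfr6 : Module.finrank F S₆ ≤ 6 := by
    rw [hS₆]
    have h1 := Submodule.finrank_add_le_finrank_add_finrank (Kspan k y ⊔ Kspan k z₁) (Kspan k x)
    have h2 := Submodule.finrank_add_le_finrank_add_finrank (Kspan k y) (Kspan k z₁)
    have h3 := finrank_Kspan_le (k := k) z₁
    have h4 := finrank_Kspan_le (k := k) x
    omega
  obtain ⟨e, heS, heQ, hen⟩ := exists_sing_perp_not_mem hQ S₆ (Kspan k y) hR (by omega)
  have hyS : Kspan k y ≤ S₆ := by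
    rw [hS₆]
    exact le_sup_left.trans le_sup_left
  have hen' : e ∉ Kspan k y := fun h => hen (hyS h)
  have hkeS : k *ᵥ e ∈ perp hQ S₆ := k_mem_perp Qf hQ hk S₆ hS₆k heS
  have heD : e ∈ Dsub Qf M' hy :=
    Dsub_PC_step Qf hQ hk M' hKM hy hz₁N hz₁Q hz₁D hxN hxQ hxz heQ (by rw [← hS₆]; exact heS)
  have hkeD : k *ᵥ e ∈ Dsub Qf M' hy :=
    Dsub_PC_step Qf hQ hk M' hKM hy hz₁N hz₁Q hz₁D hxN hxQ hxz
      (by rw [hk.Qk, heQ, mul_zero]) (by rw [← hS₆]; exact hkeS)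
  exact Dsub_PD Qf hQ hk M' (by omega) hKM hy (perp_anti hQ hyS heS) heQ hen' heD hkeD

end Cfsg.Agent.Helper45.C3U
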