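import Mathlib
import Cfsg.Agent.Helper45.C3UG

/-!
# A subgroup containing all singular `K`-line root groups and one more root group contains `Ω`
-/

set_option autoImplicit false
set_option linter.unusedSectionVars false
set_option linter.unusedVariables false
set_option linter.unusedSimpArgs false

namespace Cfsg.Agent.Helper45.C3U

open Matrix Cfsg Cfsg.Geo Cfsg.Agent.Helper94 Cfsg.Agent.Helper94.ORoot Cfsg.Agent.Helper94.SubW
open KData Cfsg.Agent.Helper45.OrInSL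

variable {F : Type*} [Field F] [Fintype F] {n : ℕ}
variable (Qf : QuadraticForm F (Fin n → F)) (hQ : IsNondegenerateQuadraticForm ⇑Qf)
variable {k : Matrix (Fin n) (Fin n) F} {τ ν : F} (hk : KData ⇑Qf k τ ν)
variable (M' : Subgroup ↥(isometryGroup F ⇑Qf))

include hk in
/-- `K`-lines are equal or meet trivially -/
theorem not_mem_Kspan_symm {y y₁ : Fin n → F} (hy0 : y ≠ 0) (h : y₁ ∉ Kspan k y) :
    y ∉ Kspan k y₁ := by
  intro hy
  obtain ⟨a, b, hab⟩ := mem_Kspan.1 hy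
  apply h
  have hne : a ≠ 0 ∨ b ≠ 0 := by
    by_contra hcon
    push Not at hcon
    rw [hcon.1, hcon.2, zero_smul, zero_smul, add_zero] at hab
    exact hy0 hab.symm
  apply hk.mem_Kspan_of_comb hne
  rw [hab]
  exact self_mem_Kspan y

include hk in
theorem mem_perp_Kspan_symm {x y : Fin n → F} (h : x ∈ perp hQ (Kspan k y)) :
    y ∈ perp hQ (Kspan k x) := by
  rw [mem_perp]
  intro s hs
  obtain ⟨a, b, rfl⟩ := mem_Kspan.1 hs
  have h1 := polar_of_mem_perp Qf hQ h (self_mem_Kspan y)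
  have h2 := polar_of_mem_perp Qf hQ h (k_self_mem_Kspan y)
  rw [B_add_right hQ, B_smul_right hQ, B_smul_right hQ, hk.adj' hQ, B_comm y x, h1,
    B_comm (k *ᵥ y) x, h2]
  ring

include hk in
theorem Kspan_le_Kspan {x v : Fin n → F} (hv : v ∈ Kspan k x) : Kspan k v ≤ Kspan k x := by
  unfold Kspan
  rw [Submodule.span_le]
  intro s hs
  rcases hs with rfl | hs
  · exact hv
  · rw [Set.mem_singleton_iff] at hs
    rw [hs]
    exact hk.k_mem_Kspan hv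

include hQ hk in
/-- propagation of fullness from `y` to a singular `y₁ ∈ (K y)^⊥` outside `K y` -/
theorem propagate_step (hn : 13 ≤ n)
    (hKM : ∀ u : Fin n → F, Qf u = 0 → ∀ c : F, tg hQ u (k *ᵥ u) c ∈ M')
    {y : Fin n → F} (hy : Qf y = 0) (hy0 : y ≠ 0) (hfull : perp hQ (Kspan k y) ≤ Dsub Qf M' hy)
    {y₁ : Fin n → F} (hy₁ : Qf y₁ = 0) (hy₁N : y₁ ∈ perp hQ (Kspan k y))
    (hy₁n : y₁ ∉ Kspan k y) : perp hQ (Kspan k y₁) ≤ Dsub Qf M' hy₁ := by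
  have hsp : SP ⇑Qf y y₁ := ⟨hy, hy₁, by
    rw [B_comm]; exact polar_of_mem_perp Qf hQ hy₁N (self_mem_Kspan y)⟩
  have h1 : y ∈ Dsub Qf M' hy₁ :=
    mem_Dsub_of_tg Qf hQ M' hsp.symm (fun c => tg_mem_of_mem_Dsub' Qf hQ M' hsp (hfull hy₁N) c)
  exact perp_le_Dsub Qf hQ hk M' hn hKM hy₁ h1 (not_mem_Kspan_symm Qf hk hy0 hy₁n)

include hQ hk in
/-- all singular vectors have full `(K p)^⊥` -/
theorem all_perp_le_Dsub (hn : 13 ≤ n)
    (hKM : ∀ u : Fin n → F, Qf u = 0 → ∀ c : F, tg hQ u (k *ᵥ u) c ∈ M')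
    {y₀ : Fin n → F} (hy₀ : Qf y₀ = 0) (hy₀0 : y₀ ≠ 0) {z₀ : Fin n → F}
    (hz₀ : z₀ ∈ Dsub Qf M' hy₀) (hz₀n : z₀ ∉ Kspan k y₀)
    {p : Fin n → F} (hp : Qf p = 0) (hp0 : p ≠ 0) : perp hQ (Kspan k p) ≤ Dsub Qf M' hp := by
  have h0 := perp_le_Dsub Qf hQ hk M' hn hKM hy₀ hz₀ hz₀n
  obtain ⟨S, hS⟩ : ∃ S : Submodule F (Fin n → F), S = Kspan k y₀ ⊔ Kspan k p := ⟨_, rfl⟩
  have hfr : Module.finrank F S ≤ 4 := by
    rw [hS]
    have h1 := Submodule.finrank_add_le_finrank_add_finrank (Kspan k y₀) (Kspan k p)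
    have h3 := finrank_Kspan_le (k := k) y₀
    have h4 := finrank_Kspan_le (k := k) p
    omega
  obtain ⟨y₁, hy₁S, hy₁Q, hy₁n⟩ := exists_sing_perp_not_mem' hQ S (by omega)
  have hle1 : Kspan k y₀ ≤ S := by rw [hS]; exact le_sup_left
  have hle2 : Kspan k p ≤ S := by rw [hS]; exact le_sup_right
  have hy₁0 : y₁ ≠ 0 := by
    rintro rfl
    exact hy₁n (Submodule.zero_mem _)
  have h1 := propagate_step Qf hQ hk M' hn hKM hy₀ hy₀0 h0 hy₁Q (perp_anti hQ hle1 hy₁S)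
    (fun h => hy₁n (hle1 h))
  have hpN : p ∈ perp hQ (Kspan k y₁) :=
    mem_perp_Kspan_symm Qf hQ hk (perp_anti hQ hle2 hy₁S)
  have hpn : p ∉ Kspan k y₁ := not_mem_Kspan_symm Qf hk hp0 (fun h => hy₁n (hle2 h))
  exact propagate_step Qf hQ hk M' hn hKM hy₁Q hy₁0 h1 hp hpN hpn

include hQ hk in
/-- every singular vector is an Eichler direction -/
theorem mem_eDir_of_seed (hn : 13 ≤ n)
    (hKM : ∀ u : Fin n → F, Qf u = 0 → ∀ c : F, tg hQ u (k *ᵥ u) c ∈ M')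
    {y₀ : Fin n → F} (hy₀ : Qf y₀ = 0) (hy₀0 : y₀ ≠ 0) {z₀ : Fin n → F}
    (hz₀ : z₀ ∈ Dsub Qf M' hy₀) (hz₀n : z₀ ∉ Kspan k y₀)
    {p : Fin n → F} (hp : Qf p = 0) (hp0 : p ≠ 0) :
    p ∈ Cfsg.Agent.Helper45.OmegaParity.eDir Qf M' := by
  have hall : ∀ {q : Fin n → F} (hq : Qf q = 0), q ≠ 0 →
      perp hQ (Kspan k q) ≤ Dsub Qf M' hq := fun hq hq0 =>
    all_perp_le_Dsub Qf hQ hk M' hn hKM hy₀ hy₀0 hz₀ hz₀n hq hq0
  -- a hyperbolic partner of `p`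
  have hpbot : p ∈ perp hQ (⊥ : Submodule F (Fin n → F)) := by
    rw [mem_perp]
    intro s hs
    rw [(Submodule.mem_bot F).1 hs, B_zero_right hQ]
  obtain ⟨p'', -, hp''Q, hp''p⟩ := exists_partner hQ (⊥ : Submodule F (Fin n → F)) hpbot hp
    (fun h => hp0 ((Submodule.mem_bot F).1 h))
  obtain ⟨γ, hγ⟩ : ∃ γ, γ = QuadraticMap.polar ⇑Qf (k *ᵥ p'') p := ⟨_, rfl⟩
  have hβ : γ * γ - τ * γ + ν ≠ 0 := hk.irr γ
  obtain ⟨p', hp'⟩ : ∃ p', p' = k *ᵥ p'' - γ • p'' := ⟨_, rfl⟩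
  have hp'' : p' = (-γ) • p'' + (1 : F) • (k *ᵥ p'') := by rw [hp']; module
  have hp'Q : Qf p' = 0 := by
    rw [hp'']
    exact Q_comb hQ (hk.sp hQ hp''Q) _ _
  have hp'K : p' ∈ Kspan k p'' := by
    rw [hp'', mem_Kspan]
    exact ⟨_, _, rfl⟩
  have hpp'' : QuadraticMap.polar ⇑Qf p p'' = 1 := by rw [B_comm, hp''p]
  have hpkp'' : QuadraticMap.polar ⇑Qf p (k *ᵥ p'') = γ := by rw [B_comm, ← hγ]
  have hpp' : QuadraticMap.polar ⇑Qf p p' = 0 := by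
    rw [hp', B_sub_right hQ, B_smul_right hQ, hpp'', hpkp'']
    ring
  have hkpp' : QuadraticMap.polar ⇑Qf (k *ᵥ p) p' ≠ 0 := by
    rw [hp', B_sub_right hQ, B_smul_right hQ, hk.B_kk hQ, hk.adj p p'', hpp'', hpkp'']
    intro h0
    apply hβ
    linear_combination h0
  have hp'0 : p' ≠ 0 := by
    rintro rfl
    exact hkpp' (B_zero_right hQ _)
  -- an auxiliary hyperbolic pair orthogonal to everything
  obtain ⟨S, hS⟩ : ∃ S : Submodule F (Fin n → F), S = Kspan k p ⊔ Kspan k p'' := ⟨_, rfl⟩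
  have hfr : Module.finrank F S ≤ 4 := by
    rw [hS]
    have h1 := Submodule.finrank_add_le_finrank_add_finrank (Kspan k p) (Kspan k p'')
    have h3 := finrank_Kspan_le (k := k) p
    have h4 := finrank_Kspan_le (k := k) p''
    omega
  have hle1 : Kspan k p ≤ S := by rw [hS]; exact le_sup_left
  have hle2 : Kspan k p'' ≤ S := by rw [hS]; exact le_sup_right
  obtain ⟨r, hrS, hrQ, hrn⟩ := exists_sing_perp_not_mem' hQ S (by omega)
  obtain ⟨r', hr'S, hr'Q, hr'r⟩ := exists_partner hQ S hrS hrQ hrn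
  have hpr : SP ⇑Qf p r := ⟨hp, hrQ, by
    rw [B_comm]; exact polar_of_mem_perp Qf hQ hrS (hle1 (self_mem_Kspan p))⟩
  have hp'r' : SP ⇑Qf p' r' := ⟨hp'Q, hr'Q, by
    rw [B_comm]; exact polar_of_mem_perp Qf hQ hr'S (hle2 hp'K)⟩
  have hT1 : ∀ c : F, tg hQ p r c ∈ M' := fun c =>
    tg_mem_of_mem_Dsub Qf hQ M' hpr (hall hp hp0 (perp_anti hQ hle1 hrS)) c
  have hT2 : ∀ d : F, tg hQ p' r' d ∈ M' := fun d =>
    tg_mem_of_mem_Dsub Qf hQ M' hp'r'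
      (hall hp'Q hp'0 (perp_anti hQ ((Kspan_le_Kspan Qf hk hp'K).trans hle2) hr'S)) d
  have h12 : QuadraticMap.polar ⇑Qf p r' = 0 := by
    rw [B_comm]; exact polar_of_mem_perp Qf hQ hr'S (hle1 (self_mem_Kspan p))
  have h21 : QuadraticMap.polar ⇑Qf r p' = 0 := polar_of_mem_perp Qf hQ hrS (hle2 hp'K)
  have hrr' : QuadraticMap.polar ⇑Qf r r' = 1 := by rw [B_comm, hr'r]
  have hp'D : p' ∈ Dsub Qf M' hp := by
    apply mem_Dsub_of_tg Qf hQ M' ⟨hp, hp'Q, hpp'⟩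
    intro c
    have h1 := tg_comm_formula hQ hpr hp'r' hpp' h12 h21 c 1
    rw [hrr', mul_one, mul_one] at h1
    rw [← h1]
    exact M'.mul_mem (M'.mul_mem (M'.mul_mem (hT1 c) (hT2 1)) (M'.inv_mem (hT1 c)))
      (M'.inv_mem (hT2 1))
  refine ⟨hp, fun w hw => ?_⟩
  obtain ⟨c, hc⟩ : ∃ c, c = QuadraticMap.polar ⇑Qf (k *ᵥ p) w
      / QuadraticMap.polar ⇑Qf (k *ᵥ p) p' := ⟨_, rfl⟩
  have hw' : w - c • p' ∈ perp hQ (Kspan k p) := by
    rw [mem_perp]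
    intro s hs
    obtain ⟨a, b, rfl⟩ := mem_Kspan.1 hs
    rw [B_add_right hQ, B_smul_right hQ, B_smul_right hQ, B_sub_left hQ, B_sub_left hQ,
      B_smul_left hQ, B_smul_left hQ, B_comm w p, hw, B_comm p' p, hpp', B_comm w (k *ᵥ p),
      B_comm p' (k *ᵥ p), hc]
    field_simp
    ring
  have h1 := (Dsub Qf M' hp).add_mem (hall hp hp0 hw') ((Dsub Qf M' hp).smul_mem c hp'D)
  rw [sub_add_cancel] at h1
  have h2 := h1.2 1
  rwa [one_smul] at h2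

include hQ hk in
/-- **the generation theorem** -/
theorem Omega_le_of_seed (hn : 13 ≤ n)
    (hKM : ∀ u : Fin n → F, Qf u = 0 → ∀ c : F, tg hQ u (k *ᵥ u) c ∈ M')
    {y₀ : Fin n → F} (hy₀ : Qf y₀ = 0) (hy₀0 : y₀ ≠ 0) {z₀ : Fin n → F}
    (hz₀ : z₀ ∈ Dsub Qf M' hy₀) (hz₀n : z₀ ∉ Kspan k y₀) : Cfsg.Omega F ⇑Qf ≤ M' := by
  apply Cfsg.Agent.Helper45.OmegaParity.Omega_le_of_eDir_all
    (Cfsg.Agent.Helper45.OmegaParity.nondeg_of_geo Qf hQ)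
    (by rw [Fintype.card_fin]; omega)
  intro z hz
  by_cases hz0 : z = 0
  · rw [hz0]
    exact Cfsg.Agent.Helper45.OmegaParity.eDir_zero M'
  · exact mem_eDir_of_seed Qf hQ hk M' hn hKM hy₀ hy₀0 hz₀ hz₀n hz hz0

end Cfsg.Agent.Helper45.C3U
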