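import Mathlib
import Cfsg.Agent.Helper45.C3UH

/-!
# Maximality of `N_Ω(K)` for a quadratic field `K` of similitudes (type `GU_{n/2}(q)`)
-/

set_option autoImplicit false
set_option linter.unusedSectionVars false
set_option linter.unusedVariables false
set_option linter.unusedSimpArgs false

namespace Cfsg.Agent.Helper45.C3U

open Matrix Cfsg Cfsg.Geo Cfsg.Agent.Helper94 Cfsg.Agent.Helper94.ORoot Cfsg.Agent.Helper94.SubW
open KData Cfsg.Agent.Helper45.OrInSL

variable {F : Type*} [Field F] [Fintype F] {n : ℕ}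
variable (Qf : QuadraticForm F (Fin n → F)) (hQ : IsNondegenerateQuadraticForm ⇑Qf)
variable {k : Matrix (Fin n) (Fin n) F} {τ ν : F} (hk : KData ⇑Qf k τ ν)

include hk in
/-- a root element of a totally singular line that is not a `K`-line does not normalise `K` -/
theorem sg_not_mem_normalizer (K : Subalgebra F (Matrix (Fin n) (Fin n) F)) (hkK : k ∈ K)
    (hgen : ∀ x ∈ K, ∃ a b : F, x = a • (1 : Matrix (Fin n) (Fin n) F) + b • k)
    {y z : Fin n → F} (hy : Qf y = 0) (hy0 : y ≠ 0) (hz : Qf z = 0)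
    (hzN : z ∈ perp hQ (Kspan k y)) (hzn : z ∉ Kspan k y) :
    ((sg hQ y z : ↥(isometryGroup F ⇑Qf)) : GL (Fin n) F) ∉ Cfsg.Geo.subalgebraNormalizer K := by
  intro hmem
  have hzy := polar_of_mem_perp Qf hQ hzN (self_mem_Kspan y)
  have hzky := polar_of_mem_perp Qf hQ hzN (k_self_mem_Kspan y)
  have hsp : SP ⇑Qf y z := ⟨hy, hz, by rw [B_comm, hzy]⟩
  obtain ⟨t, ht⟩ : ∃ t : ↥(isometryGroup F ⇑Qf), t = sg hQ y z := ⟨_, rfl⟩
  rw [← ht] at hmem
  obtain ⟨Tm, hTm⟩ : ∃ Tm : Matrix (Fin n) (Fin n) F, Tm = ((t : GL (Fin n) F) : Matrix _ _ F) :=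
    ⟨_, rfl⟩
  obtain ⟨Ti, hTi⟩ : ∃ Ti : Matrix (Fin n) (Fin n) F,
      Ti = (((t : GL (Fin n) F)⁻¹ : GL (Fin n) F) : Matrix _ _ F) := ⟨_, rfl⟩
  have him : Ti * Tm = 1 := by
    rw [hTm, hTi, ← Units.val_mul, inv_mul_cancel, Units.val_one]
  have hact : ∀ v, act t v = Tm *ᵥ v := by
    intro v; rw [hTm]; rfl
  have h1 : Tm * k * Ti ∈ K := by
    rw [hTm, hTi]
    exact (hmem k).1 hkK
  obtain ⟨a, b, hab⟩ := hgen _ h1
  have h2 : Tm * k = (a • (1 : Matrix (Fin n) (Fin n) F) + b • k) * Tm := by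
    rw [← hab, mul_assoc, him, mul_one]
  have h3 : ∀ v, act t (k *ᵥ v) = a • act t v + b • (k *ᵥ act t v) := by
    intro v
    rw [hact, hact, Matrix.mulVec_mulVec, h2, ← Matrix.mulVec_mulVec, Matrix.add_mulVec,
      Matrix.smul_mulVec, Matrix.smul_mulVec, Matrix.one_mulVec]
  have hty : ∀ v, act t v = v + QuadraticMap.polar ⇑Qf y v • z - QuadraticMap.polar ⇑Qf z v • y := by
    intro v
    rw [ht, act_sg hQ hsp]
  have hyy : QuadraticMap.polar ⇑Qf y y = 0 := by rw [B_self hQ, hy, mul_zero]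
  have hyky : QuadraticMap.polar ⇑Qf y (k *ᵥ y) = 0 := by rw [hk.Bk, hy, mul_zero]
  -- `a = 0`, `b = 1`
  have h4 := h3 y
  rw [hty, hty, hyy, hzy, hyky, hzky] at h4
  have h5 : a • y + (b - 1) • (k *ᵥ y) = 0 := by
    have : a • y + (b - 1) • (k *ᵥ y)
        = (a • (y + (0 : F) • z - (0 : F) • y) + b • k *ᵥ (y + (0 : F) • z - (0 : F) • y))
          - (k *ᵥ y + (0 : F) • z - (0 : F) • y) := by
      rw [zero_smul, zero_smul, add_zero, sub_zero, add_zero, sub_zero]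
      module
    rw [this, ← h4, sub_self]
  obtain ⟨ha, hb⟩ := hk.li hy0 h5
  have hb1 : b = 1 := by linear_combination hb
  -- choose `v` with `B(y,v) ≠ 0`
  obtain ⟨-, ⟨v, hv⟩⟩ := hQ.nondegenerate y hy0
  have h6 := h3 v
  rw [ha, hb1, zero_smul, zero_add, one_smul, hty, hty, Matrix.mulVec_sub, Matrix.mulVec_add,
    Matrix.mulVec_smul, Matrix.mulVec_smul] at h6
  have h7 : QuadraticMap.polar ⇑Qf z (k *ᵥ v) • y + (-QuadraticMap.polar ⇑Qf z v) • (k *ᵥ y)
      + ((-QuadraticMap.polar ⇑Qf y (k *ᵥ v)) • z + QuadraticMap.polar ⇑Qf y v • (k *ᵥ z)) = 0 := by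
    have : QuadraticMap.polar ⇑Qf z (k *ᵥ v) • y + (-QuadraticMap.polar ⇑Qf z v) • (k *ᵥ y)
        + ((-QuadraticMap.polar ⇑Qf y (k *ᵥ v)) • z + QuadraticMap.polar ⇑Qf y v • (k *ᵥ z))
        = (k *ᵥ v + QuadraticMap.polar ⇑Qf y v • (k *ᵥ z) - QuadraticMap.polar ⇑Qf z v • (k *ᵥ y))
          - (k *ᵥ v + QuadraticMap.polar ⇑Qf y (k *ᵥ v) • z
            - QuadraticMap.polar ⇑Qf z (k *ᵥ v) • y) := by
      module
    rw [this, ← h6, sub_self]
  exact hv (hk.li4 hy0 hzn h7).2.2.2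

include hQ in
/-- bundled form of the maximality theorem -/
theorem isMaximalIn_aux (hn : 13 ≤ n) (K : Subalgebra F (Matrix (Fin n) (Fin n) F))
    (hK : IsFieldSubalgebra 2 K) (hac : IsAdjointClosedFor (QuadraticMap.polar ⇑Qf) K)
    (hnsa : ¬ IsSelfAdjointFor (QuadraticMap.polar ⇑Qf) K)
    (hsc : ∀ k ∈ K, ∃ c : F, ∀ v : Fin n → F, Qf (k *ᵥ v) = c * Qf v) :
    IsMaximalIn (omegaGL ⇑Qf) (subalgebraNormalizer K ⊓ omegaGL ⇑Qf) := by
  obtain ⟨k, τ, ν, hkK, hk, hgen⟩ := exists_kdata hQ (by omega) K hK hac hnsa hsc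
  refine ⟨lt_of_le_of_ne inf_le_right ?_, ?_⟩
  · intro heq
    obtain ⟨y, -, hyQ, hyn⟩ := exists_sing_perp_not_mem' hQ (⊥ : Submodule F (Fin n → F))
      (by rw [finrank_bot]; omega)
    have hy0 : y ≠ 0 := by
      rintro rfl
      exact hyn (Submodule.zero_mem _)
    have hfr := finrank_Kspan_le (k := k) y
    obtain ⟨z, hzN, hzQ, hzn⟩ := exists_sing_perp_not_mem' hQ (Kspan k y) (by omega)
    have h1 : ((sg hQ y z : ↥(isometryGroup F ⇑Qf)) : GL (Fin n) F) ∈ omegaGL ⇑Qf :=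
      (mem_omegaGL_iff Qf _).2 (sg_mem_Omega Qf hQ (by rw [Fintype.card_fin]; omega) _ _)
    rw [← heq] at h1
    exact sg_not_mem_normalizer Qf hQ hk K hkK hgen hyQ hy0 hzQ hzN hzn h1.1
  · intro M hHM hMΩ
    by_cases hle : M ≤ subalgebraNormalizer K ⊓ omegaGL ⇑Qf
    · left
      exact le_antisymm hle hHM
    · right
      obtain ⟨g, hgM, hgH⟩ := SetLike.not_le_iff_exists.1 hle
      obtain ⟨g', hg'Ω, rfl⟩ := hMΩ hgM
      obtain ⟨M', hM'def⟩ : ∃ M' : Subgroup ↥(isometryGroup F ⇑Qf),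
          M' = M.comap (isometryGroup F ⇑Qf).subtype := ⟨_, rfl⟩
      have hg'M : g' ∈ M' := by
        rw [hM'def]
        exact hgM
      have hg'N : (g' : GL (Fin n) F) ∉ subalgebraNormalizer K :=
        fun h => hgH ⟨h, ⟨g', hg'Ω, rfl⟩⟩
      have hKM : ∀ u : Fin n → F, Qf u = 0 → ∀ c : F, tg hQ u (k *ᵥ u) c ∈ M' := by
        intro u hu c
        rw [hM'def]
        apply hHM
        exact ⟨tg_mem_normalizer Qf hQ hk K hgen hu c,
          (mem_omegaGL_iff Qf _).2 (tg_mem_Omega Qf hQ (by rw [Fintype.card_fin]; omega) _ _ _)⟩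
      obtain ⟨x, hxQ, hx0, hxk⟩ := exists_nonK_line Qf hQ hk (by omega) K hkK hgen g' hg'N
      have hsp : SP ⇑Qf x (k *ᵥ x) := hk.sp hQ hxQ
      have hsp' : SP ⇑Qf (act g' x) (act g' (k *ᵥ x)) :=
        ⟨by rw [Q_act g' x, hsp.1], by rw [Q_act g' (k *ᵥ x), hsp.2.1], by rw [B_act, hsp.2.2]⟩
      have hy₀0 : act g' x ≠ 0 := by
        intro h0
        apply hx0
        apply act_injective g'
        rw [h0, act_zero]
      have hz₀ : act g' (k *ᵥ x) ∈ Dsub Qf M' hsp'.1 := by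
        apply mem_Dsub_of_tg Qf hQ M' hsp'
        intro c
        have h1 := sg_conj hQ g' (hsp.smul_right hQ c)
        rw [act_smul] at h1
        unfold tg
        rw [← h1]
        exact M'.mul_mem (M'.mul_mem hg'M (hKM x hxQ c)) (M'.inv_mem hg'M)
      have hz₀n : act g' (k *ᵥ x) ∉ Kspan k (act g' x) := by
        intro hmem
        obtain ⟨a, b, hab⟩ := mem_Kspan.1 hmem
        by_cases hb : b = 0
        · rw [hb, zero_smul, add_zero, ← act_smul] at hab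
          have h1 := act_injective g' hab
          have h2 : a • x + (-1 : F) • (k *ᵥ x) = 0 := by
            rw [h1]; module
          have := (hk.li hx0 h2).2
          exact absurd this (by norm_num)
        · apply hxk
          rw [Submodule.mem_span_pair]
          refine ⟨-(b⁻¹ * a), b⁻¹, ?_⟩
          rw [← hab, smul_add, smul_smul, smul_smul, inv_mul_cancel₀ hb, one_smul]
          module
      have hΩ := Omega_le_of_seed Qf hQ hk M' hn hKM hsp'.1 hy₀0 hz₀ hz₀n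
      apply le_antisymm hMΩ
      rintro _ ⟨ω, hω, rfl⟩
      have := hΩ hω
      rw [hM'def] at this
      exact Subgroup.mem_comap.1 this

/-- **Maximality of the normaliser in `Ω` of a quadratic field of similitudes** (the
`GU_{n/2}(q)`-type field-extension subgroups of `Ω^±_n(q)`), all characteristics, `n ≥ 13`. -/
theorem isMaximalIn_fieldExt_unitary (hn : 13 ≤ n) (Q : (Fin n → F) → F)
    (hQ : IsNondegenerateQuadraticForm Q) (K : Subalgebra F (Matrix (Fin n) (Fin n) F))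
    (hK : IsFieldSubalgebra 2 K) (hac : IsAdjointClosedFor (QuadraticMap.polar Q) K)
    (hnsa : ¬ IsSelfAdjointFor (QuadraticMap.polar Q) K)
    (hsc : ∀ k ∈ K, ∃ c : F, ∀ v : Fin n → F, Q (k *ᵥ v) = c * Q v) :
    IsMaximalIn (omegaGL Q) (subalgebraNormalizer K ⊓ omegaGL Q) := by
  obtain ⟨Qf, hQcoe⟩ : ∃ Qf : QuadraticForm F (Fin n → F), ⇑Qf = Q :=
    ⟨Cfsg.Agent.Helper45.OmegaParity.qfOfGeo Q hQ, rfl⟩
  subst hQcoe
  exact isMaximalIn_aux Qf hQ hn K hK hac hnsa hsc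

end Cfsg.Agent.Helper45.C3U
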