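import Mathlib
import Cfsg.Agent.Helper83.E6CRoot2

/-!
helper45 for helper40 (S2373, `E₆` Coxeter torus farm #14814): piece (DIAG27) `scalar_of_comm27` of
`tools/helper40_e6tor/Skel.lean.txt`, verbatim.

A matrix commuting with the `72` root vectors of the `27`-dimensional module is a scalar:
it commutes with the projections `E_r E_{-r} = diag(upper r)`, which separate the `27` points, so it is
diagonal; and `g_aa E_r(a,b) = E_r(a,b) g_bb` with the graph of the non-zero entries connected.
-/

set_option autoImplicit false
set_option linter.unusedVariables false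

namespace Cfsg.Agent.Helper45.E6Tor

open Cfsg Cfsg.Lie Cfsg.Agent.Helper83.E6C

/-- the sets `upper r` separate the `27` points -/
def d27SepOK : Bool :=
  allI27.all fun a => allI27.all fun b =>
    decide (a = b) || (List.range 72).any fun r => upper r a != upper r b

set_option maxRecDepth 100000 in
theorem d27_sep_all : d27SepOK = true := by decide +kernel

/-- `b` is joined to `a` by a root vector with entry `± 1` -/
def d27Adj (a b : I27) : Bool :=
  (List.range 72).any fun r => decide (rowE r a = some (b, 1)) || decide (rowE r a = some (b, -1))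

/-- one step of the closure -/
def d27Step (S : List I27) : List I27 :=
  allI27.filter fun b => decide (b ∈ S) || S.any fun a => d27Adj a b

/-- the graph is connected (diameter `2`) -/
def d27ConnOK : Bool := allI27.all fun b => decide (b ∈ d27Step (d27Step [((0 : Fin 3), (0 : Fin 3), (0 : Fin 3))]))

set_option maxRecDepth 100000 in
theorem d27_conn_all : d27ConnOK = true := by decide +kernel

section Field

variable {L : Type*} [Field L]

theorem d27_sep (a b : I27) (hab : a ≠ b) : ∃ r < 72, upper r a ≠ upper r b := by
  have h := all_I27 (all_I27 d27_sep_all a) b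
  simp only [Bool.or_eq_true, decide_eq_true_eq, hab, false_or, List.any_eq_true, List.mem_range,
    bne_iff_ne] at h
  obtain ⟨r, hr, h⟩ := h
  exact ⟨r, hr, h⟩

theorem d27_comm_proj (g : Matrix I27 I27 L)
    (hc : ∀ r < 72, g * Emat L r = Emat L r * g) (r : ℕ) (hr : r < 72) :
    g * (Matrix.diagonal fun a => if upper r a then (1 : L) else 0) =
      (Matrix.diagonal fun a => if upper r a then (1 : L) else 0) * g := by
  rw [← Emat_proj L r hr, ← mul_assoc, hc r hr, mul_assoc, hc _ (neg_lt r hr), mul_assoc]

theorem d27_offdiag (g : Matrix I27 I27 L)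
    (hc : ∀ r < 72, g * Emat L r = Emat L r * g) (a b : I27) (hab : a ≠ b) : g a b = 0 := by
  obtain ⟨r, hr, hne⟩ := d27_sep a b hab
  have h := congrFun (congrFun (d27_comm_proj g hc r hr) a) b
  rw [Matrix.mul_diagonal, Matrix.diagonal_mul] at h
  by_cases ha : upper r a = true
  · have hb : ¬ upper r b = true := fun hb => hne (by rw [ha, hb])
    rw [if_pos ha, if_neg hb, mul_zero, one_mul] at h
    exact h.symm
  · have hb : upper r b = true := by
      by_contra hb
      apply hne
      rw [Bool.not_eq_true] at ha hb
      rw [ha, hb]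
    rw [if_neg ha, if_pos hb, mul_one, zero_mul] at h
    exact h

theorem d27_adj (g : Matrix I27 I27 L)
    (hc : ∀ r < 72, g * Emat L r = Emat L r * g) (a b : I27) (h : d27Adj a b = true) :
    g a a = g b b := by
  unfold d27Adj at h
  simp only [List.any_eq_true, List.mem_range, Bool.or_eq_true, decide_eq_true_eq] at h
  obtain ⟨r, hr, h⟩ := h
  have hE : Emat L r a b = 1 ∨ Emat L r a b = -1 := by
    rw [Emat_apply]
    rcases h with h | h
    · left; rw [h]; simp [rowVal]
    · right; rw [h]; simp [rowVal]
  have hE0 : Emat L r a b ≠ 0 := by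
    rcases hE with h | h <;> rw [h] <;> simp
  have h1 := congrFun (congrFun (hc r hr) a) b
  rw [Matrix.mul_apply, Matrix.mul_apply, Finset.sum_eq_single a, Finset.sum_eq_single b] at h1
  · rw [mul_comm] at h1
    exact mul_left_cancel₀ hE0 h1
  · intro c _ hcb
    rw [d27_offdiag g hc c b hcb, mul_zero]
  · intro hb; exact absurd (Finset.mem_univ _) hb
  · intro c _ hca
    rw [d27_offdiag g hc a c (Ne.symm hca), zero_mul]
  · intro ha; exact absurd (Finset.mem_univ _) ha

theorem d27_step (g : Matrix I27 I27 L)
    (hc : ∀ r < 72, g * Emat L r = Emat L r * g) (ω : L) (S : List I27)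
    (hS : ∀ a ∈ S, g a a = ω) : ∀ b ∈ d27Step S, g b b = ω := by
  intro b hb
  unfold d27Step at hb
  rw [List.mem_filter] at hb
  obtain ⟨_, hb⟩ := hb
  simp only [Bool.or_eq_true, decide_eq_true_eq, List.any_eq_true] at hb
  rcases hb with hb | ⟨a, ha, hab⟩
  · exact hS b hb
  · rw [← d27_adj g hc a b hab]
    exact hS a ha

/-- (DIAG27) a matrix commuting with all root elements of the `27`-dimensional model is a scalar -/
theorem scalar_of_comm27 {L : Type*} [Field L] (g : Matrix I27 I27 L)
    (hc : ∀ r < 72, g * Emat L r = Emat L r * g) : ∃ ω : L, g = Matrix.diagonal fun _ => ω := by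
  refine ⟨g (0, 0, 0) (0, 0, 0), ?_⟩
  have h0 : ∀ a ∈ [((0 : Fin 3), (0 : Fin 3), (0 : Fin 3))], g a a = g (0, 0, 0) (0, 0, 0) := by
    intro a ha
    rw [List.mem_singleton] at ha
    rw [ha]
  have h2 := d27_step g hc _ _ (d27_step g hc _ _ h0)
  funext a b
  rw [Matrix.diagonal_apply]
  by_cases hab : a = b
  · subst hab
    rw [if_pos rfl]
    apply h2
    exact of_decide_eq_true (all_I27 d27_conn_all a)
  · rw [if_neg hab]
    exact d27_offdiag g hc a b hab

end Field

end Cfsg.Agent.Helper45.E6Tor
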