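import Mathlib
import Cfsg.Agent.Helper40.E6Tor.Defs2

/-!
helper45 for helper40 (S2373, `E₆` Coxeter torus farm #14814): piece (SCAL27) `scalar_mem_tauT` of
`tools/helper40_e6tor/Skel.lean.txt`, verbatim.

A scalar isometry `ω` of the cubic form has `ω³ = 1`, and is the torus element `τ̃(k)` with
`k = (ω², 1, ω, 1, ω², ω)`, which lies in the kernel of the adjoint torus.
-/

set_option autoImplicit false
set_option linter.unusedVariables false

namespace Cfsg.Agent.Helper45.E6Tor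

open Cfsg Cfsg.Lie Cfsg.Agent.Helper18 Cfsg.Agent.Helper19.Cox Cfsg.Agent.Helper19.Poinc
  Cfsg.Agent.Helper80.Tor Cfsg.Agent.Helper36.TorD Cfsg.Agent.Helper83.E6C Cfsg.Agent.Helper40.E6Tor
open scoped Matrix

/-- the central cocharacter kills the roots mod `3` -/
def s27CartanOK : Bool :=
  (List.range 72).all fun s =>
    decide ((2 * chevE6.cartan 0 s + chevE6.cartan 2 s + 2 * chevE6.cartan 4 s + chevE6.cartan 5 s) % 3 = 0)

set_option maxRecDepth 100000 in
theorem s27_cartan_all : s27CartanOK = true := by decide +kernel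

/-- the central cocharacter has value `1` mod `3` on the `27` weights -/
def s27WtOK : Bool :=
  allI27.all fun a => decide ((2 * wt27 a 0 + wt27 a 2 + 2 * wt27 a 4 + wt27 a 5) % 3 = 1)

set_option maxRecDepth 100000 in
theorem s27_wt_all : s27WtOK = true := by decide +kernel

theorem s27_Tl_smul {ι : Type*} {F : Type*} [CommRing F] (M : List (ι × ι × ι × ℤ)) (c : F) (v : ι → F) :
    Tl M (c • v) = c ^ 3 * Tl M v := by
  induction M with
  | nil => simp [Tl]
  | cons m M ih =>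
    simp only [Tl, List.map_cons, List.sum_cons] at ih ⊢
    rw [ih]
    simp only [Pi.smul_apply, smul_eq_mul]
    ring

section Field

variable {L : Type*} [Field L]

/-- the vector with first matrix `1` and the others `0` -/
def s27Vec (L : Type*) [Field L] : I27 → L := fun p => if p.1 = 0 ∧ p.2.1 = p.2.2 then 1 else 0

theorem s27_cubicT_vec : cubicT (s27Vec L) = 1 := by
  have h0 : mat3 (s27Vec L) 0 = 1 := by
    ext i j
    simp [mat3, s27Vec, Matrix.one_apply]
  have h1 : mat3 (s27Vec L) 1 = 0 := by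
    ext i j
    simp [mat3, s27Vec]
  have h2 : mat3 (s27Vec L) 2 = 0 := by
    ext i j
    simp [mat3, s27Vec]
  unfold cubicT
  rw [h0, h1, h2]
  simp

theorem s27_zpow_of_dvd (u : Lˣ) (hu : u ^ 3 = 1) (n : ℤ) (hn : n % 3 = 0) : u ^ n = 1 := by
  obtain ⟨m, rfl⟩ := Int.dvd_of_emod_eq_zero hn
  rw [zpow_mul, show ((3 : ℤ)) = ((3 : ℕ) : ℤ) from rfl, zpow_natCast, hu, one_zpow]

theorem s27_zpow_of_one (u : Lˣ) (hu : u ^ 3 = 1) (n : ℤ) (hn : n % 3 = 1) : u ^ n = u := by
  have h : n = (n - 1) + 1 := by ring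
  rw [h, zpow_add, zpow_one, s27_zpow_of_dvd u hu (n - 1) (by omega), one_mul]

theorem s27_prod (u : Lˣ) (a b c d e f : ℤ) :
    (u ^ 2) ^ a * (1 : Lˣ) ^ b * u ^ c * (1 : Lˣ) ^ d * (u ^ 2) ^ e * u ^ f =
      u ^ (2 * a + c + 2 * e + f) := by
  have h2 : ∀ x : ℤ, (u ^ 2) ^ x = u ^ (2 * x) := by
    intro x
    rw [← zpow_natCast u 2, ← zpow_mul]
    rfl
  rw [h2, h2, one_zpow, one_zpow, mul_one, mul_one, ← zpow_add, ← zpow_add, ← zpow_add]

theorem s27_torusHom_of_char (k : Fin chevE6.rank → Lˣ) (h : torusChar chevE6 L k = 1) :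
    torusHom chevE6 L k = 1 := by
  have hk : k ∈ (torusHom chevE6 L).ker := by
    rw [torusHom_ker]
    exact MonoidHom.mem_ker.mpr h
  exact MonoidHom.mem_ker.mp hk

/-- (SCAL27) a scalar isometry of the cubic form is a torus element in the kernel of the adjoint torus -/
theorem scalar_mem_tauT {L : Type*} [Field L] (g : GL I27 L) (hg : g ∈ E6univ L) (ω : L)
    (hω : (g : Matrix I27 I27 L) = Matrix.diagonal fun _ => ω) :
    ∃ k : Fin 6 → Lˣ, torusHom chevE6 L k = 1 ∧ g = tauT L k := by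
  -- `ω ^ 3 = 1`
  have hω3 : ω ^ 3 = 1 := by
    have h1 := (mem_E6univ_iff g).mp hg (s27Vec L)
    have h2 : (g : Matrix I27 I27 L) *ᵥ (s27Vec L) = ω • s27Vec L := by
      funext a
      rw [hω, Matrix.mulVec_diagonal]
      rfl
    rw [h2, s27_Tl_smul, ← cubicT_eq, s27_cubicT_vec, mul_one] at h1
    exact h1
  set u : Lˣ := Units.ofPowEqOne ω 3 hω3 (by norm_num) with hu
  have hu3 : u ^ 3 = 1 := Units.pow_ofPowEqOne hω3 (by norm_num)
  have huv : ((u : Lˣ) : L) = ω := rfl
  refine ⟨![u ^ 2, 1, u, 1, u ^ 2, u], ?_, ?_⟩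
  · have hchar : torusChar chevE6 L (![u ^ 2, 1, u, 1, u ^ 2, u] : Fin 6 → Lˣ) = 1 := by
      funext j
      rcases j with a | s
      · rfl
      · show ∏ i : Fin 6, (![u ^ 2, 1, u, 1, u ^ 2, u] : Fin 6 → Lˣ) i ^ chevE6.cartan i.val s.val = 1
        rw [Fin.prod_univ_six]
        simp only [Matrix.cons_val_zero, Matrix.cons_val_one, Matrix.cons_val]
        show (u ^ 2) ^ chevE6.cartan 0 s.val * (1 : Lˣ) ^ chevE6.cartan 1 s.val * u ^ chevE6.cartan 2 s.val *
          (1 : Lˣ) ^ chevE6.cartan 3 s.val * (u ^ 2) ^ chevE6.cartan 4 s.val * u ^ chevE6.cartan 5 s.val = 1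
        rw [s27_prod]
        apply s27_zpow_of_dvd u hu3
        have h := all_range s27_cartan_all s.val s.2
        exact of_decide_eq_true h
    exact s27_torusHom_of_char _ hchar
  · apply Units.ext
    rw [tauT_val, hω]
    congr 1
    funext a
    show ω = ((∏ i : Fin 6, (![u ^ 2, 1, u, 1, u ^ 2, u] : Fin 6 → Lˣ) i ^ wt27 a i.val : Lˣ) : L)
    rw [Fin.prod_univ_six]
    simp only [Matrix.cons_val_zero, Matrix.cons_val_one, Matrix.cons_val]
    have h3 : (u ^ 2) ^ wt27 a 0 * (1 : Lˣ) ^ wt27 a 1 * u ^ wt27 a 2 *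
          (1 : Lˣ) ^ wt27 a 3 * (u ^ 2) ^ wt27 a 4 * u ^ wt27 a 5 = u := by
      rw [s27_prod]
      apply s27_zpow_of_one u hu3
      have h := all_I27 s27_wt_all a
      exact of_decide_eq_true h
    exact (congrArg Units.val h3).symm

end Field

end Cfsg.Agent.Helper45.E6Tor
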