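import Mathlib
import Cfsg.Agent.Helper40.E6Tor.Defs2
import Cfsg.Agent.Helper45.E6Tor_DIAG27
import Cfsg.Agent.Helper45.E6Tor_SCAL27

/-!
helper45 for helper40 (S2373, `E₆` Coxeter torus farm #14814): piece (CEN27) `center_G0` of
`tools/helper40_e6tor/Skel.lean.txt`, verbatim (glue of (DIAG27) and (SCAL27)).
-/

set_option autoImplicit false
set_option linter.unusedVariables false

namespace Cfsg.Agent.Helper45.E6Tor

open Cfsg Cfsg.Lie Cfsg.Agent.Helper18 Cfsg.Agent.Helper19.Cox Cfsg.Agent.Helper19.Poinc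
  Cfsg.Agent.Helper80.Tor Cfsg.Agent.Helper36.TorD Cfsg.Agent.Helper83.E6C Cfsg.Agent.Helper40.E6Tor

/-- (CEN27) the centre of `G0` lies in the torus, over the kernel of the adjoint torus -/
theorem center_G0 {L : Type*} [Field L] (g : GL I27 L) (hg : g ∈ G0 L)
    (hc : ∀ h ∈ G0 L, g * h = h * g) : ∃ k : Fin 6 → Lˣ, torusHom chevE6 L k = 1 ∧ g = tauT L k := by
  have hcomm : ∀ r < 72, (g : Matrix I27 I27 L) * Emat L r = Emat L r * (g : Matrix I27 I27 L) := by
    intro r _
    have h1 := congrArg (fun x : GL I27 L => (x : Matrix I27 I27 L)) (hc _ (x27GL_mem_G0 r (1 : L)))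
    simp only [Units.val_mul, x27GL_val] at h1
    unfold x27 xr at h1
    rw [one_smul, mul_add, add_mul, mul_one, one_mul] at h1
    exact add_left_cancel h1
  obtain ⟨ω, hω⟩ := scalar_of_comm27 (g : Matrix I27 I27 L) hcomm
  exact scalar_mem_tauT g (G0_le L hg) ω hω

end Cfsg.Agent.Helper45.E6Tor
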