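import Mathlib
import Cfsg.Agent.Helper40.E6Tor.Defs

/-!
helper45 for helper40 (S2373, `E₆` Coxeter torus farm #14814): piece (CP6) `charpoly_of_coxLike` of
`tools/helper40_e6tor/Skel.lean.txt`, verbatim.
-/

set_option autoImplicit false
set_option linter.unusedVariables false

namespace Cfsg.Agent.Helper45.E6Tor

open Cfsg.Agent.Helper40.E6Tor
open Polynomial

/-- `Φ₁₂` explicitly -/
theorem cp6_cyclotomic_twelve (R : Type*) [CommRing R] [IsDomain R] [CharZero R] :
    cyclotomic 12 R = X ^ 4 - X ^ 2 + 1 := by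
  have h1 : expand R 2 (cyclotomic 6 R) = cyclotomic (6 * 2) R :=
    cyclotomic_expand_eq_cyclotomic (by norm_num) (by norm_num) R
  rw [show (12 : ℕ) = 6 * 2 from rfl, ← h1, cyclotomic_six]
  simp only [map_add, map_sub, map_pow, expand_X, map_one]
  ring

/-- evaluation over `ℚ` of the image of an integral polynomial -/
theorem cp6_aeval_map (M : Matrix (Fin 6) (Fin 6) ℤ) (p : ℤ[X]) :
    aeval ((Int.castRingHom ℚ).mapMatrix M) (p.map (Int.castRingHom ℚ)) =
      (Int.castRingHom ℚ).mapMatrix (aeval M p) := by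
  rw [aeval_def, aeval_def, eval₂_map, hom_eval₂]
  congr 1
  exact RingHom.ext_int _ _

theorem cp6_mapMatrix_eq_zero (N : Matrix (Fin 6) (Fin 6) ℤ)
    (h : (Int.castRingHom ℚ).mapMatrix N = 0) : N = 0 := by
  have hinj : Function.Injective ((Int.castRingHom ℚ).mapMatrix (m := Fin 6)) := by
    intro A B hAB
    exact Matrix.map_injective (Int.cast_injective (α := ℚ)) hAB
  exact hinj (by rw [h, map_zero])

/-- (CP6) the characteristic polynomial of a Coxeter-like matrix -/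
theorem charpoly_of_coxLike (M : Matrix (Fin 6) (Fin 6) ℤ) (hM : CoxLike M) :
    M.charpoly = X ^ 6 + X ^ 5 - X ^ 3 + X + 1 := by
  obtain ⟨hf, h12, h3⟩ := hM
  set Mq : Matrix (Fin 6) (Fin 6) ℚ := (Int.castRingHom ℚ).mapMatrix M with hMq
  set f : ℤ[X] := X ^ 6 + X ^ 5 - X ^ 3 + X + 1 with hfdef
  have hfac : f = cyclotomic 12 ℤ * cyclotomic 3 ℤ := by
    rw [cp6_cyclotomic_twelve ℤ, cyclotomic_three, hfdef]; ring
  have hfacq : f.map (Int.castRingHom ℚ) = cyclotomic 12 ℚ * cyclotomic 3 ℚ := by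
    rw [hfac, Polynomial.map_mul, map_cyclotomic_int, map_cyclotomic_int]
  -- evaluations
  have e0 : aeval M f = 0 := by
    rw [hfdef]; simpa using hf
  have e12 : aeval M (cyclotomic 12 ℤ) ≠ 0 := by
    rw [cp6_cyclotomic_twelve ℤ]; simpa using h12
  have e3 : aeval M (cyclotomic 3 ℤ) ≠ 0 := by
    rw [cyclotomic_three]; simpa using h3
  have q0 : aeval Mq (f.map (Int.castRingHom ℚ)) = 0 := by
    rw [hMq, cp6_aeval_map, e0, map_zero]
  have q12 : aeval Mq (cyclotomic 12 ℚ) ≠ 0 := by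
    intro h
    rw [← map_cyclotomic_int 12 ℚ, hMq, cp6_aeval_map] at h
    exact e12 (cp6_mapMatrix_eq_zero _ h)
  have q3 : aeval Mq (cyclotomic 3 ℚ) ≠ 0 := by
    intro h
    rw [← map_cyclotomic_int 3 ℚ, hMq, cp6_aeval_map] at h
    exact e3 (cp6_mapMatrix_eq_zero _ h)
  -- the minimal polynomial
  have hdvd : minpoly ℚ Mq ∣ cyclotomic 12 ℚ * cyclotomic 3 ℚ := by
    rw [← hfacq]; exact minpoly.dvd ℚ Mq q0
  have irr12 : Irreducible (cyclotomic 12 ℚ) := cyclotomic.irreducible_rat (by norm_num)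
  have irr3 : Irreducible (cyclotomic 3 ℚ) := cyclotomic.irreducible_rat (by norm_num)
  have d12 : cyclotomic 12 ℚ ∣ minpoly ℚ Mq := by
    rcases dvd_or_isCoprime _ (minpoly ℚ Mq) irr12 with h | h
    · exact h
    · exfalso
      have h' : minpoly ℚ Mq ∣ cyclotomic 3 ℚ := h.symm.dvd_of_dvd_mul_left hdvd
      obtain ⟨c, hc⟩ := h'
      apply q3
      rw [hc, map_mul, minpoly.aeval, zero_mul]
  have d3 : cyclotomic 3 ℚ ∣ minpoly ℚ Mq := by
    rcases dvd_or_isCoprime _ (minpoly ℚ Mq) irr3 with h | h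
    · exact h
    · exfalso
      have h' : minpoly ℚ Mq ∣ cyclotomic 12 ℚ := h.symm.dvd_of_dvd_mul_right hdvd
      obtain ⟨c, hc⟩ := h'
      apply q12
      rw [hc, map_mul, minpoly.aeval, zero_mul]
  have hcop : IsCoprime (cyclotomic 12 ℚ) (cyclotomic 3 ℚ) :=
    cyclotomic.isCoprime_rat (by norm_num)
  have d : cyclotomic 12 ℚ * cyclotomic 3 ℚ ∣ Mq.charpoly :=
    (hcop.mul_dvd d12 d3).trans (Matrix.minpoly_dvd_charpoly Mq)
  have hmonic : (cyclotomic 12 ℚ * cyclotomic 3 ℚ).Monic :=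
    (cyclotomic.monic 12 ℚ).mul (cyclotomic.monic 3 ℚ)
  have h5 : Mq.charpoly = cyclotomic 12 ℚ * cyclotomic 3 ℚ := by
    apply Polynomial.eq_of_monic_of_dvd_of_natDegree_le hmonic (Matrix.charpoly_monic Mq) d
    rw [Matrix.charpoly_natDegree_eq_dim, Fintype.card_fin,
      (cyclotomic.monic 12 ℚ).natDegree_mul (cyclotomic.monic 3 ℚ), natDegree_cyclotomic,
      natDegree_cyclotomic]
    decide
  have h6 : Mq.charpoly = (M.charpoly).map (Int.castRingHom ℚ) := by
    rw [hMq, RingHom.mapMatrix_apply, Matrix.charpoly_map]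
  rw [h6, ← hfacq] at h5
  exact Polynomial.map_injective (Int.castRingHom ℚ) Int.cast_injective h5

end Cfsg.Agent.Helper45.E6Tor
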