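import Mathlib
import Cfsg.Agent.Helper40.E6Tor.Defs
import Cfsg.Agent.Helper45.E6Tor_CP6

/-!
helper45 for helper40 (S2373, `E₆` Coxeter torus farm #14814): piece (TR6) `trace_of_coxLike` of
`tools/helper40_e6tor/Skel.lean.txt`, verbatim.
-/

set_option autoImplicit false
set_option linter.unusedVariables false

namespace Cfsg.Agent.Helper45.E6Tor

open Cfsg.Agent.Helper40.E6Tor
open Polynomial

/-- (TR6) -/
theorem trace_of_coxLike (M : Matrix (Fin 6) (Fin 6) ℤ) (hM : CoxLike M) : M.trace = -1 := by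
  have h1 := Matrix.trace_eq_neg_charpoly_coeff M
  rw [h1, charpoly_of_coxLike M hM, Fintype.card_fin]
  have : (X ^ 6 + X ^ 5 - X ^ 3 + X + 1 : ℤ[X]).coeff (6 - 1) = 1 := by
    simp [coeff_X, coeff_one]
  rw [this]

end Cfsg.Agent.Helper45.E6Tor
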