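import Mathlib
import Cfsg.Agent.Helper45.EllDefs
import Cfsg.Agent.Helper94.TpD
import Cfsg.Agent.Helper37.FldB

/-!
# S5988, part (EA): unipotent elements of `Ω⁺` all of whose invariant even-dimensional subspaces
are hyperbolic (helper45)
-/

set_option autoImplicit false
set_option linter.unusedSectionVars false

namespace Cfsg.Agent.Helper45.EllA

open Module Polynomial
open Cfsg.Agent.Helper59.InvChain Cfsg.Agent.Helper59.Elusive
open Cfsg.Agent.Helper99.SpStruct Cfsg.Agent.Helper99.RDecomp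
open Cfsg.Agent.Helper44 Cfsg.Agent.Helper44.QType
open Cfsg.Agent.Helper99.QSp
open Cfsg.Agent.Helper45.Ell

universe u v

section general

variable {F : Type u} [Field F]
variable {V : Type v} [AddCommGroup V] [Module F V] [FiniteDimensional F V]

/-- a subspace of every smaller dimension -/
theorem exists_le_finrank_eq (X : Submodule F V) {e : ℕ} (he : e ≤ finrank F ↥X) :
    ∃ U : Submodule F V, U ≤ X ∧ finrank F ↥U = e := by
  classical
  let b := Module.finBasis F ↥X
  let f : Fin e → V := fun i => (b (Fin.castLE he i) : V)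
  have hli : LinearIndependent F f := by
    have h1 : LinearIndependent F (fun i : Fin e => b (Fin.castLE he i)) :=
      b.linearIndependent.comp _ (Fin.castLE_injective he)
    exact h1.map' X.subtype (Submodule.ker_subtype X)
  refine ⟨Submodule.span F (Set.range f), ?_, ?_⟩
  · rw [Submodule.span_le]
    rintro _ ⟨i, rfl⟩
    exact (b (Fin.castLE he i)).2
  · rw [finrank_span_eq_card hli, Fintype.card_fin]

/-- (EA1) -/
theorem hyp_of_inv_sq_zero (Q : QuadraticForm F V) (N : Module.End F V) (hNN : N * N = 0)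
    (Z : Submodule F V) (hZ : TS Q Z) (him : LinearMap.range N ≤ Z) (w₀ : V)
    (hker : LinearMap.ker N ≤ Z ⊔ Submodule.span F {w₀}) (W : Submodule F V)
    (hW : ∀ w ∈ W, N w ∈ W) {e : ℕ} (hdim : finrank F ↥W = 2 * e) : Hyp Q W := by
  classical
  -- rank-nullity on `W`
  set K : Submodule F V := W ⊓ LinearMap.ker N with hK
  set R : Submodule F V := W.map N with hR
  have hrn : finrank F ↥R + finrank F ↥K = 2 * e := by
    have h1 := LinearMap.finrank_range_add_finrank_ker (N.domRestrict W)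
    rw [hdim] at h1
    have h2 : LinearMap.range (N.domRestrict W) = R := by
      rw [LinearMap.range_domRestrict]
    have h3 : finrank F ↥(LinearMap.ker (N.domRestrict W)) = finrank F ↥K := by
      rw [LinearMap.ker_domRestrict]
      have : K = (Submodule.comap W.subtype (LinearMap.ker N)).map W.subtype := by
        rw [Submodule.map_comap_subtype]
      rw [this]
      exact (LinearEquiv.finrank_eq (Submodule.equivSubtypeMap W _))
    rw [h2, h3] at h1
    exact h1
  have hRK : R ≤ K := by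
    rintro _ ⟨w, hw, rfl⟩
    refine ⟨hW w hw, ?_⟩
    show N (N w) = 0
    rw [← Module.End.mul_apply, hNN]
    rfl
  have hRZ : R ≤ W ⊓ Z := by
    rintro _ ⟨w, hw, rfl⟩
    exact ⟨hW w hw, him (LinearMap.mem_range_self N w)⟩
  have hKZ : finrank F ↥K ≤ finrank F ↥(K ⊓ Z) + 1 := by
    have h1 := Submodule.finrank_sup_add_finrank_inf_eq K Z
    have h2 : K ⊔ Z ≤ Z ⊔ Submodule.span F {w₀} :=
      sup_le (le_trans inf_le_right hker) le_sup_left
    have h3 := Submodule.finrank_mono h2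
    have h4 : finrank F ↥(Z ⊔ Submodule.span F {w₀}) ≤ finrank F ↥Z + 1 := by
      have := Submodule.finrank_add_le_finrank_add_finrank Z (Submodule.span F {w₀})
      have h5 : finrank F ↥(Submodule.span F {w₀}) ≤ 1 := by
        have := finrank_span_le_card (R := F) ({w₀} : Set V)
        simpa using this
      omega
    omega
  have hKZW : K ⊓ Z ≤ W ⊓ Z := inf_le_inf_right Z inf_le_left
  have hbig : e ≤ finrank F ↥(W ⊓ Z) := by
    have h1 := Submodule.finrank_mono hRZ
    have h2 := Submodule.finrank_mono hKZW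
    omega
  obtain ⟨U, hU, hUd⟩ := exists_le_finrank_eq (W ⊓ Z) hbig
  refine ⟨U, le_trans hU inf_le_left, fun u hu => hZ u (hU hu).2, ?_⟩
  rw [hUd, hdim]

end general

/-! ## the unipotent elements `tS S` of `O⁺` -/

section tS

open Matrix Cfsg.Agent.Helper43.SpInv Cfsg.Agent.Helper43.OrthInv

variable {F : Type u} [Field F] {d : ℕ}

/-- vectors supported on the first half of the coordinates -/
def ZSp (F : Type u) [Field F] (d : ℕ) : Submodule F (Fin d ⊕ Fin d → F) where
  carrier := {v | ∀ j, v (Sum.inr j) = 0}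
  add_mem' := by
    intro a b ha hb j
    rw [Pi.add_apply, ha j, hb j, add_zero]
  zero_mem' := fun j => rfl
  smul_mem' := by
    intro c a ha j
    rw [Pi.smul_apply, ha j, smul_zero]

theorem mem_ZSp {v : Fin d ⊕ Fin d → F} : v ∈ ZSp F d ↔ ∀ j, v (Sum.inr j) = 0 := Iff.rfl

theorem ts_ZSp : TS (plusForm d F) (ZSp F d) := by
  intro v hv
  show Cfsg.quadFormPlus d F v = 0
  unfold Cfsg.quadFormPlus
  apply Finset.sum_eq_zero
  intro i _
  rw [mem_ZSp.mp hv i, mul_zero]

/-- the last coordinate vector, if `d` is odd -/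
noncomputable def lastVec (F : Type u) [Field F] (d k : ℕ) : Fin d ⊕ Fin d → F :=
  if h : 2 * k < d then Pi.single (Sum.inr ⟨2 * k, h⟩) 1 else 0

theorem mem_sup_of_vanish {k : ℕ} (hdk : d ≤ 2 * k + 1) (a : Fin d ⊕ Fin d → F)
    (h0 : ∀ j : Fin d, j.val < 2 * k → a (Sum.inr j) = 0) :
    a ∈ ZSp F d ⊔ Submodule.span F {lastVec F d k} := by
  classical
  unfold lastVec
  by_cases h : 2 * k < d
  · rw [dif_pos h]
    have h1 : a = (a - a (Sum.inr ⟨2 * k, h⟩) • Pi.single (Sum.inr ⟨2 * k, h⟩) (1 : F)) +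
        a (Sum.inr ⟨2 * k, h⟩) • Pi.single (Sum.inr ⟨2 * k, h⟩) (1 : F) := (sub_add_cancel _ _).symm
    rw [h1]
    apply Submodule.add_mem_sup
    · intro j
      by_cases hj : j = ⟨2 * k, h⟩
      · subst hj
        simp
      · have hj' : j.val < 2 * k := by
          have h2 : j.val ≠ 2 * k := fun h3 => hj (Fin.ext h3)
          have := j.isLt
          omega
        have hne : (Sum.inr j : Fin d ⊕ Fin d) ≠ Sum.inr ⟨2 * k, h⟩ := by
          intro h3
          exact hj (Sum.inr_injective h3)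
        simp [h0 j hj', Pi.single_apply, hne]
    · exact Submodule.smul_mem _ _ (Submodule.mem_span_singleton_self _)
  · apply Submodule.mem_sup_left
    intro j
    exact h0 j (by have := j.isLt; omega)

/-- invariant even-dimensional subspaces of `tS S` are hyperbolic, when the kernel of `S` is at
most a coordinate line -/
theorem hyp_of_inv_tS (S : Matrix (Fin d) (Fin d) F) (w₀ : Fin d ⊕ Fin d → F)
    (hS : ∀ a : Fin d ⊕ Fin d → F, S *ᵥ (a ∘ Sum.inr) = 0 →
      a ∈ ZSp F d ⊔ Submodule.span F {w₀})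
    (W : Submodule F (Fin d ⊕ Fin d → F)) {e : ℕ} (hdim : finrank F ↥W = 2 * e)
    (hinv : W.map (Matrix.toLin' (tS S)) ≤ W) : Hyp (plusForm d F) W := by
  set N : Module.End F (Fin d ⊕ Fin d → F) := Matrix.toLin' (tS S) - 1 with hN
  have hNinl : ∀ v i, N v (Sum.inl i) = (S *ᵥ (v ∘ Sum.inr)) i := by
    intro v i
    rw [hN, LinearMap.sub_apply, Matrix.toLin'_apply, Module.End.one_apply, Pi.sub_apply,
      tS_mulVec_inl, add_sub_cancel_left]
  have hNinr : ∀ v j, N v (Sum.inr j) = 0 := by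
    intro v j
    rw [hN, LinearMap.sub_apply, Matrix.toLin'_apply, Module.End.one_apply, Pi.sub_apply,
      tS_mulVec_inr, sub_self]
  apply hyp_of_inv_sq_zero (plusForm d F) N ?_ (ZSp F d) ts_ZSp ?_ w₀ ?_ W ?_ hdim
  · apply LinearMap.ext
    intro v
    rw [Module.End.mul_apply]
    funext x
    rcases x with i | j
    · rw [hNinl]
      have h1 : (N v) ∘ Sum.inr = 0 := by
        funext j
        exact hNinr v j
      rw [h1, Matrix.mulVec_zero]
      rfl
    · rw [hNinr]
      rfl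
  · rintro _ ⟨v, rfl⟩ j
    exact hNinr v j
  · intro a ha
    apply hS
    funext i
    rw [← hNinl, LinearMap.mem_ker.mp ha]
    rfl
  · intro w hw
    rw [hN, LinearMap.sub_apply, Module.End.one_apply]
    exact W.sub_mem (hinv (Submodule.mem_map_of_mem hw)) hw

end tS

/-! ## (EA2) characteristic two -/

section chartwo

open Matrix Cfsg.Agent.Helper43.SpInv Cfsg.Agent.Helper43.OrthInv Cfsg.Agent.Helper94.SpC
  Cfsg.Agent.Helper94.OrC

variable {F : Type u} [Field F] [Fintype F]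

/-- (EA2) characteristic two -/
theorem hyp_of_inv_T0 [CharP F 2] (d k : ℕ) (hk : 2 * k ≤ d) (hdk : d ≤ 2 * k + 1)
    (W : Submodule F (Fin d ⊕ Fin d → F)) {e : ℕ} (hdim : finrank F ↥W = 2 * e)
    (hinv : W.map (Matrix.toLin' (Cfsg.Agent.Helper94.OrC.T0 F d k)) ≤ W) :
    Hyp (plusForm d F) W := by
  apply hyp_of_inv_tS (Hn F d k 0 0) (lastVec F d k) ?_ W hdim hinv
  intro a ha
  apply mem_sup_of_vanish hdk
  have hfix : T0 F d k *ᵥ a = a := by
    unfold T0
    funext x
    rcases x with i | j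
    · rw [tS_mulVec_inl, ha, Pi.zero_apply, add_zero]
    · rw [tS_mulVec_inr]
  exact (T0_fixed_iff hk a).mp hfix

end chartwo

/-! ## (EA3) odd characteristic -/

section oddchar

open Matrix Cfsg.Agent.Helper43.SpInv Cfsg.Agent.Helper43.OrthInv

variable {F : Type u} [Field F] {d : ℕ}

theorem tS_mul_tS (A B : Matrix (Fin d) (Fin d) F) : tS A * tS B = tS (A + B) := by
  unfold tS
  rw [Matrix.fromBlocks_multiply]
  simp [add_comm]

theorem tS_zero : tS (0 : Matrix (Fin d) (Fin d) F) = 1 := by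
  unfold tS
  exact Matrix.fromBlocks_one

/-- the isometry `tS A` of the plus form, for alternating `A` -/
def tE (A : Matrix (Fin d) (Fin d) F) (hA : ∀ b : Fin d → F, b ⬝ᵥ (A *ᵥ b) = 0) :
    ↥(Cfsg.isometryGroup F (Cfsg.quadFormPlus d F)) :=
  ⟨⟨tS A, tS (-A), by rw [tS_mul_tS, add_neg_cancel, tS_zero],
      by rw [tS_mul_tS, neg_add_cancel, tS_zero]⟩,
    (Cfsg.Agent.Helper13.mem_isometryGroup_iff _ _).mpr (fun v => by
      show Cfsg.quadFormPlus d F (tS A *ᵥ v) = Cfsg.quadFormPlus d F v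
      rw [quadFormPlus_tS, hA, add_zero])⟩

theorem tE_coe (A : Matrix (Fin d) (Fin d) F) (hA : ∀ b : Fin d → F, b ⬝ᵥ (A *ᵥ b) = 0) :
    (((tE A hA : ↥(Cfsg.isometryGroup F (Cfsg.quadFormPlus d F))) : GL (Fin d ⊕ Fin d) F) :
      Matrix (Fin d ⊕ Fin d) (Fin d ⊕ Fin d) F) = tS A := rfl

theorem tE_pow_coe (A : Matrix (Fin d) (Fin d) F) (hA : ∀ b : Fin d → F, b ⬝ᵥ (A *ᵥ b) = 0)
    (n : ℕ) :
    ((((tE A hA) ^ n : ↥(Cfsg.isometryGroup F (Cfsg.quadFormPlus d F))) : GL (Fin d ⊕ Fin d) F) :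
      Matrix (Fin d ⊕ Fin d) (Fin d ⊕ Fin d) F) = tS (n • A) := by
  induction n with
  | zero =>
    rw [pow_zero, zero_smul, tS_zero]
    rfl
  | succ n ih =>
    rw [pow_succ, Subgroup.coe_mul, Units.val_mul, ih, tE_coe, tS_mul_tS, succ_nsmul]

/-- the skew pairing of the first `2k` coordinates -/
def Sk (F : Type u) [Field F] (d k : ℕ) : Matrix (Fin d) (Fin d) F :=
  Matrix.of fun i j => if j.val = i.val + k ∧ i.val < k then (1 : F)
    else if i.val = j.val + k ∧ j.val < k then -1 else 0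

theorem Sk_apply (k : ℕ) (i j : Fin d) :
    Sk F d k i j = if j.val = i.val + k ∧ i.val < k then (1 : F)
      else if i.val = j.val + k ∧ j.val < k then -1 else 0 := rfl

theorem Sk_transpose (k : ℕ) : (Sk F d k)ᵀ = -Sk F d k := by
  ext i j
  rw [Matrix.transpose_apply, Matrix.neg_apply, Sk_apply, Sk_apply]
  split_ifs <;> first | omega | simp

theorem Sk_alt (h2 : (2 : F) ≠ 0) (k : ℕ) (c : F) (b : Fin d → F) :
    b ⬝ᵥ ((c • Sk F d k) *ᵥ b) = 0 := by
  have h1 : b ⬝ᵥ (Sk F d k *ᵥ b) = -(b ⬝ᵥ (Sk F d k *ᵥ b)) := by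
    conv_lhs => rw [Matrix.dotProduct_mulVec, ← Matrix.mulVec_transpose, Sk_transpose,
      Matrix.neg_mulVec, neg_dotProduct, dotProduct_comm]
  have h3 : (2 : F) * (b ⬝ᵥ (Sk F d k *ᵥ b)) = 0 := by linear_combination h1
  have h4 := (mul_eq_zero.mp h3).resolve_left h2
  rw [Matrix.smul_mulVec, dotProduct_smul, h4, smul_zero]

theorem Sk_mulVec_low {k : ℕ} (hk : 2 * k ≤ d) (b : Fin d → F) (j : Fin d) (hj : j.val < k) :
    (Sk F d k *ᵥ b) ⟨j.val + k, by omega⟩ = -b j := by
  show ∑ j', Sk F d k ⟨j.val + k, by omega⟩ j' * b j' = _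
  rw [Finset.sum_eq_single j]
  · rw [Sk_apply, if_neg (by simp only []; omega), if_pos ⟨rfl, hj⟩, neg_one_mul]
  · intro j' _ hj'
    rw [Sk_apply, if_neg (by simp only []; omega), if_neg, zero_mul]
    simp only []
    intro h
    exact hj' (Fin.ext (by omega))
  · intro h
    exact absurd (Finset.mem_univ _) h

theorem Sk_mulVec_high {k : ℕ} (b : Fin d → F) (j : Fin d) (hj : k ≤ j.val)
    (hj2 : j.val < 2 * k) :
    (Sk F d k *ᵥ b) ⟨j.val - k, by have := j.isLt; omega⟩ = b j := by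
  show ∑ j', Sk F d k ⟨j.val - k, by have := j.isLt; omega⟩ j' * b j' = _
  rw [Finset.sum_eq_single j]
  · rw [Sk_apply, if_pos (by simp only []; omega), one_mul]
  · intro j' _ hj'
    rw [Sk_apply, if_neg, if_neg (by simp only []; omega), zero_mul]
    simp only []
    intro h
    exact hj' (Fin.ext (by omega))
  · intro h
    exact absurd (Finset.mem_univ _) h

theorem Sk_ker {k : ℕ} (hk : 2 * k ≤ d) (b : Fin d → F) (hb : Sk F d k *ᵥ b = 0) (j : Fin d)
    (hj : j.val < 2 * k) : b j = 0 := by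
  by_cases hjk : j.val < k
  · have := Sk_mulVec_low hk b j hjk
    rw [hb, Pi.zero_apply] at this
    exact neg_eq_zero.mp this.symm
  · have := Sk_mulVec_high b j (by omega) hj
    rw [hb, Pi.zero_apply] at this
    exact this.symm

variable [Fintype F]

/-- (EA3) odd characteristic -/
theorem exists_unipotent_only_hyp (h2 : (2 : F) ≠ 0) {p : ℕ} [Fact p.Prime] [CharP F p] (d : ℕ)
    (hd : 3 ≤ d) :
    ∃ x : ↥(Cfsg.isometryGroup F (Cfsg.quadFormPlus d F)),
      x ∈ Cfsg.Omega F (Cfsg.quadFormPlus d F) ∧ x ^ p = 1 ∧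
      (∀ z : F, ((x : GL (Fin d ⊕ Fin d) F) : Matrix (Fin d ⊕ Fin d) (Fin d ⊕ Fin d) F) ≠
        z • (1 : Matrix (Fin d ⊕ Fin d) (Fin d ⊕ Fin d) F)) ∧
      ∀ (W : Submodule F (Fin d ⊕ Fin d → F)) (e : ℕ), finrank F ↥W = 2 * e →
        W.map (Matrix.toLin' ((x : GL (Fin d ⊕ Fin d) F) :
          Matrix (Fin d ⊕ Fin d) (Fin d ⊕ Fin d) F)) ≤ W → Hyp (plusForm d F) W := by
  classical
  obtain ⟨k, hk, hdk, hk1⟩ : ∃ k : ℕ, 2 * k ≤ d ∧ d ≤ 2 * k + 1 ∧ 1 ≤ k :=
    ⟨d / 2, by omega, by omega, by omega⟩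
  have hS1 : ∀ b : Fin d → F, b ⬝ᵥ (Sk F d k *ᵥ b) = 0 := by
    intro b
    have := Sk_alt h2 k 1 b
    rwa [one_smul] at this
  have hS2 : ∀ b : Fin d → F, b ⬝ᵥ (((2 : F)⁻¹ • Sk F d k) *ᵥ b) = 0 := Sk_alt h2 k _
  refine ⟨tE (Sk F d k) hS1, ?_, ?_, ?_, ?_⟩
  · have hsq : tE (Sk F d k) hS1 = tE ((2 : F)⁻¹ • Sk F d k) hS2 * tE ((2 : F)⁻¹ • Sk F d k) hS2 := by
      apply Subtype.ext
      apply Units.ext
      rw [Subgroup.coe_mul, Units.val_mul, tE_coe, tE_coe, tS_mul_tS, ← add_smul]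
      have : (2 : F)⁻¹ + (2 : F)⁻¹ = 1 := by field_simp; norm_num
      rw [this, one_smul]
    rw [hsq]
    apply Cfsg.Agent.Helper37.Fld.sq_mem_Omega (plusForm d F) (nondegenerate_plusForm d)
    rw [Fintype.card_sum, Fintype.card_fin]
    omega
  · apply Subtype.ext
    apply Units.ext
    rw [tE_pow_coe]
    have : p • Sk F d k = 0 := by
      rw [← Nat.cast_smul_eq_nsmul F, CharP.cast_eq_zero, zero_smul]
    rw [this, tS_zero]
    rfl
  · intro z hz
    rw [tE_coe] at hz
    have h1 := congrFun (congrFun hz (Sum.inl ⟨0, by omega⟩)) (Sum.inr ⟨k, by omega⟩)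
    unfold tS at h1
    rw [Matrix.fromBlocks_apply₁₂, Matrix.smul_apply, Matrix.one_apply_ne (by simp), smul_zero,
      Sk_apply, if_pos (by simp only []; omega)] at h1
    exact one_ne_zero h1
  · intro W e hdim hinv
    rw [tE_coe] at hinv
    apply hyp_of_inv_tS (Sk F d k) (lastVec F d k) ?_ W hdim hinv
    intro a ha
    apply mem_sup_of_vanish hdk
    intro j hj
    exact Sk_ker hk (a ∘ Sum.inr) ha j hj

end oddchar

end Cfsg.Agent.Helper45.EllA
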