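import Mathlib
import Cfsg.Agent.Helper45.EllDefs
import Cfsg.Agent.Helper94.TpD
import Cfsg.Agent.Helper45.OmegaParity

/-!
# S5988, part (EB): involutions of `Ω⁺_{2d}(q)`, `q` odd, fix elliptic `2e`-spaces (helper45)
-/

set_option autoImplicit false
set_option linter.unusedSectionVars false

namespace Cfsg.Agent.Helper45.EllB

open Module Polynomial Matrix
open Cfsg
open Cfsg.Agent.Helper59.InvChain Cfsg.Agent.Helper59.Elusive
open Cfsg.Agent.Helper99.SpStruct Cfsg.Agent.Helper99.RDecomp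
open Cfsg.Agent.Helper44 Cfsg.Agent.Helper44.QType
open Cfsg.Agent.Helper99.QSp
open Cfsg.Agent.Helper99.QSpGlue Cfsg.Agent.Helper99.QSpMain
open Cfsg.Agent.Helper45.Ell
open Cfsg.Agent.Helper94.Tn Cfsg.Agent.Helper94.Ts

universe u

variable {F : Type u} [Field F] [Fintype F]

/-- the fixed space of an element of `Ω` has even dimension, in even dimension -/
theorem even_fixD_of_mem_Omega {ι : Type} [Fintype ι] [DecidableEq ι]
    (Q : QuadraticForm F (ι → F)) (hQ : (QuadraticMap.polarBilin Q).Nondegenerate)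
    (h4 : Fintype.card F ≠ 2 ∨ Fintype.card ι ≠ 4) (hι : Even (Fintype.card ι))
    (g : ↥(Cfsg.isometryGroup F ⇑Q)) (hgΩ : g ∈ Cfsg.Omega F ⇑Q) :
    Even (Cfsg.Agent.Helper45.OmegaParity.fixD Q g) := by
  have h1 : g ∈ (Cfsg.Agent.Helper45.OmegaParity.parityHom Q hQ h4).ker :=
    Abelianization.commutator_subset_ker _ hgΩ
  rw [MonoidHom.mem_ker] at h1
  have h2 : ((Cfsg.Agent.Helper45.OmegaParity.fixD Q g : ℕ) : ZMod 2) +
      ((Fintype.card ι : ℕ) : ZMod 2) = 0 := by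
    have := congrArg Multiplicative.toAdd h1
    exact this
  rw [← Nat.cast_add, ZMod.natCast_eq_zero_iff_even, Nat.even_add] at h2
  exact h2.mpr hι

/-- the fixed space of an element of `Ω⁺_{2d}` has even dimension -/
theorem even_finrank_fixSp (d : ℕ) (hd : 3 ≤ d)
    (g : ↥(Cfsg.isometryGroup F (Cfsg.quadFormPlus d F)))
    (hgΩ : g ∈ Cfsg.Omega F (Cfsg.quadFormPlus d F)) :
    Even (finrank F ↥(fixSp (Matrix.toLin' ((g : GL (Fin d ⊕ Fin d) F) :
      Matrix (Fin d ⊕ Fin d) (Fin d ⊕ Fin d) F)))) := by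
  classical
  have hcard : Fintype.card (Fin d ⊕ Fin d) = 2 * d := by
    rw [Fintype.card_sum, Fintype.card_fin]
    ring
  have h4 : Fintype.card F ≠ 2 ∨ Fintype.card (Fin d ⊕ Fin d) ≠ 4 := Or.inr (by rw [hcard]; omega)
  have h3 := even_fixD_of_mem_Omega (plusForm d F) (nondegenerate_plusForm d) h4
    (by rw [hcard]; exact even_two_mul d) g hgΩ
  have h5 : fixSp (Matrix.toLin' ((g : GL (Fin d ⊕ Fin d) F) :
      Matrix (Fin d ⊕ Fin d) (Fin d ⊕ Fin d) F)) =
      Cfsg.Agent.Helper14.fixSpace (Cfsg.Agent.Helper45.OmegaParity.lin (plusForm d F) g) := by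
    ext v
    rw [mem_fixSp, Cfsg.Agent.Helper14.mem_fixSpace, Matrix.toLin'_apply]
    rfl
  rw [h5]
  exact h3

/-- (EB) -/
theorem invol_goodE (h2 : (2 : F) ≠ 0) (d : ℕ) (hd : 3 ≤ d) {e : ℕ} (he : 1 ≤ e) (hed : 2 * e < d)
    (g : ↥(Cfsg.isometryGroup F (Cfsg.quadFormPlus d F)))
    (hgΩ : g ∈ Cfsg.Omega F (Cfsg.quadFormPlus d F))
    (hgg : ((g : GL (Fin d ⊕ Fin d) F) : Matrix (Fin d ⊕ Fin d) (Fin d ⊕ Fin d) F) *
      ((g : GL (Fin d ⊕ Fin d) F) : Matrix (Fin d ⊕ Fin d) (Fin d ⊕ Fin d) F) = 1) :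
    GoodE F d (2 * e)
      ((g : GL (Fin d ⊕ Fin d) F) : Matrix (Fin d ⊕ Fin d) (Fin d ⊕ Fin d) F) := by
  classical
  have hnd := nondegenerate_plusForm (F := F) d
  set A := ((g : GL (Fin d ⊕ Fin d) F) : Matrix (Fin d ⊕ Fin d) (Fin d ⊕ Fin d) F) with hA
  have hiso : ∀ v, plusForm d F (Matrix.toLin' A v) = plusForm d F v := fun v => toLin_iso g v
  have hS : InvolSetup (pB (plusForm d F)) (Matrix.toLin' A) :=
    { symm := pB_symm _
      nondeg := hnd
      two_ne := h2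
      isom := isom_pB hiso
      sq := by
        intro v
        rw [← LinearMap.comp_apply, ← Matrix.toLin'_mul, hgg, Matrix.toLin'_one]
        rfl }
  have heven := even_finrank_fixSp d hd g hgΩ
  rw [← hA] at heven
  have hadd := hS.finrank_add
  rw [finrank_pV] at hadd
  -- the key step: an elliptic subspace inside a large eigenspace
  have key : ∀ X : Submodule F (Fin d ⊕ Fin d → F), Nd (pB (plusForm d F)) X →
      Even (finrank F ↥X) → d ≤ finrank F ↥X →
      (∀ W : Submodule F (Fin d ⊕ Fin d → F), W ≤ X → Inv (Matrix.toLin' A) W) →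
      GoodE F d (2 * e) A := by
    intro X hX hXe hXd hXinv
    obtain ⟨g', hg'⟩ := hXe
    have hdim : finrank F ↥X = 2 * g' := by omega
    obtain ⟨W, hWX, hWnd, hWdim, hWty⟩ :=
      exists_typed_sub (plusForm d F) hX hdim (by omega : e < g') (-1) (Or.inr ⟨rfl, he⟩)
    exact ⟨W, hWdim, hWnd, (not_hyp_iff_qType _ hWnd hWdim).mpr hWty, hXinv W hWX⟩
  by_cases hbig : d ≤ finrank F ↥(fixSp (Matrix.toLin' A))
  · apply key _ hS.nd_fix heven hbig
    intro W hWX
    rintro _ ⟨w, hw, rfl⟩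
    rw [mem_fixSp.mp (hWX hw)]
    exact hw
  · have hneg_even : Even (finrank F ↥(negSp (Matrix.toLin' A))) := by
      have h1 : Even (2 * d) := even_two_mul d
      rw [← hadd, Nat.even_add] at h1
      exact h1.mp heven
    apply key _ hS.nd_neg hneg_even (by omega)
    intro W hWX
    rintro _ ⟨w, hw, rfl⟩
    rw [mem_negSp.mp (hWX hw)]
    exact W.neg_mem hw

end Cfsg.Agent.Helper45.EllB
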