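import Mathlib
import Cfsg.Agent.Helper45.EllDefs
import Cfsg.Agent.Helper94.TpD
import Cfsg.Agent.Helper45.EllA
import Cfsg.Agent.Helper45.EllB
import Cfsg.Agent.Helper14.EllEF0
import Cfsg.Agent.Helper23.EllEF1
import Cfsg.Agent.Helper10.EllEF2
import Cfsg.Agent.Helper99.QSpEllGlue

/-! # S5988 (helper45): the pieces, collected under one namespace -/

set_option autoImplicit false
set_option linter.unusedSectionVars false

namespace Cfsg.Agent.Helper45.EllGlue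

open Module Polynomial
open Cfsg.Agent.Helper59.InvChain Cfsg.Agent.Helper59.Elusive
open Cfsg.Agent.Helper99.SpStruct Cfsg.Agent.Helper99.RDecomp
open Cfsg.Agent.Helper44 Cfsg.Agent.Helper44.QType
open Cfsg.Agent.Helper99.QSp
open Cfsg.Agent.Helper45.Ell

universe u v

variable {F : Type u} [Field F] [Fintype F]
variable {V : Type v} [AddCommGroup V] [Module F V] [FiniteDimensional F V]

/-! ## (EA) `r = p`: a unipotent element fixing only hyperbolic spaces (helper45 does these) -/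

/-- (EA1) -/
theorem hyp_of_inv_sq_zero (Q : QuadraticForm F V) (N : Module.End F V) (hNN : N * N = 0)
    (Z : Submodule F V) (hZ : TS Q Z) (him : LinearMap.range N ≤ Z) (w₀ : V)
    (hker : LinearMap.ker N ≤ Z ⊔ Submodule.span F {w₀}) (W : Submodule F V)
    (hW : ∀ w ∈ W, N w ∈ W) {e : ℕ} (hdim : finrank F ↥W = 2 * e) : Hyp Q W :=
  Cfsg.Agent.Helper45.EllA.hyp_of_inv_sq_zero Q N hNN Z hZ him w₀ hker W hW hdim

/-- (EA2) characteristic two -/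
theorem hyp_of_inv_T0 [CharP F 2] (d k : ℕ) (hk : 2 * k ≤ d) (hdk : d ≤ 2 * k + 1)
    (W : Submodule F (Fin d ⊕ Fin d → F)) {e : ℕ} (hdim : finrank F ↥W = 2 * e)
    (hinv : W.map (Matrix.toLin' (Cfsg.Agent.Helper94.OrC.T0 F d k)) ≤ W) :
    Hyp (plusForm d F) W :=
  Cfsg.Agent.Helper45.EllA.hyp_of_inv_T0 d k hk hdk W hdim hinv

/-- (EA3) odd characteristic -/
theorem exists_unipotent_only_hyp (h2 : (2 : F) ≠ 0) {p : ℕ} [Fact p.Prime] [CharP F p] (d : ℕ)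
    (hd : 3 ≤ d) :
    ∃ x : ↥(Cfsg.isometryGroup F (Cfsg.quadFormPlus d F)),
      x ∈ Cfsg.Omega F (Cfsg.quadFormPlus d F) ∧ x ^ p = 1 ∧
      (∀ z : F, ((x : GL (Fin d ⊕ Fin d) F) : Matrix (Fin d ⊕ Fin d) (Fin d ⊕ Fin d) F) ≠
        z • (1 : Matrix (Fin d ⊕ Fin d) (Fin d ⊕ Fin d) F)) ∧
      ∀ (W : Submodule F (Fin d ⊕ Fin d → F)) (e : ℕ), finrank F ↥W = 2 * e →
        W.map (Matrix.toLin' ((x : GL (Fin d ⊕ Fin d) F) :
          Matrix (Fin d ⊕ Fin d) (Fin d ⊕ Fin d) F)) ≤ W → Hyp (plusForm d F) W :=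
  Cfsg.Agent.Helper45.EllA.exists_unipotent_only_hyp h2 d hd

/-! ## (EB) `r = 2 ≠ p`: involutions of `Ω` fix elliptic spaces -/

/-- (EB) -/
theorem invol_goodE (h2 : (2 : F) ≠ 0) (d : ℕ) (hd : 3 ≤ d) {e : ℕ} (he : 1 ≤ e) (hed : 2 * e < d)
    (g : ↥(Cfsg.isometryGroup F (Cfsg.quadFormPlus d F)))
    (hgΩ : g ∈ Cfsg.Omega F (Cfsg.quadFormPlus d F))
    (hgg : ((g : GL (Fin d ⊕ Fin d) F) : Matrix (Fin d ⊕ Fin d) (Fin d ⊕ Fin d) F) *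
      ((g : GL (Fin d ⊕ Fin d) F) : Matrix (Fin d ⊕ Fin d) (Fin d ⊕ Fin d) F) = 1) :
    GoodE F d (2 * e)
      ((g : GL (Fin d ⊕ Fin d) F) : Matrix (Fin d ⊕ Fin d) (Fin d ⊕ Fin d) F) :=
  Cfsg.Agent.Helper45.EllB.invol_goodE h2 d hd he hed g hgΩ hgg

/-! ## (EE) counting elliptic subspaces (helper99's `QSpEllGlue`) -/

/-- (EE) the weak consequence of `r ∣ #(elliptic 2e-spaces)` -/
theorem exists_dvd_of_dvd_card_ell (Q : QuadraticForm F V) (hnd : (pB Q).Nondegenerate) {d : ℕ}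
    (hV : finrank F V = 2 * d) {εV : ℤ} (hT : QType Q ⊤ d εV) (e : ℕ) (he1 : 1 ≤ e) (he : e < d)
    (r : ℕ) (hr : r.Prime) (hrq : ¬ r ∣ Fintype.card F)
    (hdvd : r ∣ Nat.card {W : Submodule F V // finrank F ↥W = 2 * e ∧ Nd (pB Q) W ∧ ¬ Hyp Q W}) :
    (∃ k : ℕ, k + 1 < e ∧ (r : ℤ) ∣ ((Fintype.card F : ℤ) ^ (d - k) - εV) *
      ((Fintype.card F : ℤ) ^ (d - k - 1) + εV)) ∨
    (r : ℤ) ∣ ((Fintype.card F : ℤ) ^ (d - e + 1) - εV) *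
      ((Fintype.card F : ℤ) ^ (d - e) - εV) :=
  Cfsg.Agent.Helper99.QSpEllGlue.exists_dvd_of_dvd_card_ell Q hnd hV hT e he1 he r hr hrq hdvd

/-! ## (EF) arithmetic -/

/-- (EF0) -/
theorem starE_of_dvd {q r : ℕ} [Fact r.Prime] (hr2 : r ≠ 2) (hrq : ¬ r ∣ q) {d e : ℕ} (he1 : 1 ≤ e)
    (hed : e < d)
    (h : (∃ k : ℕ, k + 1 < e ∧
        (r : ℤ) ∣ ((q : ℤ) ^ (d - k) - 1) * ((q : ℤ) ^ (d - k - 1) + 1)) ∨
      (r : ℤ) ∣ ((q : ℤ) ^ (d - e + 1) - 1) * ((q : ℤ) ^ (d - e) - 1)) :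
    StarE (orderOf (q : ZMod r)) d e :=
  Cfsg.Agent.Helper14.Ell.starE_of_dvd hr2 hrq he1 hed h

/-- (EF1) -/
theorem crit_of_rhsE_odd {i c d e b : ℕ} (hi : Odd i) (hc : c = 2 * i) (he : 1 ≤ e) (hed : e < d)
    (hcm : c ≤ 2 * e) (h0 : 0 < (2 * e) % c) (hmod : (2 * e) % c < (2 * d) % c) (hb1 : 1 ≤ b)
    (hbc : b * c ≤ 2 * d) : Crit i c d e b 1 (-1) :=
  Cfsg.Agent.Helper23.Ell.crit_of_rhsE_odd hi hc he hed hcm h0 hmod hb1 hbc

theorem crit_of_rhsE_even {i c d e b : ℕ} (hi : Even i) (hi0 : 0 < i) (hc : c = i) (he : 1 ≤ e)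
    (hed : e < d) (hrhs : EvenRHSE i c d (2 * e)) (hb1 : 1 ≤ b) (hbc : b * c ≤ 2 * d)
    (hadm : b * c = 2 * d → bsign i b = 1) : Crit i c d e b 1 (-1) :=
  Cfsg.Agent.Helper23.Ell.crit_of_rhsE_even hi hi0 hc he hed hrhs hb1 hbc hadm

/-- (EF2) -/
theorem rhsE_of_crit_odd {i c d e : ℕ} (hi : Odd i) (hc : c = 2 * i) (he : 1 ≤ e) (hed : e < d)
    (hstar : StarE i d e) (hcrit : Crit i c d e ((2 * d) / c) 1 (-1)) :
    c ≤ 2 * e ∧ 0 < (2 * e) % c ∧ (2 * e) % c < (2 * d) % c :=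
  Cfsg.Agent.Helper10.Ell.rhsE_of_crit_odd hi hc he hed hstar hcrit

theorem rhsE_of_crit_even {i c d e : ℕ} (hi : Even i) (hi0 : 0 < i) (hc : c = i) (he : 1 ≤ e)
    (hed : e < d) (hstar : StarE i d e)
    (hcrit : ((2 * d) / c * c = 2 * d → bsign i ((2 * d) / c) = 1) →
      Crit i c d e ((2 * d) / c) 1 (-1)) :
    EvenRHSE i c d (2 * e) :=
  Cfsg.Agent.Helper10.Ell.rhsE_of_crit_even hi hi0 hc he hed hstar hcrit

end Cfsg.Agent.Helper45.EllGlue
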