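import Mathlib
import Cfsg.Agent.Helper45.EllDefs
import Cfsg.Agent.Helper45.EllGlue

/-!
# `PΩ⁺_{2d}(q)` on elliptic `m`-spaces (S5988): assembly
-/

set_option autoImplicit false
set_option linter.unusedSectionVars false
set_option linter.style.haveILetI false

namespace Cfsg.Agent.Helper45.EllMain

open Module Polynomial Matrix
open Cfsg
open Cfsg.Agent.Helper59.InvChain Cfsg.Agent.Helper59.Elusive
open Cfsg.Agent.Helper99.SpStruct Cfsg.Agent.Helper99.RDecomp Cfsg.Agent.Helper99.SpElt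
open Cfsg.Agent.Helper44 Cfsg.Agent.Helper44.QType
open Cfsg.Agent.Helper99.QSp
open Cfsg.Agent.Helper99.QSpGlue Cfsg.Agent.Helper99.QSpMain
open Cfsg.Agent.Helper45.Ell Cfsg.Agent.Helper45.EllGlue

universe u

variable {F : Type u} [Field F] {d : ℕ}

/-! ## odd `r` -/

section odd

variable [Fintype F] {p : ℕ} [Fact p.Prime] [CharP F p]

open Cfsg.Agent.Helper94.Tn Cfsg.Agent.Helper94.Ts Cfsg.Agent.Helper94.OrD

/-- (⇐) for odd `r`: one element -/
theorem goodE_of_crit (hd : 1 ≤ d) (r : ℕ) [Fact r.Prime] (hrp : r ≠ p) (hr2 : r ≠ 2) {e : ℕ}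
    (hall : ∀ b : ℕ, 1 ≤ b →
      b * blockSize (orderOf ((Fintype.card F : ℕ) : ZMod r)) ≤ 2 * d →
      (b * blockSize (orderOf ((Fintype.card F : ℕ) : ZMod r)) = 2 * d →
        bsign (orderOf ((Fintype.card F : ℕ) : ZMod r)) b = 1) →
      Crit (orderOf ((Fintype.card F : ℕ) : ZMod r))
        (blockSize (orderOf ((Fintype.card F : ℕ) : ZMod r))) d e b 1 (-1))
    (g : ↥(Cfsg.isometryGroup F (Cfsg.quadFormPlus d F))) {z : F}
    (hz : (((g : GL (Fin d ⊕ Fin d) F) ^ r : GL (Fin d ⊕ Fin d) F) :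
      Matrix (Fin d ⊕ Fin d) (Fin d ⊕ Fin d) F) = z • (1 : Matrix (Fin d ⊕ Fin d) (Fin d ⊕ Fin d) F))
    (hns : ∀ z : F, ((g : GL (Fin d ⊕ Fin d) F) : Matrix (Fin d ⊕ Fin d) (Fin d ⊕ Fin d) F) ≠
      z • (1 : Matrix (Fin d ⊕ Fin d) (Fin d ⊕ Fin d) F)) :
    GoodE F d (2 * e) ((g : GL (Fin d ⊕ Fin d) F) : Matrix (Fin d ⊕ Fin d) (Fin d ⊕ Fin d) F) := by
  classical
  have hr : r.Prime := Fact.out
  have hrodd : Odd r := hr.odd_of_ne_two hr2
  have hrq := not_dvd_card_of_ne (F := F) r hrp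
  set A : Matrix (Fin d ⊕ Fin d) (Fin d ⊕ Fin d) F :=
    ((g : GL (Fin d ⊕ Fin d) F) : Matrix (Fin d ⊕ Fin d) (Fin d ⊕ Fin d) F) with hA
  have hz2 : z ^ 2 = 1 := sq_eq_one_of_pow_eq_smul hd g hz
  have hz0 : z ≠ 0 := by
    rintro rfl
    norm_num at hz2
  have hAr : A ^ r = z • (1 : Matrix (Fin d ⊕ Fin d) (Fin d ⊕ Fin d) F) := by
    rw [← hz, Units.val_pow_eq_pow_val]
  set L : Module.End F (Fin d ⊕ Fin d → F) := Matrix.toLin' A with hL
  have hLr : L ^ r = z • (1 : Module.End F (Fin d ⊕ Fin d → F)) := by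
    rw [hL, ← Matrix.toLin'_pow, hAr, map_smul, Matrix.toLin'_one]
    rfl
  set y : Module.End F (Fin d ⊕ Fin d → F) := z • L with hy
  have hzr : z ^ (r + 1) = 1 := by
    obtain ⟨k, hk⟩ := hrodd
    have : r + 1 = 2 * (k + 1) := by omega
    rw [this, pow_mul, hz2, one_pow]
  have hyr : y ^ r = 1 := by
    rw [hy, _root_.smul_pow, hLr, smul_smul, ← pow_succ, hzr, one_smul]
  have hLiso : ∀ v, plusForm d F (L v) = plusForm d F v := by
    intro v
    rw [hL, Matrix.toLin'_apply]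
    exact Cfsg.Agent.Helper44.isometryGroup_apply g v
  have hyiso : ∀ v, plusForm d F (y v) = plusForm d F v := by
    intro v
    rw [hy, LinearMap.smul_apply, QuadraticMap.map_smul, hLiso, smul_eq_mul, ← pow_two, hz2, one_mul]
  have hy1 : y ≠ 1 := by
    intro h1
    apply hns z⁻¹
    have h3 : L = z⁻¹ • (1 : Module.End F (Fin d ⊕ Fin d → F)) := by
      rw [← h1, hy, smul_smul, inv_mul_cancel₀ hz0, one_smul]
    have h4 : Matrix.toLin' A = Matrix.toLin' (z⁻¹ • (1 : Matrix (Fin d ⊕ Fin d) (Fin d ⊕ Fin d) F)) := by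
      rw [map_smul, Matrix.toLin'_one]
      exact h3
    exact Matrix.toLin'.injective h4
  have hS : QSetup (plusForm d F) r y :=
    { nondeg := nondegenerate_plusForm d
      iso := hyiso
      setup := setup_of r hrp y hyr
      odd := hrodd
      hp := HP_cyclotomic r hrp }
  obtain ⟨b, hb⟩ := QSetup.blockSize_dvd hS (inv_cycSp r y) (QSetup.nd_cyc hS) le_rfl
  rw [mul_comm] at hb
  obtain ⟨hadm1, hadm2, hadm3⟩ := QSetup.admissible hS hrq finrank_pV qType_top_plus hb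
  have hcrit := hall b (hadm3 hy1) hadm1 hadm2
  obtain ⟨W, hWinv, hWnd, hWdim, hWty⟩ :=
    (QSetup.exists_inv_typed_iff hS hrq finrank_pV qType_top_plus hb (Or.inr rfl)).mpr hcrit
  refine ⟨W, hWdim, hWnd, (not_hyp_iff_qType _ hWnd hWdim).mpr hWty, ?_⟩
  rintro _ ⟨w, hw, rfl⟩
  have h1 : y w ∈ W := hWinv.apply_mem hw
  have h3 : L w = z⁻¹ • y w := by
    rw [hy, LinearMap.smul_apply, smul_smul, inv_mul_cancel₀ hz0, one_smul]
  rw [h3]
  exact W.smul_mem _ h1

/-- (⇒) for odd `r`: the test element with the maximal number of blocks -/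
theorem crit_of_goodE (hd : 3 ≤ d) (r : ℕ) [Fact r.Prime] (hrp : r ≠ p) (hr2 : r ≠ 2) {e : ℕ}
    (H : ∀ g : ↥(Cfsg.isometryGroup F (Cfsg.quadFormPlus d F)),
      g ∈ Cfsg.Omega F (Cfsg.quadFormPlus d F) → orderOf g = r →
      GoodE F d (2 * e) ((g : GL (Fin d ⊕ Fin d) F) : Matrix (Fin d ⊕ Fin d) (Fin d ⊕ Fin d) F))
    (hB : 1 ≤ 2 * d / blockSize (orderOf ((Fintype.card F : ℕ) : ZMod r)))
    (hadm : 2 * d / blockSize (orderOf ((Fintype.card F : ℕ) : ZMod r)) *
        blockSize (orderOf ((Fintype.card F : ℕ) : ZMod r)) = 2 * d →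
      bsign (orderOf ((Fintype.card F : ℕ) : ZMod r))
        (2 * d / blockSize (orderOf ((Fintype.card F : ℕ) : ZMod r))) = 1) :
    Crit (orderOf ((Fintype.card F : ℕ) : ZMod r))
      (blockSize (orderOf ((Fintype.card F : ℕ) : ZMod r))) d e
      (2 * d / blockSize (orderOf ((Fintype.card F : ℕ) : ZMod r))) 1 (-1) := by
  classical
  have hr : r.Prime := Fact.out
  have hrodd : Odd r := hr.odd_of_ne_two hr2
  have hrq := not_dvd_card_of_ne (F := F) r hrp
  set i := orderOf ((Fintype.card F : ℕ) : ZMod r) with hidef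
  set c := blockSize i with hcdef
  have hipos : 0 < i := orderOf_card_pos r hrp
  have hcpos : 0 < c := blockSize_pos hipos
  set B := 2 * d / c with hBdef
  have hBc : B * c ≤ 2 * d := Nat.div_mul_le_self _ _
  obtain ⟨y, hyord, hfix⟩ := exists_plus_elt (F := F) d r hrp hr2 B hB hBc hadm
  rw [← hidef, ← hcdef] at hfix
  have hyr : y ^ r = 1 := by rw [← hyord]; exact pow_orderOf_eq_one y
  have hyΩ := mem_Omega_of_odd hd y hrodd hyr
  obtain ⟨W, hWdim, hWnd, hWhyp, hWinv⟩ := H y hyΩ hyord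
  set Y := Matrix.toLin' ((y : GL (Fin d ⊕ Fin d) F) :
      Matrix (Fin d ⊕ Fin d) (Fin d ⊕ Fin d) F) with hY
  have hS : QSetup (plusForm d F) r Y :=
    { nondeg := nondegenerate_plusForm d
      iso := fun v => toLin_iso y v
      setup := setup_of r hrp Y (toLin_pow_eq_one' y hyr)
      odd := hrodd
      hp := HP_cyclotomic r hrp }
  obtain ⟨b, hb⟩ := QSetup.blockSize_dvd hS (inv_cycSp r Y) (QSetup.nd_cyc hS) le_rfl
  rw [mul_comm, ← hidef, ← hcdef] at hb
  have htot := hS.setup.total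
  rw [finrank_pV, hb] at htot
  have hbB : b = B := by
    have h1 : b * c = B * c := by
      have hfix' : finrank F ↥(fixSp Y) = 2 * d - B * c := hfix
      clear_value c B
      omega
    exact Nat.eq_of_mul_eq_mul_right hcpos h1
  rw [hbB] at hb
  exact (QSetup.exists_inv_typed_iff hS hrq finrank_pV qType_top_plus hb (Or.inr rfl)).mp
    ⟨W, hWinv, hWnd, hWdim, (not_hyp_iff_qType _ hWnd hWdim).mp hWhyp⟩

/-- the consequence of the counting hypothesis -/
theorem starE_of_card (hd : 4 ≤ d) (r : ℕ) [Fact r.Prime] (hrp : r ≠ p) (hr2 : r ≠ 2) {e : ℕ}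
    (he : 1 ≤ e) (hed : e < d)
    (hrΩ : r ∣ Nat.card {W : Submodule F (Fin d ⊕ Fin d → F) // finrank F ↥W = 2 * e ∧
      Nd (pB (plusForm d F)) W ∧ ¬ Hyp (plusForm d F) W}) :
    StarE (orderOf ((Fintype.card F : ℕ) : ZMod r)) d e := by
  classical
  have hr : r.Prime := Fact.out
  have hrq := not_dvd_card_of_ne (F := F) r hrp
  have hrZ : Prime (r : ℤ) := Nat.prime_iff_prime_int.mp hr
  have hrqZ : ¬ (r : ℤ) ∣ (Fintype.card F : ℤ) := by
    intro h
    exact hrq (Int.natCast_dvd_natCast.mp h)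
  have hmain := exists_dvd_of_dvd_card_ell (plusForm d F) (nondegenerate_plusForm d) finrank_pV
    qType_top_plus e he hed r hr hrq hrΩ
  exact starE_of_dvd hr2 hrq he hed hmain

/-- the main theorem for odd `r`, in our language -/
theorem ell_odd_iff (hd : 4 ≤ d) (r : ℕ) [Fact r.Prime] (hrp : r ≠ p) (hr2 : r ≠ 2) {e : ℕ}
    (he : 1 ≤ e) (hed : 2 * e < d)
    (hrΩ : r ∣ Nat.card {W : Submodule F (Fin d ⊕ Fin d → F) // finrank F ↥W = 2 * e ∧
      Nd (pB (plusForm d F)) W ∧ ¬ Hyp (plusForm d F) W}) :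
    (∀ x : GL (Fin d ⊕ Fin d) F, x ∈ Cfsg.Geo.omegaGL (Cfsg.quadFormPlus d F) →
      (∃ z : F, ((x ^ r : GL (Fin d ⊕ Fin d) F) : Matrix (Fin d ⊕ Fin d) (Fin d ⊕ Fin d) F) =
        z • (1 : Matrix (Fin d ⊕ Fin d) (Fin d ⊕ Fin d) F)) →
      (∀ z : F, (x : Matrix (Fin d ⊕ Fin d) (Fin d ⊕ Fin d) F) ≠
        z • (1 : Matrix (Fin d ⊕ Fin d) (Fin d ⊕ Fin d) F)) →
      GoodE F d (2 * e) (x : Matrix (Fin d ⊕ Fin d) (Fin d ⊕ Fin d) F)) ↔
    ((Odd (orderOf ((Fintype.card F : ℕ) : ZMod r)) ∧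
        blockSize (orderOf ((Fintype.card F : ℕ) : ZMod r)) ≤ 2 * e ∧
        0 < (2 * e) % blockSize (orderOf ((Fintype.card F : ℕ) : ZMod r)) ∧
        (2 * e) % blockSize (orderOf ((Fintype.card F : ℕ) : ZMod r)) <
          (2 * d) % blockSize (orderOf ((Fintype.card F : ℕ) : ZMod r))) ∨
      (Even (orderOf ((Fintype.card F : ℕ) : ZMod r)) ∧
        EvenRHSE (orderOf ((Fintype.card F : ℕ) : ZMod r))
          (blockSize (orderOf ((Fintype.card F : ℕ) : ZMod r))) d (2 * e))) := by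
  classical
  have hr : r.Prime := Fact.out
  have hrodd : Odd r := hr.odd_of_ne_two hr2
  have hrq := not_dvd_card_of_ne (F := F) r hrp
  have hstar := starE_of_card hd r hrp hr2 he (by omega) hrΩ
  set i := orderOf ((Fintype.card F : ℕ) : ZMod r) with hidef
  set c := blockSize i with hcdef
  have hipos : 0 < i := orderOf_card_pos r hrp
  have hcpos : 0 < c := blockSize_pos hipos
  constructor
  · intro H
    have H' : ∀ g : ↥(Cfsg.isometryGroup F (Cfsg.quadFormPlus d F)),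
        g ∈ Cfsg.Omega F (Cfsg.quadFormPlus d F) → orderOf g = r →
        GoodE F d (2 * e) ((g : GL (Fin d ⊕ Fin d) F) :
          Matrix (Fin d ⊕ Fin d) (Fin d ⊕ Fin d) F) := by
      intro g hgΩ hgord
      have hgr : g ^ r = 1 := by rw [← hgord]; exact pow_orderOf_eq_one g
      refine H (g : GL (Fin d ⊕ Fin d) F) (Subgroup.mem_map.mpr ⟨g, hgΩ, rfl⟩) ⟨1, ?_⟩
        (not_scalar_of_orderOf (by omega) hr hrodd g hgord)
      have h3 : ((g ^ r : ↥(Cfsg.isometryGroup F (Cfsg.quadFormPlus d F))) :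
          GL (Fin d ⊕ Fin d) F) = 1 := by rw [hgr]; rfl
      have h4 := congrArg (fun w : GL (Fin d ⊕ Fin d) F =>
        (w : Matrix (Fin d ⊕ Fin d) (Fin d ⊕ Fin d) F)) h3
      rw [one_smul]
      simpa using h4
    have hcrit : (2 * d / c * c = 2 * d → bsign i (2 * d / c) = 1) →
        Crit i c d e (2 * d / c) 1 (-1) := by
      intro hadm
      by_cases hB : 1 ≤ 2 * d / c
      · exact crit_of_goodE (by omega) r hrp hr2 H' hB hadm
      · have hB0 : 2 * d / c = 0 := Nat.lt_one_iff.mp (not_le.mp hB)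
        rw [hB0]
        exact ⟨0, le_rfl, by omega, Or.inr (Or.inl ⟨by omega, by omega⟩)⟩
    by_cases hie : Even i
    · right
      refine ⟨hie, ?_⟩
      have hci : c = i := blockSize_even hie
      exact rhsE_of_crit_even hie hipos hci he (by omega) hstar hcrit
    · left
      have hio : Odd i := Nat.not_even_iff_odd.mp hie
      have hci : c = 2 * i := blockSize_odd hie
      have hbs : bsign i (2 * d / c) = 1 := by
        unfold bsign
        rw [if_neg hie]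
      exact ⟨hio, rhsE_of_crit_odd hio hci he (by omega) hstar (hcrit (fun _ => hbs))⟩
  · intro hrhs x hx ⟨z, hz⟩ hns
    obtain ⟨g, -, rfl⟩ := Subgroup.mem_map.mp hx
    refine goodE_of_crit (by omega) r hrp hr2 ?_ g hz hns
    intro b hb1 hbc hadm
    rcases hrhs with ⟨hio, hcm, h0, hmod⟩ | ⟨hie, hev⟩
    · have hci : c = 2 * i := blockSize_odd (Nat.not_even_iff_odd.mpr hio)
      exact crit_of_rhsE_odd hio hci he (by omega) hcm h0 hmod hb1 hbc
    · have hci : c = i := blockSize_even hie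
      exact crit_of_rhsE_even hie hipos hci he (by omega) hev hb1 hbc hadm

end odd

/-! ## `r = 2` and `r = p` -/

section two

variable [Fintype F]

open Cfsg.Agent.Helper94.Tn Cfsg.Agent.Helper94.Ts Cfsg.Agent.Helper94.OrD Cfsg.Agent.Helper94.OrC

/-- `r = 2`, characteristic two: an involution all of whose invariant even-dimensional subspaces
are hyperbolic -/
theorem ell_two_char_two (h2F : (2 : F) = 0) (hd : 4 ≤ d) {e : ℕ} :
    ¬ (∀ x : GL (Fin d ⊕ Fin d) F, x ∈ Cfsg.Geo.omegaGL (Cfsg.quadFormPlus d F) →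
      (∃ z : F, ((x ^ 2 : GL (Fin d ⊕ Fin d) F) : Matrix (Fin d ⊕ Fin d) (Fin d ⊕ Fin d) F) =
        z • (1 : Matrix (Fin d ⊕ Fin d) (Fin d ⊕ Fin d) F)) →
      (∀ z : F, (x : Matrix (Fin d ⊕ Fin d) (Fin d ⊕ Fin d) F) ≠
        z • (1 : Matrix (Fin d ⊕ Fin d) (Fin d ⊕ Fin d) F)) →
      GoodE F d (2 * e) (x : Matrix (Fin d ⊕ Fin d) (Fin d ⊕ Fin d) F)) := by
  classical
  haveI : CharP F 2 := CharTwo.of_one_ne_zero_of_two_eq_zero one_ne_zero h2F
  have h2d : Fintype.card F ≠ 2 ∨ d ≠ 2 := Or.inr (by omega)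
  intro H
  obtain ⟨k, hk, hdk, hk1⟩ : ∃ k : ℕ, 2 * k ≤ d ∧ d ≤ 2 * k + 1 ∧ 1 ≤ k :=
    ⟨d / 2, by omega, by omega, by omega⟩
  obtain ⟨W, hWdim, -, hWhyp, hWinv⟩ :=
    H ((x0 F d k : ↥(Cfsg.isometryGroup F (Cfsg.quadFormPlus d F))) : GL (Fin d ⊕ Fin d) F)
      (Subgroup.mem_map.mpr ⟨x0 F d k, x0_mem_Omega h2d hk, rfl⟩)
      ⟨1, by
        rw [one_smul, pow_two, ← Units.val_one]
        exact congrArg Units.val (congrArg Subtype.val (x0_mul_self (F := F) (m := d) k))⟩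
      (fun z => T0_not_scalar hk1 hk z)
  exact hWhyp (hyp_of_inv_T0 d k hk hdk W hWdim hWinv)

/-- `r = p` odd: an element of order `p` all of whose invariant even-dimensional subspaces are
hyperbolic -/
theorem ell_p_odd (h2F : (2 : F) ≠ 0) {p : ℕ} [Fact p.Prime] [CharP F p] (hd : 4 ≤ d) {e : ℕ} :
    ¬ (∀ x : GL (Fin d ⊕ Fin d) F, x ∈ Cfsg.Geo.omegaGL (Cfsg.quadFormPlus d F) →
      (∃ z : F, ((x ^ p : GL (Fin d ⊕ Fin d) F) : Matrix (Fin d ⊕ Fin d) (Fin d ⊕ Fin d) F) =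
        z • (1 : Matrix (Fin d ⊕ Fin d) (Fin d ⊕ Fin d) F)) →
      (∀ z : F, (x : Matrix (Fin d ⊕ Fin d) (Fin d ⊕ Fin d) F) ≠
        z • (1 : Matrix (Fin d ⊕ Fin d) (Fin d ⊕ Fin d) F)) →
      GoodE F d (2 * e) (x : Matrix (Fin d ⊕ Fin d) (Fin d ⊕ Fin d) F)) := by
  classical
  intro H
  obtain ⟨x, hxΩ, hxp, hxns, hxhyp⟩ := exists_unipotent_only_hyp h2F (p := p) d (by omega)
  obtain ⟨W, hWdim, -, hWhyp, hWinv⟩ :=
    H (x : GL (Fin d ⊕ Fin d) F) (Subgroup.mem_map.mpr ⟨x, hxΩ, rfl⟩)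
      ⟨1, by
        rw [one_smul, ← Units.val_one]
        have h1 : ((x ^ p : ↥(Cfsg.isometryGroup F (Cfsg.quadFormPlus d F))) :
            GL (Fin d ⊕ Fin d) F) = 1 := by rw [hxp]; rfl
        exact congrArg Units.val h1⟩
      hxns
  exact hWhyp (hxhyp W e hWdim hWinv)

/-- `r = 2`, odd characteristic -/
theorem ell_two_odd_char (h2F : (2 : F) ≠ 0) (hd : 4 ≤ d) {e : ℕ} (he : 1 ≤ e) (hed : 2 * e < d) :
    (∀ x : GL (Fin d ⊕ Fin d) F, x ∈ Cfsg.Geo.omegaGL (Cfsg.quadFormPlus d F) →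
      (∃ z : F, ((x ^ 2 : GL (Fin d ⊕ Fin d) F) : Matrix (Fin d ⊕ Fin d) (Fin d ⊕ Fin d) F) =
        z • (1 : Matrix (Fin d ⊕ Fin d) (Fin d ⊕ Fin d) F)) →
      (∀ z : F, (x : Matrix (Fin d ⊕ Fin d) (Fin d ⊕ Fin d) F) ≠
        z • (1 : Matrix (Fin d ⊕ Fin d) (Fin d ⊕ Fin d) F)) →
      GoodE F d (2 * e) (x : Matrix (Fin d ⊕ Fin d) (Fin d ⊕ Fin d) F)) ↔
    ((Even d ∧ Fintype.card F % 4 = 3 ∧ (2 * e) % 4 = 2) ∨
      (Odd d ∧ Fintype.card F % 8 ≠ 1)) := by
  classical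
  have hnd := nondegenerate_plusForm (F := F) d
  have hndtop : Nd (pB (plusForm d F)) ⊤ := nd_top_of_nondeg' hnd
  have hqodd : Fintype.card F % 2 = 1 := FiniteField.odd_card_of_char_ne_two (by
    intro hch
    haveI : CharP F 2 := ringChar.of_eq hch
    exact h2F (CharTwo.two_eq_zero))
  have hsq_iff : (∃ a : F, a * a = -1) ↔ Fintype.card F % 4 = 1 := by
    have h1 := FiniteField.isSquare_neg_one_iff (F := F)
    constructor
    · rintro ⟨a, ha⟩
      have : IsSquare (-1 : F) := ⟨a, ha.symm⟩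
      have := h1.mp this
      omega
    · intro h
      obtain ⟨a, ha⟩ := h1.mpr (by omega)
      exact ⟨a, ha.symm⟩
  -- the type of invariant subspaces when `x² = -1` and `-1` is not a square
  have htype : ∀ (Y : Module.End F (Fin d ⊕ Fin d → F)),
      (∀ v, plusForm d F (Y v) = plusForm d F v) → Y * Y = -1 → (∀ a : F, a * a ≠ -1) →
      ∀ (t : ℕ) (W : Submodule F (Fin d ⊕ Fin d → F)), Inv Y W → Nd (pB (plusForm d F)) W →
        finrank F ↥W = 2 * t → QType (plusForm d F) W t ((-1) ^ t) := by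
    intro Y hYiso hYY hns t W hWinv hWnd hWdim
    obtain ⟨W', hW'le, -, -, hW'dim, hW'ty⟩ :=
      exists_inv_typed_of_sq_neg_one_nonsplit (plusForm d F) hnd h2F Y hYiso hYY hns t W hWinv hWnd
        (by omega)
    have : W' = W := Submodule.eq_of_le_of_finrank_eq hW'le (by rw [hW'dim, hWdim])
    rw [← this]
    exact hW'ty
  -- an element of `Ω` with square `-1` is never scalar
  have hnotscalar : ∀ x : ↥(Cfsg.isometryGroup F (Cfsg.quadFormPlus d F)),
      ((x : GL (Fin d ⊕ Fin d) F) : Matrix (Fin d ⊕ Fin d) (Fin d ⊕ Fin d) F) *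
        ((x : GL (Fin d ⊕ Fin d) F) : Matrix (Fin d ⊕ Fin d) (Fin d ⊕ Fin d) F) = -1 →
      ∀ z : F, ((x : GL (Fin d ⊕ Fin d) F) : Matrix (Fin d ⊕ Fin d) (Fin d ⊕ Fin d) F) ≠
        z • (1 : Matrix (Fin d ⊕ Fin d) (Fin d ⊕ Fin d) F) := by
    intro x hxx z hz
    have hz2 : z ^ 2 = 1 := sq_eq_one_of_pow_eq_smul (r := 1) (by omega) x (by rw [pow_one]; exact hz)
    rw [hz, Matrix.smul_mul, Matrix.mul_smul, Matrix.one_mul, smul_smul, ← pow_two, hz2,
      one_smul] at hxx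
    have h5 := congrFun (congrFun hxx (Sum.inl ⟨0, by omega⟩)) (Sum.inl ⟨0, by omega⟩)
    simp only [Matrix.one_apply_eq, Matrix.neg_apply] at h5
    have h6 : (2 : F) = 0 := by linear_combination h5
    exact h2F h6
  constructor
  · intro H
    -- if `-1` is a square, an element of `Ω` with square `-1` contradicts `H`
    have hbad : (∃ a : F, a * a = -1) →
        ∀ x : ↥(Cfsg.isometryGroup F (Cfsg.quadFormPlus d F)),
          x ∈ Cfsg.Omega F (Cfsg.quadFormPlus d F) →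
          ((x : GL (Fin d ⊕ Fin d) F) : Matrix (Fin d ⊕ Fin d) (Fin d ⊕ Fin d) F) *
            ((x : GL (Fin d ⊕ Fin d) F) : Matrix (Fin d ⊕ Fin d) (Fin d ⊕ Fin d) F) = -1 →
          False := by
      rintro ⟨ι₀, hι⟩ x hxΩ hxx
      set A := ((x : GL (Fin d ⊕ Fin d) F) : Matrix (Fin d ⊕ Fin d) (Fin d ⊕ Fin d) F) with hA
      obtain ⟨W, hWdim, hWnd, hWhyp, hWinv⟩ := H (x : GL (Fin d ⊕ Fin d) F)
        (Subgroup.mem_map.mpr ⟨x, hxΩ, rfl⟩)
        ⟨-1, by rw [pow_two, Units.val_mul, hxx, neg_smul, one_smul]⟩ (hnotscalar x hxx)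
      have hYY : Matrix.toLin' A * Matrix.toLin' A = -1 := by
        rw [Module.End.mul_eq_comp, ← Matrix.toLin'_mul, hxx, map_neg, Matrix.toLin'_one]
        rfl
      obtain ⟨W', hW'le, -, -, hW'dim, hW'hyp⟩ :=
        exists_inv_hyp_of_sq_neg_one_split (plusForm d F) hnd h2F (Matrix.toLin' A)
          (fun v => toLin_iso x v) hYY hι e W hWinv hWnd (by omega)
      have : W' = W := Submodule.eq_of_le_of_finrank_eq hW'le (by rw [hW'dim, hWdim])
      rw [this] at hW'hyp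
      exact hWhyp hW'hyp
    rcases Nat.even_or_odd d with hdeven | hdodd
    · left
      obtain ⟨x, hxΩ, hxx⟩ := exists_omega_sq_neg_one h2F d hdeven (by omega)
      have hns : ∀ a : F, a * a ≠ -1 := fun a ha => hbad ⟨a, ha⟩ x hxΩ hxx
      have hq4 : Fintype.card F % 4 = 3 := by
        have : ¬ Fintype.card F % 4 = 1 := fun h => by
          obtain ⟨a, ha⟩ := hsq_iff.mpr h
          exact hns a ha
        omega
      refine ⟨hdeven, hq4, ?_⟩
      set A := ((x : GL (Fin d ⊕ Fin d) F) : Matrix (Fin d ⊕ Fin d) (Fin d ⊕ Fin d) F) with hA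
      obtain ⟨W, hWdim, hWnd, hWhyp, hWinv⟩ := H (x : GL (Fin d ⊕ Fin d) F)
        (Subgroup.mem_map.mpr ⟨x, hxΩ, rfl⟩)
        ⟨-1, by rw [pow_two, Units.val_mul, hxx, neg_smul, one_smul]⟩ (hnotscalar x hxx)
      have hYY : Matrix.toLin' A * Matrix.toLin' A = -1 := by
        rw [Module.End.mul_eq_comp, ← Matrix.toLin'_mul, hxx, map_neg, Matrix.toLin'_one]
        rfl
      have hty := htype (Matrix.toLin' A) (fun v => toLin_iso x v) hYY hns e W hWinv hWnd hWdim
      have hty1 := (not_hyp_iff_qType _ hWnd hWdim).mp hWhyp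
      have hsign : ((-1 : ℤ)) ^ e = -1 := hty.unique hty1
      have heodd : Odd e := by
        by_contra hcon
        rw [Nat.not_odd_iff_even] at hcon
        rw [hcon.neg_one_pow] at hsign
        norm_num at hsign
      rw [Nat.odd_iff] at heodd
      omega
    · right
      refine ⟨hdodd, ?_⟩
      intro hq8
      have hex := (Cfsg.Agent.Helper94.Tp.exists_plus_Omega_sq_neg_iff (F := F) (d := d) h2F rfl
        (Nat.odd_iff.mpr hqodd) (by omega)).mpr (Or.inr hq8)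
      obtain ⟨g, hgΩ, hg⟩ := hex
      have hgg : ((g : GL (Fin d ⊕ Fin d) F) : Matrix (Fin d ⊕ Fin d) (Fin d ⊕ Fin d) F) *
          ((g : GL (Fin d ⊕ Fin d) F) : Matrix (Fin d ⊕ Fin d) (Fin d ⊕ Fin d) F) = -1 := by
        apply Matrix.toLin'.injective
        apply LinearMap.ext
        intro v
        rw [Matrix.toLin'_apply, ← Matrix.mulVec_mulVec, hg v, Matrix.toLin'_apply,
          Matrix.neg_mulVec, Matrix.one_mulVec]
      exact hbad (hsq_iff.mpr (by omega)) g hgΩ hgg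
  · intro hrhs x hx ⟨z, hz⟩ _
    obtain ⟨g, hgΩ, rfl⟩ := Subgroup.mem_map.mp hx
    set A := ((g : GL (Fin d ⊕ Fin d) F) : Matrix (Fin d ⊕ Fin d) (Fin d ⊕ Fin d) F) with hA
    have hz2 : z ^ 2 = 1 := sq_eq_one_of_pow_eq_smul (by omega) g hz
    have hAA : A * A = z • (1 : Matrix (Fin d ⊕ Fin d) (Fin d ⊕ Fin d) F) := by
      rw [← hz, pow_two, Units.val_mul]
      rfl
    have hiso : ∀ v, plusForm d F (Matrix.toLin' A v) = plusForm d F v := fun v => toLin_iso g v
    have hz' : z = 1 ∨ z = -1 := by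
      have : (z - 1) * (z + 1) = 0 := by linear_combination hz2
      rcases mul_eq_zero.mp this with h | h
      · left; exact sub_eq_zero.mp h
      · right; exact eq_neg_of_add_eq_zero_left h
    rcases hz' with rfl | rfl
    · -- an involution
      rw [one_smul] at hAA
      exact invol_goodE h2F d (by omega) he hed g hgΩ hAA
    · -- `x² = -1`
      rw [neg_smul, one_smul] at hAA
      have hYY : Matrix.toLin' A * Matrix.toLin' A = -1 := by
        rw [Module.End.mul_eq_comp, ← Matrix.toLin'_mul, hAA, map_neg, Matrix.toLin'_one]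
        rfl
      rcases hrhs with ⟨-, hq4, he4⟩ | ⟨hdodd, hq8⟩
      · have hns : ∀ a : F, a * a ≠ -1 := fun a ha => by
          have := hsq_iff.mp ⟨a, ha⟩
          omega
        have heodd : Odd e := by rw [Nat.odd_iff]; omega
        obtain ⟨W, -, hWinv, hWnd, hWdim, hWty⟩ :=
          exists_inv_typed_of_sq_neg_one_nonsplit (plusForm d F) hnd h2F (Matrix.toLin' A) hiso hYY
            hns e ⊤ (Cfsg.Agent.Helper59.InvChain.inv_top _) hndtop
            (by rw [finrank_top, finrank_pV]; omega)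
        rw [heodd.neg_one_pow] at hWty
        exact ⟨W, hWdim, hWnd, (not_hyp_iff_qType _ hWnd hWdim).mpr hWty, hWinv⟩
      · exfalso
        have hex := (Cfsg.Agent.Helper94.Tp.exists_plus_Omega_sq_neg_iff (F := F) (d := d) h2F rfl
          (Nat.odd_iff.mpr hqodd) (by omega)).mp ⟨g, hgΩ, fun v => by
            rw [Matrix.mulVec_mulVec]
            show (A * A) *ᵥ v = -v
            rw [hAA, Matrix.neg_mulVec, Matrix.one_mulVec]⟩
        rcases hex with h | h
        · exact (Nat.not_even_iff_odd.mpr hdodd) h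
        · exact hq8 h

end two

end Cfsg.Agent.Helper45.EllMain
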