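import Cfsg.Agent.Helper65.FrakLSzCore
import Cfsg.Agent.Helper6.NTor2
import Cfsg.Agent.Helper87.FrakLDefs

/-!
# (SzA) for helper87: the elementary abelian subgroups of order `q` of the Suzuki group are TI, and
every non-identity element of odd order is a product of two involutions
-/

set_option autoImplicit false

namespace Cfsg.Agent.Helper45.FrakL

open Cfsg.Agent.Helper6 Cfsg.Agent.Helper65.FrakL

section model

variable {F : Type*} [Field F] [Fintype F] {m : ℕ}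

/-- a normalising element fixes the conjugate. -/
theorem map_conj_eq_of_mem_normalizer {G : Type*} [Group G] (H : Subgroup G) {c : G}
    (hc : c ∈ Subgroup.normalizer (H : Set G)) : H.map (MulAut.conj c).toMonoidHom = H := by
  rw [Subgroup.mem_normalizer_iff] at hc
  ext x
  constructor
  · rintro ⟨y, hy, rfl⟩
    exact (hc y).1 hy
  · intro hx
    refine ⟨c⁻¹ * x * c, ?_, ?_⟩
    · show c⁻¹ * x * c ∈ H
      rw [hc]
      have : c * (c⁻¹ * x * c) * c⁻¹ = x := by group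
      rwa [this]
    · show c * (c⁻¹ * x * c) * c⁻¹ = x
      group

/-- the model statement of the TI property. -/
theorem sz_TI_model (hm : 1 ≤ m) (hF : Fintype.card F = 2 ^ (2 * m + 1)) (c z : Cfsg.Sz F m)
    (hz : z ∈ szE0 hm hF) (hz1 : z ≠ 1)
    (h : ∀ y ∈ szE0 hm hF,
      z * (c * y * c⁻¹) * z⁻¹ ∈ (szE0 hm hF).map (MulAut.conj c).toMonoidHom) :
    (szE0 hm hF).map (MulAut.conj c).toMonoidHom = szE0 hm hF := by
  obtain ⟨b, rfl⟩ := (mem_szE0_iff hm hF z).1 hz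
  have hb : b ≠ 0 := by
    rintro rfl
    exact hz1 (sU_zero hm hF)
  obtain ⟨y', hy', hy'eq⟩ := h (sU hF 0 1) ((mem_szE0_iff hm hF _).2 ⟨1, rfl⟩)
  obtain ⟨b1, rfl⟩ := (mem_szE0_iff hm hF y').1 hy'
  have hy'eq' : c * sU hF 0 b1 * c⁻¹ = sU hF 0 b * (c * sU hF 0 1 * c⁻¹) * (sU hF 0 b)⁻¹ :=
    hy'eq
  -- `n = c⁻¹ z c` conjugates `sU 0 1` into `szQ`
  have hn : (c⁻¹ * sU hF 0 b * c) * sU hF 0 1 * (c⁻¹ * sU hF 0 b * c)⁻¹ = sU hF 0 b1 := by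
    calc (c⁻¹ * sU hF 0 b * c) * sU hF 0 1 * (c⁻¹ * sU hF 0 b * c)⁻¹
        = c⁻¹ * (sU hF 0 b * (c * sU hF 0 1 * c⁻¹) * (sU hF 0 b)⁻¹) * c := by group
      _ = c⁻¹ * (c * sU hF 0 b1 * c⁻¹) * c := by rw [hy'eq']
      _ = sU hF 0 b1 := by group
  have hnB : c⁻¹ * sU hF 0 b * c ∈ szB F m :=
    mem_szB_of_conj hm hF _ (a := 0) (b := 1) (fun h0 => one_ne_zero h0.2) hn
  have hzz : sU hF 0 b * sU hF 0 b = 1 := by
    rw [sU_sq hm hF, mul_zero, sU_zero hm hF]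
  have hnn : (c⁻¹ * sU hF 0 b * c) * (c⁻¹ * sU hF 0 b * c) = 1 := by
    calc (c⁻¹ * sU hF 0 b * c) * (c⁻¹ * sU hF 0 b * c)
        = c⁻¹ * (sU hF 0 b * sU hF 0 b) * c := by group
      _ = 1 := by rw [hzz]; group
  obtain ⟨b2, hb2⟩ := (mem_szE0_iff hm hF _).1 (mem_szE0_of_mem_szB hm hF hnB hnn)
  have hcB : c⁻¹ ∈ szB F m := by
    apply mem_szB_of_conj hm hF c⁻¹ (a := 0) (b := b) (fun h0 => hb h0.2) (a' := 0) (b' := b2)
    rw [inv_inv]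
    exact hb2
  have hcB' : c ∈ szB F m := by
    have := (szB F m).inv_mem hcB
    rwa [inv_inv] at this
  apply map_conj_eq_of_mem_normalizer
  rw [normalizer_szE0 hm hF]
  exact hcB'

/-- every involution is conjugate to a non-identity element of `szE0`. -/
theorem invol_conj_szE0 (hm : 1 ≤ m) (hF : Fintype.card F = 2 ^ (2 * m + 1))
    {t : Cfsg.Sz F m} (ht : orderOf t = 2) :
    ∃ c : Cfsg.Sz F m, ∃ z ∈ szE0 hm hF, z ≠ 1 ∧ t = c * z * c⁻¹ := by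
  obtain ⟨ht1, k, hk⟩ := conjInto_szQ_of_orderOf_two hm hF ht
  have htt : t * t = 1 := by rw [← pow_two, ← ht, pow_orderOf_eq_one]
  have hkk : (k * t * k⁻¹) * (k * t * k⁻¹) = 1 := by
    calc (k * t * k⁻¹) * (k * t * k⁻¹) = k * (t * t) * k⁻¹ := by group
      _ = 1 := by rw [htt]; group
  refine ⟨k⁻¹, k * t * k⁻¹, mem_szE0_of_mem_szB hm hF (szQ_le_szB hm hF hk) hkk, ?_, ?_⟩
  · rw [Ne, conj_eq_one_iff]
    exact ht1
  · group

/-- the model statement: elements of odd order are products of two involutions. -/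
theorem sz_SR_model (hm : 1 ≤ m) (hF : Fintype.card F = 2 ^ (2 * m + 1)) (x : Cfsg.Sz F m)
    (hx1 : x ≠ 1) (hodd : Odd (orderOf x)) :
    ∃ c d : Cfsg.Sz F m, ∃ z₁ ∈ szE0 hm hF, ∃ z₂ ∈ szE0 hm hF, z₁ ≠ 1 ∧ z₂ ≠ 1 ∧
      x = (c * z₁ * c⁻¹) * (d * z₂ * d⁻¹) := by
  have hss : IsSS hm hF x := by
    refine ⟨hx1, not_conjInto_szQ_of_odd hm hF (Subgroup.zpowers x) ?_
      (Subgroup.mem_zpowers x)⟩
    rw [Nat.card_zpowers]
    intro h2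
    exact (Nat.not_even_iff_odd.2 hodd) (even_iff_two_dvd.2 h2)
  obtain ⟨s, hsN, hs⟩ := ss_exists_invol hm hF hss
  have hinv : s * x * s⁻¹ = x⁻¹ :=
    ss_invol_inverts hm hF hss hsN hs (Subgroup.mem_centralizer_singleton_iff.2 rfl)
  have hss2 : s * s = 1 := by rw [← pow_two, ← hs, pow_orderOf_eq_one]
  have hsinv : s⁻¹ = s := inv_eq_of_mul_eq_one_right hss2
  have hs1 : s ≠ 1 := by
    rintro rfl
    rw [orderOf_one] at hs
    omega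
  have ht2 : (s * x) * (s * x) = 1 := by
    calc (s * x) * (s * x) = (s * x * s⁻¹) * x := by rw [hsinv]; group
      _ = 1 := by rw [hinv]; group
  have ht1 : s * x ≠ 1 := by
    intro h1
    have hxs : x = s := by
      have : x = s⁻¹ := eq_inv_of_mul_eq_one_right h1
      rwa [hsinv] at this
    rw [hxs, hs] at hodd
    exact absurd hodd (by decide)
  have : Fact (Nat.Prime 2) := ⟨Nat.prime_two⟩
  have ht : orderOf (s * x) = 2 := orderOf_eq_prime (by rw [pow_two]; exact ht2) ht1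
  obtain ⟨c, z₁, hz₁, hz₁1, hcz⟩ := invol_conj_szE0 hm hF hs
  obtain ⟨d, z₂, hz₂, hz₂1, hdz⟩ := invol_conj_szE0 hm hF ht
  refine ⟨c, d, z₁, hz₁, z₂, hz₂, hz₁1, hz₂1, ?_⟩
  rw [← hcz, ← hdz, ← mul_assoc, hss2, one_mul]

end model

/-- transport of a conjugate along an isomorphism. -/
theorem map_map_conj {G G' : Type*} [Group G] [Group G'] (ψ : G ≃* G') (E : Subgroup G) (c : G) :
    (E.map (MulAut.conj c).toMonoidHom).map ψ.toMonoidHom =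
      (E.map ψ.toMonoidHom).map (MulAut.conj (ψ c)).toMonoidHom := by
  rw [Subgroup.map_map, Subgroup.map_map]
  congr 1
  ext y
  show ψ (c * y * c⁻¹) = ψ c * ψ y * (ψ c)⁻¹
  rw [map_mul, map_mul, map_inv]

theorem sz_TI {F : Type} [Field F] [Fintype F] {m : ℕ} (hm : 1 ≤ m)
    (hF : Fintype.card F = 2 ^ (2 * m + 1)) (E : Subgroup ↥(Cfsg.Lie.Sz F (2 ^ (m + 1))))
    (hE : Nat.card E = Fintype.card F) (hE2 : ∀ x ∈ E, x * x = 1) :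
    ∀ c : ↥(Cfsg.Lie.Sz F (2 ^ (m + 1))), ∀ z ∈ E, z ≠ 1 →
      (∀ y ∈ E, z * (c * y * c⁻¹) * z⁻¹ ∈ E.map (MulAut.conj c).toMonoidHom) →
      E.map (MulAut.conj c).toMonoidHom = E := by
  obtain ⟨ψ, hψ⟩ := exists_equiv_map_eq_szE0 hm hF E hE hE2
  intro c z hz hz1 h
  have hzE : ψ z ∈ szE0 hm hF := by
    rw [← hψ]
    exact ⟨z, hz, rfl⟩
  have hz1' : ψ z ≠ 1 := fun h1 => hz1 (ψ.injective (h1.trans (map_one ψ).symm))
  have hmodel := sz_TI_model hm hF (ψ c) (ψ z) hzE hz1' (by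
    intro y' hy'
    rw [← hψ] at hy'
    obtain ⟨y, hy, rfl⟩ := hy'
    rw [← hψ, ← map_map_conj]
    refine ⟨z * (c * y * c⁻¹) * z⁻¹, h y hy, ?_⟩
    show ψ (z * (c * y * c⁻¹) * z⁻¹) = ψ z * (ψ c * ψ y * (ψ c)⁻¹) * (ψ z)⁻¹
    simp only [map_mul, map_inv])
  rw [← hψ, ← map_map_conj] at hmodel
  exact Subgroup.map_injective ψ.injective hmodel

theorem sz_SR {F : Type} [Field F] [Fintype F] {m : ℕ} (hm : 1 ≤ m)
    (hF : Fintype.card F = 2 ^ (2 * m + 1)) (E : Subgroup ↥(Cfsg.Lie.Sz F (2 ^ (m + 1))))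
    (hE : Nat.card E = Fintype.card F) (hE2 : ∀ x ∈ E, x * x = 1) :
    ∀ x : ↥(Cfsg.Lie.Sz F (2 ^ (m + 1))), x ≠ 1 → Odd (orderOf x) →
      ∃ c d : ↥(Cfsg.Lie.Sz F (2 ^ (m + 1))), ∃ z₁ ∈ E, ∃ z₂ ∈ E, z₁ ≠ 1 ∧ z₂ ≠ 1 ∧
        x = (c * z₁ * c⁻¹) * (d * z₂ * d⁻¹) := by
  obtain ⟨ψ, hψ⟩ := exists_equiv_map_eq_szE0 hm hF E hE hE2
  intro x hx1 hodd
  have hx1' : ψ x ≠ 1 := fun h1 => hx1 (ψ.injective (h1.trans (map_one ψ).symm))
  have hodd' : Odd (orderOf (ψ x)) := by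
    rw [MulEquiv.orderOf_eq]
    exact hodd
  obtain ⟨c', d', z₁', hz₁', z₂', hz₂', h1, h2, hx⟩ := sz_SR_model hm hF (ψ x) hx1' hodd'
  rw [← hψ] at hz₁' hz₂'
  obtain ⟨z₁, hz₁, rfl⟩ := hz₁'
  obtain ⟨z₂, hz₂, rfl⟩ := hz₂'
  refine ⟨ψ.symm c', ψ.symm d', z₁, hz₁, z₂, hz₂, ?_, ?_, ?_⟩
  · rintro rfl
    exact h1 (map_one ψ)
  · rintro rfl
    exact h2 (map_one ψ)
  · apply ψ.injective
    rw [hx]
    simp only [map_mul, map_inv, MulEquiv.apply_symm_apply]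
    rfl

theorem sz_TI_SR {F : Type} [Field F] [Fintype F] {m : ℕ} (hm : 1 ≤ m)
    (hF : Fintype.card F = 2 ^ (2 * m + 1)) (E : Subgroup ↥(Cfsg.Lie.Sz F (2 ^ (m + 1))))
    (hE : Nat.card E = Fintype.card F) (hE2 : ∀ x ∈ E, x * x = 1) :
    (∀ c : ↥(Cfsg.Lie.Sz F (2 ^ (m + 1))), ∀ z ∈ E, z ≠ 1 →
      (∀ y ∈ E, z * (c * y * c⁻¹) * z⁻¹ ∈ E.map (MulAut.conj c).toMonoidHom) →
      E.map (MulAut.conj c).toMonoidHom = E) ∧
    (∀ x : ↥(Cfsg.Lie.Sz F (2 ^ (m + 1))), x ≠ 1 → Odd (orderOf x) →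
      ∃ c d : ↥(Cfsg.Lie.Sz F (2 ^ (m + 1))), ∃ z₁ ∈ E, ∃ z₂ ∈ E, z₁ ≠ 1 ∧ z₂ ≠ 1 ∧
        x = (c * z₁ * c⁻¹) * (d * z₂ * d⁻¹)) :=
  ⟨sz_TI hm hF E hE hE2, sz_SR hm hF E hE hE2⟩

end Cfsg.Agent.Helper45.FrakL
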