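import Mathlib
import Cfsg.Agent.Helper45.LBLB
import Cfsg.Agent.Helper14.AutFieldMain
import Cfsg.Agent.S0265

/-!
Helper45: local balance for `PSL_n(F)` (S2686), part C: the subgroup `L ≅ PSL_n(F^σ)` of
`Inn ∩ C(φ_σ)` for the standard field automorphism `φ_σ`, and rigidity: an automorphism
centralising `L` is a power of `φ_σ`.
-/

set_option autoImplicit false
set_option linter.unusedSectionVars false

namespace Cfsg.Agent.Helper45.LBL

open Matrix Cfsg.Agent.Helper14.AutPSL Cfsg.Agent.Helper37.OutPsl Cfsg.Agent.Helper37.Bal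

variable {n : ℕ} {F : Type*} [Field F] (σ : F ≃+* F)

/-- `SL_n(F^σ) → SL_n(F)` -/
def slIncl : Matrix.SpecialLinearGroup (Fin n) (fixF σ) →* Matrix.SpecialLinearGroup (Fin n) F :=
  Matrix.SpecialLinearGroup.map (fixF σ).subtype

theorem slIncl_coe (s₀ : Matrix.SpecialLinearGroup (Fin n) (fixF σ)) :
    (slIncl σ s₀).1 = s₀.1.map (fixF σ).subtype := rfl

theorem glIncl_toGL (s₀ : Matrix.SpecialLinearGroup (Fin n) (fixF σ)) :
    glIncl σ (Matrix.SpecialLinearGroup.toGL s₀) = Matrix.SpecialLinearGroup.toGL (slIncl σ s₀) := by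
  apply Units.ext
  rfl

/-- `SL_n(F^σ) → Aut(PSL_n(F))` -/
def slFixHom (n : ℕ) {F : Type*} [Field F] (σ : F ≃+* F) :
    Matrix.SpecialLinearGroup (Fin n) (fixF σ) →*
      MulAut (Matrix.ProjectiveSpecialLinearGroup (Fin n) F) :=
  (fixHom n σ).comp Matrix.SpecialLinearGroup.toGL

theorem slFixHom_apply (s₀ : Matrix.SpecialLinearGroup (Fin n) (fixF σ)) :
    slFixHom n σ s₀ = MulAut.conj (prj (slIncl σ s₀)) := by
  show fixHom n σ (Matrix.SpecialLinearGroup.toGL s₀) = _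
  rw [fixHom_apply, glIncl_toGL, pslOf_slConj_toGL]

theorem slFixHom_mem_innCent [Finite F] (hn : 2 ≤ n)
    (s₀ : Matrix.SpecialLinearGroup (Fin n) (fixF σ)) :
    slFixHom n σ s₀ ∈ innCent (pslOf (slField σ) :
      MulAut (Matrix.ProjectiveSpecialLinearGroup (Fin n) F)) := by
  refine Subgroup.mem_inf.2 ⟨?_, ?_⟩
  · rw [slFixHom_apply]
    exact ⟨_, rfl⟩
  · have h1 : slFixHom n σ s₀ ∈ (fixHom n σ).range := ⟨_, rfl⟩
    rw [range_fixHom σ hn] at h1
    exact (Subgroup.mem_inf.1 h1).2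

theorem range_slFixHom_le [Finite F] (hn : 2 ≤ n) :
    (slFixHom n σ).range ≤ innCent (pslOf (slField σ) :
      MulAut (Matrix.ProjectiveSpecialLinearGroup (Fin n) F)) := by
  rintro _ ⟨s₀, rfl⟩
  exact slFixHom_mem_innCent σ hn s₀

theorem innCent_le_range_fixHom [Finite F] (hn : 2 ≤ n) :
    innCent (pslOf (slField σ) : MulAut (Matrix.ProjectiveSpecialLinearGroup (Fin n) F))
      ≤ (fixHom n σ).range := by
  rw [range_fixHom σ hn]
  intro z hz
  exact Subgroup.mem_inf.2 ⟨Inn_le_inndiag (Subgroup.mem_inf.1 hz).1, (Subgroup.mem_inf.1 hz).2⟩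

/-- `L` is normalised by `Inn ∩ C(φ_σ)` -/
theorem conj_mem_range_slFixHom [Finite F] (hn : 2 ≤ n)
    {z : MulAut (Matrix.ProjectiveSpecialLinearGroup (Fin n) F)}
    (hz : z ∈ innCent (pslOf (slField σ) : MulAut (Matrix.ProjectiveSpecialLinearGroup (Fin n) F)))
    {l : MulAut (Matrix.ProjectiveSpecialLinearGroup (Fin n) F)}
    (hl : l ∈ (slFixHom n σ).range) : z * l * z⁻¹ ∈ (slFixHom n σ).range := by
  obtain ⟨g₀, rfl⟩ := innCent_le_range_fixHom σ hn hz
  obtain ⟨s₀, rfl⟩ := hl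
  have hdet : Matrix.GeneralLinearGroup.det (g₀ * Matrix.SpecialLinearGroup.toGL s₀ * g₀⁻¹) = 1 := by
    rw [map_mul, map_mul, map_inv, mul_comm, ← mul_assoc, inv_mul_cancel, one_mul]
    apply Units.ext
    simp
  obtain ⟨s₁, hs₁⟩ := exists_toGL_eq _ hdet
  refine ⟨s₁, ?_⟩
  show fixHom n σ (Matrix.SpecialLinearGroup.toGL s₁) = _
  rw [hs₁, map_mul, map_mul, map_inv]
  rfl

theorem ker_slFixHom (hn : 2 ≤ n) :
    (slFixHom n σ).ker = Subgroup.center (Matrix.SpecialLinearGroup (Fin n) (fixF σ)) := by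
  ext s₀
  rw [MonoidHom.mem_ker]
  show fixHom n σ (Matrix.SpecialLinearGroup.toGL s₀) = 1 ↔ _
  rw [← MonoidHom.mem_ker, ker_fixHom σ hn]
  constructor
  · intro h
    rw [Subgroup.mem_center_iff]
    intro t
    apply Matrix.SpecialLinearGroup.toGL_injective
    rw [map_mul, map_mul]
    exact Subgroup.mem_center_iff.1 h _
  · intro h
    obtain ⟨r, -, hr⟩ := Matrix.SpecialLinearGroup.mem_center_iff.mp h
    apply mem_center_of_scalar _ r
    show (s₀ : Matrix (Fin n) (Fin n) (fixF σ)) = _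
    rw [← hr, Matrix.scalar_apply, Matrix.smul_one_eq_diagonal]

/-- `L ≅ PSL_n(F^σ)` -/
noncomputable def rangeSlFixHomEquiv (hn : 2 ≤ n) :
    ↥(slFixHom n σ).range ≃* Matrix.ProjectiveSpecialLinearGroup (Fin n) (fixF σ) :=
  (QuotientGroup.quotientKerEquivRange (slFixHom n σ)).symm.trans
    (QuotientGroup.quotientMulEquivOfEq (ker_slFixHom σ hn))

/-- the order of `Inn ∩ C(φ_σ)` divides that of `SL_n(F^σ)` -/
theorem card_innCent_dvd [Fintype F] [Fintype (fixF σ)] (hn : 2 ≤ n) :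
    Nat.card ↥(innCent (pslOf (slField σ) :
      MulAut (Matrix.ProjectiveSpecialLinearGroup (Fin n) F)))
      ∣ Nat.card (Matrix.SpecialLinearGroup (Fin n) (fixF σ)) := by
  have h1 : innCent (pslOf (slField σ) : MulAut (Matrix.ProjectiveSpecialLinearGroup (Fin n) F))
      ≤ Cfsg.inndiagPSL n F ⊓ Subgroup.centralizer {(pslOf (slField σ) :
        MulAut (Matrix.ProjectiveSpecialLinearGroup (Fin n) F))} := by
    intro z hz
    exact Subgroup.mem_inf.2 ⟨Inn_le_inndiag (Subgroup.mem_inf.1 hz).1, (Subgroup.mem_inf.1 hz).2⟩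
  have h2 := Subgroup.card_dvd_of_le h1
  rw [Nat.card_congr (centralizerFieldEquiv σ hn).toEquiv, Cfsg.Agent.S0265.result] at h2
  exact h2

/-! ### vectors with entries in the fixed field -/

theorem slIncl_tv (a₀ φ₀ : Fin n → fixF σ) (h₀ : φ₀ ⬝ᵥ a₀ = 0) :
    slIncl σ (tv a₀ φ₀ h₀) = tv (fun i => (a₀ i : F)) (fun i => (φ₀ i : F)) (by
      have := congrArg (fixF σ).subtype h₀
      rw [map_zero] at this
      rw [← this]
      unfold dotProduct
      rw [map_sum]
      apply Finset.sum_congr rfl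
      intro i _
      rw [map_mul]
      rfl) := by
  apply Subtype.ext
  rw [slIncl_coe, tv_coe, tv_coe]
  ext i j
  rw [Matrix.map_apply, Matrix.add_apply, Matrix.add_apply, vecMulVec_apply, vecMulVec_apply,
    map_add, map_mul, Matrix.one_apply, Matrix.one_apply]
  congr 1
  split_ifs <;> simp

/-- a transvection with entries in the fixed field comes from `SL_n(F^σ)` -/
theorem exists_slIncl_eq_tv (a φ : Fin n → F) (hd : φ ⬝ᵥ a = 0) (ha : ∀ i, a i ∈ fixF σ)
    (hφ : ∀ i, φ i ∈ fixF σ) :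
    ∃ s₀ : Matrix.SpecialLinearGroup (Fin n) (fixF σ), slIncl σ s₀ = tv a φ hd := by
  have h₀ : (fun i => (⟨φ i, hφ i⟩ : fixF σ)) ⬝ᵥ (fun i => (⟨a i, ha i⟩ : fixF σ)) = 0 := by
    apply Subtype.ext
    have : ((fixF σ).subtype : fixF σ →+* F)
        ((fun i => (⟨φ i, hφ i⟩ : fixF σ)) ⬝ᵥ (fun i => (⟨a i, ha i⟩ : fixF σ))) = φ ⬝ᵥ a := by
      unfold dotProduct
      rw [map_sum]
      apply Finset.sum_congr rfl
      intro i _
      rw [map_mul]
      rfl
    show ((fixF σ).subtype : fixF σ →+* F) _ = _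
    rw [this, hd]
    rfl
  refine ⟨tv _ _ h₀, ?_⟩
  rw [slIncl_tv]

/-! ### rigidity -/

/-- an automorphism centralising `L` is a power of `φ_σ` -/
theorem mem_zpowers_of_centralizes [Fintype F] {p f : ℕ} [Fact p.Prime]
    (hF : Fintype.card F = p ^ f) (hf : 1 ≤ f) (hn : 2 ≤ n)
    (y : MulAut (Matrix.ProjectiveSpecialLinearGroup (Fin n) F))
    (hy : ∀ s₀ : Matrix.SpecialLinearGroup (Fin n) (fixF σ),
      y * slFixHom n σ s₀ = slFixHom n σ s₀ * y) :
    y ∈ Subgroup.zpowers (pslOf (slField σ) :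
      MulAut (Matrix.ProjectiveSpecialLinearGroup (Fin n) F)) := by
  have hZ := center_PSL_eq_bot (n := n) (F := F) hn
  have hfix : ∀ (a φ : Fin n → F) (hd : φ ⬝ᵥ a = 0), (∀ i, a i ∈ fixF σ) → (∀ i, φ i ∈ fixF σ) →
      y (prj (tv a φ hd)) = prj (tv a φ hd) := by
    intro a φ hd ha hφ
    obtain ⟨s₀, hs₀⟩ := exists_slIncl_eq_tv σ a φ hd ha hφ
    have h1 := hy s₀
    rw [slFixHom_apply, hs₀] at h1
    exact apply_eq_of_commute_conj hZ y _ h1
  obtain ⟨τ, ε, ⟨h, hyNF⟩, hε⟩ := exists_NF hF hf hn y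
  have h0mem : (0 : F) ∈ fixF σ := (fixF σ).zero_mem
  have h1mem : (1 : F) ∈ fixF σ := (fixF σ).one_mem
  have hsingle : ∀ (i : Fin n) (k : Fin n), (Pi.single i (1 : F) : Fin n → F) k ∈ fixF σ := by
    intro i k
    by_cases hk : k = i
    · subst hk; simpa using h1mem
    · simpa [Pi.single_apply, hk] using h0mem
  cases ε
  · -- no graph part
    rw [slT_false, mul_one] at hyNF
    obtain ⟨hτ, c, hc⟩ := weak_semilinear hn h τ (fixF σ : Set F) h0mem h1mem
      (fun x hx => (fixF σ).neg_mem hx) (by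
        intro a φ hd ha hφ
        rw [← hyNF]
        exact hfix a φ hd ha hφ)
    have h2 : slConj h = 1 := slConj_eq_one_of_mem_center (mem_center_of_scalar h c hc)
    rw [h2, one_mul] at hyNF
    have hτmem : τ ∈ Subgroup.zpowers σ := by
      apply mem_zpowers_of_fixF
      intro x hx
      exact hτ x ((mem_fixF σ).2 hx)
    rw [hyNF, ← fieldAutHom_apply, ← fieldAutHom_apply, ← MonoidHom.map_zpowers]
    exact ⟨τ, hτmem, rfl⟩
  · -- graph part: impossible
    exfalso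
    have hn3 : 3 ≤ n := by
      rcases Nat.lt_or_ge n 3 with h3 | h3
      · have : n = 2 := by omega
        exact absurd (hε this) (by simp)
      · exact h3
    rw [slT_true] at hyNF
    apply weak_invT hn3 h τ
    intro i j hij
    rw [← hyNF]
    exact hfix _ _ _ (hsingle i) (hsingle j)

end Cfsg.Agent.Helper45.LBL
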