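import Mathlib
import Cfsg.Agent.Helper45.LBLC
import Cfsg.Agent.S0242
import Cfsg.Agent.S0243

/-!
Helper45: local balance for `PSL_n(F)` (S2686), part D: a prime dividing `|SL_n(q)|` divides
`|PSL_n(q)|`.
-/

set_option autoImplicit false
set_option linter.unusedSectionVars false

namespace Cfsg.Agent.Helper45.LBL

open Matrix

/-- if `p ∣ q - 1` then `p (q - 1) ∣ q ^ p - 1` -/
theorem mul_dvd_pow_sub_one {p q : ℕ} (hq : 1 ≤ q) (hpq : p ∣ q - 1) :
    p * (q - 1) ∣ q ^ p - 1 := by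
  have h1 := geom_sum_mul_add (q - 1) p
  rw [Nat.sub_add_cancel hq] at h1
  have h2 : q ^ p - 1 = (∑ i ∈ Finset.range p, q ^ i) * (q - 1) := by omega
  rw [h2]
  apply Nat.mul_dvd_mul_right
  -- the geometric sum is `≡ p` modulo `p`
  have h3 : ∀ i : ℕ, q ^ i ≡ 1 [MOD p] := by
    intro i
    have h4 : q ≡ 1 [MOD p] := by
      have : 1 ≡ q [MOD p] := (Nat.modEq_iff_dvd' hq).2 hpq
      exact this.symm
    have := h4.pow i
    rwa [one_pow] at this
  have h5 : (∑ i ∈ Finset.range p, q ^ i) ≡ ∑ _i ∈ Finset.range p, 1 [MOD p] := by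
    have : ∀ s : Finset ℕ, (∑ i ∈ s, q ^ i) ≡ ∑ _i ∈ s, 1 [MOD p] := by
      intro s
      induction s using Finset.induction_on with
      | empty => rfl
      | insert a s ha ih =>
        rw [Finset.sum_insert ha, Finset.sum_insert ha]
        exact (h3 a).add ih
    exact this _
  rw [Finset.sum_const, Finset.card_range, smul_eq_mul, mul_one] at h5
  have h6 : (∑ i ∈ Finset.range p, q ^ i) ≡ 0 [MOD p] := h5.trans (Nat.modEq_zero_iff_dvd.2 dvd_rfl)
  exact Nat.modEq_zero_iff_dvd.1 h6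

/-- if `p ∣ gcd(n, q - 1)` then `p (q - 1)² ∣ ∏_{i<n} (qⁿ - q^i)` -/
theorem mul_sq_dvd_prod {p q n : ℕ} (hp : p.Prime) (hq : 1 ≤ q) (hpn : p ∣ n) (hn : 1 ≤ n)
    (hpq : p ∣ q - 1) :
    p * (q - 1) * (q - 1) ∣ ∏ i : Fin n, (q ^ n - q ^ (i : ℕ)) := by
  have hple : p ≤ n := Nat.le_of_dvd (by omega) hpn
  have hp2 := hp.two_le
  let i₁ : Fin n := ⟨n - 1, by omega⟩
  let i₂ : Fin n := ⟨n - p, by omega⟩
  have hne : i₂ ≠ i₁ := by
    intro h
    have := congrArg Fin.val h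
    simp only [i₁, i₂] at this
    omega
  have h1 : (q - 1) ∣ q ^ n - q ^ (i₁ : ℕ) := by
    show (q - 1) ∣ q ^ n - q ^ (n - 1)
    have : q ^ n - q ^ (n - 1) = q ^ (n - 1) * (q - 1) := by
      have hn' : n = (n - 1) + 1 := by omega
      conv_lhs => rw [hn', pow_succ]
      rw [Nat.add_sub_cancel, Nat.mul_sub, mul_one]
    rw [this]
    exact Dvd.intro_left _ rfl
  have h2 : p * (q - 1) ∣ q ^ n - q ^ (i₂ : ℕ) := by
    show p * (q - 1) ∣ q ^ n - q ^ (n - p)
    have : q ^ n - q ^ (n - p) = q ^ (n - p) * (q ^ p - 1) := by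
      have hn' : n = (n - p) + p := by omega
      conv_lhs => rw [hn', pow_add]
      rw [Nat.add_sub_cancel, Nat.mul_sub, mul_one]
    rw [this]
    exact Dvd.dvd.mul_left (mul_dvd_pow_sub_one hq hpq) _
  have h3 : (q ^ n - q ^ (i₂ : ℕ)) * (q ^ n - q ^ (i₁ : ℕ)) ∣
      ∏ i : Fin n, (q ^ n - q ^ (i : ℕ)) := by
    rw [← Finset.mul_prod_erase Finset.univ _ (Finset.mem_univ i₂),
      ← Finset.mul_prod_erase (Finset.univ.erase i₂) _
        (Finset.mem_erase.2 ⟨hne.symm, Finset.mem_univ i₁⟩), ← mul_assoc]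
    exact Dvd.intro _ rfl
  exact (Nat.mul_dvd_mul h2 h1).trans h3

variable {F₀ : Type*} [Field F₀] [Fintype F₀]

/-- a prime dividing `|SL_n(q)|` divides `|PSL_n(q)|` -/
theorem dvd_card_PSL {n : ℕ} (hn : 2 ≤ n) {p : ℕ} (hp : p.Prime)
    (hdvd : p ∣ Nat.card (Matrix.SpecialLinearGroup (Fin n) F₀)) :
    p ∣ Nat.card (Matrix.ProjectiveSpecialLinearGroup (Fin n) F₀) := by
  obtain ⟨q, hq⟩ : ∃ q, Fintype.card F₀ = q := ⟨_, rfl⟩
  have hq2 : 2 ≤ q := by rw [← hq]; exact Fintype.one_lt_card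
  have h242 := Cfsg.Agent.S0242.result hq n (by omega)
  have h243 := Cfsg.Agent.S0243.result hq n hn
  set S := Nat.card (Matrix.SpecialLinearGroup (Fin n) F₀) with hS
  set T := Nat.card (Matrix.ProjectiveSpecialLinearGroup (Fin n) F₀) with hT
  have hST : S = Nat.gcd n (q - 1) * T := by
    have h1 : (q - 1) * S = (q - 1) * (Nat.gcd n (q - 1) * T) := by
      rw [h242, ← h243]; ring
    exact Nat.eq_of_mul_eq_mul_left (by omega) h1
  rw [hST] at hdvd
  rcases (Nat.Prime.dvd_mul hp).1 hdvd with h | h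
  · -- `p ∣ gcd(n, q - 1)`
    have hpn : p ∣ n := h.trans (Nat.gcd_dvd_left _ _)
    have hpq : p ∣ q - 1 := h.trans (Nat.gcd_dvd_right _ _)
    have h1 := mul_sq_dvd_prod hp (by omega) hpn (by omega) hpq
    rw [← h243] at h1
    obtain ⟨e, he⟩ := Nat.gcd_dvd_right n (q - 1)
    set d := Nat.gcd n (q - 1) with hd
    have hd0 : 0 < d := Nat.gcd_pos_of_pos_left _ (by omega)
    -- `p (q-1)(q-1) ∣ d (q-1) T`, so `p e ∣ T`
    have h2 : (q - 1) * (d * (p * e)) ∣ (q - 1) * (d * T) := by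
      have : p * (q - 1) * (q - 1) = (q - 1) * (d * (p * e)) := by
        conv_lhs => rw [mul_assoc, mul_comm p, mul_assoc]
        congr 1
        conv_lhs => rw [he]
        ring
      rw [← this]
      have h3 : d * ((q - 1) * T) = (q - 1) * (d * T) := by ring
      rw [← h3]
      exact h1
    have h4 := Nat.dvd_of_mul_dvd_mul_left (by omega) h2
    have h5 := Nat.dvd_of_mul_dvd_mul_left hd0 h4
    exact (Dvd.intro _ rfl).trans h5
  · exact h

end Cfsg.Agent.Helper45.LBL
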