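import Mathlib
import Cfsg.Agent.Helper45.LBLD
import Cfsg.Agent.Helper5.PSL2Simple
import Cfsg.Agent.S0249

/-!
Helper45: local balance for `PSL_n(F)` (S2686), part E: `PSL_n(q)` has no nontrivial normal
`p'`-subgroup for a prime `p ≠ char` dividing its order (including the non-simple `PSL_2(2)`,
`PSL_2(3)`).
-/

set_option autoImplicit false
set_option linter.unusedSectionVars false

namespace Cfsg.Agent.Helper45.LBL

open Matrix Cfsg.Agent.Helper14.AutPSL

variable {F₀ : Type*} [Field F₀]

theorem tv_pow {ι : Type*} [Fintype ι] [DecidableEq ι] (a φ : ι → F₀) (h : φ ⬝ᵥ a = 0) (k : ℕ) :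
    tv a φ h ^ k = tv a ((k : F₀) • φ) (by rw [smul_dotProduct, h, smul_zero]) := by
  induction k with
  | zero =>
    rw [pow_zero]
    symm
    rw [tv_eq_one_iff]
    right
    simp
  | succ k ih =>
    rw [pow_succ, ih, tv_mul_center]
    apply tv_congr _ rfl
    rw [Nat.cast_succ, add_smul, one_smul]

theorem tv_pow_card {ι : Type*} [Fintype ι] [DecidableEq ι] [Fintype F₀] (a φ : ι → F₀)
    (h : φ ⬝ᵥ a = 0) : tv a φ h ^ (Fintype.card F₀) = 1 := by
  rw [tv_pow, tv_eq_one_iff]
  right
  rw [Nat.cast_card_eq_zero, zero_smul]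

/-- the two elementary transvections of `SL_2` do not commute modulo the centre -/
theorem not_commute_prj_tv :
    prj (tv (Pi.single (0 : Fin 2) (1 : F₀)) (Pi.single (1 : Fin 2) (1 : F₀))
        (single_dot_single (by decide))) *
      prj (tv (Pi.single (1 : Fin 2) (1 : F₀)) (Pi.single (0 : Fin 2) (1 : F₀))
        (single_dot_single (by decide))) ≠
    prj (tv (Pi.single (1 : Fin 2) (1 : F₀)) (Pi.single (0 : Fin 2) (1 : F₀))
        (single_dot_single (by decide))) *
      prj (tv (Pi.single (0 : Fin 2) (1 : F₀)) (Pi.single (1 : Fin 2) (1 : F₀))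
        (single_dot_single (by decide))) := by
  intro h
  rw [← map_mul, ← map_mul] at h
  have h' := (QuotientGroup.eq (s := Subgroup.center (Matrix.SpecialLinearGroup (Fin 2) F₀))).1 h
  obtain ⟨r, -, hr⟩ := Matrix.SpecialLinearGroup.mem_center_iff.mp h'
  set t := tv (Pi.single (0 : Fin 2) (1 : F₀)) (Pi.single (1 : Fin 2) (1 : F₀))
    (single_dot_single (by decide)) with ht
  set t' := tv (Pi.single (1 : Fin 2) (1 : F₀)) (Pi.single (0 : Fin 2) (1 : F₀))
    (single_dot_single (by decide)) with ht'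
  have h1 : (t' * t).1 = (t * t').1 * Matrix.scalar (Fin 2) r := by
    rw [hr, ← Matrix.SpecialLinearGroup.coe_mul, mul_inv_cancel_left]
  have e01 := congrFun (congrFun h1 0) 1
  have e00 := congrFun (congrFun h1 0) 0
  simp only [Matrix.SpecialLinearGroup.coe_mul, ht, ht', tv_coe, Matrix.scalar_apply,
    Matrix.mul_apply, Fin.sum_univ_two, Matrix.add_apply, Matrix.one_apply, vecMulVec_apply,
    Matrix.diagonal_apply, Pi.single_apply] at e01 e00
  norm_num at e01 e00
  rw [← e01] at e00
  norm_num at e00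
  have h0 : (1 : F₀) = 0 := by linear_combination (-1 : F₀) * e00
  exact one_ne_zero h0

variable [Fintype F₀]

/-- `PSL_2(2)` and `PSL_2(3)` have no nontrivial normal `p'`-subgroup, `p ≠ char` dividing the
order -/
theorem noNC_psl2_small (hcard : Fintype.card F₀ ≤ 3) {p : ℕ} (hp : p.Prime)
    (hpc : ¬ p ∣ Fintype.card F₀)
    (hdvd : p ∣ Nat.card (Matrix.ProjectiveSpecialLinearGroup (Fin 2) F₀)) :
    NoNC p (Matrix.ProjectiveSpecialLinearGroup (Fin 2) F₀) := by
  obtain ⟨q, hq⟩ : ∃ q, Fintype.card F₀ = q := ⟨_, rfl⟩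
  have hq2 : 2 ≤ q := by rw [← hq]; exact Fintype.one_lt_card
  have h243 := Cfsg.Agent.S0243.result hq 2 (le_refl 2)
  rw [Fin.prod_univ_two] at h243
  simp only [Fin.val_zero, Fin.val_one, pow_zero, pow_one] at h243
  rw [hq] at hcard hpc
  set T := Nat.card (Matrix.ProjectiveSpecialLinearGroup (Fin 2) F₀) with hT
  -- `T = q * k` with `k` a power of `p`
  obtain ⟨k, hk, hTk⟩ : ∃ k : ℕ, (∃ j, k = p ^ j) ∧ T = q * k := by
    have hq23 : q = 2 ∨ q = 3 := by omega
    rcases hq23 with rfl | rfl
    · have hT6 : T = 6 := by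
        norm_num at h243
        omega
      have hp3 : p = 3 := by
        rw [hT6] at hdvd
        have : p ∣ 2 * 3 := hdvd
        rcases (Nat.Prime.dvd_mul hp).1 this with h | h
        · exact absurd h hpc
        · exact (Nat.prime_dvd_prime_iff_eq hp Nat.prime_three).1 h
      exact ⟨3, ⟨1, by rw [hp3, pow_one]⟩, by rw [hT6]⟩
    · have hT12 : T = 12 := by
        norm_num at h243
        omega
      have hp2 : p = 2 := by
        rw [hT12] at hdvd
        have : p ∣ 3 * (2 * 2) := hdvd
        rcases (Nat.Prime.dvd_mul hp).1 this with h | h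
        · exact absurd h hpc
        · rcases (Nat.Prime.dvd_mul hp).1 h with h | h <;>
            exact (Nat.prime_dvd_prime_iff_eq hp Nat.prime_two).1 h
      exact ⟨4, ⟨2, by rw [hp2]; norm_num⟩, by rw [hT12]⟩
  obtain ⟨j, hj⟩ := hk
  have hqprime : q.Prime := by
    have hq23 : q = 2 ∨ q = 3 := by omega
    rcases hq23 with rfl | rfl
    · exact Nat.prime_two
    · exact Nat.prime_three
  have hqk : q.Coprime k := by
    rw [hj]
    apply Nat.Coprime.pow_right
    exact (Nat.coprime_primes hqprime hp).2 (fun h => hpc (by rw [h]))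
  intro M hMn hMc
  have hMT : Nat.card ↥M ∣ q * k := by
    rw [← hTk]
    exact Subgroup.card_subgroup_dvd_card M
  have hMk : (Nat.card ↥M).Coprime k := by
    rw [hj]
    exact Nat.Coprime.pow_right _ hMc
  have hMq : Nat.card ↥M ∣ q := Nat.Coprime.dvd_of_dvd_mul_right hMk hMT
  rcases (Nat.dvd_prime hqprime).1 hMq with h1 | h1
  · exact Subgroup.card_eq_one.1 h1
  · exfalso
    have hidx : M.index = k := by
      have := Subgroup.card_mul_index M
      rw [h1, ← hT, hTk] at this
      exact Nat.eq_of_mul_eq_mul_left (by omega) this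
    have hcop : (M.index).Coprime q := by rw [hidx]; exact hqk.symm
    have hu := mem_of_pow_eq_one_of_coprime M hcop
      (x := prj (tv (Pi.single (0 : Fin 2) (1 : F₀)) (Pi.single (1 : Fin 2) (1 : F₀))
        (single_dot_single (by decide))))
      (by rw [← map_pow, ← hq, tv_pow_card, map_one])
    have hu' := mem_of_pow_eq_one_of_coprime M hcop
      (x := prj (tv (Pi.single (1 : Fin 2) (1 : F₀)) (Pi.single (0 : Fin 2) (1 : F₀))
        (single_dot_single (by decide))))
      (by rw [← map_pow, ← hq, tv_pow_card, map_one])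
    haveI : Fact q.Prime := ⟨hqprime⟩
    haveI : IsCyclic ↥M := isCyclic_of_prime_card h1
    have hcomm := (IsCyclic.commutative (α := ↥M)).is_comm.comm ⟨_, hu⟩ ⟨_, hu'⟩
    exact not_commute_prj_tv (congrArg Subtype.val hcomm)

/-- `PSL_n(q)` has no nontrivial normal `p'`-subgroup for a prime `p ≠ char` dividing
`|SL_n(q)|` -/
theorem noNC_PSL {n : ℕ} (hn : 2 ≤ n) {p : ℕ} (hp : p.Prime)
    (hpc : ¬ p ∣ Fintype.card F₀)
    (hdvd : p ∣ Nat.card (Matrix.SpecialLinearGroup (Fin n) F₀)) :
    NoNC p (Matrix.ProjectiveSpecialLinearGroup (Fin n) F₀) := by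
  have hdvd' := dvd_card_PSL hn hp hdvd
  by_cases hn3 : 3 ≤ n
  · exact NoNC.of_simple hp.ne_one (Cfsg.Agent.S0249.result n hn3) hdvd'
  · have hn2 : n = 2 := by omega
    subst hn2
    by_cases h4 : 4 ≤ Fintype.card F₀
    · exact NoNC.of_simple hp.ne_one (Cfsg.Agent.Helper5.isSimpleGroup_PSL2_of_card h4) hdvd'
    · exact noNC_psl2_small (by omega) hp hpc hdvd'

end Cfsg.Agent.Helper45.LBL
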