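import Mathlib
import Cfsg.Agent.Helper45.LBLE
import Cfsg.Agent.Helper37.LangI

/-!
Helper45: local balance for `PSL_n(F)` (S2686), part F: the field-type case.
-/

set_option autoImplicit false
set_option linter.unusedSectionVars false

namespace Cfsg.Agent.Helper45.LBL

open Matrix Cfsg.Agent.Helper14.AutPSL Cfsg.Agent.Helper37.OutPsl Cfsg.Agent.Helper37.Bal
  Cfsg.Agent.Helper37.Lang

variable {n : ℕ} {F : Type*} [Field F]

theorem NF.pow' {β : MulAut (Matrix.ProjectiveSpecialLinearGroup (Fin n) F)} {σ : F ≃+* F}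
    (h : NF β σ false) (k : ℕ) : NF (β ^ k) (σ ^ k) false := by
  induction k with
  | zero =>
    rw [pow_zero, pow_zero]
    have := NF.of_conj (n := n) (F := F) 1
    rwa [slConj_one, map_one] at this
  | succ k ih =>
    rw [pow_succ, pow_succ]
    have := NF.mul ih h
    rwa [Bool.xor_self] at this

theorem NF.one_one : NF (n := n) (F := F) 1 1 false := by
  have := NF.of_conj (n := n) (F := F) 1
  rwa [slConj_one, map_one] at this

/-- a power of the standard field automorphism which is inner is trivial -/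
theorem eq_one_of_mem_zpowers_of_mem_Inn (hn : 2 ≤ n) (σ : F ≃+* F)
    {x : MulAut (Matrix.ProjectiveSpecialLinearGroup (Fin n) F)}
    (hx : x ∈ Subgroup.zpowers (pslOf (slField σ) :
      MulAut (Matrix.ProjectiveSpecialLinearGroup (Fin n) F)))
    (hx' : x ∈ Cfsg.Inn (Matrix.ProjectiveSpecialLinearGroup (Fin n) F)) : x = 1 := by
  obtain ⟨k, rfl⟩ := Subgroup.mem_zpowers_iff.1 hx
  obtain ⟨s, hs⟩ := mem_Inn.1 hx'
  have h1 : (pslOf (slField σ) : MulAut (Matrix.ProjectiveSpecialLinearGroup (Fin n) F)) ^ k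
      = pslOf (slField (σ ^ k)) := by
    rw [← fieldAutHom_apply, ← fieldAutHom_apply, map_zpow]
  have h2 : NF ((pslOf (slField σ) : MulAut (Matrix.ProjectiveSpecialLinearGroup (Fin n) F)) ^ k)
      (σ ^ k) false := by
    rw [h1]
    have := NF.of_field (n := n) (σ ^ k) false
    rwa [slT_false, mul_one] at this
  have h3 : NF ((pslOf (slField σ) : MulAut (Matrix.ProjectiveSpecialLinearGroup (Fin n) F)) ^ k)
      1 false := by
    rw [hs]
    exact NF.of_conj _
  have h4 := NF.unique_false hn h2 h3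
  rw [h1, h4, slField_one, map_one]

section finite

variable [Fintype F] {r f : ℕ} [Fact r.Prime]

/-- `Inn ∩ C(φ_σ)` has no nontrivial normal `p'`-subgroup when `p` divides its order -/
theorem noNC_innCent (hF : Fintype.card F = r ^ f) (hf : 1 ≤ f) (hn : 2 ≤ n) (σ : F ≃+* F)
    {p : ℕ} (hp : p.Prime) (hpr : p ≠ r)
    (hdvd : p ∣ Nat.card ↥(innCent (pslOf (slField σ) :
      MulAut (Matrix.ProjectiveSpecialLinearGroup (Fin n) F)))) :
    NoNC p ↥(innCent (pslOf (slField σ) :
      MulAut (Matrix.ProjectiveSpecialLinearGroup (Fin n) F))) := by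
  haveI : Fintype (fixF σ) := Fintype.ofFinite _
  have hle := range_slFixHom_le (n := n) σ hn
  -- `p` does not divide `|F^σ|`
  have hpc : ¬ p ∣ Fintype.card (fixF σ) := by
    intro h
    have h1 := card_fixF_pow σ
    have h2 : p ∣ Fintype.card F := by
      rw [h1]
      exact h.trans (dvd_pow_self _ (orderOf_pos σ).ne')
    rw [hF] at h2
    have h3 := (Nat.Prime.dvd_of_dvd_pow hp h2)
    exact hpr ((Nat.prime_dvd_prime_iff_eq hp (Fact.out : r.Prime)).1 h3)
  have hSL : p ∣ Nat.card (Matrix.SpecialLinearGroup (Fin n) (fixF σ)) :=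
    hdvd.trans (card_innCent_dvd σ hn)
  have hPSL := noNC_PSL (F₀ := fixF σ) hn hp hpc hSL
  haveI hLn : ((slFixHom n σ).range.subgroupOf (innCent (pslOf (slField σ) :
      MulAut (Matrix.ProjectiveSpecialLinearGroup (Fin n) F)))).Normal := by
    constructor
    intro z hz c
    rw [Subgroup.mem_subgroupOf] at hz ⊢
    exact conj_mem_range_slFixHom σ hn c.2 hz
  apply NoNC.of_normal ((slFixHom n σ).range.subgroupOf (innCent (pslOf (slField σ) :
      MulAut (Matrix.ProjectiveSpecialLinearGroup (Fin n) F))))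
  · exact NoNC.of_mulEquiv
      ((Subgroup.subgroupOfEquivOfLe hle).trans (rangeSlFixHomEquiv σ hn)).symm hPSL
  · intro x hx
    apply Subtype.ext
    rw [Subgroup.coe_one]
    apply eq_one_of_mem_zpowers_of_mem_Inn hn σ _ (Subgroup.mem_inf.1 x.2).1
    apply mem_zpowers_of_centralizes σ hF hf hn
    intro s₀
    have h1 := hx ⟨slFixHom n σ s₀, slFixHom_mem_innCent σ hn s₀⟩
      (Subgroup.mem_subgroupOf.2 ⟨s₀, rfl⟩)
    exact congrArg Subtype.val h1

omit [Fintype F] in
/-- `Inn ∩ C(φ_σ)` is nontrivial -/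
theorem innCent_ne_bot (hn : 2 ≤ n) (σ : F ≃+* F) :
    innCent (pslOf (slField σ) : MulAut (Matrix.ProjectiveSpecialLinearGroup (Fin n) F)) ≠ ⊥ := by
  haveI : Nonempty (Fin n) := ⟨⟨0, by omega⟩⟩
  have h01 : (⟨0, by omega⟩ : Fin n) ≠ ⟨1, by omega⟩ := by
    intro h; have := congrArg Fin.val h; simp at this
  set t := tv (Pi.single (⟨0, by omega⟩ : Fin n) (1 : F)) (Pi.single (⟨1, by omega⟩ : Fin n) (1 : F))
    (single_dot_single h01) with ht
  have hfix : (pslOf (slField σ) : MulAut (Matrix.ProjectiveSpecialLinearGroup (Fin n) F)) (prj t)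
      = prj t := by
    rw [pslOf_prj, ht, slField_tv]
    congr 1
    exact tv_congr _ (map_single_one σ _) (map_single_one σ _)
  have hmem : MulAut.conj (prj t) ∈ innCent (pslOf (slField σ) :
      MulAut (Matrix.ProjectiveSpecialLinearGroup (Fin n) F)) := by
    refine Subgroup.mem_inf.2 ⟨⟨_, rfl⟩, ?_⟩
    rw [Subgroup.mem_centralizer_singleton_iff]
    exact (commute_conj_of_apply_eq _ _ hfix).symm
  intro hbot
  rw [hbot, Subgroup.mem_bot] at hmem
  have h1 : prj t ∈ Subgroup.center (Matrix.ProjectiveSpecialLinearGroup (Fin n) F) := by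
    rw [Subgroup.mem_center_iff]
    intro y
    have := congrArg (fun ψ : MulAut (Matrix.ProjectiveSpecialLinearGroup (Fin n) F) => ψ y) hmem
    simp only [MulAut.conj_apply, MulAut.one_apply] at this
    calc y * prj t = (prj t * y * (prj t)⁻¹) * prj t := by rw [this]
      _ = prj t * y := by group
  rw [center_PSL_eq_bot hn, Subgroup.mem_bot] at h1
  have h2 : prj t = prj (1 : Matrix.SpecialLinearGroup (Fin n) F) := by rw [h1, map_one]
  have h3 := IsTq.eq_of_mk_eq ⟨_, _, _, rfl⟩ isTq_one h2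
  rw [tv_eq_one_iff] at h3
  rcases h3 with h3 | h3
  · exact single_ne_zero_one _ h3
  · exact single_ne_zero_one _ h3

/-- the local-balance criterion for a field-type automorphism of prime order -/
theorem main_field (hF : Fintype.card F = r ^ f) (hf : 1 ≤ f) (hn : 2 ≤ n)
    (A : Subgroup (MulAut (Matrix.ProjectiveSpecialLinearGroup (Fin n) F)))
    (hinn : ∀ k : Matrix.ProjectiveSpecialLinearGroup (Fin n) F, MulAut.conj k ∈ A)
    {p : ℕ} [hp : Fact p.Prime] (hpr : p ≠ r)
    (β : MulAut (Matrix.ProjectiveSpecialLinearGroup (Fin n) F)) (hord : orderOf β = p)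
    (σ : F ≃+* F) (hβ : NF β σ false) (hσ1 : σ ≠ 1) :
    Cfsg.pPrimeCore p ↥(A ⊓ Subgroup.centralizer {β}) ≠ ⊥ ↔
      Nat.Coprime p (Nat.card ↥(MonoidHom.eqLocus β.toMonoidHom
        (MonoidHom.id (Matrix.ProjectiveSpecialLinearGroup (Fin n) F)))) := by
  have hZ := center_PSL_eq_bot (n := n) (F := F) hn
  -- the order of `σ`
  have hσp : σ ^ p = 1 := by
    have h1 := NF.pow' hβ p
    have h2 : β ^ p = 1 := by rw [← hord, pow_orderOf_eq_one]
    rw [h2] at h1
    exact (NF.unique_false hn NF.one_one h1).symm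
  have hσ : orderOf σ = p := orderOf_eq_prime hσp hσ1
  obtain ⟨g, hg⟩ := hβ
  rw [slT_false, mul_one] at hg
  have hpow : (pslOf (slConj g * slField σ) :
      MulAut (Matrix.ProjectiveSpecialLinearGroup (Fin n) F)) ^ p = 1 := by
    rw [← hg, ← hord, pow_orderOf_eq_one]
  obtain ⟨h, hh⟩ := field_case hn σ hp.out.pos hσ g hpow
  rw [← hg] at hh
  set φ : MulAut (Matrix.ProjectiveSpecialLinearGroup (Fin n) F) := pslOf (slField σ) with hφ
  have hφp : orderOf φ = p := by rw [hφ, orderOf_fieldAut hn, hσ]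
  have hconj : (pslOf (slConj h))⁻¹ * β * (pslOf (slConj h))⁻¹⁻¹ = φ := by
    rw [hh]
    group
  have hcard : Nat.card ↥(MonoidHom.eqLocus β.toMonoidHom
      (MonoidHom.id (Matrix.ProjectiveSpecialLinearGroup (Fin n) F)))
      = Nat.card ↥(innCent φ) := by
    rw [card_eqLocus_eq hZ β, ← hconj, card_innCent_conj]
  rw [pPrimeCore_ne_bot_conj_iff A β (pslOf (slConj h))⁻¹, hconj, hcard]
  have hinn' := conj_mem_map_conj A hinn (pslOf (slConj h))⁻¹
  constructor
  · intro hcore
    by_contra hnc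
    have hdvd : p ∣ Nat.card ↥(innCent φ) := by
      by_contra hnd'
      exact hnc ((Nat.Prime.coprime_iff_not_dvd hp.out).2 hnd')
    apply hcore
    apply pPrimeCore_eq_bot_of _ hinn' _ hφp
    · intro y _ hy2
      apply mem_zpowers_of_centralizes σ hF hf hn
      intro s₀
      exact hy2 _ (slFixHom_mem_innCent σ hn s₀)
    · exact noNC_innCent hF hf hn σ hp.out hpr hdvd
  · intro hcop
    apply pPrimeCore_ne_bot_of_coprime _ hinn'
    · exact innCent_ne_bot hn σ
    · exact hcop.symm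

end finite

end Cfsg.Agent.Helper45.LBL
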