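import Mathlib
import Cfsg.Agent.Helper45.LBLF

/-!
Helper45: local balance for `PSL_n(F)` (S2686), part G: the abstract assembly for an involutory
automorphism `β` of graph type: a subgroup `Om ≤ SL_n(F)` fixed by `β`, normalised by the
centraliser, rigid, and whose image has no nontrivial normal subgroup of odd order.
-/

set_option autoImplicit false
set_option linter.unusedSectionVars false

namespace Cfsg.Agent.Helper45.LBL

open Matrix Cfsg.Agent.Helper14.AutPSL Cfsg.Agent.Helper37.OutPsl Cfsg.Agent.Helper37.Bal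

variable {n : ℕ} {F : Type*} [Field F]

/-- `SL_n(F) → Inn(PSL_n(F))` -/
def innHom (n : ℕ) (F : Type*) [Field F] : Matrix.SpecialLinearGroup (Fin n) F →*
    MulAut (Matrix.ProjectiveSpecialLinearGroup (Fin n) F) :=
  (MulAut.conj).comp prj

theorem innHom_apply (s : Matrix.SpecialLinearGroup (Fin n) F) :
    innHom n F s = MulAut.conj (prj s) := rfl

theorem pPrimeCore_eq_bot_of_rigid [Finite F] (hn : 2 ≤ n) {p : ℕ} [Fact p.Prime]
    (A : Subgroup (MulAut (Matrix.ProjectiveSpecialLinearGroup (Fin n) F)))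
    (hinn : ∀ k : Matrix.ProjectiveSpecialLinearGroup (Fin n) F, MulAut.conj k ∈ A)
    (β : MulAut (Matrix.ProjectiveSpecialLinearGroup (Fin n) F)) (hord : orderOf β = p)
    (Om : Subgroup (Matrix.SpecialLinearGroup (Fin n) F))
    (H1 : ∀ x ∈ Om, β (prj x) = prj x)
    (H2 : ∀ s : Matrix.SpecialLinearGroup (Fin n) F, β (prj s) = prj s →
      ∀ x ∈ Om, s * x * s⁻¹ ∈ Om)
    (HR : ∀ y : MulAut (Matrix.ProjectiveSpecialLinearGroup (Fin n) F),
      (∀ x ∈ Om, y (prj x) = prj x) → y ∈ Subgroup.zpowers β)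
    (hβinn : ∀ y ∈ Subgroup.zpowers β,
      y ∈ Cfsg.Inn (Matrix.ProjectiveSpecialLinearGroup (Fin n) F) → y = 1)
    (H4 : NoNC p ↥(Om.map (innHom n F))) :
    Cfsg.pPrimeCore p ↥(A ⊓ Subgroup.centralizer {β}) = ⊥ := by
  have hZ := center_PSL_eq_bot (n := n) (F := F) hn
  have hle : Om.map (innHom n F) ≤ innCent β := by
    rintro _ ⟨x, hx, rfl⟩
    refine Subgroup.mem_inf.2 ⟨⟨_, rfl⟩, ?_⟩
    rw [Subgroup.mem_centralizer_singleton_iff, innHom_apply]
    exact (commute_conj_of_apply_eq _ _ (H1 x hx)).symm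
  have hfix : ∀ y : MulAut (Matrix.ProjectiveSpecialLinearGroup (Fin n) F),
      (∀ z ∈ Om.map (innHom n F), y * z = z * y) → y ∈ Subgroup.zpowers β := by
    intro y hy
    apply HR
    intro x hx
    exact apply_eq_of_commute_conj hZ y _ (hy _ ⟨x, hx, rfl⟩)
  apply pPrimeCore_eq_bot_of A hinn β hord
  · intro y _ hy2
    exact hfix y (fun z hz => hy2 z (hle hz))
  · haveI hLn : ((Om.map (innHom n F)).subgroupOf (innCent β)).Normal := by
      constructor
      intro z hz c
      rw [Subgroup.mem_subgroupOf] at hz ⊢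
      obtain ⟨x, hx, hxz⟩ := hz
      obtain ⟨⟨k, hk⟩, hc2⟩ := Subgroup.mem_inf.1 c.2
      obtain ⟨s, rfl⟩ := prj_surjective k
      have hs : β (prj s) = prj s := by
        apply apply_eq_of_commute_conj hZ
        rw [Subgroup.mem_centralizer_singleton_iff] at hc2
        have : (MulAut.conj (prj s) : MulAut (Matrix.ProjectiveSpecialLinearGroup (Fin n) F))
            = c.1 := hk
        rw [this]
        exact hc2.symm
      refine ⟨s * x * s⁻¹, H2 s hs x hx, ?_⟩
      rw [map_mul, map_mul, map_inv, hxz]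
      have : innHom n F s = c.1 := hk
      rw [this]
      rfl
    apply NoNC.of_normal ((Om.map (innHom n F)).subgroupOf (innCent β))
    · exact NoNC.of_mulEquiv (Subgroup.subgroupOfEquivOfLe hle).symm H4
    · intro x hx
      apply Subtype.ext
      rw [Subgroup.coe_one]
      apply hβinn _ _ (Subgroup.mem_inf.1 x.2).1
      apply hfix
      intro z hz
      have h1 := hx ⟨z, hle hz⟩ (Subgroup.mem_subgroupOf.2 hz)
      exact congrArg Subtype.val h1

end Cfsg.Agent.Helper45.LBL
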