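import Mathlib
import Cfsg.Agent.Helper45.LBLG

/-!
Helper45: local balance for `PSL_n(F)` (S2686), part H: the `σ`-Hermitian form `B(x,y) = σ(y)ᵀ G x`
(`σ² = 1`, possibly `σ = 1`, `σ(G)ᵀ = G`) attached to the automorphism
`conj(G⁻¹) ∘ σ ∘ (inverse transpose)`, and its Eichler elements.
-/

set_option autoImplicit false
set_option linter.unusedSectionVars false

namespace Cfsg.Agent.Helper45.LBL

open Matrix Cfsg.Agent.Helper14.AutPSL

variable {n : ℕ} {F : Type*} [Field F]

/-- entrywise field automorphism on vectors -/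
def vσ (σ : F ≃+* F) (v : Fin n → F) : Fin n → F := fun i => σ (v i)

theorem vσ_add (σ : F ≃+* F) (v w : Fin n → F) : vσ σ (v + w) = vσ σ v + vσ σ w := by
  funext i; simp [vσ]

theorem vσ_smul (σ : F ≃+* F) (c : F) (v : Fin n → F) : vσ σ (c • v) = σ c • vσ σ v := by
  funext i; simp [vσ]

theorem vσ_neg (σ : F ≃+* F) (v : Fin n → F) : vσ σ (-v) = -vσ σ v := by
  funext i; simp [vσ]

theorem vσ_zero (σ : F ≃+* F) : vσ σ (0 : Fin n → F) = 0 := by
  funext i; simp [vσ]

theorem vσ_dot (σ : F ≃+* F) (v w : Fin n → F) : vσ σ v ⬝ᵥ vσ σ w = σ (v ⬝ᵥ w) :=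
  map_dotProduct σ v w

theorem vσ_mulVec (σ : F ≃+* F) (M : Matrix (Fin n) (Fin n) F) (v : Fin n → F) :
    vσ σ (M *ᵥ v) = M.map σ *ᵥ vσ σ v := by
  funext i
  simp only [vσ, Matrix.mulVec, dotProduct, map_sum, map_mul, Matrix.map_apply]

theorem vσ_vecMul (σ : F ≃+* F) (M : Matrix (Fin n) (Fin n) F) (v : Fin n → F) :
    vσ σ (v ᵥ* M) = vσ σ v ᵥ* M.map σ := by
  funext i
  simp only [vσ, Matrix.vecMul, dotProduct, map_sum, map_mul, Matrix.map_apply]

/-- `σ` is an involution (possibly trivial) and `G` is `σ`-Hermitian -/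
structure HermData (σ : F ≃+* F) (G : GL (Fin n) F) : Prop where
  inv : ∀ a : F, σ (σ a) = a
  herm : ((G : Matrix (Fin n) (Fin n) F).map σ)ᵀ = (G : Matrix (Fin n) (Fin n) F)

/-- the form `B(x, y) = σ(y)ᵀ G x` -/
def hB (σ : F ≃+* F) (G : GL (Fin n) F) (x y : Fin n → F) : F :=
  vσ σ y ⬝ᵥ ((G : Matrix (Fin n) (Fin n) F) *ᵥ x)

/-- the covector of `x ↦ B(x, w)` -/
def hφ (σ : F ≃+* F) (G : GL (Fin n) F) (w : Fin n → F) : Fin n → F :=
  vσ σ w ᵥ* (G : Matrix (Fin n) (Fin n) F)

section form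

variable (σ : F ≃+* F) (G : GL (Fin n) F)

theorem hφ_dot (w x : Fin n → F) : hφ σ G w ⬝ᵥ x = hB σ G x w := by
  unfold hφ hB
  rw [Matrix.dotProduct_mulVec]

theorem hφ_add (w w' : Fin n → F) : hφ σ G (w + w') = hφ σ G w + hφ σ G w' := by
  unfold hφ
  rw [vσ_add, Matrix.add_vecMul]

theorem hφ_smul (c : F) (w : Fin n → F) : hφ σ G (c • w) = σ c • hφ σ G w := by
  unfold hφ
  rw [vσ_smul, Matrix.smul_vecMul]

theorem hB_add_left (x x' y : Fin n → F) : hB σ G (x + x') y = hB σ G x y + hB σ G x' y := by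
  unfold hB
  rw [Matrix.mulVec_add, dotProduct_add]

theorem hB_smul_left (c : F) (x y : Fin n → F) : hB σ G (c • x) y = c * hB σ G x y := by
  unfold hB
  rw [Matrix.mulVec_smul, dotProduct_smul, smul_eq_mul]

theorem hB_add_right (x y y' : Fin n → F) : hB σ G x (y + y') = hB σ G x y + hB σ G x y' := by
  unfold hB
  rw [vσ_add, add_dotProduct]

theorem hB_smul_right (c : F) (x y : Fin n → F) : hB σ G x (c • y) = σ c * hB σ G x y := by
  unfold hB
  rw [vσ_smul, smul_dotProduct, smul_eq_mul]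

theorem hB_neg_left (x y : Fin n → F) : hB σ G (-x) y = -hB σ G x y := by
  have := hB_smul_left σ G (-1) x y
  rwa [neg_one_smul, neg_one_mul] at this

theorem hB_neg_right (x y : Fin n → F) : hB σ G x (-y) = -hB σ G x y := by
  have := hB_smul_right σ G (-1) x y
  rwa [neg_one_smul, map_neg, map_one, neg_one_mul] at this

theorem hB_sub_left (x x' y : Fin n → F) : hB σ G (x - x') y = hB σ G x y - hB σ G x' y := by
  rw [sub_eq_add_neg, hB_add_left, hB_neg_left, ← sub_eq_add_neg]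

theorem hB_sub_right (x y y' : Fin n → F) : hB σ G x (y - y') = hB σ G x y - hB σ G x y' := by
  rw [sub_eq_add_neg, hB_add_right, hB_neg_right, ← sub_eq_add_neg]

theorem hB_zero_left (y : Fin n → F) : hB σ G 0 y = 0 := by
  unfold hB
  rw [Matrix.mulVec_zero, dotProduct_zero]

theorem hB_zero_right (x : Fin n → F) : hB σ G x 0 = 0 := by
  unfold hB
  rw [vσ_zero, zero_dotProduct]

variable {σ G} (hD : HermData σ G)

include hD

theorem hB_herm (x y : Fin n → F) : hB σ G y x = σ (hB σ G x y) := by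
  unfold hB
  rw [← vσ_dot, vσ_mulVec]
  have h1 : vσ σ (vσ σ y) = y := by
    funext i
    exact hD.inv _
  have h2 : (G : Matrix (Fin n) (Fin n) F).map σ = (G : Matrix (Fin n) (Fin n) F)ᵀ := by
    have := congrArg Matrix.transpose hD.herm
    rwa [Matrix.transpose_transpose] at this
  rw [h1, h2, Matrix.mulVec_transpose, dotProduct_comm y, ← Matrix.dotProduct_mulVec]

theorem hB_self_fixed (x : Fin n → F) : σ (hB σ G x x) = hB σ G x x := (hB_herm hD x x).symm

theorem hB_eq_zero_symm {x y : Fin n → F} (h : hB σ G x y = 0) : hB σ G y x = 0 := by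
  rw [hB_herm hD, h, map_zero]

omit hD in
/-- nondegeneracy -/
theorem eq_zero_of_hB_right {x : Fin n → F} (h : ∀ y, hB σ G x y = 0) : x = 0 := by
  have h1 : (G : Matrix (Fin n) (Fin n) F) *ᵥ x = 0 := by
    funext i
    have := h (Pi.single i 1)
    unfold hB at this
    have h2 : vσ σ (Pi.single i (1 : F) : Fin n → F) = Pi.single i 1 := by
      funext k
      by_cases hk : k = i
      · subst hk; simp [vσ]
      · simp [vσ, hk]
    rw [h2, single_dotProduct, one_mul] at this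
    exact this
  have := congrArg (fun v => ((G⁻¹ : GL (Fin n) F) : Matrix (Fin n) (Fin n) F) *ᵥ v) h1
  simp only [Matrix.mulVec_mulVec, gl_inv_mul, Matrix.one_mulVec, Matrix.mulVec_zero] at this
  exact this

omit hD in
theorem exists_hB_ne_zero {x : Fin n → F} (hx : x ≠ 0) : ∃ y, hB σ G x y ≠ 0 := by
  by_contra hcon
  push Not at hcon
  exact hx (eq_zero_of_hB_right hcon)

theorem hφ_ne_zero {u : Fin n → F} (hu : u ≠ 0) : hφ σ G u ≠ 0 := by
  intro h0
  obtain ⟨y, hy⟩ := exists_hB_ne_zero hu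
  apply hy
  rw [hB_herm hD, ← hφ_dot, h0, zero_dotProduct, map_zero]

end form

end Cfsg.Agent.Helper45.LBL
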