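import Mathlib
import Cfsg.Agent.Helper45.LBLH

/-!
Helper45: local balance for `PSL_n(F)` (S2686), part I: Eichler elements of the Hermitian form
`B(x,y) = σ(y)ᵀ G x`: they are fixed by `conj(G⁻¹) ∘ σ ∘ (inverse transpose)`, and
`(E - 1)² = -B(w,w) u φ_uᵀ`, `(E - 1)³ = 0`.
-/

set_option autoImplicit false
set_option linter.unusedSectionVars false

namespace Cfsg.Agent.Helper45.LBL

open Matrix Cfsg.Agent.Helper14.AutPSL

variable {n : ℕ} {F : Type*} [Field F] {σ : F ≃+* F} {G : GL (Fin n) F}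

theorem mat_ext_mulVec {A B : Matrix (Fin n) (Fin n) F} (h : ∀ x, A *ᵥ x = B *ᵥ x) : A = B := by
  ext i j
  have := congrFun (h (Pi.single j 1)) i
  rwa [Matrix.mulVec_single_one, Matrix.mulVec_single_one] at this

/-- the automorphism `conj(G⁻¹) ∘ σ ∘ (inverse transpose)` of `SL_n(F)` -/
def bhat (σ : F ≃+* F) (G : GL (Fin n) F) : MulAut (Matrix.SpecialLinearGroup (Fin n) F) :=
  slConj G⁻¹ * slField σ * slInvT

theorem bhat_tv_aux (σ : F ≃+* F) (G : GL (Fin n) F) (a φ : Fin n → F) (h : φ ⬝ᵥ a = 0) :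
    (-(vσ σ a ᵥ* (G : Matrix (Fin n) (Fin n) F))) ⬝ᵥ
        (((G⁻¹ : GL (Fin n) F) : Matrix (Fin n) (Fin n) F) *ᵥ vσ σ φ) = 0 := by
  rw [neg_dotProduct, ← Matrix.dotProduct_mulVec, Matrix.mulVec_mulVec, gl_mul_inv,
    Matrix.one_mulVec, vσ_dot, dotProduct_comm, h, map_zero, neg_zero]

theorem bhat_tv (σ : F ≃+* F) (G : GL (Fin n) F) (a φ : Fin n → F) (h : φ ⬝ᵥ a = 0) :
    bhat σ G (tv a φ h) = tv (((G⁻¹ : GL (Fin n) F) : Matrix (Fin n) (Fin n) F) *ᵥ vσ σ φ)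
        (-(vσ σ a ᵥ* (G : Matrix (Fin n) (Fin n) F))) (bhat_tv_aux σ G a φ h) := by
  have e : bhat σ G (tv a φ h) = slConj G⁻¹ (slField σ (slInvT (tv a φ h))) := rfl
  rw [e, slInvT_tv, slField_tv, slConj_tv]
  apply tv_congr _ rfl
  rw [inv_inv, ← Matrix.neg_vecMul]
  congr 1
  funext i
  simp [vσ]

variable (hD : HermData σ G)

include hD

theorem vσ_hφ (w : Fin n → F) :
    vσ σ (hφ σ G w) = (G : Matrix (Fin n) (Fin n) F) *ᵥ w := by
  unfold hφ
  rw [vσ_vecMul]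
  have h1 : vσ σ (vσ σ w) = w := by
    funext i
    exact hD.inv _
  have h2 : (G : Matrix (Fin n) (Fin n) F).map σ = (G : Matrix (Fin n) (Fin n) F)ᵀ := by
    have := congrArg Matrix.transpose hD.herm
    rwa [Matrix.transpose_transpose] at this
  rw [h1, h2, Matrix.vecMul_transpose]

theorem Ginv_vσ_hφ (w : Fin n → F) :
    ((G⁻¹ : GL (Fin n) F) : Matrix (Fin n) (Fin n) F) *ᵥ vσ σ (hφ σ G w) = w := by
  rw [vσ_hφ hD, Matrix.mulVec_mulVec, gl_inv_mul, Matrix.one_mulVec]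

/-- the Eichler element `x ↦ x + B(x,w) u - B(x,u) w - (B(w,w)/2) B(x,u) u` -/
def eich (u w : Fin n → F) (hu : hB σ G u u = 0) (huw : hB σ G u w = 0) :
    Matrix.SpecialLinearGroup (Fin n) F :=
  tv u (hφ σ G w + (hB σ G w w / 2) • hφ σ G u) (by
      rw [add_dotProduct, smul_dotProduct, hφ_dot, hφ_dot, hu, huw, smul_zero, add_zero]) *
    tv w (-hφ σ G u) (by
      rw [neg_dotProduct, hφ_dot, hB_eq_zero_symm hD huw, neg_zero])

theorem eich_mulVec (h2 : (2 : F) ≠ 0) (u w : Fin n → F) (hu : hB σ G u u = 0)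
    (huw : hB σ G u w = 0) (x : Fin n → F) :
    (eich hD u w hu huw).1 *ᵥ x = x + hB σ G x w • u - hB σ G x u • w
      - (hB σ G w w / 2 * hB σ G x u) • u := by
  have hwu := hB_eq_zero_symm hD huw
  unfold eich
  rw [Matrix.SpecialLinearGroup.coe_mul, ← Matrix.mulVec_mulVec, tv_mulVec, tv_mulVec,
    add_dotProduct, smul_dotProduct, neg_dotProduct, hφ_dot, hφ_dot, hφ_dot,
    hB_add_left, hB_add_left, hB_smul_left, hB_smul_left, hwu]
  have h3 : hB σ G w w = 2 * (hB σ G w w / 2) := by field_simp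
  set d := hB σ G w w / 2 with hd
  rw [h3]
  simp only [smul_eq_mul]
  module

/-- Eichler elements are fixed by `conj(G⁻¹) ∘ σ ∘ (inverse transpose)` -/
theorem bhat_eich (h2 : (2 : F) ≠ 0) (u w : Fin n → F) (hu : hB σ G u u = 0)
    (huw : hB σ G u w = 0) :
    bhat σ G (eich hD u w hu huw) = eich hD u w hu huw := by
  have hwu := hB_eq_zero_symm hD huw
  have hd : σ (hB σ G w w / 2) = hB σ G w w / 2 := by
    rw [map_div₀, hB_self_fixed hD, map_ofNat]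
  apply Subtype.ext
  apply mat_ext_mulVec
  intro x
  rw [eich_mulVec hD h2]
  unfold eich
  rw [map_mul, bhat_tv, bhat_tv, Matrix.SpecialLinearGroup.coe_mul, ← Matrix.mulVec_mulVec,
    tv_mulVec, tv_mulVec]
  have a1 : ((G⁻¹ : GL (Fin n) F) : Matrix (Fin n) (Fin n) F) *ᵥ
      vσ σ (hφ σ G w + (hB σ G w w / 2) • hφ σ G u) = w + (hB σ G w w / 2) • u := by
    rw [vσ_add, vσ_smul, hd, Matrix.mulVec_add, Matrix.mulVec_smul, Ginv_vσ_hφ hD, Ginv_vσ_hφ hD]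
  have a2 : ((G⁻¹ : GL (Fin n) F) : Matrix (Fin n) (Fin n) F) *ᵥ vσ σ (-hφ σ G u) = -u := by
    rw [vσ_neg, Matrix.mulVec_neg, Ginv_vσ_hφ hD]
  have b1 : vσ σ u ᵥ* (G : Matrix (Fin n) (Fin n) F) = hφ σ G u := rfl
  have b2 : vσ σ w ᵥ* (G : Matrix (Fin n) (Fin n) F) = hφ σ G w := rfl
  rw [a1, a2, b1, b2, neg_dotProduct, neg_dotProduct, hφ_dot, hφ_dot, hB_add_left, hB_smul_left,
    hB_neg_left, hu]
  module

/-- `(E - 1) x` -/
theorem eich_sub_one_mulVec (h2 : (2 : F) ≠ 0) (u w : Fin n → F) (hu : hB σ G u u = 0)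
    (huw : hB σ G u w = 0) (x : Fin n → F) :
    ((eich hD u w hu huw).1 - 1) *ᵥ x = hB σ G x w • u - hB σ G x u • w
      - (hB σ G w w / 2 * hB σ G x u) • u := by
  rw [Matrix.sub_mulVec, Matrix.one_mulVec, eich_mulVec hD h2]
  abel

/-- `(E - 1)² = -B(w,w) u φ_uᵀ` -/
theorem eich_sub_one_sq (h2 : (2 : F) ≠ 0) (u w : Fin n → F) (hu : hB σ G u u = 0)
    (huw : hB σ G u w = 0) :
    ((eich hD u w hu huw).1 - 1) * ((eich hD u w hu huw).1 - 1)
      = (-hB σ G w w) • vecMulVec u (hφ σ G u) := by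
  have hwu := hB_eq_zero_symm hD huw
  apply mat_ext_mulVec
  intro x
  rw [← Matrix.mulVec_mulVec, eich_sub_one_mulVec hD h2, eich_sub_one_mulVec hD h2,
    Matrix.smul_mulVec, vecMulVec_mulVec, hφ_dot, op_smul_eq_smul]
  simp only [hB_sub_left, hB_smul_left, hu, huw, hwu, mul_zero, sub_zero, zero_smul, zero_sub,
    smul_eq_mul]
  module

/-- `(E - 1)³ = 0` -/
theorem eich_sub_one_cube (h2 : (2 : F) ≠ 0) (u w : Fin n → F) (hu : hB σ G u u = 0)
    (huw : hB σ G u w = 0) :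
    ((eich hD u w hu huw).1 - 1) ^ 3 = 0 := by
  have hwu := hB_eq_zero_symm hD huw
  rw [pow_succ, pow_two, eich_sub_one_sq hD h2]
  apply mat_ext_mulVec
  intro x
  rw [← Matrix.mulVec_mulVec, eich_sub_one_mulVec hD h2, Matrix.smul_mulVec, vecMulVec_mulVec,
    hφ_dot, Matrix.zero_mulVec]
  simp only [hB_sub_left, hB_smul_left, hu, hwu, mul_zero, sub_zero]
  simp

end Cfsg.Agent.Helper45.LBL
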