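import Mathlib
import Cfsg.Agent.Helper45.LBLI

/-!
Helper45: local balance for `PSL_n(F)` (S2686), part J: an automorphism `conj h ∘ τ` fixing the
image of an Eichler element `E_{u,w}` (`B(w,w) ≠ 0`) satisfies `h τ(u) ∈ F u`.
-/

set_option autoImplicit false
set_option linter.unusedSectionVars false

namespace Cfsg.Agent.Helper45.LBL

open Matrix Cfsg.Agent.Helper14.AutPSL

variable {n : ℕ} {F : Type*} [Field F]

/-- in characteristic `r ≥ 3`, `x = 1 + N` with `N³ = 0` has `x ^ r = 1` -/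
theorem pow_char_eq_one_of_cube {r : ℕ} [hr : Fact r.Prime] [CharP F r] (hr3 : 3 ≤ r)
    [Nonempty (Fin n)] (x : Matrix.SpecialLinearGroup (Fin n) F) (hx : (x.1 - 1) ^ 3 = 0) :
    x ^ r = 1 := by
  apply Subtype.ext
  rw [Matrix.SpecialLinearGroup.coe_pow, Matrix.SpecialLinearGroup.coe_one]
  have h1 : x.1 = 1 + (x.1 - 1) := by abel
  rw [h1, add_pow_char_of_commute _ (Commute.one_left _), one_pow]
  have h2 : (x.1 - 1) ^ r = 0 := by
    have : r = 3 + (r - 3) := by omega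
    rw [this, pow_add, hx, zero_mul]
  rw [h2, add_zero]

/-- a central element of `SL_n(F)` of `r`-power order, `r = char F`, is trivial -/
theorem central_pow_char_eq_one {r : ℕ} [hr : Fact r.Prime] [CharP F r] [Nonempty (Fin n)]
    (z : Matrix.SpecialLinearGroup (Fin n) F)
    (hz : z ∈ Subgroup.center (Matrix.SpecialLinearGroup (Fin n) F)) (hzr : z ^ r = 1) : z = 1 := by
  obtain ⟨ζ, -, hζ⟩ := Matrix.SpecialLinearGroup.mem_center_iff.mp hz
  have h1 : z.1 = ζ • (1 : Matrix (Fin n) (Fin n) F) := by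
    rw [← hζ, Matrix.scalar_apply, Matrix.smul_one_eq_diagonal]
  have h2 : (z ^ r).1 = (ζ ^ r) • (1 : Matrix (Fin n) (Fin n) F) := by
    rw [Matrix.SpecialLinearGroup.coe_pow, h1, smul_pow, one_pow]
  rw [hzr, Matrix.SpecialLinearGroup.coe_one] at h2
  obtain ⟨i⟩ := (inferInstance : Nonempty (Fin n))
  have h3 := congrFun (congrFun h2 i) i
  rw [Matrix.smul_apply, Matrix.one_apply_eq, smul_eq_mul, mul_one] at h3
  have h4 : (ζ - 1) ^ r = 0 := by rw [sub_pow_char, ← h3, one_pow, sub_self]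
  have h5 : ζ = 1 := by
    have := pow_eq_zero_iff (Fact.out : r.Prime).ne_zero |>.1 h4
    exact sub_eq_zero.1 this
  apply Subtype.ext
  rw [h1, h5, one_smul, Matrix.SpecialLinearGroup.coe_one]

/-- an automorphism of `SL_n(F)` fixing, modulo the centre, an element `x` with `(x-1)³ = 0`
fixes `x` -/
theorem eq_of_prj_eq_of_cube {r : ℕ} [hr : Fact r.Prime] [CharP F r] (hr3 : 3 ≤ r) (hn : 1 ≤ n)
    (e : MulAut (Matrix.SpecialLinearGroup (Fin n) F)) (x : Matrix.SpecialLinearGroup (Fin n) F)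
    (hx : (x.1 - 1) ^ 3 = 0) (h : prj (e x) = prj x) : e x = x := by
  haveI : Nonempty (Fin n) := ⟨⟨0, by omega⟩⟩
  have hz := (QuotientGroup.eq (s := Subgroup.center (Matrix.SpecialLinearGroup (Fin n) F))).1 h
  have hxr := pow_char_eq_one_of_cube hr3 x hx
  have hexr : (e x) ^ r = 1 := by rw [← map_pow, hxr, map_one]
  have hcomm : Commute (e x) ((e x)⁻¹ * x) := by
    have := Subgroup.mem_center_iff.1 hz (e x)
    exact this
  have h1 : x = e x * ((e x)⁻¹ * x) := by group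
  have h2 : ((e x)⁻¹ * x) ^ r = 1 := by
    have h3 : x ^ r = (e x) ^ r * ((e x)⁻¹ * x) ^ r := by
      conv_lhs => rw [h1]
      exact hcomm.mul_pow r
    rw [hxr, hexr, one_mul] at h3
    exact h3.symm
  have h4 := central_pow_char_eq_one _ hz h2
  exact (inv_mul_eq_one.1 h4)

/-- entrywise map of a rank one matrix -/
theorem map_vecMulVec (τ : F ≃+* F) (a φ : Fin n → F) :
    (vecMulVec a φ).map τ = vecMulVec (vσ τ a) (vσ τ φ) := by
  ext i j
  simp [vecMulVec_apply, vσ]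

variable {σ : F ≃+* F} {G : GL (Fin n) F} (hD : HermData σ G)

/-- an automorphism `conj g ∘ τ` of `SL_n` fixing, modulo the centre, the Eichler element
`E_{u,w}` with `B(w,w) ≠ 0` satisfies `g τ(u) ∈ F u` -/
theorem eigen_of_fix_eich {r : ℕ} [hr : Fact r.Prime] [CharP F r] (hr3 : 3 ≤ r) (hn : 1 ≤ n)
    (h2 : (2 : F) ≠ 0) (g : GL (Fin n) F) (τ : F ≃+* F) (u w : Fin n → F)
    (hu : hB σ G u u = 0) (huw : hB σ G u w = 0) (hu0 : u ≠ 0) (hw : hB σ G w w ≠ 0)
    (h : pslOf (slConj g * slField τ) (prj (eich hD u w hu huw)) = prj (eich hD u w hu huw)) :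
    ∃ c : F, (g : Matrix (Fin n) (Fin n) F) *ᵥ vσ τ u = c • u := by
  rw [pslOf_prj] at h
  have h1 := eq_of_prj_eq_of_cube hr3 hn _ _ (eich_sub_one_cube hD h2 u w hu huw) h
  set E := eich hD u w hu huw with hE
  -- matrix form: `g * τ(E) = E * g`
  have h3 : (g : Matrix (Fin n) (Fin n) F) * E.1.map τ = E.1 * (g : Matrix (Fin n) (Fin n) F) := by
    have h4 := congrArg Subtype.val h1
    rw [MulAut.mul_apply, slConj_coe, slField_coe] at h4
    calc (g : Matrix (Fin n) (Fin n) F) * E.1.map τ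
        = (g : Matrix (Fin n) (Fin n) F) * E.1.map τ *
            (((g⁻¹ : GL (Fin n) F) : Matrix (Fin n) (Fin n) F) * (g : Matrix (Fin n) (Fin n) F)) := by
          rw [gl_inv_mul, Matrix.mul_one]
      _ = E.1 * (g : Matrix (Fin n) (Fin n) F) := by rw [← Matrix.mul_assoc, h4]
  -- the same for `N = E - 1` and `N²`
  set N : Matrix (Fin n) (Fin n) F := E.1 - 1 with hN
  have hNmap : N.map τ = E.1.map τ - 1 := by
    ext i j
    by_cases hij : i = j
    · subst hij; simp [hN]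
    · simp [hN, Matrix.one_apply_ne hij]
  have h5 : (g : Matrix (Fin n) (Fin n) F) * N.map τ = N * (g : Matrix (Fin n) (Fin n) F) := by
    rw [hNmap, Matrix.mul_sub, h3, hN, Matrix.sub_mul, Matrix.mul_one, Matrix.one_mul]
  have h6 : (g : Matrix (Fin n) (Fin n) F) * (N.map τ * N.map τ)
      = (N * N) * (g : Matrix (Fin n) (Fin n) F) := by
    rw [← Matrix.mul_assoc, h5, Matrix.mul_assoc, h5, Matrix.mul_assoc]
  have h7 : N.map τ * N.map τ = (N * N).map τ := by
    rw [Matrix.map_mul]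
  rw [h7, hN, eich_sub_one_sq hD h2 u w hu huw] at h6
  have h8 : ((-hB σ G w w) • vecMulVec u (hφ σ G u)).map τ
      = (τ (-hB σ G w w)) • vecMulVec (vσ τ u) (vσ τ (hφ σ G u)) := by
    rw [← map_vecMulVec]
    ext i j
    simp [Matrix.smul_apply]
  rw [h8] at h6
  -- choose `x` with `τ(φ_u) · x ≠ 0`
  have hφ0 : vσ τ (hφ σ G u) ≠ 0 := by
    intro h0
    apply hφ_ne_zero hD hu0
    funext i
    have := congrFun h0 i
    simp only [vσ, Pi.zero_apply] at this ⊢
    exact (map_eq_zero τ).1 this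
  obtain ⟨i, hi⟩ : ∃ i, vσ τ (hφ σ G u) i ≠ 0 := by
    by_contra hcon
    push Not at hcon
    exact hφ0 (funext hcon)
  have h9 := congrArg (fun M : Matrix (Fin n) (Fin n) F => M *ᵥ (Pi.single i (1 : F))) h6
  simp only [← Matrix.mulVec_mulVec, Matrix.smul_mulVec, vecMulVec_mulVec,
    dotProduct_single, mul_one, Matrix.mulVec_smul] at h9
  have ht : τ (-hB σ G w w) ≠ 0 := by
    rw [Ne, map_eq_zero, neg_eq_zero]; exact hw
  refine ⟨(τ (-hB σ G w w) * vσ τ (hφ σ G u) i)⁻¹ *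
    ((-hB σ G w w) * (hφ σ G u ⬝ᵥ ((g : Matrix (Fin n) (Fin n) F) *ᵥ Pi.single i 1))), ?_⟩
  have hne : τ (-hB σ G w w) * vσ τ (hφ σ G u) i ≠ 0 := mul_ne_zero ht hi
  have h10 : (τ (-hB σ G w w) * vσ τ (hφ σ G u) i) •
      ((g : Matrix (Fin n) (Fin n) F) *ᵥ vσ τ u)
      = ((-hB σ G w w) * (hφ σ G u ⬝ᵥ ((g : Matrix (Fin n) (Fin n) F) *ᵥ Pi.single i 1))) • u := by
    rw [mul_smul, mul_smul]
    convert h9 using 2
    all_goals first | rfl | (simp [op_smul_eq_smul])
  rw [mul_smul, ← h10, smul_smul, inv_mul_cancel₀ hne, one_smul]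

end Cfsg.Agent.Helper45.LBL
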