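import Mathlib
import Cfsg.Agent.Helper45.LBLJ

/-!
Helper45: local balance for `PSL_n(F)` (S2686), part K: geometry of a nondegenerate
hermitian / symmetric form `B(x,y) = σ(y)ᵀ G x` in characteristic `≠ 2`, dimension `≥ 3`:
hyperbolic partners, anisotropic vectors, and a semilinear map fixing all isotropic points is a
scalar with trivial field automorphism.
-/

set_option autoImplicit false
set_option linter.unusedSectionVars false

namespace Cfsg.Agent.Helper45.LBL

open Matrix Cfsg.Agent.Helper14.AutPSL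

variable {n : ℕ} {F : Type*} [Field F]
variable {σ : F ≃+* F} {G : GL (Fin n) F} (hD : HermData σ G)

include hD

/-- hyperbolic partner of an isotropic vector -/
theorem exists_partner (h2 : (2 : F) ≠ 0) {x : Fin n → F} (hx0 : x ≠ 0)
    (hx : hB σ G x x = 0) : ∃ x', hB σ G x' x' = 0 ∧ hB σ G x x' = 1 := by
  obtain ⟨z, hz⟩ := exists_hB_ne_zero (σ := σ) (G := G) hx0
  set b := hB σ G x z with hb
  obtain ⟨z₁, hz₁⟩ : ∃ z₁ : Fin n → F, z₁ = (σ b)⁻¹ • z := ⟨_, rfl⟩
  have hσb : σ b ≠ 0 := by rwa [Ne, map_eq_zero]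
  have h1 : hB σ G x z₁ = 1 := by
    rw [hz₁, hB_smul_right, map_inv₀, hD.inv, ← hb, inv_mul_cancel₀ hz]
  have h1' : hB σ G z₁ x = 1 := by rw [hB_herm hD, h1, map_one]
  obtain ⟨lam, hlam⟩ : ∃ lam : F, lam = hB σ G z₁ z₁ / 2 := ⟨_, rfl⟩
  have hσlam : σ lam = lam := by
    rw [hlam, map_div₀, hB_self_fixed hD, map_ofNat]
  refine ⟨z₁ - lam • x, ?_, ?_⟩
  · rw [hB_sub_left, hB_sub_right, hB_sub_right, hB_smul_left, hB_smul_left, hB_smul_right,
      hB_smul_right, hx, h1, h1', hσlam, hlam]
    field_simp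
    ring
  · rw [hB_sub_right, hB_smul_right, hx, h1, mul_zero, sub_zero]

/-- polarisation: if `w`, `w'` and all `w + c w'` are isotropic then `B(w,w') = 0` -/
theorem hB_eq_zero_of_isotropic (h2 : (2 : F) ≠ 0) {w w' : Fin n → F}
    (hw : hB σ G w w = 0) (hw' : hB σ G w' w' = 0)
    (h : ∀ c : F, hB σ G (w + c • w') (w + c • w') = 0) : hB σ G w w' = 0 := by
  set b := hB σ G w w' with hb
  have hb' : hB σ G w' w = σ b := hB_herm hD w w'
  have key : ∀ c : F, σ c * b + c * σ b = 0 := by
    intro c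
    have := h c
    rw [hB_add_left, hB_add_right, hB_add_right, hB_smul_left, hB_smul_left, hB_smul_right,
      hB_smul_right, hw, hw', hb', ← hb] at this
    linear_combination this
  have k1 : b + σ b = 0 := by
    have := key 1
    rwa [map_one, one_mul, one_mul] at this
  by_cases hσ : ∀ c : F, σ c = c
  · rw [hσ b] at k1
    have : (2 : F) * b = 0 := by linear_combination k1
    rcases mul_eq_zero.1 this with h | h
    · exact absurd h h2
    · exact h
  · push Not at hσ
    obtain ⟨c, hc⟩ := hσ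
    have k2 := key c
    have : (σ c - c) * b = 0 := by linear_combination k2 - c * k1
    rcases mul_eq_zero.1 this with h | h
    · exact absurd (sub_eq_zero.1 h) hc
    · exact h

/-- in dimension at least three, the orthogonal complement of a hyperbolic pair contains an
anisotropic vector -/
theorem exists_aniso_perp (h2 : (2 : F) ≠ 0) (hn : 3 ≤ n) {x x' : Fin n → F}
    (hx : hB σ G x x = 0) (hx' : hB σ G x' x' = 0) (hxx' : hB σ G x x' = 1) :
    ∃ w, hB σ G w x = 0 ∧ hB σ G w x' = 0 ∧ hB σ G w w ≠ 0 := by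
  by_contra hcon
  push Not at hcon
  have hx'x : hB σ G x' x = 1 := by rw [hB_herm hD, hxx', map_one]
  -- the projection onto the complement
  set P : (Fin n → F) → (Fin n → F) := fun v => v - hB σ G v x' • x - hB σ G v x • x' with hP
  have hPx : ∀ v, hB σ G (P v) x = 0 := by
    intro v
    simp only [hP, hB_sub_left, hB_smul_left, hx, hx'x]
    ring
  have hPx' : ∀ v, hB σ G (P v) x' = 0 := by
    intro v
    simp only [hP, hB_sub_left, hB_smul_left, hx', hxx']
    ring
  -- the form vanishes on the complement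
  have hW : ∀ w w', hB σ G w x = 0 → hB σ G w x' = 0 → hB σ G w' x = 0 → hB σ G w' x' = 0 →
      hB σ G w w' = 0 := by
    intro w w' h1 h2' h3 h4
    apply hB_eq_zero_of_isotropic hD h2 (hcon w h1 h2') (hcon w' h3 h4)
    intro c
    apply hcon
    · rw [hB_add_left, hB_smul_left, h1, h3, mul_zero, add_zero]
    · rw [hB_add_left, hB_smul_left, h2', h4, mul_zero, add_zero]
  have hP0 : ∀ v, P v = 0 := by
    intro v
    apply eq_zero_of_hB_right (σ := σ) (G := G)
    intro y
    have hy : y = P y + hB σ G y x' • x + hB σ G y x • x' := by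
      simp only [hP]; abel
    rw [hy, hB_add_right, hB_add_right, hB_smul_right, hB_smul_right, hPx, hPx',
      hW _ _ (hPx v) (hPx' v) (hPx y) (hPx' y)]
    ring
  -- so the space is spanned by `x, x'`
  have hspan : Submodule.span F ({x, x'} : Set (Fin n → F)) = ⊤ := by
    rw [eq_top_iff]
    intro v _
    rw [Submodule.mem_span_pair]
    refine ⟨hB σ G v x', hB σ G v x, ?_⟩
    have := hP0 v
    simp only [hP] at this
    have h3 : v = hB σ G v x' • x + hB σ G v x • x' := by
      rw [sub_sub, sub_eq_zero] at this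
      exact this
    exact h3.symm
  have hle : Module.finrank F (Fin n → F) ≤ 2 := by
    classical
    have h1 : Module.finrank F (Submodule.span F
        ((({x, x'} : Finset (Fin n → F)) : Set (Fin n → F)))) ≤
        ({x, x'} : Finset (Fin n → F)).card :=
      finrank_span_finset_le_card (R := F) ({x, x'} : Finset (Fin n → F))
    have h3 : ({x, x'} : Finset (Fin n → F)).card ≤ 2 := Finset.card_le_two
    have h4 : ((({x, x'} : Finset (Fin n → F)) : Set (Fin n → F))) = {x, x'} := by
      simp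
    rw [h4, hspan, finrank_top] at h1
    exact h1.trans h3
  rw [Module.finrank_fintype_fun_eq_card, Fintype.card_fin] at hle
  omega

omit hD in
theorem T_add (g : GL (Fin n) F) (τ : F ≃+* F) (v v' : Fin n → F) :
    (g : Matrix (Fin n) (Fin n) F) *ᵥ vσ τ (v + v')
      = (g : Matrix (Fin n) (Fin n) F) *ᵥ vσ τ v + (g : Matrix (Fin n) (Fin n) F) *ᵥ vσ τ v' := by
  rw [vσ_add, Matrix.mulVec_add]

omit hD in
theorem T_smul (g : GL (Fin n) F) (τ : F ≃+* F) (c : F) (v : Fin n → F) :
    (g : Matrix (Fin n) (Fin n) F) *ᵥ vσ τ (c • v)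
      = τ c • ((g : Matrix (Fin n) (Fin n) F) *ᵥ vσ τ v) := by
  rw [vσ_smul, Matrix.mulVec_smul]

omit hD in
theorem T_sub (g : GL (Fin n) F) (τ : F ≃+* F) (v v' : Fin n → F) :
    (g : Matrix (Fin n) (Fin n) F) *ᵥ vσ τ (v - v')
      = (g : Matrix (Fin n) (Fin n) F) *ᵥ vσ τ v - (g : Matrix (Fin n) (Fin n) F) *ᵥ vσ τ v' := by
  rw [sub_eq_add_neg, T_add, ← neg_one_smul F v', T_smul, map_neg, map_one, neg_one_smul,
    ← sub_eq_add_neg]

/-- the key computation: `T = g ∘ τ` has the eigenvector property on the isotropic vectors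
`u + y u' ± c w` -/
theorem kc (h2 : (2 : F) ≠ 0) (g : GL (Fin n) F) (τ : F ≃+* F) {u u' w : Fin n → F}
    (hu : hB σ G u u = 0) (hu' : hB σ G u' u' = 0) (huu' : hB σ G u u' = 1)
    (hwu : hB σ G w u = 0) (hwu' : hB σ G w u' = 0) (ht : hB σ G w w ≠ 0)
    (EIG : ∀ x : Fin n → F, x ≠ 0 → hB σ G x x = 0 →
      ∃ c : F, (g : Matrix (Fin n) (Fin n) F) *ᵥ vσ τ x = c • x)
    {a a' : F} (ha : (g : Matrix (Fin n) (Fin n) F) *ᵥ vσ τ u = a • u)
    (ha' : (g : Matrix (Fin n) (Fin n) F) *ᵥ vσ τ u' = a' • u')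
    (c y : F) (hc : c ≠ 0) (hy : y + σ y + c * σ c * hB σ G w w = 0) :
    τ y * a' = a * y ∧
      τ c • ((g : Matrix (Fin n) (Fin n) F) *ᵥ vσ τ w) = (a * c) • w := by
  have hu'u : hB σ G u' u = 1 := by rw [hB_herm hD, huu', map_one]
  have huw : hB σ G u w = 0 := hB_eq_zero_symm hD hwu
  have hu'w : hB σ G u' w = 0 := hB_eq_zero_symm hD hwu'
  obtain ⟨t, htdef⟩ : ∃ t : F, t = hB σ G w w := ⟨_, rfl⟩
  rw [← htdef] at hy ht
  obtain ⟨Tw, hTw⟩ : ∃ Tw : Fin n → F, Tw = (g : Matrix (Fin n) (Fin n) F) *ᵥ vσ τ w := ⟨_, rfl⟩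
  rw [← hTw]
  -- the two isotropic vectors
  have hisoP : hB σ G (u + y • u' + c • w) (u + y • u' + c • w) = 0 := by
    simp only [hB_add_left, hB_add_right, hB_smul_left, hB_smul_right, hu, hu', huu', hu'u, hwu,
      hwu', huw, hu'w, ← htdef]
    linear_combination hy
  have hisoM : hB σ G (u + y • u' - c • w) (u + y • u' - c • w) = 0 := by
    simp only [hB_add_left, hB_add_right, hB_sub_left, hB_sub_right, hB_smul_left, hB_smul_right,
      hu, hu', huu', hu'u, hwu, hwu', huw, hu'w, ← htdef]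
    linear_combination hy
  have hneP : u + y • u' + c • w ≠ 0 := by
    intro h0
    have : hB σ G (u + y • u' + c • w) u' = 1 := by
      simp only [hB_add_left, hB_smul_left, hu', huu', hwu']
      ring
    rw [h0, hB_zero_left] at this
    exact zero_ne_one this
  have hneM : u + y • u' - c • w ≠ 0 := by
    intro h0
    have : hB σ G (u + y • u' - c • w) u' = 1 := by
      simp only [hB_add_left, hB_sub_left, hB_smul_left, hu', huu', hwu']
      ring
    rw [h0, hB_zero_left] at this
    exact zero_ne_one this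
  obtain ⟨kp, hkp⟩ := EIG _ hneP hisoP
  obtain ⟨km, hkm⟩ := EIG _ hneM hisoM
  rw [T_add, T_add, T_smul, T_smul, ha, ha', ← hTw] at hkp
  rw [T_sub, T_add, T_smul, T_smul, ha, ha', ← hTw] at hkm
  -- apply the three functionals
  have e1 := congrArg (fun v => hB σ G v w) hkp
  have e2 := congrArg (fun v => hB σ G v w) hkm
  have e3 := congrArg (fun v => hB σ G v u') hkp
  have e4 := congrArg (fun v => hB σ G v u') hkm
  have e5 := congrArg (fun v => hB σ G v u) hkp
  have e6 := congrArg (fun v => hB σ G v u) hkm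
  simp only [hB_add_left, hB_sub_left, hB_smul_left, hu, hu', huu', hu'u, hwu, hwu', huw, hu'w,
    ← htdef] at e1 e2 e3 e4 e5 e6
  have hτc : τ c ≠ 0 := by rwa [Ne, map_eq_zero]
  have hk : kp = km := by
    have : (kp - km) * (c * t) = 0 := by linear_combination -(e1 + e2)
    rcases mul_eq_zero.1 this with h | h
    · exact sub_eq_zero.1 h
    · exact absurd h (mul_ne_zero hc ht)
  subst hk
  have hka : kp = a := by
    have : (2 : F) * (kp - a) = 0 := by linear_combination -(e3 + e4)
    rcases mul_eq_zero.1 this with h | h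
    · exact absurd h h2
    · exact sub_eq_zero.1 h
  subst hka
  refine ⟨?_, ?_⟩
  · have : (2 : F) * (τ y * a' - kp * y) = 0 := by linear_combination e5 + e6
    rcases mul_eq_zero.1 this with h | h
    · exact absurd h h2
    · exact sub_eq_zero.1 h
  · have h3 : (2 : F) • (τ c • Tw) = (2 : F) • ((kp * c) • w) := by
      calc (2 : F) • (τ c • Tw)
          = (kp • u + τ y • a' • u' + τ c • Tw) - (kp • u + τ y • a' • u' - τ c • Tw) := by
            module
        _ = kp • (u + y • u' + c • w) - kp • (u + y • u' - c • w) := by rw [hkp, hkm]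
        _ = (2 : F) • ((kp * c) • w) := by module
    exact smul_right_injective _ h2 h3

/-- **rigidity**: a semilinear map `T = g ∘ τ` with the eigenvector property on all isotropic
vectors of a nondegenerate hermitian / symmetric form of dimension at least three (containing a
hyperbolic pair) is a scalar, and `τ = 1` -/
theorem scalar_of_eigen_iso (h2 : (2 : F) ≠ 0) (hn : 3 ≤ n) (g : GL (Fin n) F) (τ : F ≃+* F)
    {u u' : Fin n → F} (hu : hB σ G u u = 0) (hu' : hB σ G u' u' = 0) (huu' : hB σ G u u' = 1)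
    (EIG : ∀ x : Fin n → F, x ≠ 0 → hB σ G x x = 0 →
      ∃ c : F, (g : Matrix (Fin n) (Fin n) F) *ᵥ vσ τ x = c • x) :
    τ = 1 ∧ ∃ c : F, (g : Matrix (Fin n) (Fin n) F) = c • (1 : Matrix (Fin n) (Fin n) F) := by
  have hu'u : hB σ G u' u = 1 := by rw [hB_herm hD, huu', map_one]
  have hu0 : u ≠ 0 := by
    intro h0
    rw [h0, hB_zero_left] at huu'
    exact zero_ne_one huu'
  have hu'0 : u' ≠ 0 := by
    intro h0
    rw [h0, hB_zero_right] at huu'
    exact zero_ne_one huu'
  obtain ⟨a, ha⟩ := EIG u hu0 hu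
  obtain ⟨a', ha'⟩ := EIG u' hu'0 hu'
  -- `T` is injective
  have hTinj : ∀ v : Fin n → F, (g : Matrix (Fin n) (Fin n) F) *ᵥ vσ τ v = 0 → v = 0 := by
    intro v hv
    have h1 := congrArg (fun x => ((g⁻¹ : GL (Fin n) F) : Matrix (Fin n) (Fin n) F) *ᵥ x) hv
    simp only [Matrix.mulVec_mulVec, gl_inv_mul, Matrix.one_mulVec, Matrix.mulVec_zero] at h1
    funext i
    have := congrFun h1 i
    simp only [vσ, Pi.zero_apply] at this ⊢
    exact (map_eq_zero τ).1 this
  have ha'0 : a' ≠ 0 := by
    intro h0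
    rw [h0, zero_smul] at ha'
    exact hu'0 (hTinj _ ha')
  obtain ⟨w₁, hw₁u, hw₁u', ht₁⟩ := exists_aniso_perp hD h2 hn hu hu' huu'
  obtain ⟨t₁, ht₁def⟩ : ∃ t₁ : F, t₁ = hB σ G w₁ w₁ := ⟨_, rfl⟩
  have hσt₁ : σ t₁ = t₁ := by rw [ht₁def]; exact hB_self_fixed hD w₁
  obtain ⟨y₁, hy₁def⟩ : ∃ y₁ : F, y₁ = -t₁ / 2 := ⟨_, rfl⟩
  have hσy₁ : σ y₁ = y₁ := by rw [hy₁def, map_div₀, map_neg, hσt₁, map_ofNat]
  have hy₁t : 2 * y₁ + t₁ = 0 := by rw [hy₁def]; field_simp; ring
  have hy₁0 : y₁ ≠ 0 := by
    intro h0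
    rw [h0, mul_zero, zero_add] at hy₁t
    exact ht₁ (ht₁def ▸ hy₁t)
  have KC := fun c y hc hy => (kc hD h2 g τ hu hu' huu' hw₁u hw₁u' ht₁ EIG ha ha' c y hc hy).1
  rw [← ht₁def] at KC
  -- step 1: norms
  have S1 : ∀ c : F, τ (c * σ c * y₁) * a' = a * (c * σ c * y₁) := by
    intro c
    by_cases hc : c = 0
    · rw [hc, zero_mul, zero_mul, map_zero, zero_mul, mul_zero]
    · apply KC c _ hc
      rw [map_mul, map_mul, hD.inv, hσy₁]
      linear_combination (c * σ c) * hy₁t
  -- step 2: anti-fixed elements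
  have S2 : ∀ z : F, σ z = -z → τ z * a' = a * z := by
    intro z hz
    have h1 := KC 1 (y₁ + z) one_ne_zero (by
      rw [map_add, hσy₁, hz, map_one]
      linear_combination hy₁t)
    have h0 := KC 1 y₁ one_ne_zero (by
      rw [hσy₁, map_one]
      linear_combination hy₁t)
    rw [map_add] at h1
    linear_combination h1 - h0
  -- step 3: fixed elements
  have S3 : ∀ f : F, σ f = f → τ (f * y₁) * a' = a * (f * y₁) := by
    intro f hf
    have e1 := S1 (f / 2 + 1)
    have e2 := S1 (f / 2)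
    have e3 := S1 1
    have hN1 : (f / 2 + 1) * σ (f / 2 + 1) = (f / 2 + 1) ^ 2 := by
      rw [map_add, map_div₀, hf, map_ofNat, map_one]; ring
    have hN2 : (f / 2) * σ (f / 2) = (f / 2) ^ 2 := by
      rw [map_div₀, hf, map_ofNat]; ring
    rw [hN1] at e1
    rw [hN2] at e2
    rw [map_one, mul_one, one_mul] at e3
    have hf' : f * y₁ = (f / 2 + 1) ^ 2 * y₁ - (f / 2) ^ 2 * y₁ - y₁ := by
      field_simp
      ring
    rw [hf', map_sub, map_sub]
    linear_combination e1 - e2 - e3
  have haa' : a' = a := by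
    have h1 := S3 y₁⁻¹ (by rw [map_inv₀, hσy₁])
    rw [inv_mul_cancel₀ hy₁0, map_one, one_mul, mul_one] at h1
    exact h1
  subst haa'
  have hfix : ∀ f : F, σ f = f → τ f = f := by
    intro f hf
    have h1 := S3 (f * y₁⁻¹) (by rw [map_mul, map_inv₀, hσy₁, hf])
    rw [mul_assoc, inv_mul_cancel₀ hy₁0, mul_one, mul_comm] at h1
    exact mul_left_cancel₀ ha'0 h1
  have hanti : ∀ z : F, σ z = -z → τ z = z := by
    intro z hz
    have h1 := S2 z hz
    rw [mul_comm] at h1
    exact mul_left_cancel₀ ha'0 h1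
  have hτ : ∀ e : F, τ e = e := by
    intro e
    have h1 : e = (e + σ e) / 2 + (e - σ e) / 2 := by field_simp; ring
    have h3 := hfix ((e + σ e) / 2) (by
      rw [map_div₀, map_add, hD.inv, map_ofNat, add_comm])
    have h4 := hanti ((e - σ e) / 2) (by
      rw [map_div₀, map_sub, hD.inv, map_ofNat]; ring)
    rw [h1, map_add, h3, h4]
  have hτ1 : τ = 1 := RingEquiv.ext hτ
  refine ⟨hτ1, a', ?_⟩
  have hvσ : ∀ v : Fin n → F, vσ τ v = v := fun v => funext fun i => hτ (v i)
  simp only [hvσ] at EIG ha ha'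
  -- vectors orthogonal to the hyperbolic pair
  have hperp : ∀ w : Fin n → F, hB σ G w u = 0 → hB σ G w u' = 0 →
      (g : Matrix (Fin n) (Fin n) F) *ᵥ w = a' • w := by
    intro w hwu hwu'
    by_cases hw : hB σ G w w = 0
    · by_cases hw0 : w = 0
      · rw [hw0, Matrix.mulVec_zero, smul_zero]
      · have huw : hB σ G u w = 0 := hB_eq_zero_symm hD hwu
        have hiso : hB σ G (u + w) (u + w) = 0 := by
          rw [hB_add_left, hB_add_right, hB_add_right, hu, huw, hwu, hw]; ring
        have hne : u + w ≠ 0 := by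
          intro h0
          have : hB σ G (u + w) u' = 1 := by rw [hB_add_left, huu', hwu', add_zero]
          rw [h0, hB_zero_left] at this
          exact zero_ne_one this
        obtain ⟨k, hk⟩ := EIG _ hne hiso
        obtain ⟨aw, haw⟩ := EIG w hw0 hw
        rw [Matrix.mulVec_add, ha, haw] at hk
        have e1 := congrArg (fun v => hB σ G v u') hk
        simp only [hB_add_left, hB_smul_left, huu', hwu'] at e1
        have hka : k = a' := by linear_combination -e1
        rw [hka] at hk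
        rw [haw]
        have : a' • u + aw • w = a' • u + a' • w := by rw [hk, smul_add]
        exact add_left_cancel this
    · have h1 := (kc hD h2 g τ hu hu' huu' hwu hwu' hw (by simpa only [hvσ] using EIG)
        (by simpa only [hvσ] using ha) (by simpa only [hvσ] using ha') 1 (-(hB σ G w w) / 2)
        one_ne_zero (by
          rw [map_div₀, map_neg, hB_self_fixed hD, map_ofNat, map_one]
          field_simp
          ring)).2
      rw [map_one, one_smul, mul_one, hvσ] at h1
      exact h1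
  -- all vectors
  have hall : ∀ v : Fin n → F, (g : Matrix (Fin n) (Fin n) F) *ᵥ v = a' • v := by
    intro v
    set w : Fin n → F := v - hB σ G v u' • u - hB σ G v u • u' with hw
    have hwu : hB σ G w u = 0 := by
      simp only [hw, hB_sub_left, hB_smul_left, hu, hu'u]; ring
    have hwu' : hB σ G w u' = 0 := by
      simp only [hw, hB_sub_left, hB_smul_left, hu', huu']; ring
    have hv : v = w + hB σ G v u' • u + hB σ G v u • u' := by rw [hw]; abel
    have h1 := hperp w hwu hwu'
    conv_lhs => rw [hv]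
    rw [Matrix.mulVec_add, Matrix.mulVec_add, Matrix.mulVec_smul, Matrix.mulVec_smul, h1, ha, ha']
    conv_rhs => rw [hv]
    module
  apply mat_ext_mulVec
  intro x
  rw [hall, Matrix.smul_mulVec, Matrix.one_mulVec]

end Cfsg.Agent.Helper45.LBL
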