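import Mathlib
import Cfsg.Agent.Helper45.LBLK
import Cfsg.Agent.Helper14.AutFrob
import Cfsg.Agent.Helper5.HermCount
import Cfsg.Agent.Helper44.Singular

/-!
Helper45: local balance for `PSL_n(F)` (S2686), part L: existence of isotropic vectors over finite
fields, and rigidity of the Eichler elements of a hermitian / symmetric form.
-/

set_option autoImplicit false
set_option linter.unusedSectionVars false

namespace Cfsg.Agent.Helper45.LBL

open Matrix Cfsg.Agent.Helper14.AutPSL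

variable {n : ℕ} {F : Type*} [Field F]

/-- surjectivity of the norm of a quadratic extension of finite fields -/
theorem exists_norm_eq [Fintype F] {p f : ℕ} [hp : Fact p.Prime] (hF : Fintype.card F = p ^ f)
    (σ : F ≃+* F) (hσ : orderOf σ = 2) (t : F) (ht : σ t = t) : ∃ c : F, c * σ c = t := by
  classical
  by_cases ht0 : t = 0
  · exact ⟨0, by rw [ht0, zero_mul]⟩
  have hft : Fintype (fixF σ) := Fintype.ofFinite _
  obtain ⟨hdvd, -⟩ := card_fixF σ hF
  rw [hσ] at hdvd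
  have hq := involution_eq_pow hF σ hσ
  obtain ⟨q, hqdef⟩ : ∃ q : ℕ, q = p ^ (f / 2) := ⟨_, rfl⟩
  rw [← hqdef] at hq
  have hF' : Fintype.card F = q ^ 2 := by
    rw [hF, hqdef, ← pow_mul, Nat.div_mul_cancel hdvd]
  have htK : t ∈ Cfsg.Agent.Helper5.hermK F q := by
    simp only [Cfsg.Agent.Helper5.hermK, Finset.mem_filter, Finset.mem_univ, true_and]
    rw [← hq, ht]
  have hcard := Cfsg.Agent.Helper5.card_norm_fiber hF' htK ht0
  have hne : (Finset.univ.filter (fun x : F => x ^ (q + 1) = t)).Nonempty := by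
    rw [← Finset.card_pos, hcard]; omega
  obtain ⟨c, hc⟩ := hne
  simp only [Finset.mem_filter, Finset.mem_univ, true_and] at hc
  exact ⟨c, by rw [hq, ← pow_succ', hc]⟩

variable {σ : F ≃+* F} {G : GL (Fin n) F} (hD : HermData σ G)

include hD

/-- isotropic vectors of a hermitian form in dimension at least two -/
theorem exists_isotropic_herm [Fintype F] {p f : ℕ} [hp : Fact p.Prime]
    (hF : Fintype.card F = p ^ f) (hσ : orderOf σ = 2) (hn : 2 ≤ n) :
    ∃ u : Fin n → F, u ≠ 0 ∧ hB σ G u u = 0 := by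
  set i0 : Fin n := ⟨0, by omega⟩ with hi0
  set i1 : Fin n := ⟨1, by omega⟩ with hi1
  have h01 : i1 ≠ i0 := by
    intro h; have := congrArg Fin.val h; simp [hi0, hi1] at this
  obtain ⟨e₀, he₀⟩ : ∃ e₀ : Fin n → F, e₀ = Pi.single i0 1 := ⟨_, rfl⟩
  obtain ⟨e₁, he₁⟩ : ∃ e₁ : Fin n → F, e₁ = Pi.single i1 1 := ⟨_, rfl⟩
  have he₀1 : e₀ i1 = 0 := by rw [he₀, Pi.single_apply, if_neg h01]
  have he₁1 : e₁ i1 = 1 := by rw [he₁, Pi.single_apply, if_pos rfl]
  by_cases h0 : hB σ G e₀ e₀ = 0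
  · refine ⟨e₀, ?_, h0⟩
    intro h
    have := congrFun h i0
    rw [he₀, Pi.single_apply, if_pos rfl] at this
    exact one_ne_zero this
  obtain ⟨a₁, ha₁⟩ : ∃ a₁ : F, a₁ = hB σ G e₀ e₀ := ⟨_, rfl⟩
  rw [← ha₁] at h0
  have hσa₁ : σ a₁ = a₁ := by rw [ha₁]; exact hB_self_fixed hD e₀
  obtain ⟨w, hw⟩ : ∃ w : Fin n → F, w = e₁ - (hB σ G e₁ e₀ / a₁) • e₀ := ⟨_, rfl⟩
  have hw0 : hB σ G w e₀ = 0 := by
    rw [hw, hB_sub_left, hB_smul_left, ← ha₁]
    field_simp
    ring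
  have h0w : hB σ G e₀ w = 0 := hB_eq_zero_symm hD hw0
  have hw1 : w i1 = 1 := by
    rw [hw, Pi.sub_apply, Pi.smul_apply, he₀1, he₁1, smul_zero, sub_zero]
  obtain ⟨a₂, ha₂⟩ : ∃ a₂ : F, a₂ = hB σ G w w := ⟨_, rfl⟩
  have hσa₂ : σ a₂ = a₂ := by rw [ha₂]; exact hB_self_fixed hD w
  obtain ⟨c, hc⟩ := exists_norm_eq hF σ hσ (-a₂ / a₁) (by
    rw [map_div₀, map_neg, hσa₁, hσa₂])
  refine ⟨c • e₀ + w, ?_, ?_⟩
  · intro h
    have := congrFun h i1
    rw [Pi.add_apply, Pi.smul_apply, he₀1, hw1, smul_zero, zero_add] at this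
    exact one_ne_zero this
  · rw [hB_add_left, hB_add_right, hB_add_right, hB_smul_left, hB_smul_left, hB_smul_right,
      hB_smul_right, ← ha₁, ← ha₂, h0w, hw0]
    have : c * σ c * a₁ = -a₂ := by
      rw [hc]; field_simp
    linear_combination this

/-- isotropic vectors of a symmetric form in dimension at least three -/
theorem exists_isotropic_symm [Fintype F] (hσ : ∀ a : F, σ a = a) (hn : 3 ≤ n) :
    ∃ u : Fin n → F, u ≠ 0 ∧ hB σ G u u = 0 := by
  obtain ⟨v, hv0, hv⟩ := Cfsg.Agent.Helper44.exists_singular_fun hn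
    (Matrix.toQuadraticForm' (G : Matrix (Fin n) (Fin n) F))
  refine ⟨v, hv0, ?_⟩
  have h1 : vσ σ v = v := funext fun i => hσ (v i)
  unfold hB
  rw [h1]
  simpa [Matrix.toQuadraticForm', Matrix.toLinearMap₂'_apply'] using hv

/-- **rigidity**: an automorphism `conj g ∘ τ` fixing the images of all Eichler elements of the
form is trivial -/
theorem rigid_herm {r : ℕ} [hr : Fact r.Prime] [CharP F r] (hr3 : 3 ≤ r) (hn : 3 ≤ n)
    (hiso : ∃ u : Fin n → F, u ≠ 0 ∧ hB σ G u u = 0) (g : GL (Fin n) F) (τ : F ≃+* F)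
    (hfix : ∀ (u w : Fin n → F) (hu : hB σ G u u = 0) (huw : hB σ G u w = 0),
      pslOf (slConj g * slField τ) (prj (eich hD u w hu huw)) = prj (eich hD u w hu huw)) :
    τ = 1 ∧ ∃ c : F, (g : Matrix (Fin n) (Fin n) F) = c • (1 : Matrix (Fin n) (Fin n) F) := by
  have h2 : (2 : F) ≠ 0 := by
    intro h
    have h3 : ((2 : ℕ) : F) = 0 := by exact_mod_cast h
    rw [CharP.cast_eq_zero_iff F r] at h3
    have := Nat.le_of_dvd (by norm_num) h3
    omega
  obtain ⟨u, hu0, hu⟩ := hiso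
  obtain ⟨u', hu', huu'⟩ := exists_partner hD h2 hu0 hu
  apply scalar_of_eigen_iso hD h2 hn g τ hu hu' huu'
  intro x hx0 hx
  obtain ⟨x', hx', hxx'⟩ := exists_partner hD h2 hx0 hx
  obtain ⟨w, hwx, -, hww⟩ := exists_aniso_perp hD h2 hn hx hx' hxx'
  have hxw : hB σ G x w = 0 := hB_eq_zero_symm hD hwx
  exact eigen_of_fix_eich hD hr3 (by omega) h2 g τ x w hx hxw hx0 hww (hfix x w hx hxw)

end Cfsg.Agent.Helper45.LBL
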