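import Mathlib
import Cfsg.Agent.Helper45.LBLL
import Cfsg.Agent.Helper45.LBLG

/-!
Helper45: local balance for `PSL_n(F)` (S2686), part M: the rigidity hypothesis `(ha)` of
`Helper37.Bal.pPrimeCore_eq_bot_of` for the involutions of graph type (`n ≥ 3`, odd
characteristic): hermitian / symmetric type via Eichler elements, symplectic type via
transvections.
-/

set_option autoImplicit false
set_option linter.unusedSectionVars false

namespace Cfsg.Agent.Helper45.LBL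

open Matrix Cfsg.Agent.Helper14.AutPSL Cfsg.Agent.Helper37.OutPsl Cfsg.Agent.Helper37.Bal

variable {n : ℕ} {F : Type*} [Field F]

/-- a scalar matrix and the trivial field automorphism induce the trivial automorphism -/
theorem pslOf_eq_one_of_scalar (g : GL (Fin n) F) (τ : F ≃+* F) (hτ : τ = 1) (c : F)
    (hg : (g : Matrix (Fin n) (Fin n) F) = c • (1 : Matrix (Fin n) (Fin n) F)) :
    (pslOf (slConj g * slField τ) : MulAut (Matrix.ProjectiveSpecialLinearGroup (Fin n) F)) = 1 := by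
  rw [hτ, slField_one, mul_one, slConj_eq_one_of_mem_center (mem_center_of_scalar g c hg), map_one]

/-- the generic reduction of `(ha)` to the rigidity of a set `R` of root elements fixed by `β` -/
theorem ha_of_root [Fintype F] {p f : ℕ} [Fact p.Prime] (hF : Fintype.card F = p ^ f)
    (hf : 1 ≤ f) (hn : 3 ≤ n)
    (β : MulAut (Matrix.ProjectiveSpecialLinearGroup (Fin n) F)) {σ : F ≃+* F}
    (hβ : NF β σ true) (R : Set (Matrix.SpecialLinearGroup (Fin n) F))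
    (hR : ∀ E ∈ R, β (prj E) = prj E)
    (hrig : ∀ (g : GL (Fin n) F) (τ : F ≃+* F),
      (∀ E ∈ R, pslOf (slConj g * slField τ) (prj E) = prj E) →
        τ = 1 ∧ ∃ c : F, (g : Matrix (Fin n) (Fin n) F) = c • (1 : Matrix (Fin n) (Fin n) F))
    (y : MulAut (Matrix.ProjectiveSpecialLinearGroup (Fin n) F))
    (hy2 : ∀ z ∈ innCent β, y * z = z * y) : y ∈ Subgroup.zpowers β := by
  have hZ := center_PSL_eq_bot (n := n) (F := F) (by omega)
  have hyE : ∀ E ∈ R, y (prj E) = prj E := by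
    intro E hE
    apply apply_eq_of_commute_conj hZ
    apply hy2
    refine Subgroup.mem_inf.2 ⟨⟨_, rfl⟩, ?_⟩
    rw [Subgroup.mem_centralizer_singleton_iff]
    exact (commute_conj_of_apply_eq _ _ (hR E hE)).symm
  obtain ⟨τ, ε, ⟨g, hg⟩, -⟩ := exists_NF hF hf (by omega : 2 ≤ n) y
  cases ε
  · rw [slT_false, mul_one] at hg
    obtain ⟨hτ, c, hc⟩ := hrig g τ (fun E hE => by rw [← hg]; exact hyE E hE)
    rw [hg, pslOf_eq_one_of_scalar g τ hτ c hc]
    exact Subgroup.one_mem _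
  · have hyβ : NF (y * β) (τ * σ) false := by
      have := NF.mul (⟨g, hg⟩ : NF y τ true) hβ
      simpa using this
    obtain ⟨g', hg'⟩ := hyβ
    rw [slT_false, mul_one] at hg'
    obtain ⟨hτ, c, hc⟩ := hrig g' (τ * σ) (fun E hE => by
      rw [← hg', MulAut.mul_apply, hR E hE]; exact hyE E hE)
    have h1 : y * β = 1 := by rw [hg', pslOf_eq_one_of_scalar g' (τ * σ) hτ c hc]
    have h2 : y = β⁻¹ := eq_inv_of_mul_eq_one_left h1
    rw [h2]
    exact Subgroup.inv_mem _ (Subgroup.mem_zpowers β)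

/-- `(ha)` for the hermitian / symmetric type -/
theorem ha_herm [Fintype F] {p f : ℕ} [hp : Fact p.Prime] (hF : Fintype.card F = p ^ f)
    (hf : 1 ≤ f) (hp3 : 3 ≤ p) [CharP F p] (hn : 3 ≤ n) {σ : F ≃+* F} {G : GL (Fin n) F}
    (hD : HermData σ G) (hiso : ∃ u : Fin n → F, u ≠ 0 ∧ hB σ G u u = 0)
    (y : MulAut (Matrix.ProjectiveSpecialLinearGroup (Fin n) F))
    (hy2 : ∀ z ∈ innCent (pslOf (bhat σ G) :
      MulAut (Matrix.ProjectiveSpecialLinearGroup (Fin n) F)), y * z = z * y) :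
    y ∈ Subgroup.zpowers (pslOf (bhat σ G) :
      MulAut (Matrix.ProjectiveSpecialLinearGroup (Fin n) F)) := by
  have h2 : (2 : F) ≠ 0 := by
    intro h
    have h3 : ((2 : ℕ) : F) = 0 := by exact_mod_cast h
    rw [CharP.cast_eq_zero_iff F p] at h3
    have := Nat.le_of_dvd (by norm_num) h3
    omega
  apply ha_of_root hF hf hn _ (σ := σ) ⟨G⁻¹, by rw [slT_true]; rfl⟩
    {E | ∃ (u w : Fin n → F) (hu : hB σ G u u = 0) (huw : hB σ G u w = 0),
      E = eich hD u w hu huw} ?_ ?_ y hy2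
  · rintro E ⟨u, w, hu, huw, rfl⟩
    rw [pslOf_prj, bhat_eich hD h2]
  · intro g τ hfix
    exact rigid_herm hD hp3 hn hiso g τ (fun u w hu huw => hfix _ ⟨u, w, hu, huw, rfl⟩)

/-- a skew matrix in characteristic `≠ 2` is alternating -/
theorem skew_dot_self (h2 : (2 : F) ≠ 0) {M : Matrix (Fin n) (Fin n) F} (hM : Mᵀ = -M)
    (a : Fin n → F) : (M *ᵥ a) ⬝ᵥ a = 0 := by
  have h1 : (M *ᵥ a) ⬝ᵥ a = -((M *ᵥ a) ⬝ᵥ a) := by
    calc (M *ᵥ a) ⬝ᵥ a = a ⬝ᵥ (M *ᵥ a) := dotProduct_comm _ _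
      _ = (a ᵥ* M) ⬝ᵥ a := Matrix.dotProduct_mulVec _ _ _
      _ = (Mᵀ *ᵥ a) ⬝ᵥ a := by rw [Matrix.mulVec_transpose]
      _ = -((M *ᵥ a) ⬝ᵥ a) := by rw [hM, Matrix.neg_mulVec, neg_dotProduct]
  have h3 : (2 : F) * ((M *ᵥ a) ⬝ᵥ a) = 0 := by linear_combination h1
  rcases mul_eq_zero.1 h3 with h | h
  · exact absurd h h2
  · exact h

/-- the symplectic transvections are fixed by `bhat` -/
theorem bhat_tv_skew (h2 : (2 : F) ≠ 0) (G : GL (Fin n) F)
    (hG : (G : Matrix (Fin n) (Fin n) F)ᵀ = -(G : Matrix (Fin n) (Fin n) F)) (a : Fin n → F) :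
    bhat (1 : F ≃+* F) G (tv a ((G : Matrix (Fin n) (Fin n) F) *ᵥ a) (skew_dot_self h2 hG a))
      = tv a ((G : Matrix (Fin n) (Fin n) F) *ᵥ a) (skew_dot_self h2 hG a) := by
  rw [bhat_tv]
  have hv : ∀ v : Fin n → F, vσ (1 : F ≃+* F) v = v := fun v => rfl
  symm
  apply tv_congr
  · rw [hv, Matrix.mulVec_mulVec, gl_inv_mul, Matrix.one_mulVec]
  · rw [hv, ← Matrix.mulVec_transpose, hG, Matrix.neg_mulVec, neg_neg]

/-- `(ha)` for the symplectic type -/
theorem ha_skew [Fintype F] {p f : ℕ} [hp : Fact p.Prime] (hF : Fintype.card F = p ^ f)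
    (hf : 1 ≤ f) (h2 : (2 : F) ≠ 0) (hn : 3 ≤ n) {G : GL (Fin n) F}
    (hG : (G : Matrix (Fin n) (Fin n) F)ᵀ = -(G : Matrix (Fin n) (Fin n) F))
    (y : MulAut (Matrix.ProjectiveSpecialLinearGroup (Fin n) F))
    (hy2 : ∀ z ∈ innCent (pslOf (bhat (1 : F ≃+* F) G) :
      MulAut (Matrix.ProjectiveSpecialLinearGroup (Fin n) F)), y * z = z * y) :
    y ∈ Subgroup.zpowers (pslOf (bhat (1 : F ≃+* F) G) :
      MulAut (Matrix.ProjectiveSpecialLinearGroup (Fin n) F)) := by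
  apply ha_of_root hF hf hn _ (σ := (1 : F ≃+* F)) ⟨G⁻¹, by rw [slT_true]; rfl⟩
    {E | ∃ a : Fin n → F, a ≠ 0 ∧
      E = tv a ((G : Matrix (Fin n) (Fin n) F) *ᵥ a) (skew_dot_self h2 hG a)} ?_ ?_ y hy2
  · rintro E ⟨a, -, rfl⟩
    rw [pslOf_prj, bhat_tv_skew h2 G hG]
  · intro g τ hfix
    have hGa : ∀ a : Fin n → F, a ≠ 0 → (G : Matrix (Fin n) (Fin n) F) *ᵥ a ≠ 0 := by
      intro a ha h0
      apply ha
      have := congrArg (fun v => ((G⁻¹ : GL (Fin n) F) : Matrix (Fin n) (Fin n) F) *ᵥ v) h0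
      simpa only [Matrix.mulVec_mulVec, gl_inv_mul, Matrix.one_mulVec, Matrix.mulVec_zero]
        using this
    have key : ∀ a : Fin n → F, a ≠ 0 → ∃ c : F,
        (g : Matrix (Fin n) (Fin n) F) *ᵥ (fun i => τ (a i)) = c • a := by
      intro a ha
      exact eigen_of_fix (by omega) (skew_dot_self h2 hG a) ha (hGa a ha) (hfix _ ⟨a, ha, rfl⟩)
    obtain ⟨hτ, c, hc⟩ := scalar_of_eigen (by omega : 2 ≤ n) g τ Set.univ (Set.mem_univ _)
      (fun i => key _ (single_ne_zero_one i))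
      (fun i j hij x _ => key _ (pair_ne_zero hij x))
    exact ⟨RingEquiv.ext fun x => hτ x (Set.mem_univ _), c, hc⟩

end Cfsg.Agent.Helper45.LBL
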