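import Mathlib
import Cfsg.Agent.Helper45.LBLM
import Cfsg.Agent.Helper22.Radical
import Cfsg.Agent.Helper48.PCore

/-!
Helper45: local balance for `PSL_n(F)` (S2686), part N: hypothesis `(hb)` of
`Helper37.Bal.pPrimeCore_eq_bot_of` from an abstract description of `C_{Inndiag}(β)`.
-/

set_option autoImplicit false
set_option linter.unusedSectionVars false

namespace Cfsg.Agent.Helper45.LBL

open Matrix Cfsg.Agent.Helper14.AutPSL Cfsg.Agent.Helper37.OutPsl Cfsg.Agent.Helper37.Bal

/-- a normal subgroup of a finite group without nontrivial normal `p'`-subgroups has the same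
property -/
theorem NoNC.subgroup_of_normal {p : ℕ} {X : Type*} [Group X] [Finite X] (hX : NoNC p X)
    (L : Subgroup X) [hL : L.Normal] : NoNC p ↥L := by
  intro N hN hc
  have hsub : (N.map L.subtype).IsSubnormal := hN.isSubnormal.trans' hL.isSubnormal
  have hcard : (Nat.card ↥(N.map L.subtype)).Coprime p := by
    rw [Subgroup.card_map_of_injective L.subtype_injective]
    exact hc
  have hle := Cfsg.Agent.Helper22.le_pPrimeCore_of_isSubnormal hsub hcard
  have h0 : Cfsg.pPrimeCore p X = ⊥ :=
    hX _ (Cfsg.Agent.Helper48.pPrimeCore_normal p X) (Cfsg.Agent.Lib.card_pPrimeCore_coprime p)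
  rw [h0, le_bot_iff, Subgroup.map_eq_bot_iff_of_injective _ L.subtype_injective] at hle
  exact hle

variable {n : ℕ} {F : Type*} [Field F]

/-- `(hb)` from an abstract group isomorphic to `C_{Inndiag}(β)` -/
theorem hb_of_equiv [Finite F] {p : ℕ}
    (β : MulAut (Matrix.ProjectiveSpecialLinearGroup (Fin n) F)) {P : Type*} [Group P]
    (e : ↥(Cfsg.inndiagPSL n F ⊓ Subgroup.centralizer {β}) ≃* P) (hP : NoNC p P) :
    ∀ M : Subgroup ↥(innCent β), M.Normal → (Nat.card ↥M).Coprime p → M = ⊥ := by
  have hC : NoNC p ↥(Cfsg.inndiagPSL n F ⊓ Subgroup.centralizer {β}) := hP.of_mulEquiv e.symm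
  have hle : innCent β ≤ Cfsg.inndiagPSL n F ⊓ Subgroup.centralizer {β} :=
    inf_le_inf_right _ Inn_le_inndiag
  haveI hLn : ((innCent β).subgroupOf
      (Cfsg.inndiagPSL n F ⊓ Subgroup.centralizer {β})).Normal := by
    constructor
    intro z hz c
    rw [Subgroup.mem_subgroupOf] at hz ⊢
    exact conj_mem_innCent β (Subgroup.mem_inf.1 c.2).2 hz
  have h1 := hC.subgroup_of_normal ((innCent β).subgroupOf
      (Cfsg.inndiagPSL n F ⊓ Subgroup.centralizer {β}))
  exact h1.of_mulEquiv (Subgroup.subgroupOfEquivOfLe hle)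

end Cfsg.Agent.Helper45.LBL
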