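import Mathlib
import Cfsg.Agent.Helper45.LBLN
import Cfsg.Agent.Helper37.LangH
import Cfsg.Agent.Helper14.AutGraph13
import Cfsg.Agent.Helper14.AutCharTwo9
import Cfsg.Agent.Helper14.AutUnitary3

/-!
Helper45: local balance for `PSL_n(F)` (S2686), part O: the involutions of graph type
(`p = 2`, `n ≥ 3`, odd characteristic) have trivial `2'`-core in `C_A(β)`.
-/

set_option autoImplicit false
set_option linter.unusedSectionVars false

namespace Cfsg.Agent.Helper45.LBL

open Matrix Cfsg.Agent.Helper14.AutPSL Cfsg.Agent.Helper37.OutPsl Cfsg.Agent.Helper37.Bal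

variable {n : ℕ} {F : Type*} [Field F]

/-- the inverse of a hermitian Gram matrix is hermitian -/
theorem HermData.inv' {σ : F ≃+* F} {G : GL (Fin n) F} (hD : HermData σ G) : HermData σ G⁻¹ := by
  refine ⟨hD.inv, ?_⟩
  have h1 : (((G⁻¹ : GL (Fin n) F) : Matrix (Fin n) (Fin n) F).map σ)ᵀ *
      (G : Matrix (Fin n) (Fin n) F) = 1 := by
    conv_lhs => rw [← hD.herm]
    rw [← Matrix.transpose_mul, ← Matrix.map_mul, gl_mul_inv]
    ext i j
    by_cases hij : i = j
    · subst hij; simp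
    · simp [Matrix.one_apply_ne hij, Matrix.one_apply_ne (Ne.symm hij)]
  calc (((G⁻¹ : GL (Fin n) F) : Matrix (Fin n) (Fin n) F).map σ)ᵀ
      = (((G⁻¹ : GL (Fin n) F) : Matrix (Fin n) (Fin n) F).map σ)ᵀ *
          ((G : Matrix (Fin n) (Fin n) F) * ((G⁻¹ : GL (Fin n) F) : Matrix (Fin n) (Fin n) F)) := by
        rw [gl_mul_inv, Matrix.mul_one]
    _ = ((G⁻¹ : GL (Fin n) F) : Matrix (Fin n) (Fin n) F) := by
        rw [← Matrix.mul_assoc, h1, Matrix.one_mul]

/-- a symmetric matrix gives hermitian data for the trivial field automorphism -/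
theorem hermData_of_symm {g : GL (Fin n) F}
    (hg : (g : Matrix (Fin n) (Fin n) F)ᵀ = (g : Matrix (Fin n) (Fin n) F)) :
    HermData (1 : F ≃+* F) g := by
  refine ⟨fun a => rfl, ?_⟩
  have : (g : Matrix (Fin n) (Fin n) F).map (1 : F ≃+* F) = (g : Matrix (Fin n) (Fin n) F) := by
    ext i j; rfl
  rw [this, hg]

/-- the Gram matrix `h σ(h)ᵀ` is hermitian -/
theorem hermData_graph_field {σ : F ≃+* F} (hσ : ∀ a, σ (σ a) = a) (h : GL (Fin n) F) :
    HermData σ (h * glMap σ (glInvT h⁻¹)) := by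
  refine ⟨hσ, ?_⟩
  rw [Units.val_mul, glMap_coe, glInvT_coe, inv_inv, Matrix.map_mul, Matrix.transpose_mul]
  congr 1
  ext i j
  simp [Matrix.map_apply, hσ]

/-- the inverse of a skew matrix is skew -/
theorem skew_inv {g : GL (Fin n) F}
    (hg : (g : Matrix (Fin n) (Fin n) F)ᵀ = -(g : Matrix (Fin n) (Fin n) F)) :
    ((g⁻¹ : GL (Fin n) F) : Matrix (Fin n) (Fin n) F)ᵀ
      = -((g⁻¹ : GL (Fin n) F) : Matrix (Fin n) (Fin n) F) := by
  have h1 : ((g⁻¹ : GL (Fin n) F) : Matrix (Fin n) (Fin n) F)ᵀ *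
      (g : Matrix (Fin n) (Fin n) F)ᵀ = 1 := by
    rw [← Matrix.transpose_mul, gl_mul_inv, Matrix.transpose_one]
  rw [hg, Matrix.mul_neg] at h1
  calc ((g⁻¹ : GL (Fin n) F) : Matrix (Fin n) (Fin n) F)ᵀ
      = ((g⁻¹ : GL (Fin n) F) : Matrix (Fin n) (Fin n) F)ᵀ *
          ((g : Matrix (Fin n) (Fin n) F) * ((g⁻¹ : GL (Fin n) F) : Matrix (Fin n) (Fin n) F)) := by
        rw [gl_mul_inv, Matrix.mul_one]
    _ = -(-(((g⁻¹ : GL (Fin n) F) : Matrix (Fin n) (Fin n) F)ᵀ *
          (g : Matrix (Fin n) (Fin n) F))) *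
          ((g⁻¹ : GL (Fin n) F) : Matrix (Fin n) (Fin n) F) := by
        rw [neg_neg, Matrix.mul_assoc]
    _ = -((g⁻¹ : GL (Fin n) F) : Matrix (Fin n) (Fin n) F) := by
        rw [h1, Matrix.neg_mul, Matrix.one_mul]

/-- an invertible skew matrix in characteristic `≠ 2` has even size -/
theorem even_of_skew (h2 : (2 : F) ≠ 0) {g : GL (Fin n) F}
    (hg : (g : Matrix (Fin n) (Fin n) F)ᵀ = -(g : Matrix (Fin n) (Fin n) F)) : Even n := by
  by_contra hodd
  rw [Nat.not_even_iff_odd] at hodd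
  have h1 : (g : Matrix (Fin n) (Fin n) F).det = (-1) ^ n * (g : Matrix (Fin n) (Fin n) F).det := by
    conv_lhs => rw [← Matrix.det_transpose, hg, Matrix.det_neg, Fintype.card_fin]
  rw [hodd.neg_one_pow] at h1
  have hdet : (g : Matrix (Fin n) (Fin n) F).det ≠ 0 := by
    have := Matrix.GeneralLinearGroup.det_ne_zero g
    exact this
  have h3 : (2 : F) * (g : Matrix (Fin n) (Fin n) F).det = 0 := by linear_combination h1
  rcases mul_eq_zero.1 h3 with h | h
  · exact h2 h
  · exact hdet h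

/-- the square of an automorphism of graph type has trivial field part -/
theorem nf_true_sq (hn : 2 ≤ n) {β : MulAut (Matrix.ProjectiveSpecialLinearGroup (Fin n) F)}
    {σ : F ≃+* F} (hβ : NF β σ true) (hsq : β * β = 1) : σ * σ = 1 := by
  have h1 := NF.mul hβ hβ
  rw [hsq, Bool.xor_self] at h1
  exact NF.one_false hn h1

/-- **graph-type involutions**: the `2'`-core of `C_A(β)` is trivial (given the absence of normal
subgroups of odd order in the projective conformal groups) -/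
theorem main_graph [Fintype F] {p f : ℕ} [hp : Fact p.Prime] (hF : Fintype.card F = p ^ f)
    (hf : 1 ≤ f) [CharP F p] (hp3 : 3 ≤ p) (hn : 3 ≤ n)
    (NC1 : ∀ m : ℕ, 1 ≤ m → NoNC 2 (Cfsg.PGO F (Cfsg.quadFormOdd m F)))
    (NC2 : ∀ m : ℕ, 2 ≤ m → NoNC 2 (Cfsg.PGO F (Cfsg.quadFormPlus m F)))
    (NC3 : ∀ m : ℕ, 1 ≤ m → ∀ a b : F,
      (∀ z₁ z₂ : F, z₁ ^ 2 + a * z₁ * z₂ + b * z₂ ^ 2 = 0 → z₁ = 0 ∧ z₂ = 0) →
      NoNC 2 (Cfsg.PGO F (Cfsg.quadFormMinus m F a b)))
    (NC4 : ∀ m : ℕ, 2 ≤ m → NoNC 2 (Cfsg.PGSp m F))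
    (NC5 : ∀ q : ℕ, Fintype.card F = q ^ 2 → Odd q → NoNC 2 (Cfsg.PGU n F q))
    (A : Subgroup (MulAut (Matrix.ProjectiveSpecialLinearGroup (Fin n) F)))
    (hinn : ∀ k : Matrix.ProjectiveSpecialLinearGroup (Fin n) F, MulAut.conj k ∈ A)
    (β : MulAut (Matrix.ProjectiveSpecialLinearGroup (Fin n) F)) (hord : orderOf β = 2)
    {σ : F ≃+* F} (hβ : NF β σ true) :
    Cfsg.pPrimeCore 2 ↥(A ⊓ Subgroup.centralizer {β}) = ⊥ := by
  haveI : Fact (Nat.Prime 2) := ⟨Nat.prime_two⟩
  have h2 : (2 : F) ≠ 0 := by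
    intro h
    have h3 : ((2 : ℕ) : F) = 0 := by exact_mod_cast h
    rw [CharP.cast_eq_zero_iff F p] at h3
    have := Nat.le_of_dvd (by norm_num) h3
    omega
  have hsq : β * β = 1 := by rw [← pow_two, ← hord]; exact pow_orderOf_eq_one β
  have hσσ := nf_true_sq (by omega) hβ hsq
  have hσ2 : ∀ a, σ (σ a) = a := fun a => by
    have := congrArg (fun τ : F ≃+* F => τ a) hσσ
    exact this
  obtain ⟨g, hg⟩ := hβ
  rw [slT_true] at hg
  by_cases hσ1 : σ = 1
  · -- pure graph type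
    subst hσ1
    have hgph : β = gph g := by rw [hg, slField_one, mul_one, map_mul]; rfl
    have hβG : β = pslOf (bhat (1 : F ≃+* F) g⁻¹) := by rw [hg]; unfold bhat; rw [inv_inv]
    have hord' : orderOf (gph g) = 2 := hgph ▸ hord
    rcases symm_or_skew_of_orderOf_gph (by omega) g hord' with hsym | hskew
    · -- orthogonal type
      have hD : HermData (1 : F ≃+* F) g⁻¹ := (hermData_of_symm hsym).inv'
      have hiso := exists_isotropic_symm hD (fun a => rfl) hn
      apply pPrimeCore_eq_bot_of A hinn β hord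
      · intro y _ hy2
        rw [hβG] at hy2 ⊢
        exact ha_herm hF hf hp3 hn hD hiso y hy2
      · obtain ⟨k, hk | hk⟩ := Nat.even_or_odd' n
        · have hk2 : 2 ≤ k := by omega
          rcases centralizer_gph_symm h2 (by omega) hk2 hk g hsym with he | ⟨a, b, hab, he⟩
          · obtain ⟨e⟩ := he
            rw [hgph]; exact hb_of_equiv _ e (NC2 k hk2)
          · obtain ⟨e⟩ := he
            rw [hgph]; exact hb_of_equiv _ e (NC3 (k - 1) (by omega) a b hab)
        · obtain ⟨e⟩ := (graph_aut_odd_dim hF hf hn hk (gph g) (gph g)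
            (isGraphAutClass_gph hn g) hord' (isGraphAutClass_gph hn g) hord').1
          rw [hgph]; exact hb_of_equiv _ e (NC1 k (by omega))
    · -- symplectic type
      have hskew' := skew_inv hskew
      apply pPrimeCore_eq_bot_of A hinn β hord
      · intro y _ hy2
        rw [hβG] at hy2 ⊢
        exact ha_skew hF hf h2 hn hskew' y hy2
      · obtain ⟨k, hk⟩ := even_of_skew h2 hskew
        have hk' : n = 2 * k := by omega
        obtain ⟨e⟩ := centralizer_gph_skew h2 (by omega) hk' g hskew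
        rw [hgph]; exact hb_of_equiv _ e (NC4 k (by omega))
  · -- graph-field type
    have hσo : orderOf σ = 2 := by
      apply orderOf_eq_prime
      · ext x
        rw [pow_two]
        exact hσ2 x
      · exact hσ1
    have hord2 : (pslOf (slConj g * slField σ * slInvT) :
        MulAut (Matrix.ProjectiveSpecialLinearGroup (Fin n) F)) ^ 2 = 1 := by
      rw [← hg, pow_two, hsq]
    obtain ⟨h, hh0⟩ := Cfsg.Agent.Helper37.Lang.graph_field_case (by omega) σ hσo g hord2
    rw [← hg] at hh0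
    have hgfx : (pslOf (slField σ * slInvT) :
        MulAut (Matrix.ProjectiveSpecialLinearGroup (Fin n) F)) = gfx n σ := rfl
    have hh := hh0
    rw [hgfx, conj_gfx] at hh
    obtain ⟨M, hM⟩ : ∃ M : GL (Fin n) F, M = h * glMap σ (glInvT h⁻¹) := ⟨_, rfl⟩
    rw [← hM] at hh
    have hD : HermData σ M⁻¹ := by rw [hM]; exact (hermData_graph_field hσ2 h).inv'
    have hβG : β = pslOf (bhat σ M⁻¹) := by
      rw [hh]; unfold bhat gfx; rw [inv_inv, ← map_mul, mul_assoc]
    have hiso := exists_isotropic_herm hD hF hσo (by omega)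
    apply pPrimeCore_eq_bot_of A hinn β hord
    · intro y _ hy2
      rw [hβG] at hy2 ⊢
      exact ha_herm hF hf hp3 hn hD hiso y hy2
    · have hx : Cfsg.IsGraphFieldAutClassPSL β := by
        refine ⟨hn, (pslOf (slConj h))⁻¹, pslOf (slField σ), pslOf slInvT, σ, hσ1,
          isStdField_pslOf_slField σ, (isInverseTranspose_iff _).2 rfl, ?_⟩
        rw [hh0, hgfx, gfx_eq]
        group
      obtain ⟨hev, -, ⟨e⟩, -⟩ := graph_field_main hF hf (by omega) β hx hord
      have hFq : Fintype.card F = (p ^ (f / 2)) ^ 2 := by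
        rw [hF, ← pow_mul, Nat.div_mul_cancel (even_iff_two_dvd.1 hev)]
      have hqodd : Odd (p ^ (f / 2)) :=
        Odd.pow (hp.out.odd_of_ne_two (by omega))
      exact hb_of_equiv _ e (NC5 _ hFq hqodd)

end Cfsg.Agent.Helper45.LBL
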