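import Mathlib
import Cfsg.Agent.Helper45.LBLO

/-!
Helper45: local balance for `PSL_n(F)` (S2686), part P: final reductions (normal form of `β`).
-/

set_option autoImplicit false
set_option linter.unusedSectionVars false

namespace Cfsg.Agent.Helper45.LBL

open Matrix Cfsg.Agent.Helper14.AutPSL Cfsg.Agent.Helper37.OutPsl Cfsg.Agent.Helper37.Bal

variable {n : ℕ} {F : Type*} [Field F]

/-- odd powers of an automorphism of graph type are of graph type -/
theorem NF.pow_true_odd {β : MulAut (Matrix.ProjectiveSpecialLinearGroup (Fin n) F)} {σ : F ≃+* F}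
    (h : NF β σ true) (k : ℕ) : NF (β ^ (2 * k + 1)) (σ ^ (2 * k + 1)) true := by
  have h2 : NF (β ^ 2) (σ ^ 2) false := by
    have := NF.mul h h
    rwa [Bool.xor_self, ← pow_two, ← pow_two] at this
  have h3 := NF.pow' h2 k
  have h4 := NF.mul h3 h
  rw [Bool.false_xor, ← pow_mul, ← pow_mul, ← pow_succ, ← pow_succ] at h4
  exact h4

/-- the field-type description in terms of the normal form -/
theorem field_type_iff_NF (β : MulAut (Matrix.ProjectiveSpecialLinearGroup (Fin n) F)) :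
    (∃ γ φ : MulAut (Matrix.ProjectiveSpecialLinearGroup (Fin n) F),
      Cfsg.IsInnerDiagonalAutPSL γ ∧ Cfsg.IsFieldAutPSL φ ∧ β = φ.trans γ) ↔
      ∃ σ : F ≃+* F, NF β σ false := by
  constructor
  · rintro ⟨γ, φ, hγ, ⟨σ, hφ⟩, hβ⟩
    obtain ⟨g, rfl⟩ := (isInnerDiagonal_iff γ).1 hγ
    have hφ' : φ = pslOf (slField σ) := (isStdField_iff σ φ).1 hφ
    refine ⟨σ, g, ?_⟩
    rw [slT_false, mul_one, map_mul, hβ, hφ']
    rfl
  · rintro ⟨σ, g, hg⟩
    rw [slT_false, mul_one, map_mul] at hg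
    exact ⟨pslOf (slConj g), pslOf (slField σ), isInnerDiagonal_pslOf_slConj g,
      ⟨σ, isStdField_pslOf_slField σ⟩, hg⟩

end Cfsg.Agent.Helper45.LBL
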