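import Mathlib
import Cfsg.Agent.Helper99.QSpGen
import Cfsg.Agent.Helper94.TpJ
import Cfsg.Agent.Helper45.EllA
import Cfsg.Agent.Helper45.EllB

/-!
# `PΩ⁻_{2d}(q)` on totally singular `m`-spaces (S5987): generalities and the prime `2` (helper45)
-/

set_option autoImplicit false
set_option linter.unusedSectionVars false
set_option linter.style.haveILetI false

namespace Cfsg.Agent.Helper45.Mts

open Module Polynomial Matrix
open Cfsg
open Cfsg.Agent.Helper59.InvChain Cfsg.Agent.Helper59.Elusive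
open Cfsg.Agent.Helper99.SpStruct Cfsg.Agent.Helper99.RDecomp
open Cfsg.Agent.Helper44 Cfsg.Agent.Helper44.QType
open Cfsg.Agent.Helper99.QSp
open Cfsg.Agent.Helper99.QSpGlue
open Cfsg.Agent.Helper94.Tn Cfsg.Agent.Helper94.Ts

universe u v

section general

variable {F : Type u} [Field F] [Fintype F]
variable {V : Type v} [AddCommGroup V] [Module F V] [FiniteDimensional F V]

/-- totally singular subspaces of a space of plus type -/
theorem exists_ts_of_plus (Q : QuadraticForm F V) {X : Submodule F V} (hX : Nd (pB Q) X) {α : ℕ}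
    (hdim : finrank F ↥X = 2 * α) (hty : QType Q X α 1) {n : ℕ} (hn : n ≤ α) :
    ∃ U : Submodule F V, U ≤ X ∧ TS Q U ∧ finrank F ↥U = n := by
  obtain ⟨U, hUX, hU, hUd⟩ := (hyp_iff_qType Q hX hdim).mpr hty
  obtain ⟨U', hU'U, hU'd⟩ := Cfsg.Agent.Helper45.EllA.exists_le_finrank_eq U
    (show n ≤ finrank F ↥U by omega)
  exact ⟨U', le_trans hU'U hUX, fun u hu => hU u (hU'U hu), hU'd⟩

/-- totally singular subspaces of a space of minus type -/
theorem exists_ts_of_minus (Q : QuadraticForm F V) {X : Submodule F V} (hX : Nd (pB Q) X) {α : ℕ}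
    (hdim : finrank F ↥X = 2 * α) {n : ℕ} (hn : n + 1 ≤ α) :
    ∃ U : Submodule F V, U ≤ X ∧ TS Q U ∧ finrank F ↥U = n := by
  obtain ⟨W, hWX, hWnd, hWdim, hWty⟩ :=
    exists_typed_sub Q hX hdim (show α - 1 < α by omega) 1 (Or.inl rfl)
  obtain ⟨U, hUW, hU, hUd⟩ := exists_ts_of_plus Q hWnd hWdim hWty (show n ≤ α - 1 by omega)
  exact ⟨U, le_trans hUW hWX, hU, hUd⟩

omit [Fintype F] [FiniteDimensional F V] in
/-- orthogonal sums of totally singular subspaces -/
theorem ts_sup (Q : QuadraticForm F V) {U U' : Submodule F V} (hU : TS Q U) (hU' : TS Q U')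
    (horth : Orth (pB Q) U U') : TS Q (U ⊔ U') := by
  intro w hw
  obtain ⟨u, hu, u', hu', rfl⟩ := Submodule.mem_sup.mp hw
  have h1 : pB Q u u' = 0 := horth u hu u' hu'
  rw [pB_apply] at h1
  unfold QuadraticMap.polar at h1
  rw [hU u hu, hU' u' hu'] at h1
  linear_combination h1

/-- a space of minus type is not zero -/
theorem pos_of_minus (Q : QuadraticForm F V) {X : Submodule F V} {α : ℕ}
    (hdim : finrank F ↥X = 2 * α) (hty : QType Q X α (-1)) : 1 ≤ α := by
  by_contra hcon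
  have h0 : α = 0 := by omega
  subst h0
  have hbot : X = ⊥ := by
    apply Submodule.finrank_eq_zero.mp
    rw [hdim]
  subst hbot
  have := hty.unique (qType_bot Q)
  norm_num at this

end general

/-! ## involutions -/

section invol

variable {F : Type u} [Field F] [Fintype F] {ι : Type} [Fintype ι] [DecidableEq ι]

/-- the fixed space of an element of `Ω` has even dimension (even dimensional space) -/
theorem even_finrank_fixSp_of_mem_Omega (Q : QuadraticForm F (ι → F))
    (hnd : (pB Q).Nondegenerate) (h4 : Fintype.card F ≠ 2 ∨ Fintype.card ι ≠ 4)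
    (hι : Even (Fintype.card ι)) (g : ↥(Cfsg.isometryGroup F ⇑Q)) (hgΩ : g ∈ Cfsg.Omega F ⇑Q) :
    Even (finrank F ↥(fixSp (Matrix.toLin' ((g : GL ι F) : Matrix ι ι F)))) := by
  have h3 := Cfsg.Agent.Helper45.EllB.even_fixD_of_mem_Omega Q hnd h4 hι g hgΩ
  have h5 : fixSp (Matrix.toLin' ((g : GL ι F) : Matrix ι ι F)) =
      Cfsg.Agent.Helper14.fixSpace (Cfsg.Agent.Helper45.OmegaParity.lin Q g) := by
    ext v
    rw [mem_fixSp, Cfsg.Agent.Helper14.mem_fixSpace, Matrix.toLin'_apply]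
    rfl
  rw [h5]
  exact h3

/-- an involution of `Ω` of a space of minus type fixes totally singular subspaces of every
dimension below the Witt index -/
theorem invol_exists_inv_ts (Q : QuadraticForm F (ι → F)) (hnd : (pB Q).Nondegenerate)
    (h2 : (2 : F) ≠ 0) {d : ℕ} (hι : Fintype.card ι = 2 * d)
    (h4 : Fintype.card F ≠ 2 ∨ Fintype.card ι ≠ 4) (hT : QType Q ⊤ d (-1))
    (g : ↥(Cfsg.isometryGroup F ⇑Q)) (hgΩ : g ∈ Cfsg.Omega F ⇑Q)
    (hgg : ((g : GL ι F) : Matrix ι ι F) * ((g : GL ι F) : Matrix ι ι F) = 1) {m : ℕ}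
    (hm : m + 1 ≤ d) :
    ∃ W : Submodule F (ι → F), finrank F ↥W = m ∧ TS Q W ∧
      Inv (Matrix.toLin' ((g : GL ι F) : Matrix ι ι F)) W := by
  classical
  set A := ((g : GL ι F) : Matrix ι ι F) with hA
  have hV : finrank F (ι → F) = 2 * d := by rw [Module.finrank_fintype_fun_eq_card, hι]
  have hiso : ∀ v, Q (Matrix.toLin' A v) = Q v := fun v => toLin_iso g v
  have hS : InvolSetup (pB Q) (Matrix.toLin' A) :=
    { symm := pB_symm _
      nondeg := hnd
      two_ne := h2
      isom := isom_pB hiso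
      sq := by
        intro v
        rw [← LinearMap.comp_apply, ← Matrix.toLin'_mul, hgg, Matrix.toLin'_one]
        rfl }
  have heven := even_finrank_fixSp_of_mem_Omega Q hnd h4 (by rw [hι]; exact even_two_mul d) g hgΩ
  rw [← hA] at heven
  have hadd := hS.finrank_add
  rw [hV] at hadd
  obtain ⟨α, hα⟩ := heven
  have hneg_even : Even (finrank F ↥(negSp (Matrix.toLin' A))) := by
    have h1 : Even (2 * d) := even_two_mul d
    rw [← hadd, Nat.even_add] at h1
    exact h1.mp ⟨α, hα⟩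
  obtain ⟨β, hβ⟩ := hneg_even
  have hdα : finrank F ↥(fixSp (Matrix.toLin' A)) = 2 * α := by omega
  have hdβ : finrank F ↥(negSp (Matrix.toLin' A)) = 2 * β := by omega
  have hαβ : α + β = d := by omega
  obtain ⟨εp, hεp, hTp⟩ := exists_qType Q hS.nd_fix hdα
  obtain ⟨εn, hεn, hTn⟩ := exists_qType Q hS.nd_neg hdβ
  have hsup := qType_sup Q hS.nd_fix hS.nd_neg hS.orth hdα hdβ hTp hTn
  rw [hS.sup_eq_top, hαβ] at hsup
  have hprod : εp * εn = -1 := hsup.unique hT
  -- the two summands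
  have key : ∀ (np nn : ℕ), np + nn = m →
      (∃ U : Submodule F (ι → F), U ≤ fixSp (Matrix.toLin' A) ∧ TS Q U ∧ finrank F ↥U = np) →
      (∃ U : Submodule F (ι → F), U ≤ negSp (Matrix.toLin' A) ∧ TS Q U ∧ finrank F ↥U = nn) →
      ∃ W : Submodule F (ι → F), finrank F ↥W = m ∧ TS Q W ∧ Inv (Matrix.toLin' A) W := by
    rintro np nn hsum ⟨Up, hUp, hUpts, hUpd⟩ ⟨Un, hUn, hUnts, hUnd⟩
    have horth : Orth (pB Q) Up Un := fun u hu u' hu' => hS.orth u (hUp hu) u' (hUn hu')
    have hdis : Disjoint Up Un := hS.disjoint.mono hUp hUn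
    refine ⟨Up ⊔ Un, ?_, ts_sup Q hUpts hUnts horth, ?_⟩
    · rw [finrank_sup_of_disjoint hdis, hUpd, hUnd, hsum]
    · rintro _ ⟨w, hw, rfl⟩
      obtain ⟨u, hu, u', hu', rfl⟩ := Submodule.mem_sup.mp hw
      rw [map_add, mem_fixSp.mp (hUp hu), mem_negSp.mp (hUn hu')]
      exact Submodule.add_mem_sup hu (Un.neg_mem hu')
  rcases hεp with rfl | rfl
  · -- fixed space of plus type, `-1`-eigenspace of minus type
    have hεn' : εn = -1 := by linarith
    subst hεn'
    have hβ1 := pos_of_minus Q hdβ hTn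
    by_cases hmα : m ≤ α
    · exact key m 0 (by omega) (exists_ts_of_plus Q hS.nd_fix hdα hTp hmα)
        (exists_ts_of_minus Q hS.nd_neg hdβ (by omega))
    · exact key α (m - α) (by omega) (exists_ts_of_plus Q hS.nd_fix hdα hTp le_rfl)
        (exists_ts_of_minus Q hS.nd_neg hdβ (by omega))
  · have hεn' : εn = 1 := by linarith
    subst hεn'
    have hα1 := pos_of_minus Q hdα hTp
    by_cases hmβ : m ≤ β
    · exact key 0 m (by omega) (exists_ts_of_minus Q hS.nd_fix hdα (by omega))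
        (exists_ts_of_plus Q hS.nd_neg hdβ hTn hmβ)
    · exact key (m - β) β (by omega) (exists_ts_of_minus Q hS.nd_fix hdα (by omega))
        (exists_ts_of_plus Q hS.nd_neg hdβ hTn le_rfl)

end invol

/-! ## isometries with square `-1`, `-1` a nonsquare -/

section sqneg

variable {F : Type u} [Field F] [Fintype F]
variable {V : Type v} [AddCommGroup V] [Module F V] [FiniteDimensional F V]

omit [Fintype F] in
/-- invariant subspaces of `y`, `y² = -1`, have even dimension if `-1` is not a square -/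
theorem even_finrank_of_sq_neg_one (y : Module.End F V) (hy : y * y = -1)
    (hns : ∀ a : F, a * a ≠ -1) {W : Submodule F V} (hW : Inv y W) : Even (finrank F ↥W) := by
  have hW' : ∀ x ∈ W, y x ∈ W := fun x hx => hW.apply_mem hx
  set yW : Module.End F ↥W := y.restrict hW' with hyW
  have hsq : yW * yW = (-1 : F) • (1 : Module.End F ↥W) := by
    apply LinearMap.ext
    intro w
    apply Subtype.ext
    have h1 := congrArg (fun f : Module.End F V => f (w : V)) hy
    simp only [Module.End.mul_apply, LinearMap.neg_apply, Module.End.one_apply] at h1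
    simp only [Module.End.mul_apply, hyW, LinearMap.restrict_coe_apply, LinearMap.smul_apply,
      Module.End.one_apply, Submodule.coe_smul, neg_smul, one_smul]
    exact h1
  have hdet := congrArg LinearMap.det hsq
  rw [map_mul, LinearMap.det_smul, map_one, mul_one] at hdet
  by_contra hodd
  rw [Nat.not_even_iff_odd] at hodd
  rw [hodd.neg_one_pow] at hdet
  exact hns _ hdet

/-- the chain of invariant totally singular planes -/
theorem exists_inv_ts_of_sq_neg_one (Q : QuadraticForm F V) (hnd : (pB Q).Nondegenerate)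
    (h2 : (2 : F) ≠ 0) (y : Module.End F V) (hiso : ∀ v, Q (y v) = Q v) (hy : y * y = -1)
    (hns : ∀ a : F, a * a ≠ -1) :
    ∀ s : ℕ, ∀ X : Submodule F V, Inv y X → Nd (pB Q) X → 4 * s ≤ finrank F ↥X →
      ∃ U : Submodule F V, U ≤ X ∧ Inv y U ∧ TS Q U ∧ finrank F ↥U = 2 * s := by
  classical
  have hB : (pB Q).IsSymm := pB_symm Q
  have hyy : ∀ x : V, y (y x) = -x := by
    intro x
    have := congrArg (fun f : Module.End F V => f x) hy
    simpa using this
  intro s
  induction s with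
  | zero =>
    intro X _ _ _
    exact ⟨⊥, bot_le, inv_bot y, fun u hu => by rw [(Submodule.mem_bot F).mp hu, map_zero],
      by simp⟩
  | succ s ih =>
    intro X hXinv hXnd hXdim
    obtain ⟨W, hWX, hWinv, hWnd, hWdim, hWty⟩ :=
      exists_inv_typed_of_sq_neg_one_nonsplit Q hnd h2 y hiso hy hns 2 X hXinv hXnd (by omega)
    have hWty' : QType Q W 2 1 := by
      have : ((-1 : ℤ)) ^ 2 = 1 := by norm_num
      rw [this] at hWty
      exact hWty
    -- a nonzero singular vector of `W`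
    obtain ⟨U₁, hU₁W, hU₁ts, hU₁d⟩ := exists_ts_of_plus Q hWnd hWdim hWty' (n := 1) (by omega)
    have hU₁ne : U₁ ≠ ⊥ := by
      intro h
      rw [h, finrank_bot] at hU₁d
      omega
    obtain ⟨v, hvU, hv0⟩ := Submodule.exists_mem_ne_zero_of_ne_bot hU₁ne
    have hvW : v ∈ W := hU₁W hvU
    have hQv : Q v = 0 := hU₁ts v hvU
    have hvyv : pB Q v (y v) = 0 := by
      have h1 : pB Q (y v) (y (y v)) = pB Q v (y v) := isom_pB hiso v (y v)
      rw [hyy, map_neg, (pB_symm Q).eq (y v) v] at h1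
      have h3 : (2 : F) * pB Q v (y v) = 0 := by linear_combination -h1
      exact (mul_eq_zero.mp h3).resolve_left h2
    have hQP : ∀ a b : F, Q (a • v + b • y v) = 0 := by
      intro a b
      have h1 : Q (a • v + b • y v) = Q (a • v) + Q (b • y v) + pB Q (a • v) (b • y v) := by
        rw [pB_apply]
        unfold QuadraticMap.polar
        ring
      rw [h1, QuadraticMap.map_smul, QuadraticMap.map_smul, hiso, hQv, map_smul, map_smul,
        LinearMap.smul_apply, hvyv]
      simp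
    have hli : LinearIndependent F ![v, y v] := by
      rw [LinearIndependent.pair_iff]
      intro a b hab
      by_cases hb : b = 0
      · subst hb
        rw [zero_smul, add_zero] at hab
        rcases smul_eq_zero.mp hab with h | h
        · exact ⟨h, rfl⟩
        · exact absurd h hv0
      · exfalso
        have h1 : y v = (-(a / b)) • v := by
          have h3 : b • y v = -(a • v) := eq_neg_of_add_eq_zero_right hab
          have h4 : y v = b⁻¹ • (b • y v) := by rw [smul_smul, inv_mul_cancel₀ hb, one_smul]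
          rw [h4, h3, smul_neg, smul_smul, neg_smul, div_eq_inv_mul]
        have h5 : y (y v) = ((-(a / b)) * (-(a / b))) • v := by
          rw [h1, map_smul, h1, smul_smul]
        rw [hyy] at h5
        have h6 : ((-(a / b)) * (-(a / b)) + 1) • v = 0 := by
          rw [add_smul, one_smul, ← h5, neg_add_cancel]
        rcases smul_eq_zero.mp h6 with h | h
        · exact hns (-(a / b)) (by linear_combination h)
        · exact hv0 h
    have hrange : Set.range ![v, y v] = {v, y v} := by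
      ext x
      simp only [Set.mem_range, Set.mem_insert_iff, Set.mem_singleton_iff]
      constructor
      · rintro ⟨j, rfl⟩
        fin_cases j
        · left; rfl
        · right; rfl
      · rintro (rfl | rfl)
        · exact ⟨0, rfl⟩
        · exact ⟨1, rfl⟩
    set P := Submodule.span F {v, y v} with hP
    have hPdim : finrank F ↥P = 2 := by
      rw [hP, ← hrange, finrank_span_eq_card hli, Fintype.card_fin]
    have hPW : P ≤ W := by
      rw [hP, Submodule.span_le]
      rintro x hx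
      rcases hx with rfl | rfl
      · exact hvW
      · exact hWinv.apply_mem hvW
    have hPts : TS Q P := by
      intro x hx
      obtain ⟨a, b, rfl⟩ := Submodule.mem_span_pair.mp hx
      exact hQP a b
    have hPinv : Inv y P := by
      rw [inv_iff]
      intro x hx
      obtain ⟨a, b, rfl⟩ := Submodule.mem_span_pair.mp hx
      rw [map_add, map_smul, map_smul, hyy]
      apply Submodule.mem_span_pair.mpr
      exact ⟨-b, a, by module⟩
    -- the orthogonal complement of `W` is invariant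
    have hWoinv : Inv y ((pB Q).orthogonal W) := by
      rw [inv_iff]
      intro x hx
      rw [LinearMap.BilinForm.mem_orthogonal_iff] at hx ⊢
      intro w hw
      have h1 : pB Q (y (-(y w))) (y x) = pB Q (-(y w)) x := isom_pB hiso _ _
      rw [map_neg, hyy, neg_neg] at h1
      show pB Q w (y x) = 0
      rw [h1]
      exact hx _ (W.neg_mem (hWinv.apply_mem hw))
    have hX'inv : Inv y (X ⊓ (pB Q).orthogonal W) := inv_inf hXinv hWoinv
    have hX'nd : Nd (pB Q) (X ⊓ (pB Q).orthogonal W) := hWnd.inf_orth hB.isRefl hWX hXnd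
    have hX'dim := hWnd.finrank_inf_orth hB.isRefl hWX
    rw [hWdim] at hX'dim
    obtain ⟨U', hU'X', hU'inv, hU'ts, hU'dim⟩ :=
      ih (X ⊓ (pB Q).orthogonal W) hX'inv hX'nd (by omega)
    have hWU' : Orth (pB Q) W U' := orth_iff_le.mpr (le_trans hU'X' inf_le_right)
    have hPU' : Orth (pB Q) P U' := fun u hu u' hu' => hWU' u (hPW hu) u' hu'
    have hdis : Disjoint P U' := (hWU'.disjoint hWnd).mono_left hPW
    refine ⟨P ⊔ U', sup_le (le_trans hPW hWX) (le_trans hU'X' inf_le_left),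
      inv_sup hPinv hU'inv, ts_sup Q hPts hU'ts hPU', ?_⟩
    rw [finrank_sup_of_disjoint hdis, hPdim, hU'dim]
    ring

end sqneg

/-! ## the prime `2` for the minus form -/

section main

variable {F : Type u} [Field F] {k : ℕ}

/-- the property of the statement S5987, in our language -/
def GoodTS (F : Type u) [Field F] (k : ℕ) (a b : F) (m : ℕ)
    (A : Matrix ((Fin k ⊕ Fin k) ⊕ Fin 2) ((Fin k ⊕ Fin k) ⊕ Fin 2) F) : Prop :=
  ∃ W : Submodule F ((Fin k ⊕ Fin k) ⊕ Fin 2 → F), finrank F ↥W = m ∧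
    TS (minusForm k F a b) W ∧ Inv (Matrix.toLin' A) W

theorem goodTS_iff_stmt {a b : F} {m : ℕ}
    (A : Matrix ((Fin k ⊕ Fin k) ⊕ Fin 2) ((Fin k ⊕ Fin k) ⊕ Fin 2) F) :
    (∃ W : Submodule F ((Fin k ⊕ Fin k) ⊕ Fin 2 → F), (Module.finrank F ↥W = m ∧
        Cfsg.Geo.IsTotallySingularQuad (Cfsg.quadFormMinus k F a b) W) ∧
        W.map (Matrix.toLin' A) ≤ W) ↔ GoodTS F k a b m A := by
  constructor
  · rintro ⟨W, ⟨h1, h3⟩, h4⟩
    exact ⟨W, h1, h3, h4⟩
  · rintro ⟨W, h1, h3, h4⟩
    exact ⟨W, ⟨h1, h3⟩, h4⟩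

variable [Fintype F]

theorem finrank_mV : finrank F ((Fin k ⊕ Fin k) ⊕ Fin 2 → F) = 2 * (k + 1) := by
  rw [Module.finrank_fintype_fun_eq_card, Cfsg.Agent.Helper94.Tp.card_minus]

theorem qType_top_minus {a b : F}
    (hab : ∀ z₁ z₂ : F, z₁ ^ 2 + a * z₁ * z₂ + b * z₂ ^ 2 = 0 → z₁ = 0 ∧ z₂ = 0) :
    QType (minusForm k F a b) ⊤ (k + 1) (-1) :=
  (qType_top_iff _ _ _).mpr (Cfsg.Agent.Helper94.Tp.hT_minus hab)

/-- `r = 2`, odd characteristic -/
theorem mts_two_odd_char (h2F : (2 : F) ≠ 0) (hk : 3 ≤ k) {a b : F}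
    (hab : ∀ z₁ z₂ : F, z₁ ^ 2 + a * z₁ * z₂ + b * z₂ ^ 2 = 0 → z₁ = 0 ∧ z₂ = 0) {m : ℕ}
    (hm : 1 ≤ m) (hmk : m ≤ k) :
    (∀ x : GL ((Fin k ⊕ Fin k) ⊕ Fin 2) F, x ∈ Cfsg.Geo.omegaGL (Cfsg.quadFormMinus k F a b) →
      (∃ z : F, ((x ^ 2 : GL ((Fin k ⊕ Fin k) ⊕ Fin 2) F) :
        Matrix ((Fin k ⊕ Fin k) ⊕ Fin 2) ((Fin k ⊕ Fin k) ⊕ Fin 2) F) =
        z • (1 : Matrix ((Fin k ⊕ Fin k) ⊕ Fin 2) ((Fin k ⊕ Fin k) ⊕ Fin 2) F)) →
      (∀ z : F, (x : Matrix ((Fin k ⊕ Fin k) ⊕ Fin 2) ((Fin k ⊕ Fin k) ⊕ Fin 2) F) ≠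
        z • (1 : Matrix ((Fin k ⊕ Fin k) ⊕ Fin 2) ((Fin k ⊕ Fin k) ⊕ Fin 2) F)) →
      GoodTS F k a b m (x : Matrix ((Fin k ⊕ Fin k) ⊕ Fin 2) ((Fin k ⊕ Fin k) ⊕ Fin 2) F)) ↔
    (Even (k + 1) ∨ Even m ∨ Fintype.card F % 8 ≠ 7) := by
  classical
  have hnd : (pB (minusForm k F a b)).Nondegenerate :=
    Cfsg.Agent.Helper5.nondegenerate_minusForm_of_aniso k a b hab
  have hndtop : Nd (pB (minusForm k F a b)) ⊤ := nd_top_of_nondeg' hnd
  have hT := qType_top_minus (k := k) hab
  have hcard : Fintype.card ((Fin k ⊕ Fin k) ⊕ Fin 2) = 2 * (k + 1) :=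
    Cfsg.Agent.Helper94.Tp.card_minus
  haveI : Nonempty ((Fin k ⊕ Fin k) ⊕ Fin 2) := ⟨Sum.inr 0⟩
  have hqodd : Fintype.card F % 2 = 1 := FiniteField.odd_card_of_char_ne_two (by
    intro hch
    haveI : CharP F 2 := ringChar.of_eq hch
    exact h2F (CharTwo.two_eq_zero))
  have hsq_iff : (∃ c : F, c * c = -1) ↔ Fintype.card F % 4 = 1 := by
    have h1 := FiniteField.isSquare_neg_one_iff (F := F)
    constructor
    · rintro ⟨c, hc⟩
      have : IsSquare (-1 : F) := ⟨c, hc.symm⟩
      have := h1.mp this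
      omega
    · intro h
      obtain ⟨c, hc⟩ := h1.mpr (by omega)
      exact ⟨c, hc.symm⟩
  -- an isometry with square `-1` is never scalar
  have hnotscalar : ∀ x : ↥(Cfsg.isometryGroup F (Cfsg.quadFormMinus k F a b)),
      ((x : GL ((Fin k ⊕ Fin k) ⊕ Fin 2) F) :
        Matrix ((Fin k ⊕ Fin k) ⊕ Fin 2) ((Fin k ⊕ Fin k) ⊕ Fin 2) F) *
        ((x : GL ((Fin k ⊕ Fin k) ⊕ Fin 2) F) :
          Matrix ((Fin k ⊕ Fin k) ⊕ Fin 2) ((Fin k ⊕ Fin k) ⊕ Fin 2) F) = -1 →
      ∀ z : F, ((x : GL ((Fin k ⊕ Fin k) ⊕ Fin 2) F) :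
        Matrix ((Fin k ⊕ Fin k) ⊕ Fin 2) ((Fin k ⊕ Fin k) ⊕ Fin 2) F) ≠
        z • (1 : Matrix ((Fin k ⊕ Fin k) ⊕ Fin 2) ((Fin k ⊕ Fin k) ⊕ Fin 2) F) := by
    intro x hxx z hz
    have hz2 : z ^ 2 = 1 :=
      Cfsg.Agent.Helper99.QSpGen.sq_eq_one_of_pow_eq_smul (minusForm k F a b) hnd x (r := 1)
        (by rw [pow_one]; exact hz)
    rw [hz, Matrix.smul_mul, Matrix.mul_smul, Matrix.one_mul, smul_smul, ← pow_two, hz2,
      one_smul] at hxx
    have h5 := congrFun (congrFun hxx (Sum.inr 0)) (Sum.inr 0)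
    simp only [Matrix.one_apply_eq, Matrix.neg_apply] at h5
    have h6 : (2 : F) = 0 := by linear_combination h5
    exact h2F h6
  constructor
  · intro H
    by_contra hcon
    push Not at hcon
    obtain ⟨hkodd, hmodd, hq8⟩ := hcon
    rw [Nat.not_even_iff_odd] at hkodd hmodd
    obtain ⟨g, hgΩ, hg⟩ := (Cfsg.Agent.Helper94.Tp.exists_minus_Omega_sq_neg_iff (F := F) (k := k)
      h2F rfl (Nat.odd_iff.mpr hqodd) hab).mpr ⟨hkodd, hq8⟩
    have hgg : ((g : GL ((Fin k ⊕ Fin k) ⊕ Fin 2) F) :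
        Matrix ((Fin k ⊕ Fin k) ⊕ Fin 2) ((Fin k ⊕ Fin k) ⊕ Fin 2) F) *
        ((g : GL ((Fin k ⊕ Fin k) ⊕ Fin 2) F) :
          Matrix ((Fin k ⊕ Fin k) ⊕ Fin 2) ((Fin k ⊕ Fin k) ⊕ Fin 2) F) = -1 := by
      apply Matrix.toLin'.injective
      apply LinearMap.ext
      intro v
      rw [Matrix.toLin'_apply, ← Matrix.mulVec_mulVec, hg v, Matrix.toLin'_apply,
        Matrix.neg_mulVec, Matrix.one_mulVec]
    set A := ((g : GL ((Fin k ⊕ Fin k) ⊕ Fin 2) F) :
      Matrix ((Fin k ⊕ Fin k) ⊕ Fin 2) ((Fin k ⊕ Fin k) ⊕ Fin 2) F) with hA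
    obtain ⟨W, hWdim, -, hWinv⟩ := H (g : GL ((Fin k ⊕ Fin k) ⊕ Fin 2) F)
      (Subgroup.mem_map.mpr ⟨g, hgΩ, rfl⟩)
      ⟨-1, by rw [pow_two, Units.val_mul, hgg, neg_smul, one_smul]⟩ (hnotscalar g hgg)
    have hYY : Matrix.toLin' A * Matrix.toLin' A = -1 := by
      rw [Module.End.mul_eq_comp, ← Matrix.toLin'_mul, hgg, map_neg, Matrix.toLin'_one]
      rfl
    have hns : ∀ c : F, c * c ≠ -1 := fun c hc => by
      have := hsq_iff.mp ⟨c, hc⟩
      omega
    have heven := even_finrank_of_sq_neg_one (Matrix.toLin' A) hYY hns hWinv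
    rw [hWdim] at heven
    exact (Nat.not_even_iff_odd.mpr hmodd) heven
  · intro hrhs x hx ⟨z, hz⟩ _
    obtain ⟨g, hgΩ, rfl⟩ := Subgroup.mem_map.mp hx
    set A := ((g : GL ((Fin k ⊕ Fin k) ⊕ Fin 2) F) :
      Matrix ((Fin k ⊕ Fin k) ⊕ Fin 2) ((Fin k ⊕ Fin k) ⊕ Fin 2) F) with hA
    have hz2 : z ^ 2 = 1 :=
      Cfsg.Agent.Helper99.QSpGen.sq_eq_one_of_pow_eq_smul (minusForm k F a b) hnd g hz
    have hAA : A * A = z • (1 : Matrix ((Fin k ⊕ Fin k) ⊕ Fin 2) ((Fin k ⊕ Fin k) ⊕ Fin 2) F) := by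
      rw [← hz, pow_two, Units.val_mul]
      rfl
    have hiso : ∀ v, minusForm k F a b (Matrix.toLin' A v) = minusForm k F a b v :=
      fun v => toLin_iso g v
    have hz' : z = 1 ∨ z = -1 := by
      have : (z - 1) * (z + 1) = 0 := by linear_combination hz2
      rcases mul_eq_zero.mp this with h | h
      · left; exact sub_eq_zero.mp h
      · right; exact eq_neg_of_add_eq_zero_left h
    rcases hz' with rfl | rfl
    · rw [one_smul] at hAA
      exact invol_exists_inv_ts (minusForm k F a b) hnd h2F hcard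
        (Or.inr (by rw [hcard]; omega)) hT g hgΩ hAA (by omega)
    · rw [neg_smul, one_smul] at hAA
      have hYY : Matrix.toLin' A * Matrix.toLin' A = -1 := by
        rw [Module.End.mul_eq_comp, ← Matrix.toLin'_mul, hAA, map_neg, Matrix.toLin'_one]
        rfl
      by_cases hsq : ∃ c : F, c * c = -1
      · -- impossible: the space would be hyperbolic
        exfalso
        obtain ⟨ι₀, hι⟩ := hsq
        obtain ⟨W, -, -, hWnd, hWdim, hWhyp⟩ :=
          exists_inv_hyp_of_sq_neg_one_split (minusForm k F a b) hnd h2F (Matrix.toLin' A) hiso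
            hYY hι (k + 1) ⊤ (Cfsg.Agent.Helper59.InvChain.inv_top _) hndtop
            (by rw [finrank_top, finrank_mV])
        have hWtop : W = ⊤ := by
          apply Submodule.eq_top_of_finrank_eq
          rw [hWdim, finrank_mV]
        rw [hWtop] at hWhyp
        have h1 := (hyp_iff_qType _ hndtop (by rw [finrank_top, finrank_mV])).mp hWhyp
        have := h1.unique hT
        norm_num at this
      · have hns : ∀ c : F, c * c ≠ -1 := fun c hc => hsq ⟨c, hc⟩
        have hex := (Cfsg.Agent.Helper94.Tp.exists_minus_Omega_sq_neg_iff (F := F) (k := k)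
          h2F rfl (Nat.odd_iff.mpr hqodd) hab).mp ⟨g, hgΩ, fun v => by
            rw [Matrix.mulVec_mulVec]
            show (A * A) *ᵥ v = -v
            rw [hAA, Matrix.neg_mulVec, Matrix.one_mulVec]⟩
        obtain ⟨hkodd, hq8⟩ := hex
        have hmeven : Even m := by
          rcases hrhs with h | h | h
          · exact absurd h (Nat.not_even_iff_odd.mpr hkodd)
          · exact h
          · exact absurd hq8 h
        obtain ⟨s, hs⟩ := hmeven
        obtain ⟨U, -, hUinv, hUts, hUdim⟩ :=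
          exists_inv_ts_of_sq_neg_one (minusForm k F a b) hnd h2F (Matrix.toLin' A) hiso hYY hns s ⊤
            (Cfsg.Agent.Helper59.InvChain.inv_top _) hndtop
            (by rw [finrank_top, finrank_mV]; omega)
        exact ⟨U, by rw [hUdim]; omega, hUts, hUinv⟩

end main

end Cfsg.Agent.Helper45.Mts
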