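import Mathlib
import Cfsg.Agent.Helper45.MtsTwo
import Cfsg.Agent.Helper94.TqE
import Cfsg.Agent.Helper94.TqH

/-!
# `PΩ⁻_{2d}(q)` on totally singular `m`-spaces (S5987): the count, `r = p`, and the setup of an
element of odd prime order (helper45)
-/

set_option autoImplicit false
set_option linter.unusedSectionVars false
set_option linter.style.haveILetI false

namespace Cfsg.Agent.Helper45.Mts

open Module Polynomial Matrix
open Cfsg
open Cfsg.Agent.Helper59.InvChain Cfsg.Agent.Helper59.Elusive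
open Cfsg.Agent.Helper99.SpStruct Cfsg.Agent.Helper99.RDecomp Cfsg.Agent.Helper99.SpElt
open Cfsg.Agent.Helper44 Cfsg.Agent.Helper44.QType
open Cfsg.Agent.Helper99.QSp
open Cfsg.Agent.Helper99.QSpGlue
open Cfsg.Agent.Helper94.Tn Cfsg.Agent.Helper94.Ts Cfsg.Agent.Helper94.Tq

universe u

variable {F : Type u} [Field F] [Fintype F] {k : ℕ}

/-- the hypothesis on `r` in our language -/
theorem card_bridge {a b : F} {m : ℕ} :
    Nat.card {W : Submodule F ((Fin k ⊕ Fin k) ⊕ Fin 2 → F) // Module.finrank F ↥W = m ∧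
      Cfsg.Geo.IsTotallySingularQuad (Cfsg.quadFormMinus k F a b) W} =
    Nat.card {W : Submodule F ((Fin k ⊕ Fin k) ⊕ Fin 2 → F) // finrank F ↥W = m ∧
      TS (minusForm k F a b) W} := rfl

/-- the characteristic does not divide the number of totally singular `m`-spaces -/
theorem char_not_dvd {p : ℕ} [Fact p.Prime] [CharP F p] {a b : F}
    (hab : ∀ z₁ z₂ : F, z₁ ^ 2 + a * z₁ * z₂ + b * z₂ ^ 2 = 0 → z₁ = 0 ∧ z₂ = 0) {m : ℕ}
    (hmk : m ≤ k) :
    ¬ p ∣ Nat.card {W : Submodule F ((Fin k ⊕ Fin k) ⊕ Fin 2 → F) // finrank F ↥W = m ∧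
      TS (minusForm k F a b) W} :=
  char_not_dvd_card_ts (minusForm k F a b)
    (Cfsg.Agent.Helper5.nondegenerate_minusForm_of_aniso k a b hab) finrank_mV (Or.inr rfl)
    (qType_top_minus hab) m (by omega) p

/-- the consequence of `r ∣ #Ω` -/
theorem exists_dvd_of_dvd_card {a b : F}
    (hab : ∀ z₁ z₂ : F, z₁ ^ 2 + a * z₁ * z₂ + b * z₂ ^ 2 = 0 → z₁ = 0 ∧ z₂ = 0) {m : ℕ}
    (hmk : m ≤ k) (r : ℕ) (hr : r.Prime)
    (hdvd : r ∣ Nat.card {W : Submodule F ((Fin k ⊕ Fin k) ⊕ Fin 2 → F) // finrank F ↥W = m ∧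
      TS (minusForm k F a b) W}) :
    ∃ j : ℕ, j < m ∧ (r : ℤ) ∣ ((Fintype.card F : ℤ) ^ (k + 1 - j) - (-1)) *
      ((Fintype.card F : ℤ) ^ (k + 1 - j - 1) + (-1)) :=
  exists_dvd_of_dvd_card_ts (minusForm k F a b)
    (Cfsg.Agent.Helper5.nondegenerate_minusForm_of_aniso k a b hab) finrank_mV (Or.inr rfl)
    (qType_top_minus hab) m (by omega) r hr hdvd

variable {p : ℕ} [Fact p.Prime] [CharP F p]

/-- the setup of an element of order `r` -/
theorem qSetup_of_elt {a b : F}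
    (hab : ∀ z₁ z₂ : F, z₁ ^ 2 + a * z₁ * z₂ + b * z₂ ^ 2 = 0 → z₁ = 0 ∧ z₂ = 0)
    (r : ℕ) [Fact r.Prime] (hrp : r ≠ p) (hr2 : r ≠ 2)
    (y : ↥(Cfsg.isometryGroup F (Cfsg.quadFormMinus k F a b))) (hyr : y ^ r = 1) :
    QSetup (minusForm k F a b) r (Matrix.toLin' ((y : GL ((Fin k ⊕ Fin k) ⊕ Fin 2) F) :
      Matrix ((Fin k ⊕ Fin k) ⊕ Fin 2) ((Fin k ⊕ Fin k) ⊕ Fin 2) F)) :=
  { nondeg := Cfsg.Agent.Helper5.nondegenerate_minusForm_of_aniso k a b hab
    iso := fun v => toLin_iso y v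
    setup := setup_of r hrp _ (toLin_pow_eq_one' y hyr)
    odd := (Fact.out : r.Prime).odd_of_ne_two hr2
    hp := HP_cyclotomic r hrp }

end Cfsg.Agent.Helper45.Mts
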