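import Mathlib
import Cfsg.Agent.Helper45.MtsBase
import Cfsg.Agent.Helper94.TqR

/-!
# `PΩ⁻_{2d}(q)` on totally singular `m`-spaces (S5987): odd primes `r ≠ p` (helper45, on helper94's
`Tq` engine)
-/

set_option autoImplicit false
set_option linter.unusedSectionVars false
set_option linter.unusedVariables false
set_option linter.style.haveILetI false

namespace Cfsg.Agent.Helper45.Mts

open Module Polynomial Matrix
open Cfsg
open Cfsg.Agent.Helper59.InvChain Cfsg.Agent.Helper59.Elusive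
open Cfsg.Agent.Helper99.SpStruct Cfsg.Agent.Helper99.RDecomp Cfsg.Agent.Helper99.SpElt
open Cfsg.Agent.Helper44 Cfsg.Agent.Helper44.QType
open Cfsg.Agent.Helper99.QSp
open Cfsg.Agent.Helper99.QSpGlue
open Cfsg.Agent.Helper94.Tn Cfsg.Agent.Helper94.Ts Cfsg.Agent.Helper94.Tq

universe u

variable {F : Type u} [Field F] [Fintype F] {k : ℕ}
variable {p : ℕ} [Fact p.Prime] [CharP F p]

/-- (⇐) for odd `r`: one element -/
theorem goodTS_of_rhs {a b : F}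
    (hab : ∀ z₁ z₂ : F, z₁ ^ 2 + a * z₁ * z₂ + b * z₂ ^ 2 = 0 → z₁ = 0 ∧ z₂ = 0)
    (r : ℕ) [Fact r.Prime] (hrp : r ≠ p) (hr2 : r ≠ 2) {m : ℕ} (hmk : m ≤ k)
    (hrhs : (Odd (orderOf ((Fintype.card F : ℕ) : ZMod r)) ∧
        OddRHSm (orderOf ((Fintype.card F : ℕ) : ZMod r)) (k + 1) m) ∨
      (Even (orderOf ((Fintype.card F : ℕ) : ZMod r)) ∧
        EvenRHSm (orderOf ((Fintype.card F : ℕ) : ZMod r)) (k + 1) m
          ((r - 1) / orderOf ((Fintype.card F : ℕ) : ZMod r))))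
    (g : ↥(Cfsg.isometryGroup F (Cfsg.quadFormMinus k F a b))) {z : F}
    (hz : (((g : GL ((Fin k ⊕ Fin k) ⊕ Fin 2) F) ^ r : GL ((Fin k ⊕ Fin k) ⊕ Fin 2) F) :
      Matrix ((Fin k ⊕ Fin k) ⊕ Fin 2) ((Fin k ⊕ Fin k) ⊕ Fin 2) F) =
      z • (1 : Matrix ((Fin k ⊕ Fin k) ⊕ Fin 2) ((Fin k ⊕ Fin k) ⊕ Fin 2) F))
    (hns : ∀ z : F, ((g : GL ((Fin k ⊕ Fin k) ⊕ Fin 2) F) :
      Matrix ((Fin k ⊕ Fin k) ⊕ Fin 2) ((Fin k ⊕ Fin k) ⊕ Fin 2) F) ≠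
      z • (1 : Matrix ((Fin k ⊕ Fin k) ⊕ Fin 2) ((Fin k ⊕ Fin k) ⊕ Fin 2) F)) :
    GoodTS F k a b m ((g : GL ((Fin k ⊕ Fin k) ⊕ Fin 2) F) :
      Matrix ((Fin k ⊕ Fin k) ⊕ Fin 2) ((Fin k ⊕ Fin k) ⊕ Fin 2) F) := by
  classical
  haveI : Nonempty ((Fin k ⊕ Fin k) ⊕ Fin 2) := ⟨Sum.inr 0⟩
  have hnd : (pB (minusForm k F a b)).Nondegenerate :=
    Cfsg.Agent.Helper5.nondegenerate_minusForm_of_aniso k a b hab
  have hr : r.Prime := Fact.out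
  have hrodd : Odd r := hr.odd_of_ne_two hr2
  have hrq := not_dvd_card_of_ne (F := F) r hrp
  set A : Matrix ((Fin k ⊕ Fin k) ⊕ Fin 2) ((Fin k ⊕ Fin k) ⊕ Fin 2) F :=
    ((g : GL ((Fin k ⊕ Fin k) ⊕ Fin 2) F) :
      Matrix ((Fin k ⊕ Fin k) ⊕ Fin 2) ((Fin k ⊕ Fin k) ⊕ Fin 2) F) with hA
  have hz2 : z ^ 2 = 1 :=
    Cfsg.Agent.Helper99.QSpGen.sq_eq_one_of_pow_eq_smul (minusForm k F a b) hnd g hz
  have hz0 : z ≠ 0 := by
    rintro rfl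
    norm_num at hz2
  have hAr : A ^ r = z • (1 : Matrix ((Fin k ⊕ Fin k) ⊕ Fin 2) ((Fin k ⊕ Fin k) ⊕ Fin 2) F) := by
    rw [← hz, Units.val_pow_eq_pow_val]
  set L : Module.End F ((Fin k ⊕ Fin k) ⊕ Fin 2 → F) := Matrix.toLin' A with hL
  have hLr : L ^ r = z • (1 : Module.End F ((Fin k ⊕ Fin k) ⊕ Fin 2 → F)) := by
    rw [hL, ← Matrix.toLin'_pow, hAr, map_smul, Matrix.toLin'_one]
    rfl
  set y : Module.End F ((Fin k ⊕ Fin k) ⊕ Fin 2 → F) := z • L with hy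
  have hzr : z ^ (r + 1) = 1 := by
    obtain ⟨j, hj⟩ := hrodd
    have : r + 1 = 2 * (j + 1) := by omega
    rw [this, pow_mul, hz2, one_pow]
  have hyr : y ^ r = 1 := by
    rw [hy, _root_.smul_pow, hLr, smul_smul, ← pow_succ, hzr, one_smul]
  have hLiso : ∀ v, minusForm k F a b (L v) = minusForm k F a b v := fun v => toLin_iso g v
  have hyiso : ∀ v, minusForm k F a b (y v) = minusForm k F a b v := by
    intro v
    rw [hy, LinearMap.smul_apply, QuadraticMap.map_smul, hLiso, smul_eq_mul, ← pow_two, hz2,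
      one_mul]
  have hy1 : y ≠ 1 := by
    intro h1
    apply hns z⁻¹
    have h3 : L = z⁻¹ • (1 : Module.End F ((Fin k ⊕ Fin k) ⊕ Fin 2 → F)) := by
      rw [← h1, hy, smul_smul, inv_mul_cancel₀ hz0, one_smul]
    have h4 : Matrix.toLin' A = Matrix.toLin'
        (z⁻¹ • (1 : Matrix ((Fin k ⊕ Fin k) ⊕ Fin 2) ((Fin k ⊕ Fin k) ⊕ Fin 2) F)) := by
      rw [map_smul, Matrix.toLin'_one]
      exact h3
    exact Matrix.toLin'.injective h4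
  have hS : QSetup (minusForm k F a b) r y :=
    { nondeg := hnd
      iso := hyiso
      setup := setup_of r hrp y hyr
      odd := hrodd
      hp := HP_cyclotomic r hrp }
  obtain ⟨W, hWdim, hWts, hWinv⟩ := exists_ts_of_rhs_minus hS hrq (orderOf_card_dvd (F := F) r hrp)
    finrank_mV (qType_top_minus hab) hy1 (show m < k + 1 by omega) hrhs
  refine ⟨W, hWdim, hWts, ?_⟩
  rintro _ ⟨w, hw, rfl⟩
  have h1 : y w ∈ W := hWinv.apply_mem hw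
  have h3 : L w = z⁻¹ • y w := by
    rw [hy, LinearMap.smul_apply, smul_smul, inv_mul_cancel₀ hz0, one_smul]
  rw [h3]
  exact W.smul_mem _ h1

/-- (⇒) for odd `r`: the test elements -/
theorem rhs_of_goodTS (hk : 3 ≤ k) {a b : F}
    (hab : ∀ z₁ z₂ : F, z₁ ^ 2 + a * z₁ * z₂ + b * z₂ ^ 2 = 0 → z₁ = 0 ∧ z₂ = 0)
    (r : ℕ) [Fact r.Prime] (hrp : r ≠ p) (hr2 : r ≠ 2) {m : ℕ} (hm : 1 ≤ m) (hmk : m ≤ k)
    (hstar : StarM (orderOf ((Fintype.card F : ℕ) : ZMod r)) (k + 1) m)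
    (H : ∀ g : ↥(Cfsg.isometryGroup F (Cfsg.quadFormMinus k F a b)),
      g ∈ Cfsg.Omega F (Cfsg.quadFormMinus k F a b) → orderOf g = r →
      GoodTS F k a b m ((g : GL ((Fin k ⊕ Fin k) ⊕ Fin 2) F) :
        Matrix ((Fin k ⊕ Fin k) ⊕ Fin 2) ((Fin k ⊕ Fin k) ⊕ Fin 2) F)) :
    (Odd (orderOf ((Fintype.card F : ℕ) : ZMod r)) ∧
        OddRHSm (orderOf ((Fintype.card F : ℕ) : ZMod r)) (k + 1) m) ∨
      (Even (orderOf ((Fintype.card F : ℕ) : ZMod r)) ∧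
        EvenRHSm (orderOf ((Fintype.card F : ℕ) : ZMod r)) (k + 1) m
          ((r - 1) / orderOf ((Fintype.card F : ℕ) : ZMod r))) := by
  classical
  haveI : Nonempty ((Fin k ⊕ Fin k) ⊕ Fin 2) := ⟨Sum.inr 0⟩
  have hnd : (pB (minusForm k F a b)).Nondegenerate :=
    Cfsg.Agent.Helper5.nondegenerate_minusForm_of_aniso k a b hab
  have hr : r.Prime := Fact.out
  have hrodd : Odd r := hr.odd_of_ne_two hr2
  have hrq := not_dvd_card_of_ne (F := F) r hrp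
  have hipos : 0 < orderOf ((Fintype.card F : ℕ) : ZMod r) := orderOf_card_pos r hrp
  have hir : orderOf ((Fintype.card F : ℕ) : ZMod r) ∣ r - 1 := orderOf_card_dvd (F := F) r hrp
  have hcard : Fintype.card ((Fin k ⊕ Fin k) ⊕ Fin 2) = 2 * (k + 1) :=
    Cfsg.Agent.Helper94.Tp.card_minus
  have h4 : Fintype.card F ≠ 2 ∨ Fintype.card ((Fin k ⊕ Fin k) ⊕ Fin 2) ≠ 4 :=
    Or.inr (by rw [hcard]; omega)
  -- what the hypothesis says about one test element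
  have huse : ∀ y : ↥(Cfsg.isometryGroup F (Cfsg.quadFormMinus k F a b)), orderOf y = r →
      QSetup (minusForm k F a b) r (Matrix.toLin' ((y : GL ((Fin k ⊕ Fin k) ⊕ Fin 2) F) :
        Matrix ((Fin k ⊕ Fin k) ⊕ Fin 2) ((Fin k ⊕ Fin k) ⊕ Fin 2) F)) ∧
      ∃ W : Submodule F ((Fin k ⊕ Fin k) ⊕ Fin 2 → F), finrank F ↥W = m ∧
        TS (minusForm k F a b) W ∧
        Inv (Matrix.toLin' ((y : GL ((Fin k ⊕ Fin k) ⊕ Fin 2) F) :
          Matrix ((Fin k ⊕ Fin k) ⊕ Fin 2) ((Fin k ⊕ Fin k) ⊕ Fin 2) F)) W := by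
    intro y hyord
    have hyr : y ^ r = 1 := by rw [← hyord]; exact pow_orderOf_eq_one y
    have hyΩ : y ∈ Cfsg.Omega F (Cfsg.quadFormMinus k F a b) :=
      Cfsg.Agent.Helper99.QSpGen.mem_Omega_of_odd (minusForm k F a b) hnd h4 y hrodd hyr
    exact ⟨qSetup_of_elt hab r hrp hr2 y hyr, H y hyΩ hyord⟩
  apply rhs_of_tests_minus hr hr2 hrq hipos hir finrank_mV (qType_top_minus hab) hm
    (show m < k + 1 by omega) hstar
  · intro k' g hk1 hkg hg0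
    obtain ⟨y, hyord, hfix⟩ := Cfsg.Agent.Helper94.Tp.exists_q_elt (F := F)
      (Q := minusForm k F a b) (Cfsg.Agent.Helper94.Tp.mB_nondeg hab) hcard (Or.inr rfl)
      (Cfsg.Agent.Helper94.Tp.hT_minus hab) r hrp hr2 k' hk1 (by omega) (by
        intro h1
        obtain ⟨hie, hkodd⟩ := hg0 (by omega)
        apply Cfsg.Agent.Helper99.QSpGen.pow_eq_of_bsign hr2 hrp h1
        unfold bsign
        rw [if_pos hie, hkodd.neg_one_pow])
    obtain ⟨hS, hW⟩ := huse y hyord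
    exact ⟨_, hS, by rw [hfix]; omega, hW⟩
  · intro hie u g hu1 hut hug hg0
    obtain ⟨y, hyord, hfix, hker⟩ := exists_q_elt_aniso (F := F) (minusForm k F a b) hnd hcard
      (Or.inr rfl) (Cfsg.Agent.Helper94.Tp.hT_minus hab) r hrp hr2 hie u hu1 hut (by omega) (by
        intro h1
        have huodd := hg0 (by omega)
        have hc : blockSize (orderOf ((Fintype.card F : ℕ) : ZMod r)) =
            orderOf ((Fintype.card F : ℕ) : ZMod r) := blockSize_even hie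
        apply Cfsg.Agent.Helper99.QSpGen.pow_eq_of_bsign hr2 hrp (k := u) (by rw [hc]; exact h1)
        unfold bsign
        rw [if_pos hie, huodd.neg_one_pow])
    obtain ⟨hS, hW⟩ := huse y hyord
    exact ⟨_, hS, by rw [hfix]; omega, hker, hW⟩

/-- odd primes `r ≠ p` -/
theorem mts_odd_iff (hk : 3 ≤ k) {a b : F}
    (hab : ∀ z₁ z₂ : F, z₁ ^ 2 + a * z₁ * z₂ + b * z₂ ^ 2 = 0 → z₁ = 0 ∧ z₂ = 0)
    (r : ℕ) [Fact r.Prime] (hrp : r ≠ p) (hr2 : r ≠ 2) {m : ℕ} (hm : 1 ≤ m) (hmk : m ≤ k)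
    (hstar : StarM (orderOf ((Fintype.card F : ℕ) : ZMod r)) (k + 1) m) :
    (∀ x : GL ((Fin k ⊕ Fin k) ⊕ Fin 2) F, x ∈ Cfsg.Geo.omegaGL (Cfsg.quadFormMinus k F a b) →
      (∃ z : F, ((x ^ r : GL ((Fin k ⊕ Fin k) ⊕ Fin 2) F) :
        Matrix ((Fin k ⊕ Fin k) ⊕ Fin 2) ((Fin k ⊕ Fin k) ⊕ Fin 2) F) =
        z • (1 : Matrix ((Fin k ⊕ Fin k) ⊕ Fin 2) ((Fin k ⊕ Fin k) ⊕ Fin 2) F)) →
      (∀ z : F, (x : Matrix ((Fin k ⊕ Fin k) ⊕ Fin 2) ((Fin k ⊕ Fin k) ⊕ Fin 2) F) ≠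
        z • (1 : Matrix ((Fin k ⊕ Fin k) ⊕ Fin 2) ((Fin k ⊕ Fin k) ⊕ Fin 2) F)) →
      GoodTS F k a b m (x : Matrix ((Fin k ⊕ Fin k) ⊕ Fin 2) ((Fin k ⊕ Fin k) ⊕ Fin 2) F)) ↔
    ((Odd (orderOf ((Fintype.card F : ℕ) : ZMod r)) ∧
        OddRHSm (orderOf ((Fintype.card F : ℕ) : ZMod r)) (k + 1) m) ∨
      (Even (orderOf ((Fintype.card F : ℕ) : ZMod r)) ∧
        EvenRHSm (orderOf ((Fintype.card F : ℕ) : ZMod r)) (k + 1) m
          ((r - 1) / orderOf ((Fintype.card F : ℕ) : ZMod r)))) := by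
  classical
  haveI : Nonempty ((Fin k ⊕ Fin k) ⊕ Fin 2) := ⟨Sum.inr 0⟩
  have hnd : (pB (minusForm k F a b)).Nondegenerate :=
    Cfsg.Agent.Helper5.nondegenerate_minusForm_of_aniso k a b hab
  have hr : r.Prime := Fact.out
  have hrodd : Odd r := hr.odd_of_ne_two hr2
  constructor
  · intro H
    apply rhs_of_goodTS hk hab r hrp hr2 hm hmk hstar
    intro g hgΩ hgord
    have hgr : g ^ r = 1 := by rw [← hgord]; exact pow_orderOf_eq_one g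
    refine H (g : GL ((Fin k ⊕ Fin k) ⊕ Fin 2) F) (Subgroup.mem_map.mpr ⟨g, hgΩ, rfl⟩) ⟨1, ?_⟩
      (Cfsg.Agent.Helper99.QSpGen.not_scalar_of_orderOf (minusForm k F a b) hnd hr hrodd g hgord)
    have h3 : ((g ^ r : ↥(Cfsg.isometryGroup F (Cfsg.quadFormMinus k F a b))) :
        GL ((Fin k ⊕ Fin k) ⊕ Fin 2) F) = 1 := by rw [hgr]; rfl
    have h4 := congrArg (fun w : GL ((Fin k ⊕ Fin k) ⊕ Fin 2) F =>
      (w : Matrix ((Fin k ⊕ Fin k) ⊕ Fin 2) ((Fin k ⊕ Fin k) ⊕ Fin 2) F)) h3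
    rw [one_smul]
    simpa using h4
  · intro hrhs x hx ⟨z, hz⟩ hns
    obtain ⟨g, -, rfl⟩ := Subgroup.mem_map.mp hx
    exact goodTS_of_rhs hab r hrp hr2 hmk hrhs g hz hns

end Cfsg.Agent.Helper45.Mts
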