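import Cfsg.Agent.Helper91.O7.Defs
import Cfsg.Agent.Helper12.GammaOD
import Cfsg.Agent.Helper44.OmegaIndex
import Cfsg.Agent.Helper5.OrthSimpleStd
import Cfsg.Agent.S0286

/-!
# Piece (M) of S5514: the frozen `Ω₇(3)` inside the packed `7 × 7` matrices over `ZMod 3`

Reindex `Unit ⊕ (Fin 3 ⊕ Fin 3) ≃ Fin 7` by `inl () ↦ 0`, `inr (inl i) ↦ 1 + i`,
`inr (inr i) ↦ 4 + i`; the isometry group of `quadFormOdd 3 (ZMod 3)` goes onto `OM`, its commutator
subgroup onto `Om`.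
-/

set_option autoImplicit false

namespace Cfsg.Agent.Helper45.O7

open Matrix Cfsg.Agent.Helper91.O7

/-- the index type of the frozen form -/
abbrev I7 : Type := Unit ⊕ (Fin 3 ⊕ Fin 3)

/-- the frozen quadratic form -/
abbrev Q3 : (I7 → ZMod 3) → ZMod 3 := Cfsg.quadFormOdd 3 (ZMod 3)

/-- the frozen isometry group -/
abbrev OO : Subgroup (GL I7 (ZMod 3)) := Cfsg.isometryGroup (ZMod 3) Q3

/-- the reindexing `inl () ↦ 0`, `inr (inl i) ↦ 1 + i`, `inr (inr i) ↦ 4 + i` -/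
def e7 : I7 ≃ Fin 7 where
  toFun
    | .inl _ => 0
    | .inr (.inl i) => ⟨1 + i.val, by omega⟩
    | .inr (.inr i) => ⟨4 + i.val, by omega⟩
  invFun j :=
    if h0 : j.val = 0 then .inl ()
    else if h1 : j.val < 4 then .inr (.inl ⟨j.val - 1, by omega⟩)
    else .inr (.inr ⟨j.val - 4, by omega⟩)
  left_inv := by
    intro x
    rcases x with _ | i | i
    · rfl
    · fin_cases i <;> rfl
    · fin_cases i <;> rfl
  right_inv := by
    intro j
    fin_cases j <;> rfl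

theorem Q7_eq (v : Fin 7 → ZMod 3) : Q7 v = Q3 (v ∘ e7) := by
  unfold Q7 Q3 Cfsg.quadFormOdd
  rw [Fin.sum_univ_three]
  rfl

/-- the reindexing of the general linear group -/
noncomputable def φ : GL I7 (ZMod 3) ≃* U7 :=
  Units.mapEquiv (Matrix.reindexAlgEquiv (ZMod 3) (ZMod 3) e7).toMulEquiv

theorem φ_val (g : GL I7 (ZMod 3)) :
    (φ g).val = Matrix.reindex e7 e7 (g : Matrix I7 I7 (ZMod 3)) := rfl

theorem φ_mulVec (g : GL I7 (ZMod 3)) (v : Fin 7 → ZMod 3) :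
    (φ g).val *ᵥ v = ((g : Matrix I7 I7 (ZMod 3)) *ᵥ (v ∘ e7)) ∘ e7.symm := by
  rw [φ_val, Matrix.reindex_apply, Matrix.submatrix_mulVec_equiv]
  rfl

theorem φ_mem_OM_iff (g : GL I7 (ZMod 3)) : φ g ∈ OM ↔ g ∈ OO := by
  rw [mem_OM]
  constructor
  · intro h u _
    have h1 := h (u ∘ e7.symm)
    rw [Q7_eq, Q7_eq, φ_mulVec] at h1
    have e1 : (u ∘ e7.symm) ∘ e7 = u := by
      funext i; simp
    rw [e1] at h1
    have e2 : (((g : Matrix I7 I7 (ZMod 3)) *ᵥ u) ∘ e7.symm) ∘ e7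
        = (g : Matrix I7 I7 (ZMod 3)) *ᵥ u := by
      funext i; simp
    rw [e2] at h1
    exact h1
  · intro h v
    rw [Q7_eq, Q7_eq, φ_mulVec]
    have e2 : (((g : Matrix I7 I7 (ZMod 3)) *ᵥ (v ∘ e7)) ∘ e7.symm) ∘ e7
        = (g : Matrix I7 I7 (ZMod 3)) *ᵥ (v ∘ e7) := by
      funext i; simp
    rw [e2]
    exact h (v ∘ e7) (v ∘ e7)

theorem map_OO : OO.map φ.toMonoidHom = OM := by
  ext u
  constructor
  · rintro ⟨g, hg, rfl⟩
    exact (φ_mem_OM_iff g).2 hg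
  · intro hu
    refine ⟨φ.symm u, ?_, ?_⟩
    · apply (φ_mem_OM_iff _).1
      rw [MulEquiv.apply_symm_apply]
      exact hu
    · exact φ.apply_symm_apply u

/-- the commutator subgroup of the frozen isometry group, inside `GL` -/
abbrev ΩG : Subgroup (GL I7 (ZMod 3)) := (Cfsg.Omega (ZMod 3) Q3).map OO.subtype

/-- the copy of `Ω₇(3)` inside the packed matrices -/
noncomputable def Om7 : Subgroup U7 := ΩG.map φ.toMonoidHom

theorem two_ne : (2 : ZMod 3) ≠ 0 := by decide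

theorem card_I7 : Fintype.card I7 = 7 := by decide

theorem coe_oddForm :
    (⇑(Cfsg.Agent.Helper44.oddForm 3 (ZMod 3)) : (I7 → ZMod 3) → ZMod 3) = Q3 := rfl

theorem index_Omega : (Cfsg.Omega (ZMod 3) Q3).index = 4 := by
  have hQ := Cfsg.Agent.Helper5.nondegenerate_oddForm (F := ZMod 3) two_ne 3
  have h3 := Cfsg.Agent.Helper44.index_Omega_eq_four (Cfsg.Agent.Helper44.oddForm 3 (ZMod 3))
    two_ne hQ (by rw [Module.finrank_fintype_fun_eq_card, card_I7]; norm_num)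
  rw [coe_oddForm] at h3
  exact h3

theorem center_Omega : Subgroup.center ↥(Cfsg.Omega (ZMod 3) Q3) = ⊥ := by
  have hQ := Cfsg.Agent.Helper5.nondegenerate_oddForm (F := ZMod 3) two_ne 3
  have h1 := Cfsg.Agent.Helper12.GammaO.center_Omega_eq_bot_odd
    (Cfsg.Agent.Helper44.oddForm 3 (ZMod 3)) two_ne hQ (by rw [card_I7]) (by rw [card_I7]; decide)
  exact h1

theorem card_OO : Nat.card OO = 18341406720 := by
  have h4 := Cfsg.Agent.S0286.result (F := ZMod 3) (q := 3) (ZMod.card 3) (by decide) 3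
  have hp : ∏ i ∈ Finset.range 3, (3 ^ (2 * (i + 1)) - 1) = 8 * 80 * 728 := by decide +kernel
  rw [hp] at h4
  rw [h4]
  norm_num

theorem card_Omega : Nat.card (Cfsg.Omega (ZMod 3) Q3) = 4585351680 := by
  have h5 := Subgroup.card_mul_index (Cfsg.Omega (ZMod 3) Q3)
  rw [index_Omega, card_OO] at h5
  omega

theorem card_map_of_injective {G H : Type*} [Group G] [Group H] (f : G →* H)
    (hf : Function.Injective f) (K : Subgroup G) : Nat.card (K.map f) = Nat.card K :=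
  (Nat.card_congr (K.equivMapOfInjective f hf).toEquiv).symm

theorem φ_inj : Function.Injective φ.toMonoidHom := φ.injective

theorem card_OM : Nat.card OM = 18341406720 := by
  rw [← map_OO, card_map_of_injective _ φ_inj, card_OO]

theorem card_Om7 : Nat.card Om7 = 4585351680 := by
  unfold Om7
  rw [card_map_of_injective _ φ_inj, card_map_of_injective _ OO.subtype_injective, card_Omega]

theorem ΩG_le : ΩG ≤ OO := by
  rintro _ ⟨x, -, rfl⟩
  exact x.2

theorem Om7_le : Om7 ≤ OM := by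
  rw [← map_OO]
  exact Subgroup.map_mono ΩG_le

theorem mem_ΩG_iff (g : OO) : (g : GL I7 (ZMod 3)) ∈ ΩG ↔ g ∈ Cfsg.Omega (ZMod 3) Q3 := by
  constructor
  · rintro ⟨x, hx, hxg⟩
    have : x = g := Subtype.ext hxg
    rw [← this]
    exact hx
  · intro h
    exact ⟨g, h, rfl⟩

theorem Om7_normal : ∀ g ∈ OM, ∀ x ∈ Om7, g * x * g⁻¹ ∈ Om7 := by
  intro g hg x hx
  rw [← map_OO] at hg
  obtain ⟨g', hg', rfl⟩ := hg
  obtain ⟨x', hx', rfl⟩ := hx
  obtain ⟨x'', hx'', rfl⟩ := hx'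
  refine ⟨g' * OO.subtype x'' * g'⁻¹, ?_, by simp⟩
  have hn : (Cfsg.Omega (ZMod 3) Q3).Normal := inferInstance
  have := hn.conj_mem x'' hx'' ⟨g', hg'⟩
  exact ⟨_, this, rfl⟩

theorem Om7_three : ∀ u ∈ OM, u ^ 3 = 1 → u ∈ Om7 := by
  intro u hu h3
  rw [← map_OO] at hu
  obtain ⟨g, hg, rfl⟩ := hu
  have hg3 : g ^ 3 = 1 := by
    apply φ.injective
    rw [map_pow, map_one]
    exact h3
  have h4 : (⟨g, hg⟩ : OO) ^ 4 ∈ Cfsg.Omega (ZMod 3) Q3 := by
    have := Subgroup.pow_index_mem (Cfsg.Omega (ZMod 3) Q3) (⟨g, hg⟩ : OO)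
    rw [index_Omega] at this
    exact this
  have h5 : (⟨g, hg⟩ : OO) ^ 4 = ⟨g, hg⟩ := by
    apply Subtype.ext
    rw [Subgroup.coe_pow]
    show g ^ 4 = g
    rw [pow_succ, hg3, one_mul]
  rw [h5] at h4
  exact ⟨g, (mem_ΩG_iff ⟨g, hg⟩).2 h4, rfl⟩

/-- the frozen `PΩ₇(3)` is the copy of `Ω₇(3)` -/
noncomputable def equivOm7 : Cfsg.POmega (ZMod 3) Q3 ≃* Om7 :=
  ((QuotientGroup.quotientMulEquivOfEq center_Omega).trans
    (QuotientGroup.quotientBot (G := ↥(Cfsg.Omega (ZMod 3) Q3)))).trans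
    (((Cfsg.Omega (ZMod 3) Q3).equivMapOfInjective OO.subtype OO.subtype_injective).trans
      (ΩG.equivMapOfInjective φ.toMonoidHom φ_inj))

end Cfsg.Agent.Helper45.O7

namespace Cfsg.Agent.Helper45.O7

open Cfsg.Agent.Helper91.O7

/-- (M) the frozen `Ω₇(3)` inside the packed matrices -/
theorem nonempty_model : Nonempty Model :=
  ⟨{ Om := Om7
     le := Om7_le
     normal := Om7_normal
     cardO := card_OM
     cardOm := card_Om7
     three := Om7_three
     equiv := ⟨equivOm7⟩ }⟩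

end Cfsg.Agent.Helper45.O7
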