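import Mathlib
import Cfsg.Prelude.Def_ClassicalGeometry
import Cfsg.Prelude.Def_GeometricClasses
import Cfsg.Agent.Helper12.OmNdJ

/-!
# Orthogonal decompositions into non-degenerate blocks: basic linear algebra

`IsBlocks Q D`: the subspaces `D i` are pairwise orthogonal, non-degenerate and span the space.
Complements `cpl`, projections `prj`, and the membership criteria used for the maximality of the
stabiliser of such a decomposition in `Ω`.
-/

set_option autoImplicit false
set_option linter.unusedSectionVars false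

namespace Cfsg.Agent.Helper45.OmDec

open Matrix QuadraticMap Module Cfsg.Agent.Helper44 Cfsg.Agent.Helper45.OmegaParity
open Cfsg.Agent.Helper12.OmNd

variable {F : Type*} [Field F] {ι : Type} [Fintype ι] [DecidableEq ι]
variable {Q : QuadraticForm F (ι → F)} {t : ℕ}

/-- an orthogonal decomposition into non-degenerate blocks -/
structure IsBlocks (Q : QuadraticForm F (ι → F)) (D : Fin t → Submodule F (ι → F)) : Prop where
  orth : ∀ i j, i ≠ j → ∀ x ∈ D i, ∀ y ∈ D j, polar ⇑Q x y = 0
  nd : ∀ i, NdOn Q (D i)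
  top : iSup D = ⊤

variable {D : Fin t → Submodule F (ι → F)}

/-- the orthogonal complement of a block -/
def cpl (Q : QuadraticForm F (ι → F)) (D : Fin t → Submodule F (ι → F)) (i : Fin t) :
    Submodule F (ι → F) :=
  LinearMap.BilinForm.orthogonal (QuadraticMap.polarBilin Q) (D i)

theorem mem_cpl {i : Fin t} {x : ι → F} : x ∈ cpl Q D i ↔ ∀ y ∈ D i, polar ⇑Q x y = 0 := by
  unfold cpl
  rw [LinearMap.BilinForm.mem_orthogonal_iff]
  constructor
  · intro h y hy
    have := h y hy
    rw [QuadraticMap.polarBilin_apply_apply] at this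
    rw [polar_comm]; exact this
  · intro h y hy
    rw [QuadraticMap.polarBilin_apply_apply, polar_comm]
    exact h y hy

theorem IsBlocks.eq_zero_of_orth (h : IsBlocks Q D) (hQ : (QuadraticMap.polarBilin Q).Nondegenerate)
    {x : ι → F} (hx : ∀ i, ∀ y ∈ D i, polar ⇑Q x y = 0) : x = 0 := by
  apply hQ.1 x
  intro y
  have hy : y ∈ iSup D := by rw [h.top]; trivial
  have hle : iSup D ≤ LinearMap.ker (QuadraticMap.polarBilin Q x) := iSup_le (fun i y hy => by
    rw [LinearMap.mem_ker, QuadraticMap.polarBilin_apply_apply]; exact hx i y hy)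
  have := hle hy
  rwa [LinearMap.mem_ker] at this

theorem IsBlocks.split (h : IsBlocks Q D) (hQ : (QuadraticMap.polarBilin Q).Nondegenerate)
    (i : Fin t) : OrthSplit Q (D i) (cpl Q D i) :=
  orthSplit_orthogonal hQ (D i) (geo_nd_of_ndOn (h.nd i))

theorem IsBlocks.le_cpl (h : IsBlocks Q D) {i j : Fin t} (hij : i ≠ j) : D j ≤ cpl Q D i := by
  intro x hx
  rw [mem_cpl]
  intro y hy
  exact h.orth j i (Ne.symm hij) x hx y hy

/-- a vector orthogonal to all the other blocks lies in the block -/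
theorem IsBlocks.mem_of_orth (h : IsBlocks Q D) (hQ : (QuadraticMap.polarBilin Q).Nondegenerate)
    {i : Fin t} {x : ι → F} (hx : ∀ j, j ≠ i → ∀ y ∈ D j, polar ⇑Q x y = 0) : x ∈ D i := by
  obtain ⟨a, ha, s, hs, rfl⟩ := (h.split hQ i).dec x
  have hs0 : s = 0 := by
    apply h.eq_zero_of_orth hQ
    intro j y hy
    by_cases hji : j = i
    · subst hji
      exact (mem_cpl.1 hs) y hy
    · have h1 := hx j hji y hy
      rw [polar_add_left, h.orth i j (Ne.symm hji) a ha y hy, zero_add] at h1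
      exact h1
  rw [hs0, add_zero]
  exact ha

theorem IsBlocks.exists_not_orth (h : IsBlocks Q D)
    (hQ : (QuadraticMap.polarBilin Q).Nondegenerate) {x : ι → F} (hx : x ≠ 0) :
    ∃ j, ∃ y ∈ D j, polar ⇑Q x y ≠ 0 := by
  by_contra hcon
  push Not at hcon
  exact hx (h.eq_zero_of_orth hQ hcon)

theorem IsBlocks.isCompl (h : IsBlocks Q D) (hQ : (QuadraticMap.polarBilin Q).Nondegenerate)
    (i : Fin t) : IsCompl (D i) (cpl Q D i) := by
  constructor
  · rw [Submodule.disjoint_def]
    intro x hx hx'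
    exact (h.split hQ i).eq_zero_of_mem hQ hx hx'
  · rw [codisjoint_iff, eq_top_iff]
    intro x _
    obtain ⟨a, ha, s, hs, rfl⟩ := (h.split hQ i).dec x
    exact Submodule.add_mem_sup ha hs

/-- the orthogonal projection onto a block -/
noncomputable def IsBlocks.prj (h : IsBlocks Q D) (hQ : (QuadraticMap.polarBilin Q).Nondegenerate)
    (i : Fin t) : (ι → F) →ₗ[F] (ι → F) :=
  (D i).subtype ∘ₗ Submodule.projectionOnto (D i) (cpl Q D i) (h.isCompl hQ i)

theorem IsBlocks.prj_mem (h : IsBlocks Q D) (hQ : (QuadraticMap.polarBilin Q).Nondegenerate)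
    (i : Fin t) (x : ι → F) : h.prj hQ i x ∈ D i := by
  unfold IsBlocks.prj
  rw [LinearMap.comp_apply]
  exact Submodule.coe_mem _

theorem IsBlocks.prj_of_mem (h : IsBlocks Q D) (hQ : (QuadraticMap.polarBilin Q).Nondegenerate)
    {i : Fin t} {x : ι → F} (hx : x ∈ D i) : h.prj hQ i x = x := by
  unfold IsBlocks.prj
  rw [LinearMap.comp_apply]
  rw [Submodule.projectionOnto_apply_of_mem_left (h.isCompl hQ i) hx]
  rfl

theorem IsBlocks.prj_of_cpl (h : IsBlocks Q D) (hQ : (QuadraticMap.polarBilin Q).Nondegenerate)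
    {i : Fin t} {x : ι → F} (hx : x ∈ cpl Q D i) : h.prj hQ i x = 0 := by
  unfold IsBlocks.prj
  rw [LinearMap.comp_apply, Submodule.projectionOnto_apply_of_mem_right (h.isCompl hQ i) hx]
  rfl

theorem IsBlocks.sub_prj_mem (h : IsBlocks Q D) (hQ : (QuadraticMap.polarBilin Q).Nondegenerate)
    (i : Fin t) (x : ι → F) : x - h.prj hQ i x ∈ cpl Q D i := by
  obtain ⟨a, ha, s, hs, rfl⟩ := (h.split hQ i).dec x
  rw [map_add, h.prj_of_mem hQ ha, h.prj_of_cpl hQ hs, add_zero, add_sub_cancel_left]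
  exact hs

theorem IsBlocks.polar_prj (h : IsBlocks Q D) (hQ : (QuadraticMap.polarBilin Q).Nondegenerate)
    {i : Fin t} (x : ι → F) {y : ι → F} (hy : y ∈ D i) :
    polar ⇑Q (h.prj hQ i x) y = polar ⇑Q x y := by
  have h1 := (mem_cpl.1 (h.sub_prj_mem hQ i x)) y hy
  rw [polar_sub_left, sub_eq_zero] at h1
  exact h1.symm

theorem IsBlocks.prj_eq_zero_iff (h : IsBlocks Q D) (hQ : (QuadraticMap.polarBilin Q).Nondegenerate)
    {i : Fin t} {x : ι → F} : h.prj hQ i x = 0 ↔ x ∈ cpl Q D i := by
  constructor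
  · intro h0
    have := h.sub_prj_mem hQ i x
    rwa [h0, sub_zero] at this
  · exact h.prj_of_cpl hQ

/-- the complement of a block is spanned by the other blocks -/
theorem IsBlocks.cpl_le_iSup (h : IsBlocks Q D) (hQ : (QuadraticMap.polarBilin Q).Nondegenerate)
    (i : Fin t) : cpl Q D i ≤ ⨆ (j : Fin t) (_ : j ≠ i), D j := by
  intro x hx
  have hx' : x ∈ iSup D := by rw [h.top]; trivial
  rw [iSup_split_single D i, Submodule.mem_sup] at hx'
  obtain ⟨a, ha, s, hs, rfl⟩ := hx'
  have hs' : s ∈ cpl Q D i := by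
    have hle : (⨆ (j : Fin t) (_ : j ≠ i), D j) ≤ cpl Q D i :=
      iSup_le (fun j => iSup_le (fun hj => h.le_cpl (Ne.symm hj)))
    exact hle hs
  have ha' : a ∈ cpl Q D i := by
    have := (cpl Q D i).sub_mem hx hs'
    rwa [add_sub_cancel_right] at this
  have : a = 0 := (h.split hQ i).eq_zero_of_mem hQ ha ha'
  rw [this, zero_add]
  exact hs

end Cfsg.Agent.Helper45.OmDec
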