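import Mathlib
import Cfsg.Prelude.Def_ClassicalGeometry
import Cfsg.Prelude.Def_GeometricClasses
import Cfsg.Agent.Helper45.OmDecA
import Cfsg.Agent.Helper44.OrthSumOmega

/-!
# Overgroups of the stabiliser of an orthogonal block decomposition: elements of the stabiliser

`PermB Q D g`: the isometry `g` permutes the blocks.  `Over Q D M`: the subgroup `M` contains the
stabiliser of the blocks in `Ω`.  Eichler transformations and square rotations inside a block lie
in `M`; conjugates by elements of `M`; the *no mixed direction* hypothesis `NoMixed`.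
-/

set_option autoImplicit false
set_option linter.unusedSectionVars false

namespace Cfsg.Agent.Helper45.OmDec

open Matrix QuadraticMap Module Cfsg.Agent.Helper44 Cfsg.Agent.Helper45.OmegaParity
open Cfsg.Agent.Helper12.OmNd Cfsg.Agent

variable {F : Type*} [Field F] {ι : Type} [Fintype ι] [DecidableEq ι]
variable {Q : QuadraticForm F (ι → F)} {t : ℕ} {D : Fin t → Submodule F (ι → F)}

/-- the isometry `g` permutes the blocks -/
def PermB (Q : QuadraticForm F (ι → F)) (D : Fin t → Submodule F (ι → F))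
    (g : Cfsg.isometryGroup F ⇑Q) : Prop :=
  ∃ σ : Equiv.Perm (Fin t), ∀ i, (D i).map (lin Q g) = D (σ i)

theorem permB_of_fix {g : Cfsg.isometryGroup F ⇑Q} (hg : ∀ i, ∀ x ∈ D i, lin Q g x ∈ D i) :
    PermB Q D g :=
  ⟨1, fun i => (mem_stab Q (D i) g).1 (mem_stab_of_forall Q (D i) g (hg i))⟩

/-- `M` contains the stabiliser of the blocks in `Ω` -/
structure Over [Fintype F] (Q : QuadraticForm F (ι → F)) (D : Fin t → Submodule F (ι → F))
    (M : Subgroup (Cfsg.isometryGroup F ⇑Q)) : Prop where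
  blocks : IsBlocks Q D
  nondeg : (QuadraticMap.polarBilin Q).Nondegenerate
  card : 6 ≤ Fintype.card ι
  le : ∀ g ∈ Cfsg.Omega F ⇑Q, PermB Q D g → g ∈ M

/-- no Eichler transformation of `M` at a singular vector of a block points outside the block -/
def NoMixed (Q : QuadraticForm F (ι → F)) (D : Fin t → Submodule F (ι → F))
    (M : Subgroup (Cfsg.isometryGroup F ⇑Q)) : Prop :=
  ∀ l, ∀ u ∈ D l, u ≠ 0 → Q u = 0 → ∀ z, polar ⇑Q u z = 0 → Helper5.eichlerO Q u z ∈ M → z ∈ D l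

theorem IsBlocks.eichler_fix (h : IsBlocks Q D) {i : Fin t} {u w : ι → F} (hu : u ∈ D i)
    (hw : w ∈ D i) (hu0 : Q u = 0) (huw : polar ⇑Q u w = 0) (j : Fin t) {x : ι → F}
    (hx : x ∈ D j) : lin Q (Helper5.eichlerO Q u w) x ∈ D j := by
  rw [Helper5.lin_eichlerO Q hu0 huw]
  by_cases hji : i = j
  · subst hji
    exact (D i).sub_mem ((D i).sub_mem ((D i).add_mem hx ((D i).smul_mem _ hu))
      ((D i).smul_mem _ hw)) ((D i).smul_mem _ hu)
  · rw [h.orth i j hji w hw x hx, h.orth i j hji u hu x hx]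
    simp only [zero_smul, mul_zero, add_zero, sub_zero]
    exact hx

variable [Fintype F] {M : Subgroup (Cfsg.isometryGroup F ⇑Q)}

theorem Over.eichler_mem (ho : Over Q D M) {i : Fin t} {u w : ι → F} (hu : u ∈ D i)
    (hw : w ∈ D i) (hu0 : Q u = 0) (huw : polar ⇑Q u w = 0) : Helper5.eichlerO Q u w ∈ M :=
  ho.le _ (eichlerO_mem_Omega Q ho.nondeg (by have := ho.card; omega) u w)
    (permB_of_fix (fun j _ hx => ho.blocks.eichler_fix hu hw hu0 huw j hx))

theorem IsBlocks.rot_fix (h : IsBlocks Q D) {i : Fin t} {v v' : ι → F} (hv : v ∈ D i)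
    (hv' : v' ∈ D i) (hv0 : Q v ≠ 0) (hv'0 : Q v' ≠ 0) (j : Fin t) {x : ι → F}
    (hx : x ∈ D j) : lin Q (reflT Q v * reflT Q v') x ∈ D j := by
  rw [Helper5.lin_mul_apply, lin_reflT_apply Q v' hv'0, lin_reflT_apply Q v hv0]
  by_cases hji : i = j
  · subst hji
    exact (D i).sub_mem ((D i).sub_mem hx ((D i).smul_mem _ hv')) ((D i).smul_mem _ hv)
  · rw [h.orth i j hji v' hv' x hx]
    simp only [mul_zero, zero_smul, sub_zero]
    rw [h.orth i j hji v hv x hx]
    simp only [mul_zero, zero_smul, sub_zero]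
    exact hx

theorem Over.rot_mem (ho : Over Q D M) (h2 : (2 : F) ≠ 0) {i : Fin t} {v v' : ι → F}
    (hv : v ∈ D i) (hv' : v' ∈ D i) (hv0 : Q v ≠ 0) (hv'0 : Q v' ≠ 0)
    (hsq : IsSquare (Q v * Q v')) : reflT Q v * reflT Q v' ∈ M := by
  apply ho.le _ _ (permB_of_fix (fun j _ hx => ho.blocks.rot_fix hv hv' hv0 hv'0 j hx))
  have h1 := (prod_reflT_mem_Omega_iff Q h2 [v, v'] (by
    intro x hx
    rcases List.mem_pair.1 hx with rfl | rfl
    · exact hv0
    · exact hv'0)).2 ⟨⟨1, rfl⟩, by simpa using hsq⟩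
  simpa using h1

/-- conjugating a reflection -/
theorem conj_reflT' (g : Cfsg.isometryGroup F ⇑Q) (a : ι → F) (ha : Q a ≠ 0) :
    g * reflT Q a * g⁻¹ = reflT Q (lin Q g a) := by
  have hga : Q (lin Q g a) ≠ 0 := by rw [lin_isometry]; exact ha
  apply Helper5.isom_ext
  intro x
  rw [Helper5.lin_mul_apply, Helper5.lin_mul_apply, lin_reflT_apply Q a ha,
    lin_reflT_apply Q _ hga, map_sub, map_smul, Helper5.lin_apply_inv]
  congr 2
  rw [← Helper5.polar_lin Q g a (lin Q g⁻¹ x), Helper5.lin_apply_inv, lin_isometry]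

theorem ndOn_map {N : Submodule F (ι → F)} (hN : NdOn Q N) (g : Cfsg.isometryGroup F ⇑Q) :
    NdOn Q (N.map (lin Q g)) := by
  rintro _ ⟨a, ha, rfl⟩ hor
  have : a = 0 := by
    apply hN a ha
    intro a' ha'
    have := hor (lin Q g a') (Submodule.mem_map_of_mem ha')
    rwa [Helper5.polar_lin] at this
  rw [this, map_zero]

/-- Eichler transformations inside the image of a block under `g ∈ M` lie in `M` -/
theorem Over.eichler_mem_map (ho : Over Q D M) {g : Cfsg.isometryGroup F ⇑Q} (hg : g ∈ M)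
    {l : Fin t} {a b : ι → F} (ha : a ∈ (D l).map (lin Q g)) (hb : b ∈ (D l).map (lin Q g))
    (ha0 : Q a = 0) (hab : polar ⇑Q a b = 0) : Helper5.eichlerO Q a b ∈ M := by
  obtain ⟨a₀, ha₀, rfl⟩ := ha
  obtain ⟨b₀, hb₀, rfl⟩ := hb
  rw [lin_isometry] at ha0
  rw [Helper5.polar_lin] at hab
  rw [← Helper5.eichlerO_conj Q g ha0 hab]
  exact M.mul_mem (M.mul_mem hg (ho.eichler_mem ha₀ hb₀ ha0 hab)) (M.inv_mem hg)

/-- `NoMixed` transported to the image of a block under `g ∈ M` -/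
theorem NoMixed.map (hnm : NoMixed Q D M) {g : Cfsg.isometryGroup F ⇑Q} (hg : g ∈ M)
    {l : Fin t} {a z : ι → F} (ha : a ∈ (D l).map (lin Q g)) (ha00 : a ≠ 0) (ha0 : Q a = 0)
    (haz : polar ⇑Q a z = 0) (hE : Helper5.eichlerO Q a z ∈ M) : z ∈ (D l).map (lin Q g) := by
  obtain ⟨a₀, ha₀, rfl⟩ := ha
  have h1 : Helper5.eichlerO Q a₀ (lin Q g⁻¹ z) ∈ M := by
    have h2 := Helper5.eichlerO_conj Q g⁻¹ ha0 haz
    rw [Helper5.lin_inv_apply, inv_inv] at h2
    rw [← h2]
    exact M.mul_mem (M.mul_mem (M.inv_mem hg) hE) hg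
  have h3 : lin Q g⁻¹ z ∈ D l := by
    apply hnm l a₀ ha₀ _ _ _ _ h1
    · rintro rfl
      exact ha00 (map_zero _)
    · rw [← lin_isometry Q g]; exact ha0
    · rw [← Helper5.polar_lin Q g, Helper5.lin_apply_inv]; exact haz
  refine ⟨lin Q g⁻¹ z, h3, Helper5.lin_apply_inv Q g z⟩

/-- distinct images of blocks under `M` share no non-zero singular vector -/
def Step1 (Q : QuadraticForm F (ι → F)) (D : Fin t → Submodule F (ι → F))
    (M : Subgroup (Cfsg.isometryGroup F ⇑Q)) : Prop :=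
  ∀ g ∈ M, ∀ (l j : Fin t) (a : ι → F), a ≠ 0 → Q a = 0 → a ∈ (D l).map (lin Q g) → a ∈ D j →
    (D l).map (lin Q g) = D j

/-- an element of `M` fixing a singular vector of the image of a block stabilises the image -/
theorem Step1.fix_map (hS : Step1 Q D M) {g : Cfsg.isometryGroup F ⇑Q} (hg : g ∈ M)
    {l : Fin t} {a : ι → F} (ha : a ∈ (D l).map (lin Q g)) (ha00 : a ≠ 0) (ha0 : Q a = 0)
    {y : Cfsg.isometryGroup F ⇑Q} (hy : y ∈ M) (hya : lin Q y a = a) {x : ι → F}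
    (hx : x ∈ (D l).map (lin Q g)) : lin Q y x ∈ (D l).map (lin Q g) := by
  obtain ⟨a₀, ha₀, rfl⟩ := ha
  obtain ⟨x₀, hx₀, rfl⟩ := hx
  have hg' : g⁻¹ * y * g ∈ M := M.mul_mem (M.mul_mem (M.inv_mem hg) hy) hg
  have h1 : lin Q (g⁻¹ * y * g) a₀ = a₀ := by
    rw [Helper5.lin_mul_apply, Helper5.lin_mul_apply, hya, Helper5.lin_inv_apply]
  have h2 : a₀ ∈ (D l).map (lin Q (g⁻¹ * y * g)) := ⟨a₀, ha₀, h1⟩
  have ha₀0 : a₀ ≠ 0 := by
    rintro rfl
    exact ha00 (map_zero _)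
  have h3 := hS _ hg' l l a₀ ha₀0 (by rw [← lin_isometry Q g]; exact ha0) h2 ha₀
  have h4 : lin Q (g⁻¹ * y * g) x₀ ∈ D l := by
    rw [← h3]
    exact Submodule.mem_map_of_mem hx₀
  refine ⟨_, h4, ?_⟩
  rw [Helper5.lin_mul_apply, Helper5.lin_mul_apply, Helper5.lin_apply_inv]

end Cfsg.Agent.Helper45.OmDec
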