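import Mathlib
import Cfsg.Prelude.Def_ClassicalGeometry
import Cfsg.Prelude.Def_GeometricClasses
import Cfsg.Agent.Helper45.OmDecB

/-!
# Images of blocks sharing a singular vector, and blocks of dimension at least five

Under `NoMixed`, two images of blocks under `M` sharing a non-zero singular vector coincide
(`step1_of_five` for blocks of dimension `≥ 5`, `step1_of_torus` when the field has a square
different from `0, 1`).  For blocks of dimension `≥ 5` this already forces every element of `M` to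
permute the blocks (`blocks_of_five`).
-/

set_option autoImplicit false
set_option linter.unusedSectionVars false

namespace Cfsg.Agent.Helper45.OmDec

open Matrix QuadraticMap Module Cfsg.Agent.Helper44 Cfsg.Agent.Helper45.OmegaParity
open Cfsg.Agent.Helper12.OmNd Cfsg.Agent

variable {F : Type*} [Field F] [Fintype F] {ι : Type} [Fintype ι] [DecidableEq ι]
variable {Q : QuadraticForm F (ι → F)} {t : ℕ} {D : Fin t → Submodule F (ι → F)}
variable {M : Subgroup (Cfsg.isometryGroup F ⇑Q)}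

theorem map_lin_one (N : Submodule F (ι → F)) : N.map (lin Q 1) = N := by
  rw [lin_one]
  exact Submodule.map_id N

theorem step1_of_five (ho : Over Q D M) (hnm : NoMixed Q D M) {k : ℕ} (hk : 5 ≤ k)
    (hfr : ∀ i, finrank F (D i) = k) : Step1 Q D M := by
  intro g hg l j a ha00 ha0 haX haD
  have hXnd : NdOn Q ((D l).map (lin Q g)) := ndOn_map (ho.blocks.nd l) g
  have hXfr : finrank F ((D l).map (lin Q g)) = k := by rw [finrank_map_lin, hfr]
  have key : ∀ c ∈ (D l).map (lin Q g), c ∈ D j → c ≠ 0 → Q c = 0 →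
      ∀ z ∈ (D l).map (lin Q g), polar ⇑Q c z = 0 → z ∈ D j := by
    intro c hcX hcD hc00 hc0 z hzX hcz
    exact hnm j c hcD hc00 hc0 z hcz (ho.eichler_mem_map hg hcX hzX hc0 hcz)
  obtain ⟨a', ha'X, ha'0, haa'⟩ := exists_partner_in hXnd haX ha00 ha0
  have hd1 := finrank_le_inf_perp (Q := Q) ((D l).map (lin Q g)) a
  have hd2 := finrank_le_inf_perp (Q := Q)
    ((D l).map (lin Q g) ⊓ LinearMap.ker (QuadraticMap.polarBilin Q a)) a'
  obtain ⟨b, hb, hb00, hb0⟩ := exists_singular_of_finrank (Q := Q)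
    (((D l).map (lin Q g) ⊓ LinearMap.ker (QuadraticMap.polarBilin Q a)) ⊓
      LinearMap.ker (QuadraticMap.polarBilin Q a')) (by omega)
  have hb1 := mem_inf_perp.1 hb
  have hb2 := mem_inf_perp.1 hb1.1
  have hbD : b ∈ D j := key a haX haD ha00 ha0 b hb2.1 hb2.2
  have ha'D : a' ∈ D j :=
    key b hb2.1 hbD hb00 hb0 a' ha'X (by rw [polar_comm]; exact hb1.2)
  apply Submodule.eq_of_le_of_finrank_eq
  · intro x hx
    have h1 : x - polar ⇑Q a x • a' ∈ D j := by
      apply key a haX haD ha00 ha0 _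
        (Submodule.sub_mem _ hx (Submodule.smul_mem _ _ ha'X))
      rw [polar_sub_right, polar_smul_right, haa', smul_eq_mul, mul_one, sub_self]
    have := (D j).add_mem h1 ((D j).smul_mem (polar ⇑Q a x) ha'D)
    rwa [sub_add_cancel] at this
  · rw [hXfr, hfr]

theorem step1_of_torus (ho : Over Q D M) (hnm : NoMixed Q D M) (h2 : (2 : F) ≠ 0)
    {c : F} (hc0 : c ≠ 0) (hc1 : c ≠ 1) (hcs : IsSquare c)
    (hfr : ∀ i j, finrank F (D i) = finrank F (D j)) : Step1 Q D M := by
  intro g hg l j a ha00 ha0 haX haD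
  have hXnd : NdOn Q ((D l).map (lin Q g)) := ndOn_map (ho.blocks.nd l) g
  have key : ∀ z ∈ (D l).map (lin Q g), polar ⇑Q a z = 0 → z ∈ D j := by
    intro z hzX hcz
    exact hnm j a haD ha00 ha0 z hcz (ho.eichler_mem_map hg haX hzX ha0 hcz)
  obtain ⟨a', ha'X, ha'0, haa'⟩ := exists_partner_in hXnd haX ha00 ha0
  obtain ⟨a'', ha''D, ha''0, haa''⟩ := exists_partner_in (ho.blocks.nd j) haD ha00 ha0
  -- the rotation in the block `D j`
  have hQ1 : Q (a - c • a'') = -c := Q_sub_smul_hyp Q a a'' ha0 ha''0 haa'' c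
  have hQ2 : Q (a - (1 : F) • a'') = -1 := Q_sub_smul_hyp Q a a'' ha0 ha''0 haa'' 1
  have htY : reflT Q (a - c • a'') * reflT Q (a - (1 : F) • a'') ∈ M := by
    apply ho.rot_mem h2 ((D j).sub_mem haD ((D j).smul_mem _ ha''D))
      ((D j).sub_mem haD ((D j).smul_mem _ ha''D))
    · rw [hQ1]; exact neg_ne_zero.2 hc0
    · rw [hQ2]; exact neg_ne_zero.2 one_ne_zero
    · rw [hQ1, hQ2]
      have : -c * -1 = c := by ring
      rw [this]; exact hcs
  -- the rotation in the image block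
  have hQ1' : Q (a - c • a') = -c := Q_sub_smul_hyp Q a a' ha0 ha'0 haa' c
  have hQ2' : Q (a - (1 : F) • a') = -1 := Q_sub_smul_hyp Q a a' ha0 ha'0 haa' 1
  have htX : reflT Q (a - c • a') * reflT Q (a - (1 : F) • a') ∈ M := by
    obtain ⟨a₀, ha₀, ha₀eq⟩ := haX
    obtain ⟨a₀', ha₀', ha₀'eq⟩ := ha'X
    have e1 : lin Q g (a₀ - c • a₀') = a - c • a' := by
      rw [map_sub, map_smul, ha₀eq, ha₀'eq]
    have e2 : lin Q g (a₀ - (1 : F) • a₀') = a - (1 : F) • a' := by
      rw [map_sub, map_smul, ha₀eq, ha₀'eq]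
    have hq1 : Q (a₀ - c • a₀') ≠ 0 := by
      rw [← lin_isometry Q g, e1, hQ1']; exact neg_ne_zero.2 hc0
    have hq2 : Q (a₀ - (1 : F) • a₀') ≠ 0 := by
      rw [← lin_isometry Q g, e2, hQ2']; exact neg_ne_zero.2 one_ne_zero
    have ht0 : reflT Q (a₀ - c • a₀') * reflT Q (a₀ - (1 : F) • a₀') ∈ M := by
      apply ho.rot_mem h2 ((D l).sub_mem ha₀ ((D l).smul_mem _ ha₀'))
        ((D l).sub_mem ha₀ ((D l).smul_mem _ ha₀')) hq1 hq2
      rw [← lin_isometry Q g (a₀ - c • a₀'), ← lin_isometry Q g (a₀ - (1 : F) • a₀'), e1, e2,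
        hQ1', hQ2']
      have : -c * -1 = c := by ring
      rw [this]; exact hcs
    have e3 : g * (reflT Q (a₀ - c • a₀') * reflT Q (a₀ - (1 : F) • a₀')) * g⁻¹
        = reflT Q (a - c • a') * reflT Q (a - (1 : F) • a') := by
      rw [← e1, ← e2, ← conj_reflT' g _ hq1, ← conj_reflT' g _ hq2]
      group
    rw [← e3]
    exact M.mul_mem (M.mul_mem hg ht0) (M.inv_mem hg)
  -- the Eichler transformation carrying `a''` to `a'`
  have haa : polar ⇑Q a a = 0 := polar_self_zero ha0
  have haw : polar ⇑Q a (a'' - a') = 0 := by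
    rw [polar_sub_right, haa'', haa', sub_self]
  have hEa : lin Q (Helper5.eichlerO Q a (a'' - a')) a = a := by
    rw [Helper5.lin_eichlerO Q ha0 haw, haa, polar_comm ⇑Q (a'' - a') a, haw]
    simp
  have hEa'' : lin Q (Helper5.eichlerO Q a (a'' - a')) a'' = a' := by
    rw [Helper5.lin_eichlerO Q ha0 haw, haa'']
    have e1 : polar ⇑Q (a'' - a') a'' = - polar ⇑Q a' a'' := by
      rw [polar_sub_left, polar_self_zero ha''0, zero_sub]
    have e2 : Q (a'' - a') = - polar ⇑Q a' a'' := by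
      have h3 : a'' - a' = a'' + (-a') := sub_eq_add_neg a'' a'
      rw [h3, QuadraticMap.map_add ⇑Q, QuadraticMap.map_neg, polar_neg_right, ha''0, ha'0,
        polar_comm ⇑Q a'' a']
      ring
    rw [e1, e2]
    module
  have hconj : Helper5.eichlerO Q a (a'' - a') *
      (reflT Q (a - c • a'') * reflT Q (a - (1 : F) • a'')) *
      (Helper5.eichlerO Q a (a'' - a'))⁻¹
        = reflT Q (a - c • a') * reflT Q (a - (1 : F) • a') := by
    have e1 : lin Q (Helper5.eichlerO Q a (a'' - a')) (a - c • a'') = a - c • a' := by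
      rw [map_sub, map_smul, hEa, hEa'']
    have e2 : lin Q (Helper5.eichlerO Q a (a'' - a')) (a - (1 : F) • a'') = a - (1 : F) • a' := by
      rw [map_sub, map_smul, hEa, hEa'']
    rw [← e1, ← e2, ← conj_reflT' _ _ (by rw [hQ1]; exact neg_ne_zero.2 hc0),
      ← conj_reflT' _ _ (by rw [hQ2]; exact neg_ne_zero.2 one_ne_zero)]
    group
  -- the action of the rotation
  have htYa : lin Q (reflT Q (a - c • a'') * reflT Q (a - (1 : F) • a'')) a = c⁻¹ • a := by
    rw [hyp_rot_apply Q a a'' ha0 ha''0 haa'' c hc0 a haa, polar_comm ⇑Q a'' a, haa'']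
    module
  have hnw : polar ⇑Q a (-(a'' - a')) = 0 := by rw [polar_neg_right, haw, neg_zero]
  have htYw : lin Q (reflT Q (a - c • a'') * reflT Q (a - (1 : F) • a'')) (-(a'' - a'))
      = -(a'' - a') + ((c⁻¹ - 1) * polar ⇑Q a'' (-(a'' - a'))) • a :=
    hyp_rot_apply Q a a'' ha0 ha''0 haa'' c hc0 _ hnw
  have hmem : Helper5.eichlerO Q a ((a'' - a') + (-c⁻¹) • (a'' - a')) ∈ M := by
    have e1 : reflT Q (a - c • a') * reflT Q (a - (1 : F) • a') *
        (reflT Q (a - c • a'') * reflT Q (a - (1 : F) • a''))⁻¹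
        = Helper5.eichlerO Q a (a'' - a') *
          ((reflT Q (a - c • a'') * reflT Q (a - (1 : F) • a'')) *
            (Helper5.eichlerO Q a (a'' - a'))⁻¹ *
            (reflT Q (a - c • a'') * reflT Q (a - (1 : F) • a''))⁻¹) := by
      rw [← hconj]
      group
    have e2 : (reflT Q (a - c • a'') * reflT Q (a - (1 : F) • a'')) *
            (Helper5.eichlerO Q a (a'' - a'))⁻¹ *
            (reflT Q (a - c • a'') * reflT Q (a - (1 : F) • a''))⁻¹
        = Helper5.eichlerO Q a ((-c⁻¹) • (a'' - a')) := by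
      rw [Helper5.eichlerO_inv Q ha0 haw, Helper5.eichlerO_conj Q _ ha0 hnw, htYa, htYw]
      have h5 : polar ⇑Q a (-(a'' - a') + ((c⁻¹ - 1) * polar ⇑Q a'' (-(a'' - a'))) • a) = 0 := by
        rw [polar_add_right, hnw, polar_smul_right, haa, smul_zero, add_zero]
      rw [Helper5.eichlerO_smul_left Q ha0 h5 c⁻¹]
      have h6 : c⁻¹ • (-(a'' - a') + ((c⁻¹ - 1) * polar ⇑Q a'' (-(a'' - a'))) • a)
          = (-c⁻¹) • (a'' - a') + (c⁻¹ * ((c⁻¹ - 1) * polar ⇑Q a'' (-(a'' - a')))) • a := by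
        module
      have h7 : polar ⇑Q a ((-c⁻¹) • (a'' - a')) = 0 := by
        rw [polar_smul_right, haw, smul_zero]
      rw [h6, Helper5.eichlerO_add_smul Q ha0 h7]
    have h8 : polar ⇑Q a ((-c⁻¹) • (a'' - a')) = 0 := by
      rw [polar_smul_right, haw, smul_zero]
    rw [← Helper5.eichlerO_mul Q ha0 haw h8, ← e2, ← e1]
    exact M.mul_mem htX (M.inv_mem htY)
  have hw : a'' - a' ∈ D j := by
    have h9 : polar ⇑Q a ((a'' - a') + (-c⁻¹) • (a'' - a')) = 0 := by
      rw [polar_add_right, haw, polar_smul_right, haw, smul_zero, add_zero]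
    have h10 := hnm j a haD ha00 ha0 _ h9 hmem
    have h11 : (a'' - a') + (-c⁻¹) • (a'' - a') = (1 - c⁻¹) • (a'' - a') := by module
    rw [h11] at h10
    have h12 : (1 - c⁻¹) ≠ 0 := by
      intro h
      apply hc1
      have : c⁻¹ = 1 := (sub_eq_zero.1 h).symm
      rw [inv_eq_one] at this
      exact this
    have := (D j).smul_mem (1 - c⁻¹)⁻¹ h10
    rwa [smul_smul, inv_mul_cancel₀ h12, one_smul] at this
  have ha'D : a' ∈ D j := by
    have := (D j).sub_mem ha''D hw
    rwa [sub_sub_cancel] at this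
  apply Submodule.eq_of_le_of_finrank_eq
  · intro x hx
    have h1 : x - polar ⇑Q a x • a' ∈ D j := by
      apply key _ (Submodule.sub_mem _ hx (Submodule.smul_mem _ _ ha'X))
      rw [polar_sub_right, polar_smul_right, haa', smul_eq_mul, mul_one, sub_self]
    have := (D j).add_mem h1 ((D j).smul_mem (polar ⇑Q a x) ha'D)
    rwa [sub_add_cancel] at this
  · rw [finrank_map_lin]
    exact hfr l j

/-- blocks of dimension at least five: under `NoMixed` every element of `M` permutes the blocks -/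
theorem blocks_of_five (ho : Over Q D M) (hS : Step1 Q D M) {k : ℕ} (hk : 5 ≤ k)
    (hfr : ∀ i, finrank F (D i) = k) {g : Cfsg.isometryGroup F ⇑Q} (hg : g ∈ M) (l : Fin t) :
    ∃ j, (D l).map (lin Q g) = D j := by
  have hXnd : NdOn Q ((D l).map (lin Q g)) := ndOn_map (ho.blocks.nd l) g
  have hXfr : finrank F ((D l).map (lin Q g)) = k := by rw [finrank_map_lin, hfr]
  obtain ⟨a, haX, ha00, ha0⟩ := exists_singular_of_finrank (Q := Q) ((D l).map (lin Q g))
    (by omega)
  obtain ⟨a', ha'X, ha'0, haa'⟩ := exists_partner_in hXnd haX ha00 ha0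
  have hd1 := finrank_le_inf_perp (Q := Q) ((D l).map (lin Q g)) a
  have hd2 := finrank_le_inf_perp (Q := Q)
    ((D l).map (lin Q g) ⊓ LinearMap.ker (QuadraticMap.polarBilin Q a)) a'
  obtain ⟨b, hb, hb00, hb0⟩ := exists_singular_of_finrank (Q := Q)
    (((D l).map (lin Q g) ⊓ LinearMap.ker (QuadraticMap.polarBilin Q a)) ⊓
      LinearMap.ker (QuadraticMap.polarBilin Q a')) (by omega)
  have hb1 := mem_inf_perp.1 hb
  have hb2 := mem_inf_perp.1 hb1.1
  have hbX := hb2.1
  have hab : polar ⇑Q a b = 0 := hb2.2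
  have ha'b : polar ⇑Q a' b = 0 := hb1.2
  have hT : Helper5.eichlerO Q a b ∈ M := ho.eichler_mem_map hg haX hbX ha0 hab
  obtain ⟨j, y, hyD, hay⟩ := ho.blocks.exists_not_orth ho.nondeg ha00
  refine ⟨j, ?_⟩
  -- a singular vector of `D j` fixed by `T`
  have hd3 := finrank_le_inf_perp (Q := Q) (D j) a
  have hd4 := finrank_le_inf_perp (Q := Q) (D j ⊓ LinearMap.ker (QuadraticMap.polarBilin Q a)) b
  obtain ⟨u, hu, hu00, hu0⟩ := exists_singular_of_finrank (Q := Q)
    ((D j ⊓ LinearMap.ker (QuadraticMap.polarBilin Q a)) ⊓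
      LinearMap.ker (QuadraticMap.polarBilin Q b)) (by have := hfr j; omega)
  have hu1 := mem_inf_perp.1 hu
  have hu2 := mem_inf_perp.1 hu1.1
  have hTu : lin Q (Helper5.eichlerO Q a b) u = u := lin_eichlerO_fix ha0 hab hu2.2 hu1.2
  have hTy : lin Q (Helper5.eichlerO Q a b) y ∈ D j := by
    have h1 : u ∈ (D j).map (lin Q (1 : Cfsg.isometryGroup F ⇑Q)) := by
      rw [map_lin_one]; exact hu2.1
    have h2 : y ∈ (D j).map (lin Q (1 : Cfsg.isometryGroup F ⇑Q)) := by
      rw [map_lin_one]; exact hyD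
    have := hS.fix_map M.one_mem h1 hu00 hu0 hT hTu h2
    rwa [map_lin_one] at this
  rw [Helper5.lin_eichlerO Q ha0 hab, hb0, zero_mul, zero_smul, sub_zero] at hTy
  have h3 : polar ⇑Q b y • a - polar ⇑Q a y • b ∈ D j := by
    have := (D j).sub_mem hTy hyD
    have e : y + polar ⇑Q b y • a - polar ⇑Q a y • b - y
        = polar ⇑Q b y • a - polar ⇑Q a y • b := by abel
    rwa [e] at this
  have h4 : b - (polar ⇑Q b y / polar ⇑Q a y) • a ∈ D j := by
    have := (D j).smul_mem (-(polar ⇑Q a y)⁻¹) h3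
    have e : (-(polar ⇑Q a y)⁻¹) • (polar ⇑Q b y • a - polar ⇑Q a y • b)
        = b - (polar ⇑Q b y / polar ⇑Q a y) • a := by
      have e1 : -(polar ⇑Q a y)⁻¹ * polar ⇑Q a y = -1 := by
        rw [neg_mul, inv_mul_cancel₀ hay]
      have e2 : -(polar ⇑Q a y)⁻¹ * polar ⇑Q b y = -(polar ⇑Q b y / polar ⇑Q a y) := by
        rw [div_eq_mul_inv]; ring
      rw [smul_sub, smul_smul, smul_smul, e1, e2]
      module
    rwa [e] at this
  apply hS g hg l j (b - (polar ⇑Q b y / polar ⇑Q a y) • a) _ _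
    (Submodule.sub_mem _ hbX (Submodule.smul_mem _ _ haX)) h4
  · intro h0
    have h5 : polar ⇑Q a' (b - (polar ⇑Q b y / polar ⇑Q a y) • a) = 0 := by
      rw [h0, polar_zero_right]
    rw [polar_sub_right, ha'b, polar_smul_right, polar_comm ⇑Q a' a, haa', smul_eq_mul, mul_one,
      zero_sub, neg_eq_zero] at h5
    rw [h5, zero_smul, sub_zero] at h0
    exact hb00 h0
  · have h3 : b - (polar ⇑Q b y / polar ⇑Q a y) • a
        = b + (-(polar ⇑Q b y / polar ⇑Q a y)) • a := by module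
    rw [h3, QuadraticMap.map_add ⇑Q, QuadraticMap.map_smul, polar_smul_right, hb0, ha0,
      polar_comm ⇑Q b a, hab]
    simp

end Cfsg.Agent.Helper45.OmDec
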