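import Mathlib
import Cfsg.Prelude.Def_ClassicalGeometry
import Cfsg.Prelude.Def_GeometricClasses
import Cfsg.Agent.Helper45.OmDecC

/-!
# Three-dimensional non-degenerate quadratic spaces: bases, rotations

Linear algebra for the blocks of dimension three: a hyperbolic pair plus an anisotropic vector
(`exists_basis_three`), two independent non-singular vectors orthogonal to a given vector whose
norms differ by a square (`exists_rot_pair`), and the action of the product of two reflections
(`lin_rot_sub`).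
-/

set_option autoImplicit false
set_option linter.unusedSectionVars false

namespace Cfsg.Agent.Helper45.OmDec

open Matrix QuadraticMap Module Cfsg.Agent.Helper44 Cfsg.Agent.Helper45.OmegaParity
open Cfsg.Agent.Helper12.OmNd Cfsg.Agent

variable {F : Type*} [Field F] {ι : Type} [Fintype ι] [DecidableEq ι]
variable {Q : QuadraticForm F (ι → F)}

/-- a quadratic polynomial with non-zero leading coefficient has three distinct non-roots in a
field with at least five elements -/
theorem exists_three_nonroots [Fintype F] (A B C : F) (hC : C ≠ 0) (h5 : 5 ≤ Fintype.card F) :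
    ∃ x y z : F, x ≠ y ∧ x ≠ z ∧ y ≠ z ∧ A + B * x + C * x ^ 2 ≠ 0 ∧
      A + B * y + C * y ^ 2 ≠ 0 ∧ A + B * z + C * z ^ 2 ≠ 0 := by
  classical
  set p : Polynomial F :=
    Polynomial.C C * Polynomial.X ^ 2 + Polynomial.C B * Polynomial.X + Polynomial.C A with hp
  have hcoeff : p.coeff 2 = C := by
    rw [hp]
    simp [Polynomial.coeff_X, Polynomial.coeff_C]
  have hp0 : p ≠ 0 := by
    intro h
    rw [h, Polynomial.coeff_zero] at hcoeff
    exact hC hcoeff.symm
  have hdeg : p.natDegree ≤ 2 := by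
    rw [hp]
    compute_degree
  have hcard : p.roots.toFinset.card ≤ 2 :=
    le_trans (Multiset.toFinset_card_le _) (le_trans (Polynomial.card_roots' p) hdeg)
  have h3 : 2 < (p.roots.toFinsetᶜ).card := by
    rw [Finset.card_compl]
    omega
  obtain ⟨x, hx, y, hy, z, hz, hxy, hxz, hyz⟩ := Finset.two_lt_card.1 h3
  have key : ∀ w ∈ p.roots.toFinsetᶜ, A + B * w + C * w ^ 2 ≠ 0 := by
    intro w hw h0
    rw [Finset.mem_compl, Multiset.mem_toFinset, Polynomial.mem_roots hp0] at hw
    apply hw
    rw [Polynomial.IsRoot.def, hp]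
    simp only [Polynomial.eval_add, Polynomial.eval_mul, Polynomial.eval_C, Polynomial.eval_pow,
      Polynomial.eval_X]
    rw [← h0]
    ring
  exact ⟨x, y, z, hxy, hxz, hyz, key x hx, key y hy, key z hz⟩

/-- a square factor can be removed -/
theorem isSquare_of_sq_mul {a b : F} (ha : a ≠ 0) (h : IsSquare (a * a * b)) : IsSquare b := by
  obtain ⟨r, hr⟩ := h
  refine ⟨r / a, ?_⟩
  field_simp
  linear_combination hr

/-- among three non-zero elements two have a square product -/
theorem exists_square_pair [Fintype F] {x y z : F} (hx : x ≠ 0) :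
    IsSquare (x * y) ∨ IsSquare (x * z) ∨ IsSquare (y * z) := by
  by_cases h1 : IsSquare (x * y)
  · exact Or.inl h1
  by_cases h2 : IsSquare (x * z)
  · exact Or.inr (Or.inl h2)
  right; right
  have h3 := isSquare_mul_of_not_isSquare h1 h2
  apply isSquare_of_sq_mul hx
  have : x * x * (y * z) = x * y * (x * z) := by ring
  rw [this]
  exact h3

/-- a hyperbolic pair and an anisotropic vector spanning a three-dimensional non-degenerate
space -/
theorem exists_basis_three (h2 : (2 : F) ≠ 0) {N : Submodule F (ι → F)} (hN : NdOn Q N)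
    (h3 : finrank F N = 3) {u : ι → F} (huN : u ∈ N) (hu00 : u ≠ 0) (hu0 : Q u = 0) :
    ∃ u' ∈ N, ∃ d ∈ N, Q u' = 0 ∧ polar ⇑Q u u' = 1 ∧ polar ⇑Q u d = 0 ∧ polar ⇑Q u' d = 0 ∧
      Q d ≠ 0 ∧
      ∀ x ∈ N, x = polar ⇑Q u' x • u + polar ⇑Q u x • u' + (polar ⇑Q d x / polar ⇑Q d d) • d := by
  obtain ⟨u', hu'N, hu'0, huu'⟩ := exists_partner_in hN huN hu00 hu0
  have huu : polar ⇑Q u u = 0 := polar_self_zero hu0
  have hu'u' : polar ⇑Q u' u' = 0 := polar_self_zero hu'0
  have hu'u : polar ⇑Q u' u = 1 := by rw [polar_comm]; exact huu'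
  have hd1 := finrank_le_inf_perp (Q := Q) N u
  have hd2 := finrank_le_inf_perp (Q := Q) (N ⊓ LinearMap.ker (QuadraticMap.polarBilin Q u)) u'
  have hlt1 : N ⊓ LinearMap.ker (QuadraticMap.polarBilin Q u) < N := by
    refine lt_of_le_of_ne inf_le_left ?_
    intro h
    have : u' ∈ N ⊓ LinearMap.ker (QuadraticMap.polarBilin Q u) := by rw [h]; exact hu'N
    rw [mem_inf_perp] at this
    rw [this.2] at huu'
    exact zero_ne_one huu'
  have hlt2 : (N ⊓ LinearMap.ker (QuadraticMap.polarBilin Q u)) ⊓
      LinearMap.ker (QuadraticMap.polarBilin Q u') <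
      N ⊓ LinearMap.ker (QuadraticMap.polarBilin Q u) := by
    refine lt_of_le_of_ne inf_le_left ?_
    intro h
    have : u ∈ (N ⊓ LinearMap.ker (QuadraticMap.polarBilin Q u)) ⊓
        LinearMap.ker (QuadraticMap.polarBilin Q u') := by
      rw [h, mem_inf_perp]; exact ⟨huN, huu⟩
    rw [mem_inf_perp] at this
    rw [this.2] at hu'u
    exact zero_ne_one hu'u
  have hf1 := Submodule.finrank_lt_finrank_of_lt hlt1
  have hf2 := Submodule.finrank_lt_finrank_of_lt hlt2
  have hf0 : finrank F ↥((N ⊓ LinearMap.ker (QuadraticMap.polarBilin Q u)) ⊓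
      LinearMap.ker (QuadraticMap.polarBilin Q u')) = 1 := by omega
  obtain ⟨d, hd, hd00⟩ := exists_ne_zero_of_finrank_pos
    ((N ⊓ LinearMap.ker (QuadraticMap.polarBilin Q u)) ⊓
      LinearMap.ker (QuadraticMap.polarBilin Q u')) (by omega)
  have hdd1 := mem_inf_perp.1 hd
  have hdd2 := mem_inf_perp.1 hdd1.1
  have hdN : d ∈ N := hdd2.1
  have hud : polar ⇑Q u d = 0 := hdd2.2
  have hu'd : polar ⇑Q u' d = 0 := hdd1.2
  have hdu : polar ⇑Q d u = 0 := by rw [polar_comm]; exact hud
  have hdu' : polar ⇑Q d u' = 0 := by rw [polar_comm]; exact hu'd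
  -- every vector of `N` is a combination
  have hcomb : ∀ x ∈ N, ∃ μ : F, x = polar ⇑Q u' x • u + polar ⇑Q u x • u' + μ • d := by
    intro x hx
    have hx' : x - polar ⇑Q u' x • u - polar ⇑Q u x • u' ∈
        (N ⊓ LinearMap.ker (QuadraticMap.polarBilin Q u)) ⊓
          LinearMap.ker (QuadraticMap.polarBilin Q u') := by
      rw [mem_inf_perp, mem_inf_perp]
      refine ⟨⟨N.sub_mem (N.sub_mem hx (N.smul_mem _ huN)) (N.smul_mem _ hu'N), ?_⟩, ?_⟩
      · rw [polar_sub_right, polar_sub_right, polar_smul_right, polar_smul_right, huu, huu']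
        simp
      · rw [polar_sub_right, polar_sub_right, polar_smul_right, polar_smul_right, hu'u, hu'u']
        simp
    obtain ⟨μ, hμ⟩ := (finrank_eq_one_iff_of_nonzero' (⟨d, hd⟩ : ↥((N ⊓
      LinearMap.ker (QuadraticMap.polarBilin Q u)) ⊓
        LinearMap.ker (QuadraticMap.polarBilin Q u'))) (fun h => hd00 (congrArg Subtype.val h))).1
      hf0 ⟨_, hx'⟩
    have hμ' : μ • d = x - polar ⇑Q u' x • u - polar ⇑Q u x • u' := congrArg Subtype.val hμ
    refine ⟨μ, ?_⟩
    rw [hμ']
    abel
  have hQd : Q d ≠ 0 := by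
    intro hQd
    apply hd00
    apply hN d hdN
    intro x hx
    obtain ⟨μ, hμ⟩ := hcomb x hx
    rw [hμ, polar_add_right, polar_add_right, polar_smul_right, polar_smul_right,
      polar_smul_right, hdu, hdu', polar_self_zero hQd]
    simp
  have hdd : polar ⇑Q d d ≠ 0 := by
    rw [QuadraticMap.polar_self, nsmul_eq_mul]
    exact mul_ne_zero (by exact_mod_cast h2) hQd
  refine ⟨u', hu'N, d, hdN, hu'0, huu', hud, hu'd, hQd, ?_⟩
  intro x hx
  obtain ⟨μ, hμ⟩ := hcomb x hx
  have h5 : polar ⇑Q d x = μ * polar ⇑Q d d := by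
    conv_lhs => rw [hμ]
    rw [polar_add_right, polar_add_right, polar_smul_right, polar_smul_right,
      polar_smul_right, hdu, hdu']
    simp
  have h6 : polar ⇑Q d x / polar ⇑Q d d = μ := by
    rw [h5, mul_div_assoc, div_self hdd, mul_one]
  rw [h6]
  exact hμ

/-- a subspace of dimension at most two containing two independent vectors is spanned by them -/
theorem eq_span_pair {U : Submodule F (ι → F)} (hU : finrank F U ≤ 2) {v v' : ι → F}
    (hv : v ∈ U) (hv' : v' ∈ U) (hli : LinearIndependent F ![v, v']) :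
    ∀ x ∈ U, ∃ α β : F, x = α • v + β • v' := by
  have hle : Submodule.span F (Set.range ![v, v']) ≤ U := by
    rw [Submodule.span_le]
    rintro _ ⟨i, rfl⟩
    fin_cases i
    · exact hv
    · exact hv'
  have hfr : finrank F (Submodule.span F (Set.range ![v, v'])) = 2 := by
    rw [finrank_span_eq_card hli, Fintype.card_fin]
  have heq : Submodule.span F (Set.range ![v, v']) = U :=
    Submodule.eq_of_le_of_finrank_le hle (by rw [hfr]; exact hU)
  intro x hx
  rw [← heq, Submodule.mem_span_range_iff_exists_fun] at hx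
  obtain ⟨c, hc⟩ := hx
  rw [Fin.sum_univ_two] at hc
  exact ⟨c 0, c 1, hc.symm⟩

/-- linear independence of a pair from non-proportionality -/
theorem linearIndependent_pair_of_ne {v v' : ι → F} (hv : v ≠ 0) (h : ∀ μ : F, v' ≠ μ • v) :
    LinearIndependent F ![v, v'] := by
  rw [LinearIndependent.pair_iff]
  intro s t hst
  have ht : t = 0 := by
    by_contra ht
    apply h (-(s / t))
    have h1 : t • v' = -(s • v) := by
      rw [eq_neg_iff_add_eq_zero, add_comm]; exact hst
    have h2 : v' = t⁻¹ • (t • v') := by rw [smul_smul, inv_mul_cancel₀ ht, one_smul]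
    rw [h2, h1, smul_neg, smul_smul, neg_smul, div_eq_mul_inv, mul_comm]
  subst ht
  rw [zero_smul, add_zero] at hst
  exact ⟨(smul_eq_zero.1 hst).resolve_right hv, rfl⟩

/-- a subspace of dimension at least two contains a vector not proportional to a given one -/
theorem exists_not_smul {U : Submodule F (ι → F)} (hU : 2 ≤ finrank F U) (v : ι → F) :
    ∃ e ∈ U, ∀ μ : F, e ≠ μ • v := by
  by_contra hcon
  push Not at hcon
  have hle : U ≤ Submodule.span F {v} := by
    intro e he
    obtain ⟨μ, hμ⟩ := hcon e he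
    rw [hμ]
    exact Submodule.smul_mem _ _ (Submodule.mem_span_singleton_self v)
  have h1 := Submodule.finrank_mono hle
  have h2 : finrank F (Submodule.span F {v}) ≤ 1 := by
    have := finrank_span_le_card (R := F) ({v} : Set (ι → F))
    simpa using this
  omega

/-- the product of two reflections, minus the identity -/
theorem lin_rot_sub {v v' : ι → F} (hv : Q v ≠ 0) (hv' : Q v' ≠ 0) (x : ι → F) :
    lin Q (reflT Q v * reflT Q v') x - x
      = -(((Q v')⁻¹ * polar ⇑Q v' x) • v')
        - ((Q v)⁻¹ * polar ⇑Q v x - (Q v')⁻¹ * polar ⇑Q v' x * ((Q v)⁻¹ * polar ⇑Q v v')) • v := by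
  rw [Helper5.lin_mul_apply, lin_reflT_apply Q v' hv', lin_reflT_apply Q v hv,
    polar_sub_right, polar_smul_right, smul_eq_mul]
  module

theorem lin_rot_fix {v v' : ι → F} (hv : Q v ≠ 0) (hv' : Q v' ≠ 0) {x : ι → F}
    (h1 : polar ⇑Q v x = 0) (h2 : polar ⇑Q v' x = 0) :
    lin Q (reflT Q v * reflT Q v') x = x := by
  have := lin_rot_sub hv hv' x
  rw [h1, h2] at this
  simp only [mul_zero, zero_smul, neg_zero, zero_mul, sub_zero] at this
  exact sub_eq_zero.1 this

end Cfsg.Agent.Helper45.OmDec
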