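import Mathlib
import Cfsg.Prelude.Def_ClassicalGeometry
import Cfsg.Prelude.Def_GeometricClasses
import Cfsg.Agent.Helper45.OmDecD

/-!
# Blocks of dimension three: rotations fixing a vector, and images meeting a block

* `exists_rot_pair`: two independent non-singular vectors orthogonal to `c` in a
  three-dimensional non-degenerate space, with square norm product (field of order `≥ 5`).
* `cpl_or_eq_of_singular`: an image of a block with a singular vector orthogonal to the block
  `D j` is orthogonal to `D j` or equal to it.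
* `exists_cpl_of_ne`: an image of a block which is neither `D j` nor orthogonal to it contains a
  non-zero vector orthogonal to `D j`.
-/

set_option autoImplicit false
set_option linter.unusedSectionVars false

namespace Cfsg.Agent.Helper45.OmDec

open Matrix QuadraticMap Module Cfsg.Agent.Helper44 Cfsg.Agent.Helper45.OmegaParity
open Cfsg.Agent.Helper12.OmNd Cfsg.Agent

variable {F : Type*} [Field F] [Fintype F] {ι : Type} [Fintype ι] [DecidableEq ι]
variable {Q : QuadraticForm F (ι → F)} {t : ℕ} {D : Fin t → Submodule F (ι → F)}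
variable {M : Subgroup (Cfsg.isometryGroup F ⇑Q)}

theorem exists_rot_pair (h2 : (2 : F) ≠ 0) (h5 : 5 ≤ Fintype.card F) {N : Submodule F (ι → F)}
    (hN : NdOn Q N) (h3 : finrank F N = 3) (c : ι → F) :
    ∃ v ∈ N, ∃ v' ∈ N, polar ⇑Q c v = 0 ∧ polar ⇑Q c v' = 0 ∧ Q v ≠ 0 ∧ Q v' ≠ 0 ∧
      IsSquare (Q v * Q v') ∧ LinearIndependent F ![v, v'] := by
  have hd := finrank_le_inf_perp (Q := Q) N c
  have hR2 : 2 ≤ finrank F ↥(N ⊓ LinearMap.ker (QuadraticMap.polarBilin Q c)) := by omega
  -- a non-singular vector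
  obtain ⟨v₀, hv₀R, hv₀⟩ : ∃ v₀ ∈ N ⊓ LinearMap.ker (QuadraticMap.polarBilin Q c), Q v₀ ≠ 0 := by
    by_contra hcon
    push Not at hcon
    obtain ⟨e₁, he₁, he₁00⟩ := exists_ne_zero_of_finrank_pos
      (N ⊓ LinearMap.ker (QuadraticMap.polarBilin Q c)) (by omega)
    obtain ⟨e₁', _, d, _, _, _, hed, _, hQd, hexp⟩ :=
      exists_basis_three h2 hN h3 (mem_inf_perp.1 he₁).1 he₁00 (hcon e₁ he₁)
    obtain ⟨e₂, he₂, hne⟩ := exists_not_smul hR2 e₁
    have hβ : polar ⇑Q e₁ e₂ = 0 := polar_eq_zero_of_ts hcon he₁ he₂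
    have h6 := hexp e₂ (mem_inf_perp.1 he₂).1
    rw [hβ, zero_smul, add_zero] at h6
    have h7 : Q e₂ = (polar ⇑Q d e₂ / polar ⇑Q d d) * (polar ⇑Q d e₂ / polar ⇑Q d d) * Q d := by
      conv_lhs => rw [h6]
      rw [QuadraticMap.map_add ⇑Q, QuadraticMap.map_smul, QuadraticMap.map_smul, polar_smul_left,
        polar_smul_right, hed, hcon e₁ he₁]
      simp
    rw [hcon e₂ he₂] at h7
    have h8 : polar ⇑Q d e₂ / polar ⇑Q d d = 0 := by
      rcases mul_eq_zero.1 h7.symm with h | h
      · exact mul_self_eq_zero.1 h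
      · exact absurd h hQd
    rw [h8, zero_smul, add_zero] at h6
    exact hne _ h6
  obtain ⟨e, heR, hne⟩ := exists_not_smul hR2 v₀
  have hv₀00 : v₀ ≠ 0 := by
    rintro rfl
    exact hv₀ (map_zero _)
  have hindep : ∀ α β : F, α • e + β • v₀ = 0 → α = 0 ∧ β = 0 := by
    have hli := linearIndependent_pair_of_ne hv₀00 hne
    rw [LinearIndependent.pair_iff] at hli
    intro α β h
    have := hli β α (by rw [add_comm]; exact h)
    exact ⟨this.2, this.1⟩
  have hQl : ∀ lam : F, Q (e + lam • v₀) = Q e + polar ⇑Q e v₀ * lam + Q v₀ * lam ^ 2 := by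
    intro lam
    rw [QuadraticMap.map_add ⇑Q, QuadraticMap.map_smul, polar_smul_right, smul_eq_mul,
      smul_eq_mul]
    ring
  obtain ⟨x, y, z, hxy, hxz, hyz, fx, fy, fz⟩ :=
    exists_three_nonroots (Q e) (polar ⇑Q e v₀) (Q v₀) hv₀ h5
  rw [← hQl] at fx fy fz
  have helper : ∀ lam mu : F, lam ≠ mu → Q (e + lam • v₀) ≠ 0 → Q (e + mu • v₀) ≠ 0 →
      IsSquare (Q (e + lam • v₀) * Q (e + mu • v₀)) →
      ∃ v ∈ N, ∃ v' ∈ N, polar ⇑Q c v = 0 ∧ polar ⇑Q c v' = 0 ∧ Q v ≠ 0 ∧ Q v' ≠ 0 ∧
        IsSquare (Q v * Q v') ∧ LinearIndependent F ![v, v'] := by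
    intro lam mu hlm h1 h2' hsq
    have hm1 : e + lam • v₀ ∈ N ⊓ LinearMap.ker (QuadraticMap.polarBilin Q c) :=
      Submodule.add_mem _ heR (Submodule.smul_mem _ _ hv₀R)
    have hm2 : e + mu • v₀ ∈ N ⊓ LinearMap.ker (QuadraticMap.polarBilin Q c) :=
      Submodule.add_mem _ heR (Submodule.smul_mem _ _ hv₀R)
    refine ⟨_, (mem_inf_perp.1 hm1).1, _, (mem_inf_perp.1 hm2).1, (mem_inf_perp.1 hm1).2,
      (mem_inf_perp.1 hm2).2, h1, h2', hsq, ?_⟩
    rw [LinearIndependent.pair_iff]
    intro s r hsr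
    have h9 : (s + r) • e + (s * lam + r * mu) • v₀ = 0 := by
      rw [← hsr]; module
    obtain ⟨h10, h11⟩ := hindep _ _ h9
    have h12 : s * (lam - mu) = 0 := by
      have : r = -s := by rw [eq_neg_iff_add_eq_zero, add_comm]; exact h10
      rw [this] at h11
      rw [← h11]; ring
    have hs : s = 0 := (mul_eq_zero.1 h12).resolve_right (sub_ne_zero.2 hlm)
    refine ⟨hs, ?_⟩
    rw [hs, zero_add] at h10
    exact h10
  rcases exists_square_pair (x := Q (e + x • v₀)) (y := Q (e + y • v₀)) (z := Q (e + z • v₀))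
    fx with h | h | h
  · exact helper x y hxy fx fy h
  · exact helper x z hxz fx fz h
  · exact helper y z hyz fy fz h

/-- an image of a block containing a non-zero singular vector orthogonal to the block `D j`
is orthogonal to `D j` or equal to it -/
theorem cpl_or_eq_of_singular (ho : Over Q D M) (hS : Step1 Q D M) (h2 : (2 : F) ≠ 0)
    (hfr : ∀ i, finrank F (D i) = 3) {g : Cfsg.isometryGroup F ⇑Q} (hg : g ∈ M) (l j : Fin t)
    {a : ι → F} (haX : a ∈ (D l).map (lin Q g)) (ha00 : a ≠ 0) (ha0 : Q a = 0)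
    (hac : a ∈ cpl Q D j) :
    (∀ x ∈ (D l).map (lin Q g), x ∈ cpl Q D j) ∨ (D l).map (lin Q g) = D j := by
  have hstab : ∀ u ∈ D j, ∀ w ∈ D j, Q u = 0 → polar ⇑Q u w = 0 →
      ∀ x ∈ (D l).map (lin Q g), lin Q (Helper5.eichlerO Q u w) x ∈ (D l).map (lin Q g) := by
    intro u hu w hw hu0 huw x hx
    apply hS.fix_map hg haX ha00 ha0 (ho.eichler_mem hu hw hu0 huw) _ hx
    apply lin_eichlerO_fix hu0 huw
    · rw [polar_comm]; exact (mem_cpl.1 hac) u hu
    · rw [polar_comm]; exact (mem_cpl.1 hac) w hw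
  by_cases hP : ∃ p ∈ (D l).map (lin Q g) ⊓ D j, p ≠ 0
  · right
    have hle : D j ≤ (D l).map (lin Q g) ⊓ D j := by
      apply irr_eichler (ho.blocks.nd j) (by rw [hfr]) _ inf_le_right hP
      intro s hs r hr hs0 hsr p hp
      exact ⟨hstab s hs r hr hs0 hsr p hp.1, ho.blocks.eichler_fix hs hr hs0 hsr j hp.2⟩
    symm
    apply Submodule.eq_of_le_of_finrank_eq (le_trans hle inf_le_left)
    rw [finrank_map_lin, hfr, hfr]
  · left
    push Not at hP
    intro x hx
    rw [mem_cpl]
    have hle : D j ≤ LinearMap.ker (QuadraticMap.polarBilin Q x) := by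
      apply le_of_singular_mem (ho.blocks.nd j) (by rw [hfr])
      intro u hu hu0
      rw [LinearMap.mem_ker, QuadraticMap.polarBilin_apply_apply]
      by_cases hu00 : u = 0
      · rw [hu00, polar_zero_right]
      obtain ⟨u', _, d, hdD, _, _, hud, _, hQd, _⟩ :=
        exists_basis_three h2 (ho.blocks.nd j) (hfr j) hu hu00 hu0
      have h1 : lin Q (Helper5.eichlerO Q u d) x - x ∈ (D l).map (lin Q g) ⊓ D j := by
        refine ⟨Submodule.sub_mem _ (hstab u hu d hdD hu0 hud x hx) hx, ?_⟩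
        rw [Helper5.lin_eichlerO Q hu0 hud]
        have e : x + polar ⇑Q d x • u - polar ⇑Q u x • d - (Q d * polar ⇑Q u x) • u - x
            = polar ⇑Q d x • u - polar ⇑Q u x • d - (Q d * polar ⇑Q u x) • u := by abel
        rw [e]
        exact (D j).sub_mem ((D j).sub_mem ((D j).smul_mem _ hu) ((D j).smul_mem _ hdD))
          ((D j).smul_mem _ hu)
      have h3 := hP _ h1
      rw [Helper5.lin_eichlerO Q hu0 hud] at h3
      have h4 : polar ⇑Q d (x + polar ⇑Q d x • u - polar ⇑Q u x • d - (Q d * polar ⇑Q u x) • u - x)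
          = 0 := by rw [h3, polar_zero_right]
      have hdu : polar ⇑Q d u = 0 := by rw [polar_comm]; exact hud
      simp only [polar_sub_right, polar_add_right, polar_smul_right, hdu, smul_zero, add_zero,
        sub_zero, smul_eq_mul] at h4
      have hdd : polar ⇑Q d d ≠ 0 := by
        rw [QuadraticMap.polar_self, nsmul_eq_mul]
        exact mul_ne_zero (by exact_mod_cast h2) hQd
      have h5 : polar ⇑Q u x * polar ⇑Q d d = 0 := by linear_combination -h4
      have := (mul_eq_zero.1 h5).resolve_right hdd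
      rw [polar_comm]; exact this
    intro y hy
    have := hle hy
    rw [LinearMap.mem_ker, QuadraticMap.polarBilin_apply_apply] at this
    exact this

end Cfsg.Agent.Helper45.OmDec
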