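import Mathlib
import Cfsg.Prelude.Def_ClassicalGeometry
import Cfsg.Prelude.Def_GeometricClasses
import Cfsg.Agent.Helper45.OmDecE

/-!
# Blocks of dimension three: an image of a block meets the complement of a block

`exists_cpl_of_ne`: an image of a block which is neither `D j` nor orthogonal to it contains a
non-zero vector orthogonal to `D j`.
-/

set_option autoImplicit false
set_option linter.unusedSectionVars false

namespace Cfsg.Agent.Helper45.OmDec

open Matrix QuadraticMap Module Cfsg.Agent.Helper44 Cfsg.Agent.Helper45.OmegaParity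
open Cfsg.Agent.Helper12.OmNd Cfsg.Agent

variable {F : Type*} [Field F] [Fintype F] {ι : Type} [Fintype ι] [DecidableEq ι]
variable {Q : QuadraticForm F (ι → F)} {t : ℕ} {D : Fin t → Submodule F (ι → F)}
variable {M : Subgroup (Cfsg.isometryGroup F ⇑Q)}

/-- the rotation about the projection of a singular vector of an image of a block: the two
rotation vectors lie in the image as soon as the projection to the block is injective -/
theorem rot_pair_mem (ho : Over Q D M) (hS : Step1 Q D M) (h2 : (2 : F) ≠ 0)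
    (h5 : 5 ≤ Fintype.card F) (hfr : ∀ i, finrank F (D i) = 3)
    {g : Cfsg.isometryGroup F ⇑Q} (hg : g ∈ M) (l j : Fin t)
    (hsurj : ∀ y ∈ D j, ∃ x ∈ (D l).map (lin Q g), ∀ z ∈ D j, polar ⇑Q x z = polar ⇑Q y z)
    {a : ι → F} (haX : a ∈ (D l).map (lin Q g)) (ha00 : a ≠ 0) (ha0 : Q a = 0) :
    ∃ v ∈ D j, ∃ v' ∈ D j, polar ⇑Q a v = 0 ∧ polar ⇑Q a v' = 0 ∧ LinearIndependent F ![v, v'] ∧
      v ∈ (D l).map (lin Q g) ∧ v' ∈ (D l).map (lin Q g) := by
  have hc : ∀ y ∈ D j, polar ⇑Q (ho.blocks.prj ho.nondeg j a) y = polar ⇑Q a y :=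
    fun y hy => ho.blocks.polar_prj ho.nondeg a hy
  obtain ⟨v, hvD, v', hv'D, hcv, hcv', hv0, hv'0, hsq, hli⟩ :=
    exists_rot_pair h2 h5 (ho.blocks.nd j) (hfr j) (ho.blocks.prj ho.nondeg j a)
  have hav : polar ⇑Q a v = 0 := by rw [← hc v hvD]; exact hcv
  have hav' : polar ⇑Q a v' = 0 := by rw [← hc v' hv'D]; exact hcv'
  have hsM : reflT Q v * reflT Q v' ∈ M := ho.rot_mem h2 hvD hv'D hv0 hv'0 hsq
  have hsfix : lin Q (reflT Q v * reflT Q v') a = a :=
    lin_rot_fix hv0 hv'0 (by rw [polar_comm]; exact hav) (by rw [polar_comm]; exact hav')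
  have hstab : ∀ x ∈ (D l).map (lin Q g),
      lin Q (reflT Q v * reflT Q v') x - x ∈ (D l).map (lin Q g) := fun x hx =>
    Submodule.sub_mem _ (hS.fix_map hg haX ha00 ha0 hsM hsfix hx) hx
  have hli' := hli
  rw [LinearIndependent.pair_iff] at hli'
  -- `v` lies in the image
  have hvX : v ∈ (D l).map (lin Q g) := by
    obtain ⟨y₁, hy₁D, hy₁v', hy₁v⟩ : ∃ y₁ ∈ D j, polar ⇑Q v' y₁ = 0 ∧ polar ⇑Q v y₁ ≠ 0 := by
      by_contra hcon
      push Not at hcon
      obtain ⟨c', hc'⟩ := double_orth (ho.blocks.nd j) hv'D hvD (fun y hy h => hcon y hy h)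
      have := hli' 1 (-c') (by rw [hc']; module)
      exact one_ne_zero this.1
    obtain ⟨x₁, hx₁X, hx₁⟩ := hsurj y₁ hy₁D
    have e1 : polar ⇑Q v' x₁ = 0 := by
      rw [polar_comm, hx₁ v' hv'D, polar_comm]; exact hy₁v'
    have e2 : polar ⇑Q v x₁ ≠ 0 := by
      rw [polar_comm, hx₁ v hvD, polar_comm]; exact hy₁v
    have h3 := hstab x₁ hx₁X
    rw [lin_rot_sub hv0 hv'0, e1] at h3
    simp only [mul_zero, zero_smul, neg_zero, zero_mul, sub_zero, zero_sub] at h3
    have h4 : (Q v)⁻¹ * polar ⇑Q v x₁ ≠ 0 := mul_ne_zero (inv_ne_zero hv0) e2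
    have := Submodule.smul_mem _ (-((Q v)⁻¹ * polar ⇑Q v x₁))⁻¹ h3
    rwa [← neg_smul, smul_smul, inv_mul_cancel₀ (neg_ne_zero.2 h4), one_smul] at this
  have hv'X : v' ∈ (D l).map (lin Q g) := by
    obtain ⟨y₂, hy₂D, hy₂v, hy₂v'⟩ : ∃ y₂ ∈ D j, polar ⇑Q v y₂ = 0 ∧ polar ⇑Q v' y₂ ≠ 0 := by
      by_contra hcon
      push Not at hcon
      obtain ⟨c', hc'⟩ := double_orth (ho.blocks.nd j) hvD hv'D (fun y hy h => hcon y hy h)
      have := hli' (-c') 1 (by rw [hc']; module)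
      exact one_ne_zero this.2
    obtain ⟨x₂, hx₂X, hx₂⟩ := hsurj y₂ hy₂D
    have e1 : polar ⇑Q v x₂ = 0 := by
      rw [polar_comm, hx₂ v hvD, polar_comm]; exact hy₂v
    have e2 : polar ⇑Q v' x₂ ≠ 0 := by
      rw [polar_comm, hx₂ v' hv'D, polar_comm]; exact hy₂v'
    have h3 := hstab x₂ hx₂X
    rw [lin_rot_sub hv0 hv'0, e1] at h3
    have h4 : (Q v')⁻¹ * polar ⇑Q v' x₂ ≠ 0 := mul_ne_zero (inv_ne_zero hv'0) e2
    have h5 : ((Q v')⁻¹ * polar ⇑Q v' x₂) • v' ∈ (D l).map (lin Q g) := by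
      have h6 := Submodule.add_mem _ h3 (Submodule.smul_mem _
        ((Q v)⁻¹ * 0 - (Q v')⁻¹ * polar ⇑Q v' x₂ * ((Q v)⁻¹ * polar ⇑Q v v')) hvX)
      rw [sub_add_cancel] at h6
      have := Submodule.neg_mem _ h6
      rwa [neg_neg] at this
    have := Submodule.smul_mem _ ((Q v')⁻¹ * polar ⇑Q v' x₂)⁻¹ h5
    rwa [smul_smul, inv_mul_cancel₀ h4, one_smul] at this
  exact ⟨v, hvD, v', hv'D, hav, hav', hli, hvX, hv'X⟩

theorem exists_cpl_of_ne (ho : Over Q D M) (hS : Step1 Q D M) (h2 : (2 : F) ≠ 0)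
    (h5 : 5 ≤ Fintype.card F) (hfr : ∀ i, finrank F (D i) = 3)
    {g : Cfsg.isometryGroup F ⇑Q} (hg : g ∈ M) (l j : Fin t)
    (hne : (D l).map (lin Q g) ≠ D j) :
    ∃ κ ∈ (D l).map (lin Q g), κ ≠ 0 ∧ κ ∈ cpl Q D j := by
  by_contra hcon
  push Not at hcon
  have hinj : ∀ κ ∈ (D l).map (lin Q g), κ ∈ cpl Q D j → κ = 0 := by
    intro κ hκ hκc
    by_contra h0
    exact hcon κ hκ h0 hκc
  have hXnd : NdOn Q ((D l).map (lin Q g)) := ndOn_map (ho.blocks.nd l) g
  have hXfr : finrank F ((D l).map (lin Q g)) = 3 := by rw [finrank_map_lin, hfr]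
  -- surjectivity of the projection
  have hsurj : ∀ y ∈ D j, ∃ x ∈ (D l).map (lin Q g), ∀ z ∈ D j, polar ⇑Q x z = polar ⇑Q y z := by
    set f : ↥((D l).map (lin Q g)) →ₗ[F] ↥(D j) :=
      ((ho.blocks.prj ho.nondeg j).domRestrict ((D l).map (lin Q g))).codRestrict (D j)
        (fun x => ho.blocks.prj_mem ho.nondeg j _) with hf
    have hfval : ∀ x : ↥((D l).map (lin Q g)),
        ((f x : ↥(D j)) : ι → F) = ho.blocks.prj ho.nondeg j (x : ι → F) := fun x => rfl
    have hfinj : Function.Injective f := by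
      rw [← LinearMap.ker_eq_bot, LinearMap.ker_eq_bot']
      intro x hx
      have h1 : ho.blocks.prj ho.nondeg j (x : ι → F) = 0 := by
        rw [← hfval, hx]
        rfl
      have h2' := hinj x x.2 ((ho.blocks.prj_eq_zero_iff ho.nondeg).1 h1)
      exact Subtype.ext h2'
    have hfsurj : Function.Surjective f :=
      (LinearMap.injective_iff_surjective_of_finrank_eq_finrank
        (by rw [hXfr, hfr])).1 hfinj
    intro y hy
    obtain ⟨x, hx⟩ := hfsurj ⟨y, hy⟩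
    refine ⟨x, x.2, fun z hz => ?_⟩
    have h1 : ho.blocks.prj ho.nondeg j (x : ι → F) = y := by
      rw [← hfval, hx]
    rw [← h1, ho.blocks.polar_prj ho.nondeg _ hz]
  -- the lines `R(a)`
  have hR : ∀ a ∈ (D l).map (lin Q g), a ≠ 0 → Q a = 0 →
      D j ⊓ LinearMap.ker (QuadraticMap.polarBilin Q a) ≤ (D l).map (lin Q g) ⊓ D j := by
    intro a haX ha00 ha0
    obtain ⟨v, hvD, v', hv'D, hav, hav', hli, hvX, hv'X⟩ :=
      rot_pair_mem ho hS h2 h5 hfr hg l j hsurj haX ha00 ha0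
    have hlt : D j ⊓ LinearMap.ker (QuadraticMap.polarBilin Q a) < D j := by
      refine lt_of_le_of_ne inf_le_left ?_
      intro h
      apply ha00
      apply hinj a haX
      rw [mem_cpl]
      intro y hy
      have : y ∈ D j ⊓ LinearMap.ker (QuadraticMap.polarBilin Q a) := by rw [h]; exact hy
      exact (mem_inf_perp.1 this).2
    have hf2 := Submodule.finrank_lt_finrank_of_lt hlt
    rw [hfr] at hf2
    intro r hr
    obtain ⟨α, β, rfl⟩ := eq_span_pair (by omega) (mem_inf_perp.2 ⟨hvD, hav⟩)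
      (mem_inf_perp.2 ⟨hv'D, hav'⟩) hli r hr
    exact ⟨Submodule.add_mem _ (Submodule.smul_mem _ _ hvX) (Submodule.smul_mem _ _ hv'X),
      (D j).add_mem ((D j).smul_mem _ hvD) ((D j).smul_mem _ hv'D)⟩
  obtain ⟨a, haX, ha00, ha0⟩ := exists_singular_of_finrank (Q := Q) ((D l).map (lin Q g))
    (by omega)
  obtain ⟨a', ha'X, ha'0, haa'⟩ := exists_partner_in hXnd haX ha00 ha0
  have ha'00 : a' ≠ 0 := by
    rintro rfl
    rw [polar_zero_right] at haa'
    exact zero_ne_one haa'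
  have hlt : (D l).map (lin Q g) ⊓ D j < D j := by
    refine lt_of_le_of_ne inf_le_right ?_
    intro h
    apply hne
    symm
    apply Submodule.eq_of_le_of_finrank_eq
    · rw [← h]; exact inf_le_left
    · rw [hXfr, hfr]
  have hf2 := Submodule.finrank_lt_finrank_of_lt hlt
  rw [hfr] at hf2
  have hda := finrank_le_inf_perp (Q := Q) (D j) a
  have hda' := finrank_le_inf_perp (Q := Q) (D j) a'
  rw [hfr] at hda hda'
  have e1 : D j ⊓ LinearMap.ker (QuadraticMap.polarBilin Q a) = (D l).map (lin Q g) ⊓ D j :=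
    Submodule.eq_of_le_of_finrank_le (hR a haX ha00 ha0) (by omega)
  have e2 : D j ⊓ LinearMap.ker (QuadraticMap.polarBilin Q a') = (D l).map (lin Q g) ⊓ D j :=
    Submodule.eq_of_le_of_finrank_le (hR a' ha'X ha'00 ha'0) (by omega)
  obtain ⟨μ, hμ⟩ := double_orth (ho.blocks.nd j) (ho.blocks.prj_mem ho.nondeg j a)
    (ho.blocks.prj_mem ho.nondeg j a') (by
      intro y hy h
      rw [ho.blocks.polar_prj ho.nondeg _ hy] at h ⊢
      have : y ∈ D j ⊓ LinearMap.ker (QuadraticMap.polarBilin Q a') := by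
        rw [e2, ← e1]; exact mem_inf_perp.2 ⟨hy, h⟩
      exact (mem_inf_perp.1 this).2)
  have h7 : a' - μ • a = 0 := by
    apply hinj _ (Submodule.sub_mem _ ha'X (Submodule.smul_mem _ _ haX))
    rw [← ho.blocks.prj_eq_zero_iff ho.nondeg, map_sub, map_smul, hμ, sub_self]
  have h8 : a' = μ • a := sub_eq_zero.1 h7
  rw [h8, polar_smul_right, polar_self_zero ha0, smul_zero] at haa'
  exact zero_ne_one haa'

end Cfsg.Agent.Helper45.OmDec
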