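import Mathlib
import Cfsg.Prelude.Def_ClassicalGeometry
import Cfsg.Prelude.Def_GeometricClasses
import Cfsg.Agent.Helper45.OmDecF

/-!
# Blocks of dimension three: an image of a block with a two-dimensional part in a complement

`exists_two_cpl`: an image of a block under `M` which is not a block has a two-dimensional
intersection with the complement of some block it is not orthogonal to.
-/

set_option autoImplicit false
set_option linter.unusedSectionVars false

namespace Cfsg.Agent.Helper45.OmDec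

open Matrix QuadraticMap Module Cfsg.Agent.Helper44 Cfsg.Agent.Helper45.OmegaParity
open Cfsg.Agent.Helper12.OmNd Cfsg.Agent

variable {F : Type*} [Field F] [Fintype F] {ι : Type} [Fintype ι] [DecidableEq ι]
variable {Q : QuadraticForm F (ι → F)} {t : ℕ} {D : Fin t → Submodule F (ι → F)}
variable {M : Subgroup (Cfsg.isometryGroup F ⇑Q)}

/-- for a singular vector `a₀` of the image not orthogonal to `D i`, when the image meets the
complement of `D i` in a line: a non-zero vector of the image inside `D i`, orthogonal to `a₀` -/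
theorem exists_inter_orth (ho : Over Q D M) (hS : Step1 Q D M) (h2 : (2 : F) ≠ 0)
    (h5 : 5 ≤ Fintype.card F) (hfr : ∀ i, finrank F (D i) = 3)
    {g : Cfsg.isometryGroup F ⇑Q} (hg : g ∈ M) (l i : Fin t) {f : ι → F}
    (hline : ∀ f' ∈ (D l).map (lin Q g), f' ∈ cpl Q D i → ∃ μ : F, f' = μ • f)
    {a₀ : ι → F} (ha₀X : a₀ ∈ (D l).map (lin Q g)) (ha₀00 : a₀ ≠ 0) (ha₀0 : Q a₀ = 0)
    (ha₀c : a₀ ∉ cpl Q D i) :
    ∃ κ ∈ (D l).map (lin Q g), κ ∈ D i ∧ κ ≠ 0 ∧ polar ⇑Q a₀ κ = 0 := by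
  classical
  have hXfr : finrank F ((D l).map (lin Q g)) = 3 := by rw [finrank_map_lin, hfr]
  have hc : ∀ y ∈ D i, polar ⇑Q (ho.blocks.prj ho.nondeg i a₀) y = polar ⇑Q a₀ y :=
    fun y hy => ho.blocks.polar_prj ho.nondeg a₀ hy
  have hc00 : ho.blocks.prj ho.nondeg i a₀ ≠ 0 := by
    intro h
    exact ha₀c ((ho.blocks.prj_eq_zero_iff ho.nondeg).1 h)
  obtain ⟨v, hvD, v', hv'D, hcv, hcv', hv0, hv'0, hsq, hli⟩ :=
    exists_rot_pair h2 h5 (ho.blocks.nd i) (hfr i) (ho.blocks.prj ho.nondeg i a₀)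
  have hav : polar ⇑Q a₀ v = 0 := by rw [← hc v hvD]; exact hcv
  have hav' : polar ⇑Q a₀ v' = 0 := by rw [← hc v' hv'D]; exact hcv'
  have hsM : reflT Q v * reflT Q v' ∈ M := ho.rot_mem h2 hvD hv'D hv0 hv'0 hsq
  have hsfix : lin Q (reflT Q v * reflT Q v') a₀ = a₀ :=
    lin_rot_fix hv0 hv'0 (by rw [polar_comm]; exact hav) (by rw [polar_comm]; exact hav')
  have hstab : ∀ x ∈ (D l).map (lin Q g),
      lin Q (reflT Q v * reflT Q v') x ∈ (D l).map (lin Q g) := fun x hx =>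
    hS.fix_map hg ha₀X ha₀00 ha₀0 hsM hsfix hx
  by_cases hmove : ∃ x ∈ (D l).map (lin Q g), lin Q (reflT Q v * reflT Q v') x ≠ x
  · obtain ⟨x, hxX, hx⟩ := hmove
    refine ⟨lin Q (reflT Q v * reflT Q v') x - x, Submodule.sub_mem _ (hstab x hxX) hxX, ?_,
      sub_ne_zero.2 hx, ?_⟩
    · rw [lin_rot_sub hv0 hv'0]
      exact (D i).sub_mem ((D i).neg_mem ((D i).smul_mem _ hv'D)) ((D i).smul_mem _ hvD)
    · rw [lin_rot_sub hv0 hv'0, polar_sub_right, polar_neg_right, polar_smul_right,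
        polar_smul_right, hav, hav']
      simp
  · exfalso
    push Not at hmove
    have hli' := hli
    rw [LinearIndependent.pair_iff] at hli'
    have horth : ∀ x ∈ (D l).map (lin Q g), polar ⇑Q v x = 0 ∧ polar ⇑Q v' x = 0 := by
      intro x hx
      have h1 := lin_rot_sub hv0 hv'0 x
      rw [hmove x hx, sub_self] at h1
      have h3 := hli' (-((Q v)⁻¹ * polar ⇑Q v x
        - (Q v')⁻¹ * polar ⇑Q v' x * ((Q v)⁻¹ * polar ⇑Q v v')))
        (-((Q v')⁻¹ * polar ⇑Q v' x)) (by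
          rw [h1]; module)
      have h4 : polar ⇑Q v' x = 0 := by
        have := neg_eq_zero.1 h3.2
        exact (mul_eq_zero.1 this).resolve_left (inv_ne_zero hv'0)
      have h5 := neg_eq_zero.1 h3.1
      rw [h4] at h5
      simp only [mul_zero, zero_mul, sub_zero] at h5
      exact ⟨(mul_eq_zero.1 h5).resolve_left (inv_ne_zero hv0), h4⟩
    -- the projection of the image lies on the line through the projection of `a₀`
    have hlt : D i ⊓ LinearMap.ker (QuadraticMap.polarBilin Q (ho.blocks.prj ho.nondeg i a₀))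
        < D i := by
      refine lt_of_le_of_ne inf_le_left ?_
      intro h
      apply hc00
      apply ho.blocks.nd i _ (ho.blocks.prj_mem ho.nondeg i a₀)
      intro y hy
      have : y ∈ D i ⊓
          LinearMap.ker (QuadraticMap.polarBilin Q (ho.blocks.prj ho.nondeg i a₀)) := by
        rw [h]; exact hy
      exact (mem_inf_perp.1 this).2
    have hf2 := Submodule.finrank_lt_finrank_of_lt hlt
    rw [hfr] at hf2
    have hproj : ∀ x ∈ (D l).map (lin Q g), ∃ μ ν : F, x = μ • a₀ + ν • f := by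
      intro x hx
      obtain ⟨μ, hμ⟩ := double_orth (ho.blocks.nd i) (ho.blocks.prj_mem ho.nondeg i a₀)
        (ho.blocks.prj_mem ho.nondeg i x) (by
          intro y hy h
          obtain ⟨α, β, rfl⟩ := eq_span_pair (by omega) (mem_inf_perp.2 ⟨hvD, hcv⟩)
            (mem_inf_perp.2 ⟨hv'D, hcv'⟩) hli y (mem_inf_perp.2 ⟨hy, h⟩)
          rw [ho.blocks.polar_prj ho.nondeg _ hy, polar_add_right, polar_smul_right,
            polar_smul_right, polar_comm ⇑Q x v, polar_comm ⇑Q x v', (horth x hx).1,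
            (horth x hx).2]
          simp)
      have h7 : x - μ • a₀ ∈ cpl Q D i := by
        rw [← ho.blocks.prj_eq_zero_iff ho.nondeg, map_sub, map_smul, hμ, sub_self]
      obtain ⟨ν, hν⟩ := hline _ (Submodule.sub_mem _ hx (Submodule.smul_mem _ _ ha₀X)) h7
      refine ⟨μ, ν, ?_⟩
      rw [← hν]
      abel
    have hle : (D l).map (lin Q g) ≤ Submodule.span F (({a₀, f} : Finset (ι → F)) : Set (ι → F)) := by
      intro x hx
      obtain ⟨μ, ν, rfl⟩ := hproj x hx
      exact Submodule.add_mem _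
        (Submodule.smul_mem _ _ (Submodule.subset_span (by simp)))
        (Submodule.smul_mem _ _ (Submodule.subset_span (by simp)))
    have h8 := Submodule.finrank_mono hle
    have h9 : finrank F (Submodule.span F (({a₀, f} : Finset (ι → F)) : Set (ι → F)))
        ≤ ({a₀, f} : Finset (ι → F)).card := finrank_span_finset_le_card _
    have h10 : ({a₀, f} : Finset (ι → F)).card ≤ 2 := Finset.card_le_two
    omega

theorem exists_two_cpl (ho : Over Q D M) (hS : Step1 Q D M) (h2 : (2 : F) ≠ 0)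
    (h5 : 5 ≤ Fintype.card F) (hfr : ∀ i, finrank F (D i) = 3)
    {g : Cfsg.isometryGroup F ⇑Q} (hg : g ∈ M) (l : Fin t)
    (hnb : ∀ j, (D l).map (lin Q g) ≠ D j) :
    ∃ j, (∃ x ∈ (D l).map (lin Q g), x ∉ cpl Q D j) ∧
      ∃ e₁ ∈ (D l).map (lin Q g), ∃ e₂ ∈ (D l).map (lin Q g), e₁ ∈ cpl Q D j ∧ e₂ ∈ cpl Q D j ∧
        LinearIndependent F ![e₁, e₂] := by
  have hXnd : NdOn Q ((D l).map (lin Q g)) := ndOn_map (ho.blocks.nd l) g
  have hXfr : finrank F ((D l).map (lin Q g)) = 3 := by rw [finrank_map_lin, hfr]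
  obtain ⟨a, haX, ha00, ha0⟩ := exists_singular_of_finrank (Q := Q) ((D l).map (lin Q g))
    (by omega)
  obtain ⟨i, y, hyD, hay⟩ := ho.blocks.exists_not_orth ho.nondeg ha00
  have hai : a ∉ cpl Q D i := fun h => hay ((mem_cpl.1 h) y hyD)
  have hsing : ∀ a₀ ∈ (D l).map (lin Q g), a₀ ≠ 0 → Q a₀ = 0 → a₀ ∉ cpl Q D i := by
    intro a₀ ha₀X ha₀00 ha₀0 hc
    rcases cpl_or_eq_of_singular ho hS h2 hfr hg l i ha₀X ha₀00 ha₀0 hc with h | h
    · exact hai (h a haX)
    · exact hnb i h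
  obtain ⟨f, hfX, hf00, hfc⟩ := exists_cpl_of_ne ho hS h2 h5 hfr hg l i (hnb i)
  by_cases hcase : ∃ f' ∈ (D l).map (lin Q g), f' ∈ cpl Q D i ∧ ∀ μ : F, f' ≠ μ • f
  · obtain ⟨f', hf'X, hf'c, hne⟩ := hcase
    exact ⟨i, ⟨a, haX, hai⟩, f, hfX, f', hf'X, hfc, hf'c, linearIndependent_pair_of_ne hf00 hne⟩
  push Not at hcase
  -- another block not orthogonal to the image
  obtain ⟨i', hi'i, x', hx'X, hx'⟩ : ∃ i', i' ≠ i ∧ ∃ x ∈ (D l).map (lin Q g), x ∉ cpl Q D i' := by
    by_contra hcon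
    push Not at hcon
    apply hnb i
    apply Submodule.eq_of_le_of_finrank_eq
    · intro x hx
      apply ho.blocks.mem_of_orth ho.nondeg
      intro j hj y hy
      exact (mem_cpl.1 (hcon j hj x hx)) y hy
    · rw [hXfr, hfr]
  have hκ := fun a₀ h1 h2' h3 => exists_inter_orth ho hS h2 h5 hfr hg l i hcase (a₀ := a₀) h1 h2' h3
    (hsing a₀ h1 h2' h3)
  have fin : ∀ e₁ ∈ (D l).map (lin Q g), ∀ e₂ ∈ (D l).map (lin Q g), e₁ ∈ D i → e₂ ∈ D i →
      LinearIndependent F ![e₁, e₂] →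
      ∃ j, (∃ x ∈ (D l).map (lin Q g), x ∉ cpl Q D j) ∧
        ∃ e₁ ∈ (D l).map (lin Q g), ∃ e₂ ∈ (D l).map (lin Q g), e₁ ∈ cpl Q D j ∧
          e₂ ∈ cpl Q D j ∧ LinearIndependent F ![e₁, e₂] := by
    intro e₁ h1 e₂ h2' h3 h4 hli
    exact ⟨i', ⟨x', hx'X, hx'⟩, e₁, h1, e₂, h2', ho.blocks.le_cpl hi'i h3,
      ho.blocks.le_cpl hi'i h4, hli⟩
  obtain ⟨a', ha'X, b, hbX, ha'0, haa', hab, ha'b, hQb, hexp⟩ :=
    exists_basis_three h2 hXnd hXfr haX ha00 ha0
  have ha'00 : a' ≠ 0 := by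
    rintro rfl
    rw [polar_zero_right] at haa'
    exact zero_ne_one haa'
  obtain ⟨κa, hκaX, hκaD, hκa00, haκa⟩ := hκ a haX ha00 ha0
  obtain ⟨κa', hκa'X, hκa'D, hκa'00, ha'κa'⟩ := hκ a' ha'X ha'00 ha'0
  by_cases hprop : ∃ ν : F, κa' = ν • κa
  swap
  · push Not at hprop
    exact fin κa hκaX κa' hκa'X hκaD hκa'D (linearIndependent_pair_of_ne hκa00 hprop)
  obtain ⟨ν, hν⟩ := hprop
  have hν0 : ν ≠ 0 := by
    rintro rfl
    rw [zero_smul] at hν
    exact hκa'00 hν
  have ha'κa : polar ⇑Q a' κa = 0 := by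
    rw [hν, polar_smul_right, smul_eq_mul] at ha'κa'
    exact (mul_eq_zero.1 ha'κa').resolve_left hν0
  have hκab := hexp κa hκaX
  rw [ha'κa, haκa, zero_smul, zero_smul, zero_add, zero_add] at hκab
  obtain ⟨γ, hγeq⟩ : ∃ γ : F, κa = γ • b := ⟨_, hκab⟩
  have hγ : γ ≠ 0 := by
    rintro rfl
    rw [zero_smul] at hγeq
    exact hκa00 hγeq
  have hbD : b ∈ D i := by
    have := (D i).smul_mem γ⁻¹ hκaD
    rw [hγeq, smul_smul, inv_mul_cancel₀ hγ, one_smul] at this
    exact this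
  have hb00 : b ≠ 0 := by
    rintro rfl
    exact hQb (map_zero _)
  have hbb : polar ⇑Q b b ≠ 0 := by
    rw [QuadraticMap.polar_self, nsmul_eq_mul]
    exact mul_ne_zero (by exact_mod_cast h2) hQb
  -- a third singular vector
  have ha3X : a + b - Q b • a' ∈ (D l).map (lin Q g) :=
    Submodule.sub_mem _ (Submodule.add_mem _ haX hbX) (Submodule.smul_mem _ _ ha'X)
  have ha30 : Q (a + b - Q b • a') = 0 := by
    have e : a + b - Q b • a' = a + b + (-Q b) • a' := by module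
    rw [e, QuadraticMap.map_add ⇑Q, QuadraticMap.map_add ⇑Q, QuadraticMap.map_smul,
      polar_smul_right, polar_add_left, ha0, ha'0, haa', hab,
      polar_comm ⇑Q b a', ha'b]
    simp
  have ha300 : a + b - Q b • a' ≠ 0 := by
    intro h
    have h1 : polar ⇑Q a' (a + b - Q b • a') = 0 := by rw [h, polar_zero_right]
    rw [polar_sub_right, polar_add_right, polar_smul_right, polar_comm ⇑Q a' a, haa', ha'b,
      polar_self_zero ha'0] at h1
    simp at h1
  obtain ⟨κ3, hκ3X, hκ3D, hκ300, ha3κ3⟩ := hκ _ ha3X ha300 ha30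
  by_cases hprop3 : ∃ ν' : F, κ3 = ν' • b
  swap
  · push Not at hprop3
    exact fin b hbX κ3 hκ3X hbD hκ3D (linearIndependent_pair_of_ne hb00 hprop3)
  exfalso
  obtain ⟨ν', hν'⟩ := hprop3
  rw [hν', polar_smul_right, polar_sub_left, polar_add_left, polar_smul_left, hab, ha'b,
    smul_eq_mul, smul_eq_mul] at ha3κ3
  have h11 : ν' * polar ⇑Q b b = 0 := by linear_combination ha3κ3
  have h12 : ν' = 0 := (mul_eq_zero.1 h11).resolve_right hbb
  rw [h12, zero_smul] at hν'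
  exact hκ300 hν'

end Cfsg.Agent.Helper45.OmDec
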