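import Mathlib
import Cfsg.Prelude.Def_ClassicalGeometry
import Cfsg.Prelude.Def_GeometricClasses
import Cfsg.Agent.Helper45.OmDecG

/-!
# Blocks of dimension three: every element of `M` permutes the blocks

`false_of_two_cpl`: an image of a block cannot meet the complement of a block, to which it is not
orthogonal, in a plane.  Hence (`blocks_of_three`) under `Step1` every element of `M` permutes
the blocks.
-/

set_option autoImplicit false
set_option linter.unusedSectionVars false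

namespace Cfsg.Agent.Helper45.OmDec

open Matrix QuadraticMap Module Cfsg.Agent.Helper44 Cfsg.Agent.Helper45.OmegaParity
open Cfsg.Agent.Helper12.OmNd Cfsg.Agent

variable {F : Type*} [Field F] [Fintype F] {ι : Type} [Fintype ι] [DecidableEq ι]
variable {Q : QuadraticForm F (ι → F)} {t : ℕ} {D : Fin t → Submodule F (ι → F)}
variable {M : Subgroup (Cfsg.isometryGroup F ⇑Q)}

theorem exists_sq_ne_one (h2 : (2 : F) ≠ 0) (h5 : 5 ≤ Fintype.card F) :
    ∃ lam : F, lam ≠ 0 ∧ lam * lam ≠ 1 := by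
  by_contra hcon
  push Not at hcon
  have := card_eq_three_of_sq h2 hcon
  omega

theorem false_of_two_cpl (ho : Over Q D M) (hS : Step1 Q D M) (h2 : (2 : F) ≠ 0)
    (h5 : 5 ≤ Fintype.card F) (hfr : ∀ i, finrank F (D i) = 3)
    {g : Cfsg.isometryGroup F ⇑Q} (hg : g ∈ M) (l j : Fin t)
    (hsupp : ∃ x ∈ (D l).map (lin Q g), x ∉ cpl Q D j)
    {e₁ e₂ : ι → F} (he₁X : e₁ ∈ (D l).map (lin Q g)) (he₂X : e₂ ∈ (D l).map (lin Q g))
    (he₁c : e₁ ∈ cpl Q D j) (he₂c : e₂ ∈ cpl Q D j) (hli : LinearIndependent F ![e₁, e₂]) :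
    False := by
  have hXnd : NdOn Q ((D l).map (lin Q g)) := ndOn_map (ho.blocks.nd l) g
  have hXfr : finrank F ((D l).map (lin Q g)) = 3 := by rw [finrank_map_lin, hfr]
  obtain ⟨x₀, hx₀X, hx₀c⟩ := hsupp
  have he₁00 : e₁ ≠ 0 := hli.ne_zero 0
  have hXne : (D l).map (lin Q g) ≠ D j := by
    intro h
    apply he₁00
    rw [h] at he₁X
    exact (ho.blocks.split ho.nondeg j).eq_zero_of_mem ho.nondeg he₁X he₁c
  set c := ho.blocks.prj ho.nondeg j x₀ with hcdef
  have hcD : c ∈ D j := ho.blocks.prj_mem ho.nondeg j x₀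
  have hc00 : c ≠ 0 := fun h => hx₀c ((ho.blocks.prj_eq_zero_iff ho.nondeg).1 h)
  -- (b1) the projection of the image is the line through `c`
  have hproj : ∀ x ∈ (D l).map (lin Q g), ∃ μ : F, ho.blocks.prj ho.nondeg j x = μ • c := by
    have hli3 : LinearIndependent F ![x₀, e₁, e₂] := by
      rw [show (![x₀, e₁, e₂] : Fin 3 → ι → F) = Fin.cons x₀ ![e₁, e₂] from rfl,
        linearIndependent_fin_cons]
      refine ⟨hli, fun h => hx₀c ?_⟩
      have hle : Submodule.span F (Set.range ![e₁, e₂]) ≤ cpl Q D j := by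
        rw [Submodule.span_le]
        rintro _ ⟨i, rfl⟩
        fin_cases i
        · exact he₁c
        · exact he₂c
      exact hle h
    have hle : Submodule.span F (Set.range ![x₀, e₁, e₂]) ≤ (D l).map (lin Q g) := by
      rw [Submodule.span_le]
      rintro _ ⟨i, rfl⟩
      fin_cases i
      · exact hx₀X
      · exact he₁X
      · exact he₂X
    have hfr3 : finrank F (Submodule.span F (Set.range ![x₀, e₁, e₂])) = 3 := by
      rw [finrank_span_eq_card hli3, Fintype.card_fin]
    have heq : Submodule.span F (Set.range ![x₀, e₁, e₂]) = (D l).map (lin Q g) :=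
      Submodule.eq_of_le_of_finrank_eq hle (by rw [hfr3, hXfr])
    intro x hx
    rw [← heq, Submodule.mem_span_range_iff_exists_fun] at hx
    obtain ⟨cf, hcf⟩ := hx
    rw [Fin.sum_univ_three] at hcf
    refine ⟨cf 0, ?_⟩
    rw [← hcf]
    simp only [Matrix.cons_val_zero, Matrix.cons_val_one, Matrix.cons_val_two,
      Matrix.head_cons, Matrix.tail_cons, map_add, map_smul]
    rw [ho.blocks.prj_of_cpl ho.nondeg he₁c, ho.blocks.prj_of_cpl ho.nondeg he₂c]
    simp [hcdef]
  -- (b2) the part of `D j` orthogonal to the image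
  have hA : ∀ y ∈ D j, polar ⇑Q c y = 0 → ∀ x ∈ (D l).map (lin Q g), polar ⇑Q x y = 0 := by
    intro y hy hcy x hx
    obtain ⟨μ, hμ⟩ := hproj x hx
    rw [← ho.blocks.polar_prj ho.nondeg x hy, hμ, polar_smul_left, hcy, smul_zero]
  -- (b3) it is anisotropic
  have hAan : ∀ u ∈ D j, polar ⇑Q c u = 0 → Q u = 0 → u = 0 := by
    intro u huD hcu hu0
    by_contra hu00
    have hu'X : lin Q g⁻¹ u ∈ (D j).map (lin Q g⁻¹) := Submodule.mem_map_of_mem huD
    have hu'00 : lin Q g⁻¹ u ≠ 0 := by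
      intro h
      apply hu00
      have := congrArg (lin Q g) h
      rwa [Helper5.lin_apply_inv, map_zero] at this
    have hu'0 : Q (lin Q g⁻¹ u) = 0 := by rw [lin_isometry]; exact hu0
    have hu'c : lin Q g⁻¹ u ∈ cpl Q D l := by
      rw [mem_cpl]
      intro y₀ hy₀
      rw [← Helper5.polar_lin Q g, Helper5.lin_apply_inv, polar_comm]
      exact hA u huD hcu _ (Submodule.mem_map_of_mem hy₀)
    rcases cpl_or_eq_of_singular ho hS h2 hfr (M.inv_mem hg) j l hu'X hu'00 hu'0 hu'c with h | h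
    · apply hx₀c
      rw [mem_cpl]
      intro y hy
      obtain ⟨x₁, hx₁, rfl⟩ := hx₀X
      have := (mem_cpl.1 (h _ (Submodule.mem_map_of_mem hy))) x₁ hx₁
      rw [← Helper5.polar_lin Q g, Helper5.lin_apply_inv] at this
      rw [polar_comm]; exact this
    · apply hXne
      rw [← h, ← map_lin_mul, mul_inv_cancel, map_lin_one]
  -- (b4)
  have hcc : polar ⇑Q c c ≠ 0 := by
    intro h
    apply hc00
    apply hAan c hcD h
    have := h
    rw [QuadraticMap.polar_self, nsmul_eq_mul] at this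
    exact (mul_eq_zero.1 this).resolve_left (by exact_mod_cast h2)
  have hdecA : ∀ y ∈ D j, polar ⇑Q c (y - (polar ⇑Q c y / polar ⇑Q c c) • c) = 0 := by
    intro y _
    rw [polar_sub_right, polar_smul_right, smul_eq_mul, div_mul_cancel₀ _ hcc, sub_self]
  -- a vector of `D j` orthogonal to `A` is a multiple of `c`
  have hmulc : ∀ z ∈ D j, (∀ y ∈ D j, polar ⇑Q c y = 0 → polar ⇑Q z y = 0) →
      z = (polar ⇑Q c z / polar ⇑Q c c) • c := by
    intro z hz hor
    have h1 := hdecA z hz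
    have hmem : z - (polar ⇑Q c z / polar ⇑Q c c) • c ∈ D j :=
      (D j).sub_mem hz ((D j).smul_mem _ hcD)
    have h3 : polar ⇑Q (z - (polar ⇑Q c z / polar ⇑Q c c) • c)
        (z - (polar ⇑Q c z / polar ⇑Q c c) • c) = 0 := by
      rw [polar_sub_left, hor _ hmem h1, polar_smul_left, h1, smul_zero, sub_zero]
    have h4 : Q (z - (polar ⇑Q c z / polar ⇑Q c c) • c) = 0 := by
      rw [QuadraticMap.polar_self, nsmul_eq_mul] at h3
      exact (mul_eq_zero.1 h3).resolve_left (by exact_mod_cast h2)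
    exact sub_eq_zero.1 (hAan _ hmem h1 h4)
  -- (b5)
  obtain ⟨a, haX, ha00, ha0⟩ := exists_singular_of_finrank (Q := Q) ((D l).map (lin Q g))
    (by omega)
  have hac : polar ⇑Q a c ≠ 0 := by
    obtain ⟨μ, hμ⟩ := hproj a haX
    have hμ0 : μ ≠ 0 := by
      rintro rfl
      rw [zero_smul] at hμ
      have hacpl := (ho.blocks.prj_eq_zero_iff ho.nondeg).1 hμ
      rcases cpl_or_eq_of_singular ho hS h2 hfr hg l j haX ha00 ha0 hacpl with h | h
      · exact hx₀c (h x₀ hx₀X)
      · exact hXne h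
    rw [← ho.blocks.polar_prj ho.nondeg a hcD, hμ, polar_smul_left, smul_eq_mul]
    exact mul_ne_zero hμ0 hcc
  obtain ⟨a', ha'X, b, hbX, ha'0, haa', hab, ha'b, hQb, hexp⟩ :=
    exists_basis_three h2 hXnd hXfr haX ha00 ha0
  -- (b7)
  have key : ∀ ρ ∈ M, (∀ y ∈ D j, polar ⇑Q c y = 0 → lin Q ρ y = y) →
      (D j).map (lin Q ρ) = D j ∨ polar ⇑Q (lin Q ρ c) c = 0 := by
    intro ρ hρ hfix
    by_cases hX' : (D j).map (lin Q ρ) = D j
    · exact Or.inl hX'
    right
    obtain ⟨κ, hκX', hκ00, hκc⟩ := exists_cpl_of_ne ho hS h2 h5 hfr hρ j j hX'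
    obtain ⟨y, hyD, rfl⟩ := hκX'
    have hyA := hdecA y hyD
    have hyAD : y - (polar ⇑Q c y / polar ⇑Q c c) • c ∈ D j :=
      (D j).sub_mem hyD ((D j).smul_mem _ hcD)
    have hρc : ∀ y' ∈ D j, polar ⇑Q c y' = 0 → polar ⇑Q (lin Q ρ c) y' = 0 := by
      intro y' hy' h
      rw [← hfix y' hy' h, Helper5.polar_lin]
      exact h
    have h1 : lin Q ρ y = (y - (polar ⇑Q c y / polar ⇑Q c c) • c)
        + (polar ⇑Q c y / polar ⇑Q c c) • lin Q ρ c := by
      have e : y = (y - (polar ⇑Q c y / polar ⇑Q c c) • c)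
          + (polar ⇑Q c y / polar ⇑Q c c) • c := by abel
      conv_lhs => rw [e]
      rw [map_add, map_smul, hfix _ hyAD hyA]
    -- the `A`-part vanishes
    have h3 : y - (polar ⇑Q c y / polar ⇑Q c c) • c = 0 := by
      apply hAan _ hyAD hyA
      have h4 : polar ⇑Q (y - (polar ⇑Q c y / polar ⇑Q c c) • c)
          (y - (polar ⇑Q c y / polar ⇑Q c c) • c) = 0 := by
        have e : y - (polar ⇑Q c y / polar ⇑Q c c) • c
            = lin Q ρ y - (polar ⇑Q c y / polar ⇑Q c c) • lin Q ρ c := by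
          rw [h1]; abel
        have e' := congrArg (fun z => polar ⇑Q z (y - (polar ⇑Q c y / polar ⇑Q c c) • c)) e
        beta_reduce at e'
        rw [e', polar_sub_left, (mem_cpl.1 hκc) _ hyAD, polar_smul_left, hρc _ hyAD hyA,
          smul_zero, sub_zero]
      rw [QuadraticMap.polar_self, nsmul_eq_mul] at h4
      exact (mul_eq_zero.1 h4).resolve_left (by exact_mod_cast h2)
    rw [h3, zero_add] at h1
    have hν0 : polar ⇑Q c y / polar ⇑Q c c ≠ 0 := by
      intro h
      rw [h, zero_smul] at h1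
      exact hκ00 h1
    have h5 := (mem_cpl.1 hκc) c hcD
    rw [h1, polar_smul_left, smul_eq_mul] at h5
    exact (mul_eq_zero.1 h5).resolve_left hν0
  -- (b8)
  obtain ⟨lam₁, hlam₁0, hlam₁⟩ := exists_sq_ne_one h2 h5
  have hρ : ∀ lam : F, Helper5.eichlerO Q a (lam • b) ∈ M ∧
      (∀ y ∈ D j, polar ⇑Q c y = 0 → lin Q (Helper5.eichlerO Q a (lam • b)) y = y) ∧
      polar ⇑Q (lin Q (Helper5.eichlerO Q a (lam • b)) c) c
        = polar ⇑Q c c - lam * lam * (Q b * (polar ⇑Q a c * polar ⇑Q a c)) := by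
    intro lam
    have h1 : polar ⇑Q a (lam • b) = 0 := by rw [polar_smul_right, hab, smul_zero]
    refine ⟨ho.eichler_mem_map hg haX (Submodule.smul_mem _ _ hbX) ha0 h1, ?_, ?_⟩
    · intro y hy hcy
      apply lin_eichlerO_fix ha0 h1 (hA y hy hcy a haX)
      rw [polar_smul_left, hA y hy hcy b hbX, smul_zero]
    · rw [Helper5.lin_eichlerO Q ha0 h1]
      simp only [polar_sub_left, polar_add_left, polar_smul_left, QuadraticMap.map_smul,
        smul_eq_mul]
      ring
  have hstabL : ∃ lam : F, lam ≠ 0 ∧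
      (D j).map (lin Q (Helper5.eichlerO Q a (lam • b))) = D j := by
    rcases key _ (hρ 1).1 (hρ 1).2.1 with h | h
    · exact ⟨1, one_ne_zero, h⟩
    rcases key _ (hρ lam₁).1 (hρ lam₁).2.1 with h' | h'
    · exact ⟨lam₁, hlam₁0, h'⟩
    exfalso
    rw [(hρ 1).2.2] at h
    rw [(hρ lam₁).2.2] at h'
    have h6 : (lam₁ * lam₁ - 1) * (Q b * (polar ⇑Q a c * polar ⇑Q a c)) = 0 := by
      linear_combination h - h'
    rcases mul_eq_zero.1 h6 with h7 | h7
    · exact hlam₁ (sub_eq_zero.1 h7)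
    · rcases mul_eq_zero.1 h7 with h8 | h8
      · exact hQb h8
      · exact hac (mul_self_eq_zero.1 h8)
  -- (b9)
  obtain ⟨lam, hlam0, hstab⟩ := hstabL
  have h1 : polar ⇑Q a (lam • b) = 0 := by rw [polar_smul_right, hab, smul_zero]
  have hzD : lin Q (Helper5.eichlerO Q a (lam • b)) c - c ∈ D j := by
    apply (D j).sub_mem _ hcD
    rw [← hstab]
    exact Submodule.mem_map_of_mem hcD
  have hz : lin Q (Helper5.eichlerO Q a (lam • b)) c - c
      = polar ⇑Q (lam • b) c • a - polar ⇑Q a c • (lam • b)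
        - (Q (lam • b) * polar ⇑Q a c) • a := by
    rw [Helper5.lin_eichlerO Q ha0 h1]
    abel
  have hzA : ∀ y ∈ D j, polar ⇑Q c y = 0 →
      polar ⇑Q (lin Q (Helper5.eichlerO Q a (lam • b)) c - c) y = 0 := by
    intro y hy hcy
    rw [hz]
    simp only [polar_sub_left, polar_smul_left, hA y hy hcy a haX, hA y hy hcy b hbX, smul_zero,
      sub_zero]
  have hzc := hmulc _ hzD hzA
  have haz : polar ⇑Q a (lin Q (Helper5.eichlerO Q a (lam • b)) c - c) = 0 := by
    rw [hz]
    simp only [polar_sub_right, polar_smul_right, polar_self_zero ha0, hab, smul_zero, sub_zero]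
  have hζ : polar ⇑Q c (lin Q (Helper5.eichlerO Q a (lam • b)) c - c) / polar ⇑Q c c = 0 := by
    have := haz
    rw [hzc, polar_smul_right, smul_eq_mul] at this
    exact (mul_eq_zero.1 this).resolve_right hac
  rw [hζ, zero_smul] at hzc
  have hbz : polar ⇑Q b (lin Q (Helper5.eichlerO Q a (lam • b)) c - c)
      = -(polar ⇑Q a c * (lam * polar ⇑Q b b)) := by
    rw [hz]
    simp only [polar_sub_right, polar_smul_right, polar_comm ⇑Q b a, hab, smul_zero, sub_zero,
      zero_sub, smul_eq_mul]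
    ring
  rw [hzc, polar_zero_right] at hbz
  have hbb : polar ⇑Q b b ≠ 0 := by
    rw [QuadraticMap.polar_self, nsmul_eq_mul]
    exact mul_ne_zero (by exact_mod_cast h2) hQb
  have := neg_eq_zero.1 hbz.symm
  rcases mul_eq_zero.1 this with h | h
  · exact hac h
  · rcases mul_eq_zero.1 h with h | h
    · exact hlam0 h
    · exact hbb h

/-- blocks of dimension three over a field with at least five elements: under `Step1` every
element of `M` permutes the blocks -/
theorem blocks_of_three (ho : Over Q D M) (hS : Step1 Q D M) (h2 : (2 : F) ≠ 0)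
    (h5 : 5 ≤ Fintype.card F) (hfr : ∀ i, finrank F (D i) = 3)
    {g : Cfsg.isometryGroup F ⇑Q} (hg : g ∈ M) (l : Fin t) :
    ∃ j, (D l).map (lin Q g) = D j := by
  by_contra hcon
  push Not at hcon
  obtain ⟨j, hsupp, e₁, he₁X, e₂, he₂X, he₁c, he₂c, hli⟩ :=
    exists_two_cpl ho hS h2 h5 hfr hg l hcon
  exact false_of_two_cpl ho hS h2 h5 hfr hg l j hsupp he₁X he₂X he₁c he₂c hli

end Cfsg.Agent.Helper45.OmDec
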