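import Mathlib
import Cfsg.Prelude.Def_ClassicalGeometry
import Cfsg.Prelude.Def_GeometricClasses
import Cfsg.Agent.Helper45.OmDecH

/-!
# Spreading a mixed Eichler direction over all blocks

`block_le_eD`: one Eichler transformation `E(u,z) ∈ M`, `u` singular in the block `D i`, with `z`
not orthogonal to the block `D j`, `j ≠ i`, puts the whole block `D j` into the Eichler directions
of `M` at `u`.  The relation `Rel M i j` (every singular vector of `D i` has all of `D j` as
Eichler directions) is symmetric, transitive and invariant under `M`.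
-/

set_option autoImplicit false
set_option linter.unusedSectionVars false

namespace Cfsg.Agent.Helper45.OmDec

open Matrix QuadraticMap Module Cfsg.Agent.Helper44 Cfsg.Agent.Helper45.OmegaParity
open Cfsg.Agent.Helper12.OmNd Cfsg.Agent

variable {F : Type*} [Field F] [Fintype F] {ι : Type} [Fintype ι] [DecidableEq ι]
variable {Q : QuadraticForm F (ι → F)} {t : ℕ} {D : Fin t → Submodule F (ι → F)}
variable {M : Subgroup (Cfsg.isometryGroup F ⇑Q)}

/-- a non-singular vector orthogonal to a singular vector, in a non-degenerate space of dimension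
at least three -/
theorem exists_nonsingular_perp {N : Submodule F (ι → F)} (hN : NdOn Q N)
    (h3 : 3 ≤ finrank F N) {a : ι → F} (haN : a ∈ N) (ha00 : a ≠ 0) (ha0 : Q a = 0) :
    ∃ b ∈ N, polar ⇑Q a b = 0 ∧ Q b ≠ 0 := by
  obtain ⟨a', ha'N, ha'0, haa'⟩ := exists_partner_in hN haN ha00 ha0
  have hd1 := finrank_le_inf_perp (Q := Q) N a
  have hd2 := finrank_le_inf_perp (Q := Q) (N ⊓ LinearMap.ker (QuadraticMap.polarBilin Q a)) a'
  by_contra hcon
  push Not at hcon
  obtain ⟨d, hd, hd00⟩ := exists_ne_zero_of_finrank_pos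
    ((N ⊓ LinearMap.ker (QuadraticMap.polarBilin Q a)) ⊓
      LinearMap.ker (QuadraticMap.polarBilin Q a')) (by omega)
  have hts : ∀ w ∈ (N ⊓ LinearMap.ker (QuadraticMap.polarBilin Q a)) ⊓
      LinearMap.ker (QuadraticMap.polarBilin Q a'), Q w = 0 := by
    intro w hw
    have h1 := mem_inf_perp.1 hw
    have h2 := mem_inf_perp.1 h1.1
    exact hcon w h2.1 h2.2
  have hdd1 := mem_inf_perp.1 hd
  have hdd2 := mem_inf_perp.1 hdd1.1
  apply hd00
  apply hN d hdd2.1
  intro x hx
  have hx' : x - polar ⇑Q a' x • a - polar ⇑Q a x • a' ∈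
      (N ⊓ LinearMap.ker (QuadraticMap.polarBilin Q a)) ⊓
        LinearMap.ker (QuadraticMap.polarBilin Q a') := by
    rw [mem_inf_perp, mem_inf_perp]
    refine ⟨⟨N.sub_mem (N.sub_mem hx (N.smul_mem _ haN)) (N.smul_mem _ ha'N), ?_⟩, ?_⟩
    · rw [polar_sub_right, polar_sub_right, polar_smul_right, polar_smul_right,
        polar_self_zero ha0, haa']
      simp
    · rw [polar_sub_right, polar_sub_right, polar_smul_right, polar_smul_right,
        polar_comm ⇑Q a' a, haa', polar_self_zero ha'0]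
      simp
  have h5 := polar_eq_zero_of_ts hts hd hx'
  rw [polar_sub_right, polar_sub_right, polar_smul_right, polar_smul_right,
    polar_comm ⇑Q d a, hdd2.2, polar_comm ⇑Q d a', hdd1.2] at h5
  simpa using h5

theorem eichlerO_swap {u w : ι → F} (hu : Q u = 0) (hw : Q w = 0) (huw : polar ⇑Q u w = 0) :
    Helper5.eichlerO Q u w = Helper5.eichlerO Q w (-u) := by
  apply Helper5.isom_ext
  intro x
  have h1 : polar ⇑Q w (-u) = 0 := by rw [polar_neg_right, polar_comm, huw, neg_zero]
  rw [Helper5.lin_eichlerO Q hu huw, Helper5.lin_eichlerO Q hw h1, hw, QuadraticMap.map_neg, hu,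
    polar_neg_left]
  module

/-- **spreading**: one mixed Eichler transformation puts a whole block into the Eichler
directions -/
theorem block_le_eD (ho : Over Q D M) (h2 : (2 : F) ≠ 0) (hfr : ∀ i, 3 ≤ finrank F (D i))
    {i j : Fin t} (hij : i ≠ j) {u z : ι → F} (huD : u ∈ D i) (hu0 : Q u = 0)
    (huz : polar ⇑Q u z = 0) (hE : Helper5.eichlerO Q u z ∈ M)
    (hz : ∃ y ∈ D j, polar ⇑Q z y ≠ 0) : D j ≤ eD M u := by
  -- a singular vector of `D j` not orthogonal to `z`
  obtain ⟨a, haD, ha0, haz⟩ : ∃ a ∈ D j, Q a = 0 ∧ polar ⇑Q a z ≠ 0 := by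
    by_contra hcon
    push Not at hcon
    obtain ⟨y, hyD, hy⟩ := hz
    have hle : D j ≤ LinearMap.ker (QuadraticMap.polarBilin Q z) := by
      apply le_of_singular_mem (ho.blocks.nd j) (hfr j)
      intro a ha ha0
      rw [LinearMap.mem_ker, QuadraticMap.polarBilin_apply_apply, polar_comm]
      exact hcon a ha ha0
    have := hle hyD
    rw [LinearMap.mem_ker, QuadraticMap.polarBilin_apply_apply] at this
    exact hy this
  have ha00 : a ≠ 0 := by
    rintro rfl
    exact haz (polar_zero_left _ _)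
  obtain ⟨b, hbD, hab, hQb⟩ := exists_nonsingular_perp (ho.blocks.nd j) (hfr j) haD ha00 ha0
  have hua : polar ⇑Q u a = 0 := ho.blocks.orth i j hij u huD a haD
  have hau : polar ⇑Q a u = 0 := by rw [polar_comm]; exact hua
  -- the elements `E(u, s(b'))`
  have hs : ∀ b' ∈ D j, polar ⇑Q a b' = 0 →
      Helper5.eichlerO Q u (polar ⇑Q b' z • a - polar ⇑Q a z • b' - (Q b' * polar ⇑Q a z) • a)
        ∈ M := by
    intro b' hb'D hab'
    have hb'u : polar ⇑Q b' u = 0 := by
      rw [polar_comm]; exact ho.blocks.orth i j hij u huD b' hb'D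
    have hn : Helper5.eichlerO Q a b' ∈ M := ho.eichler_mem haD hb'D ha0 hab'
    have hfix : lin Q (Helper5.eichlerO Q a b') u = u := lin_eichlerO_fix ha0 hab' hau hb'u
    have h1 := Helper5.eichlerO_conj Q (Helper5.eichlerO Q a b') hu0 huz
    rw [hfix] at h1
    have h3 : Helper5.eichlerO Q u (lin Q (Helper5.eichlerO Q a b') z) ∈ M := by
      rw [← h1]
      exact M.mul_mem (M.mul_mem hn hE) (M.inv_mem hn)
    have h4 : polar ⇑Q u (lin Q (Helper5.eichlerO Q a b') z) = 0 := by
      rw [← hfix, Helper5.polar_lin]; exact huz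
    have h5 : polar ⇑Q u (-z) = 0 := by rw [polar_neg_right, huz, neg_zero]
    have h6 := M.mul_mem h3 (M.inv_mem hE)
    rw [Helper5.eichlerO_inv Q hu0 huz, Helper5.eichlerO_mul Q hu0 h4 h5,
      Helper5.lin_eichlerO Q ha0 hab'] at h6
    have e : z + polar ⇑Q b' z • a - polar ⇑Q a z • b' - (Q b' * polar ⇑Q a z) • a + -z
        = polar ⇑Q b' z • a - polar ⇑Q a z • b' - (Q b' * polar ⇑Q a z) • a := by abel
    rwa [e] at h6
  have hpol : ∀ b' ∈ D j, polar ⇑Q u
      (polar ⇑Q b' z • a - polar ⇑Q a z • b' - (Q b' * polar ⇑Q a z) • a) = 0 := by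
    intro b' hb'D
    rw [polar_sub_right, polar_sub_right, polar_smul_right, polar_smul_right, polar_smul_right,
      hua, ho.blocks.orth i j hij u huD b' hb'D]
    simp
  -- `a` is an Eichler direction
  have haE : a ∈ eD M u := by
    refine ⟨hua, fun c => ?_⟩
    set lam : F := -c / (2 * Q b * polar ⇑Q a z) with hlam
    have hden : 2 * Q b * polar ⇑Q a z ≠ 0 := mul_ne_zero (mul_ne_zero h2 hQb) haz
    have hlb : polar ⇑Q a (lam • b) = 0 := by rw [polar_smul_right, hab, smul_zero]
    have hblb : polar ⇑Q a (b + lam • b) = 0 := by rw [polar_add_right, hab, hlb, add_zero]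
    have h1 := hs b hbD hab
    have h2' := hs (lam • b) ((D j).smul_mem _ hbD) hlb
    have h3 := hs (b + lam • b) ((D j).add_mem hbD ((D j).smul_mem _ hbD)) hblb
    have h4 := M.mul_mem h3 (M.inv_mem (M.mul_mem h1 h2'))
    rw [Helper5.eichlerO_mul Q hu0 (hpol b hbD) (hpol _ ((D j).smul_mem _ hbD)),
      Helper5.eichlerO_inv Q hu0 (by
        rw [polar_add_right, hpol b hbD, hpol _ ((D j).smul_mem _ hbD), add_zero]),
      Helper5.eichlerO_mul Q hu0 (hpol _ ((D j).add_mem hbD ((D j).smul_mem _ hbD))) (by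
        rw [polar_neg_right, polar_add_right, hpol b hbD, hpol _ ((D j).smul_mem _ hbD),
          add_zero, neg_zero])] at h4
    have e : polar ⇑Q (b + lam • b) z • a - polar ⇑Q a z • (b + lam • b)
          - (Q (b + lam • b) * polar ⇑Q a z) • a
        + -(polar ⇑Q b z • a - polar ⇑Q a z • b - (Q b * polar ⇑Q a z) • a
          + (polar ⇑Q (lam • b) z • a - polar ⇑Q a z • (lam • b)
            - (Q (lam • b) * polar ⇑Q a z) • a))
        = c • a := by
      have hQ1 : Q (b + lam • b) = Q b + lam * lam * Q b + lam * (2 * Q b) := by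
        rw [QuadraticMap.map_add ⇑Q, QuadraticMap.map_smul, polar_smul_right,
          QuadraticMap.polar_self, smul_eq_mul, smul_eq_mul, nsmul_eq_mul]
        push_cast
        ring
      have hQ2 : Q (lam • b) = lam * lam * Q b := by
        rw [QuadraticMap.map_smul, smul_eq_mul]
      rw [hQ1, hQ2, polar_add_left, polar_smul_left, smul_eq_mul]
      have hc : c = -(lam * (2 * Q b) * polar ⇑Q a z) := by
        rw [hlam]
        field_simp
      rw [hc]
      module
    rw [e] at h4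
    exact h4
  -- irreducibility
  have hle : D j ≤ eD M u ⊓ D j := by
    apply irr_eichler (ho.blocks.nd j) (hfr j) _ inf_le_right ⟨a, ⟨haE, haD⟩, ha00⟩
    intro s hs' r hr hs0 hsr p hp
    refine ⟨?_, ho.blocks.eichler_fix hs' hr hs0 hsr j hp.2⟩
    apply eD_of_fix hu0 hp.1 (ho.eichler_mem hs' hr hs0 hsr)
    apply lin_eichlerO_fix hs0 hsr
    · rw [polar_comm]; exact ho.blocks.orth i j hij u huD s hs'
    · rw [polar_comm]; exact ho.blocks.orth i j hij u huD r hr
  exact le_trans hle inf_le_left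

/-- every singular vector of `D i` has all of `D j` as Eichler directions -/
def Rel (M : Subgroup (Cfsg.isometryGroup F ⇑Q)) (D : Fin t → Submodule F (ι → F))
    (i j : Fin t) : Prop :=
  ∀ u ∈ D i, u ≠ 0 → Q u = 0 → D j ≤ eD M u

theorem rel_of_exists (ho : Over Q D M) (h2 : (2 : F) ≠ 0) (hfr : ∀ i, 3 ≤ finrank F (D i))
    {i j : Fin t} (hij : i ≠ j)
    (h : ∃ u ∈ D i, u ≠ 0 ∧ Q u = 0 ∧ D j ≤ eD M u) : Rel M D j i := by
  obtain ⟨u, huD, hu00, hu0, hle⟩ := h
  intro w hwD hw00 hw0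
  have huw : polar ⇑Q u w = 0 := ho.blocks.orth i j hij u huD w hwD
  have h1 : Helper5.eichlerO Q u w ∈ M := by
    have := (hle hwD).2 1
    rwa [one_smul] at this
  rw [eichlerO_swap hu0 hw0 huw] at h1
  apply block_le_eD ho h2 hfr (Ne.symm hij) hwD hw0 _ h1
  · by_contra hcon
    push Not at hcon
    apply hu00
    apply ho.blocks.nd i u huD
    intro y hy
    have := hcon y hy
    rwa [polar_neg_left, neg_eq_zero] at this
  · rw [polar_neg_right, polar_comm, huw, neg_zero]

theorem Rel.symm (ho : Over Q D M) (h2 : (2 : F) ≠ 0) (hfr : ∀ i, 3 ≤ finrank F (D i))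
    {i j : Fin t} (hij : i ≠ j) (h : Rel M D i j) : Rel M D j i := by
  obtain ⟨u, huD, hu00, hu0⟩ := exists_singular_of_finrank (Q := Q) (D i) (hfr i)
  exact rel_of_exists ho h2 hfr hij ⟨u, huD, hu00, hu0, h u huD hu00 hu0⟩

theorem Rel.trans (ho : Over Q D M) (h2 : (2 : F) ≠ 0) (hfr : ∀ i, 3 ≤ finrank F (D i))
    {i j l : Fin t} (hij : i ≠ j) (hjl : j ≠ l) (hil : i ≠ l) (h₁ : Rel M D i j)
    (h₂ : Rel M D j l) : Rel M D i l := by
  intro u huD hu00 hu0
  obtain ⟨w, hwD, hw00, hw0⟩ := exists_singular_of_finrank (Q := Q) (D j) (hfr j)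
  obtain ⟨w', hw'D, hw'0, hww'⟩ := exists_partner_in (ho.blocks.nd j) hwD hw00 hw0
  have hw'00 : w' ≠ 0 := by
    rintro rfl
    rw [polar_zero_right] at hww'
    exact zero_ne_one hww'
  obtain ⟨v, hvD, hv00⟩ := exists_ne_zero_of_finrank_pos (D l) (by have := hfr l; omega)
  have huw : polar ⇑Q u w = 0 := ho.blocks.orth i j hij u huD w hwD
  have huw' : polar ⇑Q u w' = 0 := ho.blocks.orth i j hij u huD w' hw'D
  have huv : polar ⇑Q u v = 0 := ho.blocks.orth i l hil u huD v hvD
  have hw'v : polar ⇑Q w' v = 0 := ho.blocks.orth j l hjl w' hw'D v hvD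
  have hvw : polar ⇑Q v w = 0 := by rw [polar_comm]; exact ho.blocks.orth j l hjl w hwD v hvD
  have h1 : Helper5.eichlerO Q u w ∈ M := by
    have := (h₁ u huD hu00 hu0 hwD).2 1
    rwa [one_smul] at this
  have h3 : Helper5.eichlerO Q w' v ∈ M := by
    have := (h₂ w' hw'D hw'00 hw'0 hvD).2 1
    rwa [one_smul] at this
  have hfix : lin Q (Helper5.eichlerO Q w' v) u = u :=
    lin_eichlerO_fix hw'0 hw'v (by rw [polar_comm]; exact huw') (by rw [polar_comm]; exact huv)
  have h4 := Helper5.eichlerO_conj Q (Helper5.eichlerO Q w' v) hu0 huw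
  rw [hfix] at h4
  have h5 : Helper5.eichlerO Q u (lin Q (Helper5.eichlerO Q w' v) w) ∈ M := by
    rw [← h4]
    exact M.mul_mem (M.mul_mem h3 h1) (M.inv_mem h3)
  have h6 : polar ⇑Q u (lin Q (Helper5.eichlerO Q w' v) w) = 0 := by
    rw [← hfix, Helper5.polar_lin]; exact huw
  apply block_le_eD ho h2 hfr hil huD hu0 h6 h5
  obtain ⟨y, hyD, hy⟩ : ∃ y ∈ D l, polar ⇑Q v y ≠ 0 := by
    by_contra hcon
    push Not at hcon
    exact hv00 (ho.blocks.nd l v hvD hcon)
  refine ⟨y, hyD, ?_⟩
  rw [Helper5.lin_eichlerO Q hw'0 hw'v, hvw, polar_comm ⇑Q w' w, hww']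
  simp only [polar_sub_left, polar_add_left, polar_smul_left,
    ho.blocks.orth j l hjl w hwD y hyD, ho.blocks.orth j l hjl w' hw'D y hyD]
  simpa using hy

theorem Rel.map (ho : Over Q D M) {i j i' j' : Fin t} {g : Cfsg.isometryGroup F ⇑Q} (hg : g ∈ M)
    (hi : (D i).map (lin Q g) = D i') (hj : (D j).map (lin Q g) = D j') (h : Rel M D i j) :
    Rel M D i' j' := by
  intro u' hu'D hu'00 hu'0
  rw [← hi] at hu'D
  obtain ⟨u, huD, rfl⟩ := hu'D
  have hu00 : u ≠ 0 := by
    rintro rfl
    exact hu'00 (map_zero _)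
  have hu0 : Q u = 0 := by rw [← lin_isometry Q g]; exact hu'0
  intro w' hw'D
  rw [← hj] at hw'D
  obtain ⟨w, hwD, rfl⟩ := hw'D
  exact eD_map hu0 (h u huD hu00 hu0 hwD) hg

end Cfsg.Agent.Helper45.OmDec
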