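import Mathlib
import Cfsg.Prelude.Def_ClassicalGeometry
import Cfsg.Prelude.Def_GeometricClasses
import Cfsg.Agent.Helper45.OmDecI

/-!
# Swapping two blocks inside `Ω`

For two isometric orthogonal blocks `D j`, `D m` an isometry swapping them and fixing the
orthogonal complement of their sum pointwise; adjusted by an isometry stabilising every block it
lies in `Ω` (`exists_swap`).
-/

set_option autoImplicit false
set_option linter.unusedSectionVars false

namespace Cfsg.Agent.Helper45.OmDec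

open Matrix QuadraticMap Module Cfsg.Agent.Helper44 Cfsg.Agent.Helper45.OmegaParity
open Cfsg.Agent.Helper12.OmNd Cfsg.Agent

variable {F : Type*} [Field F] [Fintype F] {ι : Type} [Fintype ι] [DecidableEq ι]
variable {Q : QuadraticForm F (ι → F)} {t : ℕ} {D : Fin t → Submodule F (ι → F)}
variable {M : Subgroup (Cfsg.isometryGroup F ⇑Q)}

theorem Q_add_three {r p q : ι → F} (h1 : polar ⇑Q r p = 0) (h2 : polar ⇑Q r q = 0)
    (h3 : polar ⇑Q p q = 0) : Q (r + p + q) = Q r + Q p + Q q := by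
  rw [QuadraticMap.map_add ⇑Q, QuadraticMap.map_add ⇑Q, polar_add_left, h1, h2, h3]
  ring

theorem IsBlocks.prj_prj_ne (h : IsBlocks Q D) (hQ : (QuadraticMap.polarBilin Q).Nondegenerate)
    {i j : Fin t} (hij : i ≠ j) (x : ι → F) : h.prj hQ i (h.prj hQ j x) = 0 :=
  h.prj_of_cpl hQ (h.le_cpl hij (h.prj_mem hQ j x))

/-- the swap of two isometric blocks as a linear map -/
theorem exists_swap_lin (h : IsBlocks Q D) (hQ : (QuadraticMap.polarBilin Q).Nondegenerate)
    {j m : Fin t} (hjm : j ≠ m) (e : ↥(D j) ≃ₗ[F] ↥(D m))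
    (he : ∀ w : ↥(D j), Q ((e w : ↥(D m)) : ι → F) = Q (w : ι → F)) :
    ∃ T : (ι → F) →ₗ[F] (ι → F), (∀ x, T (T x) = x) ∧ (∀ x, Q (T x) = Q x) ∧
      (∀ x ∈ D j, T x ∈ D m) ∧ (∀ x ∈ D m, T x ∈ D j) ∧
      ∀ i, i ≠ j → i ≠ m → ∀ x ∈ D i, T x = x := by
  set pj : (ι → F) →ₗ[F] ↥(D j) := (h.prj hQ j).codRestrict (D j) (h.prj_mem hQ j) with hpj
  set pm : (ι → F) →ₗ[F] ↥(D m) := (h.prj hQ m).codRestrict (D m) (h.prj_mem hQ m) with hpm
  set φ : (ι → F) →ₗ[F] (ι → F) := (D m).subtype ∘ₗ e.toLinearMap ∘ₗ pj with hφ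
  set ψ : (ι → F) →ₗ[F] (ι → F) := (D j).subtype ∘ₗ e.symm.toLinearMap ∘ₗ pm with hψ
  have hpjv : ∀ x, ((pj x : ↥(D j)) : ι → F) = h.prj hQ j x := fun x => rfl
  have hpmv : ∀ x, ((pm x : ↥(D m)) : ι → F) = h.prj hQ m x := fun x => rfl
  have hφv : ∀ x, φ x = ((e (pj x) : ↥(D m)) : ι → F) := fun x => rfl
  have hψv : ∀ x, ψ x = ((e.symm (pm x) : ↥(D j)) : ι → F) := fun x => rfl
  have hφm : ∀ x, φ x ∈ D m := fun x => by rw [hφv]; exact Submodule.coe_mem _
  have hψm : ∀ x, ψ x ∈ D j := fun x => by rw [hψv]; exact Submodule.coe_mem _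
  have hQφ : ∀ x, Q (φ x) = Q (h.prj hQ j x) := fun x => by rw [hφv, he, hpjv]
  have hQψ : ∀ x, Q (ψ x) = Q (h.prj hQ m x) := fun x => by
    rw [hψv, ← he (e.symm (pm x)), LinearEquiv.apply_symm_apply, hpmv]
  have hφdep : ∀ x y, h.prj hQ j x = h.prj hQ j y → φ x = φ y := by
    intro x y hxy
    have : pj x = pj y := Subtype.ext hxy
    rw [hφv, hφv, this]
  have hψdep : ∀ x y, h.prj hQ m x = h.prj hQ m y → ψ x = ψ y := by
    intro x y hxy
    have : pm x = pm y := Subtype.ext hxy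
    rw [hψv, hψv, this]
  have hψφ : ∀ x, ψ (φ x) = h.prj hQ j x := by
    intro x
    have h1 : pm (φ x) = e (pj x) := by
      apply Subtype.ext
      rw [hpmv, h.prj_of_mem hQ (hφm x), hφv]
    rw [hψv, h1, LinearEquiv.symm_apply_apply, hpjv]
  have hφψ : ∀ x, φ (ψ x) = h.prj hQ m x := by
    intro x
    have h1 : pj (ψ x) = e.symm (pm x) := by
      apply Subtype.ext
      rw [hpjv, h.prj_of_mem hQ (hψm x), hψv]
    rw [hφv, h1, LinearEquiv.apply_symm_apply, hpmv]
  set T : (ι → F) →ₗ[F] (ι → F) := LinearMap.id - h.prj hQ j - h.prj hQ m + φ + ψ with hT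
  have hTv : ∀ x, T x = x - h.prj hQ j x - h.prj hQ m x + φ x + ψ x := fun x => by
    rw [hT]
    simp only [LinearMap.add_apply, LinearMap.sub_apply, LinearMap.id_apply]
  have hmj : m ≠ j := Ne.symm hjm
  have hprjT : ∀ x, h.prj hQ j (T x) = ψ x := by
    intro x
    rw [hTv, map_add, map_add, map_sub, map_sub, h.prj_of_mem hQ (h.prj_mem hQ j x),
      h.prj_prj_ne hQ hjm, h.prj_of_cpl hQ (h.le_cpl hjm (hφm x)), h.prj_of_mem hQ (hψm x)]
    abel
  have hprmT : ∀ x, h.prj hQ m (T x) = φ x := by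
    intro x
    rw [hTv, map_add, map_add, map_sub, map_sub, h.prj_of_mem hQ (h.prj_mem hQ m x),
      h.prj_prj_ne hQ hmj, h.prj_of_mem hQ (hφm x), h.prj_of_cpl hQ (h.le_cpl hmj (hψm x))]
    abel
  refine ⟨T, ?_, ?_, ?_, ?_, ?_⟩
  · intro x
    have h1 : φ (T x) = h.prj hQ m x := by
      rw [hφdep (T x) (ψ x) (by rw [hprjT, h.prj_of_mem hQ (hψm x)]), hφψ]
    have h2 : ψ (T x) = h.prj hQ j x := by
      rw [hψdep (T x) (φ x) (by rw [hprmT, h.prj_of_mem hQ (hφm x)]), hψφ]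
    rw [hTv (T x), hprjT, hprmT, h1, h2, hTv]
    abel
  · intro x
    -- the part orthogonal to both blocks
    have hrj : x - h.prj hQ j x - h.prj hQ m x ∈ cpl Q D j :=
      (cpl Q D j).sub_mem (h.sub_prj_mem hQ j x) (h.le_cpl hjm (h.prj_mem hQ m x))
    have hrm : x - h.prj hQ j x - h.prj hQ m x ∈ cpl Q D m := by
      have e1 : x - h.prj hQ j x - h.prj hQ m x = (x - h.prj hQ m x) - h.prj hQ j x := by abel
      rw [e1]
      exact (cpl Q D m).sub_mem (h.sub_prj_mem hQ m x) (h.le_cpl hmj (h.prj_mem hQ j x))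
    have e2 : T x = (x - h.prj hQ j x - h.prj hQ m x) + φ x + ψ x := hTv x
    have e3 : x = (x - h.prj hQ j x - h.prj hQ m x) + h.prj hQ m x + h.prj hQ j x := by abel
    rw [e2, Q_add_three ((mem_cpl.1 hrm) _ (hφm x)) ((mem_cpl.1 hrj) _ (hψm x))
      (h.orth m j hmj _ (hφm x) _ (hψm x)), hQφ, hQψ]
    conv_rhs => rw [e3]
    rw [Q_add_three ((mem_cpl.1 hrm) _ (h.prj_mem hQ m x)) ((mem_cpl.1 hrj) _ (h.prj_mem hQ j x))
      (h.orth m j hmj _ (h.prj_mem hQ m x) _ (h.prj_mem hQ j x))]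
    ring
  · intro x hx
    rw [hTv, h.prj_of_mem hQ hx, h.prj_of_cpl hQ (h.le_cpl hmj hx),
      hψdep x 0 (by rw [h.prj_of_cpl hQ (h.le_cpl hmj hx), map_zero]), map_zero]
    simp only [sub_self, zero_sub, neg_zero, zero_add, add_zero, sub_zero]
    exact hφm x
  · intro x hx
    rw [hTv, h.prj_of_mem hQ hx, h.prj_of_cpl hQ (h.le_cpl hjm hx),
      hφdep x 0 (by rw [h.prj_of_cpl hQ (h.le_cpl hjm hx), map_zero]), map_zero]
    simp only [sub_self, zero_sub, neg_zero, zero_add, add_zero, sub_zero]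
    exact hψm x
  · intro i hij him x hx
    rw [hTv, h.prj_of_cpl hQ (h.le_cpl (Ne.symm hij) hx),
      h.prj_of_cpl hQ (h.le_cpl (Ne.symm him) hx),
      hφdep x 0 (by rw [h.prj_of_cpl hQ (h.le_cpl (Ne.symm hij) hx), map_zero]),
      hψdep x 0 (by rw [h.prj_of_cpl hQ (h.le_cpl (Ne.symm him) hx), map_zero]), map_zero,
      map_zero]
    simp

/-- a swap of two blocks inside `M` -/
theorem exists_swap (ho : Over Q D M) (h2 : (2 : F) ≠ 0) {k : ℕ} (hk : 2 ≤ k)
    (hfr : ∀ i, finrank F (D i) = k)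
    (hiso : ∀ i j, Cfsg.Geo.AreIsometricFor ⇑Q (D i) (D j)) {j m : Fin t} (hjm : j ≠ m) :
    ∃ s ∈ M, (D j).map (lin Q s) = D m ∧ (D m).map (lin Q s) = D j ∧
      ∀ i, i ≠ j → i ≠ m → (D i).map (lin Q s) = D i := by
  obtain ⟨e, he⟩ := hiso j m
  obtain ⟨T, hTT, hTQ, hTj, hTm, hTi⟩ := exists_swap_lin ho.blocks ho.nondeg hjm e he
  set gl : (ι → F) ≃ₗ[F] (ι → F) := LinearEquiv.ofInvolutive T hTT with hgl
  have hglv : ∀ x, gl x = T x := fun x => rfl
  set s₀ := isoOfLin Q gl (fun v => by rw [hglv]; exact hTQ v) with hs₀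
  have hs₀v : ∀ x, lin Q s₀ x = T x := fun x => by rw [hs₀, lin_isoOfLin, hglv]
  -- the block-wise stabiliser
  set P : Subgroup (Cfsg.isometryGroup F ⇑Q) := ⨅ i, stab Q (D i) with hP
  have hreflP : ∀ a ∈ D j, Q a ≠ 0 → reflT Q a ∈ P := by
    intro a ha ha0
    rw [hP, Subgroup.mem_iInf]
    intro i
    by_cases hij : i = j
    · subst hij
      exact reflT_mem_stab_of_mem Q (D i) a ha0 ha
    · apply reflT_mem_stab_of_orth Q (D i) a ha0
      intro x hx
      exact ho.blocks.orth j i (Ne.symm hij) a ha x hx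
  have hNdisj : D j ⊓ LinearMap.BilinForm.orthogonal (QuadraticMap.polarBilin Q) (D j) = ⊥ := by
    have := (ho.blocks.isCompl ho.nondeg j).inf_eq_bot
    exact this
  have hN2 : 2 ≤ finrank F (D j) := by rw [hfr]; exact hk
  have hN0 : D j ≠ ⊥ := by
    intro hb
    rw [hb, finrank_bot] at hN2
    omega
  obtain ⟨a, haN, ha⟩ := exists_nonsingular_mem Q (D j) hNdisj hN0
  obtain ⟨p, hpP, hsp⟩ := exists_adjust Q ho.nondeg (Or.inr (by have := ho.card; omega)) P [a]
    (by intro v hv; rw [List.mem_singleton] at hv; rw [hv]; exact ha)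
    (by
      rw [List.map_singleton, List.prod_singleton]
      exact hreflP a haN ha)
    ⟨0, rfl⟩
    (by
      intro _
      classical
      obtain ⟨c, hc⟩ := FiniteField.exists_nonsquare
        (F := F) (by
          intro hch
          have : CharP F 2 := by rw [← hch]; exact ringChar.charP F
          exact h2 (CharTwo.two_eq_zero))
      have hc0 : c ≠ 0 := fun h0 => hc (h0 ▸ IsSquare.zero)
      obtain ⟨a', ha'N, ha'⟩ := exists_mem_Q_eq Q h2 (D j) hNdisj hN2 1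
      obtain ⟨b', hb'N, hb'⟩ := exists_mem_Q_eq Q h2 (D j) hNdisj hN2 c
      have ha'0 : Q a' ≠ 0 := by rw [ha']; exact one_ne_zero
      have hb'0 : Q b' ≠ 0 := by rw [hb']; exact hc0
      refine ⟨[a', b'], ?_, ?_, ⟨1, rfl⟩, ?_⟩
      · intro v hv
        rw [List.mem_cons, List.mem_singleton] at hv
        rcases hv with hv | hv
        · rw [hv]; exact ha'0
        · rw [hv]; exact hb'0
      · rw [List.map_cons, List.map_singleton, List.prod_cons, List.prod_singleton]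
        exact P.mul_mem (hreflP a' ha'N ha'0) (hreflP b' hb'N hb'0)
      · rw [List.map_cons, List.map_singleton, List.prod_cons, List.prod_singleton, ha', hb',
          one_mul]
        exact hc)
    s₀
  have hpi : ∀ i, (D i).map (lin Q p) = D i := by
    intro i
    rw [hP, Subgroup.mem_iInf] at hpP
    exact (mem_stab Q (D i) p).1 (hpP i)
  have hmap : ∀ i i', (∀ x ∈ D i, T x ∈ D i') → (D i).map (lin Q (s₀ * p)) = D i' := by
    intro i i' hTi'
    rw [map_lin_mul, hpi]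
    apply Submodule.eq_of_le_of_finrank_eq
    · rintro _ ⟨x, hx, rfl⟩
      rw [hs₀v]
      exact hTi' x hx
    · rw [finrank_map_lin, hfr, hfr]
  have hj := hmap j m hTj
  have hm := hmap m j hTm
  have hi : ∀ i, i ≠ j → i ≠ m → (D i).map (lin Q (s₀ * p)) = D i := by
    intro i hij him
    apply hmap i i
    intro x hx
    rw [hTi i hij him x hx]
    exact hx
  refine ⟨s₀ * p, ?_, hj, hm, hi⟩
  apply ho.le _ hsp
  refine ⟨Equiv.swap j m, fun i => ?_⟩
  by_cases hij : i = j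
  · subst hij
    rw [Equiv.swap_apply_left]; exact hj
  by_cases him : i = m
  · subst him
    rw [Equiv.swap_apply_right]; exact hm
  rw [Equiv.swap_apply_of_ne_of_ne hij him]
  exact hi i hij him

end Cfsg.Agent.Helper45.OmDec
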