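import Mathlib
import Cfsg.Prelude.Def_ClassicalGeometry
import Cfsg.Prelude.Def_GeometricClasses
import Cfsg.Agent.Helper45.OmDecJ

/-!
# The stabiliser of an orthogonal block decomposition is maximal in `Ω`

`Omega_le_of_not_permB`: a subgroup `M` containing the stabiliser of the blocks in `Ω` and an
element not permuting the blocks contains `Ω` (odd characteristic; blocks isometric of dimension
`≥ 5`, or of dimension `3` over a field with at least five elements).
-/

set_option autoImplicit false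
set_option linter.unusedSectionVars false

namespace Cfsg.Agent.Helper45.OmDec

open Matrix QuadraticMap Module Cfsg.Agent.Helper44 Cfsg.Agent.Helper45.OmegaParity
open Cfsg.Agent.Helper12.OmNd Cfsg.Agent

variable {F : Type*} [Field F] [Fintype F] {ι : Type} [Fintype ι] [DecidableEq ι]
variable {Q : QuadraticForm F (ι → F)} {t : ℕ} {D : Fin t → Submodule F (ι → F)}
variable {M : Subgroup (Cfsg.isometryGroup F ⇑Q)}

theorem IsBlocks.block_injective (h : IsBlocks Q D) (hpos : ∀ i, 0 < finrank F (D i)) :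
    Function.Injective D := by
  intro i j hij
  by_contra hne
  obtain ⟨y, hy, hy0⟩ := exists_ne_zero_of_finrank_pos (D i) (hpos i)
  apply hy0
  apply h.nd i y hy
  intro a' ha'
  rw [hij] at ha'
  exact h.orth i j hne y hy a' ha'

theorem permB_of_forall_exists (h : IsBlocks Q D) (hpos : ∀ i, 0 < finrank F (D i))
    {g : Cfsg.isometryGroup F ⇑Q} (hg : ∀ l, ∃ j, (D l).map (lin Q g) = D j) : PermB Q D g := by
  choose σ hσ using hg
  have hinj : Function.Injective σ := by
    intro l l' hll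
    have h1 : (D l).map (lin Q g) = (D l').map (lin Q g) := by rw [hσ l, hσ l', hll]
    have h2 := Submodule.map_injective_of_injective (lin_injective Q g) h1
    exact h.block_injective hpos h2
  exact ⟨Equiv.ofBijective σ ⟨hinj, Finite.injective_iff_surjective.1 hinj⟩, fun i => hσ i⟩

theorem Omega_le_of_not_permB (ho : Over Q D M) (h2 : (2 : F) ≠ 0) {k : ℕ}
    (hfr : ∀ i, finrank F (D i) = k)
    (hcase : 5 ≤ k ∨ (k = 3 ∧ 5 ≤ Fintype.card F))
    (hiso : ∀ i j, Cfsg.Geo.AreIsometricFor ⇑Q (D i) (D j))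
    {g : Cfsg.isometryGroup F ⇑Q} (hg : g ∈ M) (hgn : ¬ PermB Q D g) :
    Cfsg.Omega F ⇑Q ≤ M := by
  have hk3 : 3 ≤ k := by rcases hcase with h | h <;> omega
  have hfr3 : ∀ i, 3 ≤ finrank F (D i) := fun i => by rw [hfr]; exact hk3
  -- a mixed Eichler direction
  have hmix : ¬ NoMixed Q D M := by
    intro hnm
    apply hgn
    apply permB_of_forall_exists ho.blocks (fun i => by have := hfr3 i; omega)
    intro l
    rcases hcase with h5 | ⟨hk, h5⟩
    · exact blocks_of_five ho (step1_of_five ho hnm h5 hfr) h5 hfr hg l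
    · subst hk
      obtain ⟨lam, hlam0, hlam1⟩ := exists_sq_ne_one h2 h5
      have hS : Step1 Q D M := step1_of_torus ho hnm h2 (mul_ne_zero hlam0 hlam0) hlam1
        ⟨lam, rfl⟩ (fun i j => by rw [hfr, hfr])
      exact blocks_of_three ho hS h2 h5 hfr hg l
  unfold NoMixed at hmix
  push Not at hmix
  obtain ⟨l, u, huD, hu00, hu0, z, huz, hE, hzD⟩ := hmix
  obtain ⟨j, hjl, y, hyD, hzy⟩ : ∃ j, j ≠ l ∧ ∃ y ∈ D j, polar ⇑Q z y ≠ 0 := by
    by_contra hcon
    push Not at hcon
    exact hzD (ho.blocks.mem_of_orth ho.nondeg hcon)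
  have hlj : l ≠ j := Ne.symm hjl
  have hle := block_le_eD ho h2 hfr3 hlj huD hu0 huz hE ⟨y, hyD, hzy⟩
  have hRjl : Rel M D j l := rel_of_exists ho h2 hfr3 hlj ⟨u, huD, hu00, hu0, hle⟩
  have hRlj : Rel M D l j := hRjl.symm ho h2 hfr3 hjl
  -- all blocks are related to `D l`
  have hRl : ∀ m, m ≠ l → Rel M D l m := by
    intro m hml
    by_cases hmj : m = j
    · rw [hmj]; exact hRlj
    obtain ⟨s, hsM, hsj, _, hsi⟩ := exists_swap ho h2 (by omega) hfr hiso (Ne.symm hmj)
    exact Rel.map ho hsM (hsi l hlj (Ne.symm hml)) hsj hRlj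
  have hRall : ∀ i i', i ≠ i' → Rel M D i i' := by
    intro i i' hii'
    by_cases hil : i = l
    · rw [hil] at hii' ⊢
      exact hRl i' (Ne.symm hii')
    by_cases hi'l : i' = l
    · rw [hi'l]
      exact (hRl i hil).symm ho h2 hfr3 (Ne.symm hil)
    exact Rel.trans ho h2 hfr3 hil (Ne.symm hi'l) hii'
      ((hRl i hil).symm ho h2 hfr3 (Ne.symm hil)) (hRl i' hi'l)
  -- every singular vector of a block is an Eichler direction
  have hblock : ∀ i, ∀ v ∈ D i, Q v = 0 → v ∈ eDir Q M := by
    intro i v hvD hv0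
    by_cases hv00 : v = 0
    · rw [hv00]; exact eDir_zero M
    rw [mem_eDir_iff]
    refine ⟨hv0, fun w hvw => ?_⟩
    have e : w = ho.blocks.prj ho.nondeg i w + (w - ho.blocks.prj ho.nondeg i w) := by abel
    rw [e]
    apply (eD M v).add_mem
    · have hpw : polar ⇑Q v (ho.blocks.prj ho.nondeg i w) = 0 := by
        rw [polar_comm, ho.blocks.polar_prj ho.nondeg w hvD, polar_comm]; exact hvw
      refine ⟨hpw, fun c => ?_⟩
      apply ho.eichler_mem hvD ((D i).smul_mem _ (ho.blocks.prj_mem ho.nondeg i w)) hv0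
      rw [polar_smul_right, hpw, smul_zero]
    · have hle' : (⨆ (j : Fin t) (_ : j ≠ i), D j) ≤ eD M v :=
        iSup_le (fun j => iSup_le (fun hj => hRall i j (Ne.symm hj) v hvD hv00 hv0))
      exact hle' (ho.blocks.cpl_le_iSup ho.nondeg i (ho.blocks.sub_prj_mem ho.nondeg i w))
  obtain ⟨v, hvD, hv00, hv0⟩ := exists_singular_of_finrank (Q := Q) (D l) (hfr3 l)
  obtain ⟨v', hv'D, hv'0, hvv'⟩ := exists_partner_in (ho.blocks.nd l) hvD hv00 hv0
  apply Omega_le_of_eDir_all ho.nondeg ho.card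
  intro x hx
  exact eDir_all ho.nondeg (hblock l v hvD hv0) (hblock l v' hv'D hv'0)
    (by rw [hvv']; exact one_ne_zero) x hx

end Cfsg.Agent.Helper45.OmDec
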