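import Mathlib
import Cfsg.Prelude.Def_ClassicalGeometry
import Cfsg.Prelude.Def_GeometricClasses
import Cfsg.Agent.Helper45.OmDecK

/-!
# Maximality of the stabiliser of an orthogonal decomposition, `Cfsg.Geo` vocabulary

`dec_isMaximalIn`: for a non-degenerate quadratic form in odd characteristic on a space of
dimension at least six, the stabiliser in `Ω` of a decomposition into pairwise orthogonal, pairwise
isometric non-degenerate subspaces of dimension `k ≥ 5`, or of dimension `3` over a field with at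
least five elements, is a maximal subgroup of `Ω`.
-/

set_option autoImplicit false
set_option linter.unusedSectionVars false

namespace Cfsg.Agent.Helper45.OmDec

open Matrix QuadraticMap Module Cfsg.Agent.Helper44 Cfsg.Agent.Helper45.OmegaParity
open Cfsg.Agent.Helper12.OmNd Cfsg.Agent

variable {F : Type*} [Field F] [Fintype F] {ι : Type} [Fintype ι] [DecidableEq ι]

theorem isBlocks_of_geo (Q : QuadraticForm F (ι → F)) {t k : ℕ} (D : Fin t → Submodule F (ι → F))
    (hD : Cfsg.Geo.IsOrthogonalMDecomposition ⇑Q k D) : IsBlocks Q D := by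
  refine ⟨fun i j hij x hx y hy => hD.decomp.orthogonal i j hij x hx y hy, fun i => ?_,
    hD.decomp.decomp.iSup_eq_top⟩
  intro a ha hor
  by_contra ha0
  obtain ⟨x, hx, hne⟩ := (hD.decomp.nondegenerate i a ha ha0).2
  exact hne (hor x hx)

theorem mem_decompositionStabilizer_iff_permB (Q : QuadraticForm F (ι → F)) {t : ℕ}
    (D : Fin t → Submodule F (ι → F)) (g : Cfsg.isometryGroup F ⇑Q) :
    (g : Matrix.GeneralLinearGroup ι F) ∈ Cfsg.Geo.decompositionStabilizer D ↔ PermB Q D g := by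
  constructor
  · rintro ⟨σ, hσ⟩
    exact ⟨σ, hσ⟩
  · rintro ⟨σ, hσ⟩
    exact ⟨σ, hσ⟩

/-- an Eichler transformation between two blocks does not permute the blocks -/
theorem exists_Omega_not_permB (Q : QuadraticForm F (ι → F))
    (hQ : (QuadraticMap.polarBilin Q).Nondegenerate) (hn : 6 ≤ Fintype.card ι) {t : ℕ}
    {D : Fin t → Submodule F (ι → F)} (h : IsBlocks Q D) (ht : 2 ≤ t)
    (hfr : ∀ i, 3 ≤ finrank F (D i)) :
    ∃ g ∈ Cfsg.Omega F ⇑Q, ¬ PermB Q D g := by
  set i₀ : Fin t := ⟨0, by omega⟩ with hi₀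
  set i₁ : Fin t := ⟨1, by omega⟩ with hi₁
  have h01 : i₀ ≠ i₁ := by
    intro h'
    have := congrArg Fin.val h'
    simp [hi₀, hi₁] at this
  obtain ⟨u, huD, hu00, hu0⟩ := exists_singular_of_finrank (Q := Q) (D i₀) (hfr i₀)
  obtain ⟨w, hwD, hw00⟩ := exists_ne_zero_of_finrank_pos (D i₁) (by have := hfr i₁; omega)
  have huw : polar ⇑Q u w = 0 := h.orth i₀ i₁ h01 u huD w hwD
  refine ⟨Helper5.eichlerO Q u w, eichlerO_mem_Omega Q hQ (by omega) u w, ?_⟩
  rintro ⟨σ, hσ⟩
  obtain ⟨x, hxD, hux⟩ : ∃ x ∈ D i₀, polar ⇑Q u x ≠ 0 := by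
    by_contra hcon
    push Not at hcon
    exact hu00 (h.nd i₀ u huD hcon)
  have hgx : lin Q (Helper5.eichlerO Q u w) x ∈ D (σ i₀) := by
    rw [← hσ i₀]
    exact Submodule.mem_map_of_mem hxD
  have hwx : polar ⇑Q w x = 0 := by
    rw [polar_comm]; exact h.orth i₀ i₁ h01 x hxD w hwD
  rw [Helper5.lin_eichlerO Q hu0 huw, hwx, zero_smul, add_zero] at hgx
  by_cases hσ1 : σ i₀ = i₁
  · rw [hσ1] at hgx
    have h1 : x - (Q w * polar ⇑Q u x) • u ∈ D i₁ := by
      have := (D i₁).add_mem hgx ((D i₁).smul_mem (polar ⇑Q u x) hwD)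
      have e : x - polar ⇑Q u x • w - (Q w * polar ⇑Q u x) • u + polar ⇑Q u x • w
          = x - (Q w * polar ⇑Q u x) • u := by abel
      rwa [e] at this
    have h2' : x - (Q w * polar ⇑Q u x) • u ∈ D i₀ := (D i₀).sub_mem hxD ((D i₀).smul_mem _ huD)
    have h3 : x - (Q w * polar ⇑Q u x) • u = 0 := by
      apply h.nd i₀ _ h2'
      intro a' ha'
      rw [polar_comm]
      exact h.orth i₀ i₁ h01 a' ha' _ h1
    have h4 : x = (Q w * polar ⇑Q u x) • u := sub_eq_zero.1 h3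
    apply hux
    rw [h4, polar_smul_right, polar_self_zero hu0, smul_zero]
  · obtain ⟨w', hw'D, hww'⟩ : ∃ w' ∈ D i₁, polar ⇑Q w w' ≠ 0 := by
      by_contra hcon
      push Not at hcon
      exact hw00 (h.nd i₁ w hwD hcon)
    have h1 := h.orth (σ i₀) i₁ hσ1 _ hgx w' hw'D
    rw [polar_sub_left, polar_sub_left, polar_smul_left, polar_smul_left,
      h.orth i₀ i₁ h01 x hxD w' hw'D, h.orth i₀ i₁ h01 u huD w' hw'D] at h1
    simp only [smul_eq_mul, mul_zero, sub_zero, zero_sub, neg_eq_zero] at h1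
    rcases mul_eq_zero.1 h1 with h5 | h5
    · exact hux h5
    · exact hww' h5

theorem dec_isMaximalIn_aux (Q : QuadraticForm F (ι → F))
    (hQ : (QuadraticMap.polarBilin Q).Nondegenerate) (h2 : (2 : F) ≠ 0)
    (hn : 6 ≤ Fintype.card ι) {t : ℕ} (k : ℕ)
    (hcase : 5 ≤ k ∨ (k = 3 ∧ 5 ≤ Fintype.card F))
    (D : Fin t → Submodule F (ι → F)) (hD : Cfsg.Geo.IsOrthogonalMDecomposition ⇑Q k D) :
    Cfsg.Geo.IsMaximalIn (Cfsg.Geo.omegaGL ⇑Q)
      (Cfsg.Geo.decompositionStabilizer D ⊓ Cfsg.Geo.omegaGL ⇑Q) := by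
  have hB : IsBlocks Q D := isBlocks_of_geo Q D hD
  have hfr : ∀ i, finrank F (D i) = k := hD.decomp.decomp.finrank_eq
  have hk3 : 3 ≤ k := by rcases hcase with h | h <;> omega
  refine ⟨lt_of_le_of_ne inf_le_right ?_, ?_⟩
  · intro heq
    obtain ⟨g, hg, hgn⟩ := exists_Omega_not_permB Q hQ hn hB hD.decomp.decomp.two_le
      (fun i => by rw [hfr]; exact hk3)
    have h1 : (g : Matrix.GeneralLinearGroup ι F) ∈ Cfsg.Geo.omegaGL ⇑Q := ⟨g, hg, rfl⟩
    rw [← heq] at h1
    exact hgn ((mem_decompositionStabilizer_iff_permB Q D g).1 h1.1)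
  · intro M' hHM hMΩ
    by_cases hle : M' ≤ Cfsg.Geo.decompositionStabilizer D ⊓ Cfsg.Geo.omegaGL ⇑Q
    · left
      exact le_antisymm hle hHM
    · right
      obtain ⟨g, hgM, hgH⟩ := SetLike.not_le_iff_exists.1 hle
      obtain ⟨g', hg'Ω, rfl⟩ := hMΩ hgM
      have ho : Over Q D (M'.comap (Cfsg.isometryGroup F ⇑Q).subtype) := by
        refine ⟨hB, hQ, hn, ?_⟩
        intro ω hω hst
        exact Subgroup.mem_comap.2
          (hHM ⟨(mem_decompositionStabilizer_iff_permB Q D ω).2 hst, ⟨ω, hω, rfl⟩⟩)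
      have hg'n : ¬ PermB Q D g' := by
        intro hh
        exact hgH ⟨(mem_decompositionStabilizer_iff_permB Q D g').2 hh, ⟨g', hg'Ω, rfl⟩⟩
      have hfin := Omega_le_of_not_permB ho h2 hfr hcase hD.isometric
        (Subgroup.mem_comap.2 hgM) hg'n
      apply le_antisymm hMΩ
      rintro _ ⟨ω, hω, rfl⟩
      exact Subgroup.mem_comap.1 (hfin hω)

end Cfsg.Agent.Helper45.OmDec
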