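import Mathlib
import Cfsg.Prelude.Def_GeometricClasses
import Cfsg.Agent.Helper45.OrForm
import Cfsg.Agent.Helper45.UnInSL
import Cfsg.Agent.Helper93.ParabolicMax

/-!
# `GO_n ∩ SL_n` (similarities of a quadratic form, determinant one) is maximal in `SL_n`, `q` odd

Siegel elements `sgo`, the transvection sets `eSet M v`, and the fact that a subgroup containing
`GO_n ∩ SL_n` and one transvection contains `SL_n`.
-/

set_option autoImplicit false

namespace Cfsg.Agent.Helper45.OrInSL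

open Cfsg.Geo Matrix Module QuadraticMap Cfsg.Agent.Helper93
open Cfsg.Agent.Helper45.UnInSL (tv_congr' tv_add_dual tv_neg_dual tv_zero_dual)

variable {F : Type*} [Field F] {n : ℕ}
variable {Q : (Fin n → F) → F} (hQ : IsNondegenerateQuadraticForm Q)

include hQ

/-! ### Siegel elements -/

/-- `x ↦ x + B(x,w) u - B(x,u) (w + Q(w) u)` for singular `u` and `w ⊥ u` -/
noncomputable def sgo (u w : Fin n → F) (hu : Q u = 0) (huw : polar Q u w = 0) :
    Matrix.GeneralLinearGroup (Fin n) F :=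
  tv (bd hQ (-u)) (w + Q w • u) (by
      rw [bd_apply, b_neg_right hQ, b_add_left hQ, b_smul_left hQ, b_self hQ, hu, b_comm w u, huw]
      ring) *
    tv (bd hQ w) u (by rw [bd_apply]; exact huw)

theorem sgo_mulVec (u w : Fin n → F) (hu : Q u = 0) (huw : polar Q u w = 0) (x : Fin n → F) :
    (sgo hQ u w hu huw : Matrix (Fin n) (Fin n) F).mulVec x
      = x + polar Q x w • u - polar Q x u • (w + Q w • u) := by
  unfold sgo
  rw [gl_mul_mulVec, tv_mulVec, tv_mulVec, bd_apply, bd_apply, b_neg_right hQ, b_add_left hQ,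
    b_smul_left hQ, b_self hQ, hu, mul_zero, mul_zero, add_zero, neg_smul]
  abel

theorem sgo_Q (u w : Fin n → F) (hu : Q u = 0) (huw : polar Q u w = 0) (x : Fin n → F) :
    Q ((sgo hQ u w hu huw : Matrix (Fin n) (Fin n) F).mulVec x) = Q x := by
  have huw' : polar Q w u = 0 := by rw [b_comm]; exact huw
  rw [sgo_mulVec]
  simp only [Q_sub hQ, Q_add Q, Q_smul hQ, b_add_left hQ, b_add_right hQ, b_smul_left hQ,
    b_smul_right hQ, b_self hQ, hu, huw, huw']
  ring

omit hQ in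
/-- an isometry of `Q` preserves the polar form -/
theorem polar_of_Q {g : Matrix.GeneralLinearGroup (Fin n) F} {μ : F}
    (hg : ∀ x : Fin n → F, Q ((g : Matrix (Fin n) (Fin n) F).mulVec x) = μ * Q x)
    (x y : Fin n → F) :
    polar Q ((g : Matrix (Fin n) (Fin n) F).mulVec x) ((g : Matrix (Fin n) (Fin n) F).mulVec y)
      = μ * polar Q x y := by
  unfold polar
  rw [← Matrix.mulVec_add, hg, hg, hg]
  ring

theorem sgo_b (u w : Fin n → F) (hu : Q u = 0) (huw : polar Q u w = 0) (x y : Fin n → F) :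
    polar Q ((sgo hQ u w hu huw : Matrix (Fin n) (Fin n) F).mulVec x)
      ((sgo hQ u w hu huw : Matrix (Fin n) (Fin n) F).mulVec y) = polar Q x y := by
  have := polar_of_Q (Q := Q) (g := sgo hQ u w hu huw) (μ := 1)
    (fun x => by rw [sgo_Q hQ, one_mul]) x y
  rwa [one_mul] at this

theorem sgo_mem (u w : Fin n → F) (hu : Q u = 0) (huw : polar Q u w = 0) :
    sgo hQ u w hu huw ∈ quadSimilarityGroup Q ⊓ specialLinear (Fin n) F := by
  refine ⟨⟨1, fun v => ?_⟩, ?_⟩
  · rw [sgo_Q hQ, Units.val_one, one_mul]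
  · exact (specialLinear (Fin n) F).mul_mem (tv_mem_sl _ _ _) (tv_mem_sl _ _ _)

/-! ### the sets `eSet M v` -/

/-- `w ∈ eSet M v` iff `B(v,w) = 0` and the transvection `x ↦ x + B(x,w) v` lies in `M` -/
def eSet (M : Subgroup (Matrix.GeneralLinearGroup (Fin n) F)) (v : Fin n → F) :
    Set (Fin n → F) :=
  {w | ∃ h : bd hQ w v = 0, tv (bd hQ w) v h ∈ M}

theorem eSet_map {M : Subgroup (Matrix.GeneralLinearGroup (Fin n) F)}
    {g : Matrix.GeneralLinearGroup (Fin n) F} (hgM : g ∈ M)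
    (hg : ∀ a b : Fin n → F, polar Q ((g : Matrix (Fin n) (Fin n) F).mulVec a)
      ((g : Matrix (Fin n) (Fin n) F).mulVec b) = polar Q a b)
    {v w : Fin n → F} (hw : w ∈ eSet hQ M v) :
    (g : Matrix (Fin n) (Fin n) F).mulVec w ∈ eSet hQ M ((g : Matrix (Fin n) (Fin n) F).mulVec v) := by
  obtain ⟨h, hm⟩ := hw
  have h' : bd hQ ((g : Matrix (Fin n) (Fin n) F).mulVec w)
      ((g : Matrix (Fin n) (Fin n) F).mulVec v) = 0 := by
    rw [bd_apply, hg]
    exact h
  refine ⟨h', ?_⟩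
  rw [tv_conj g (bd hQ ((g : Matrix (Fin n) (Fin n) F).mulVec w)) v h']
  have e : dualPull (bd hQ ((g : Matrix (Fin n) (Fin n) F).mulVec w)) g = bd hQ w := by
    apply LinearMap.ext
    intro x
    rw [dualPull_apply, bd_apply, bd_apply, hg]
  rw [tv_congr' e v _ h]
  exact M.mul_mem (M.mul_mem hgM hm) (M.inv_mem hgM)

theorem eSet_add {M : Subgroup (Matrix.GeneralLinearGroup (Fin n) F)} {v w w' : Fin n → F}
    (hw : w ∈ eSet hQ M v) (hw' : w' ∈ eSet hQ M v) : w + w' ∈ eSet hQ M v := by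
  obtain ⟨h, hm⟩ := hw
  obtain ⟨h', hm'⟩ := hw'
  have h'' : (bd hQ w + bd hQ w') v = 0 := by rw [LinearMap.add_apply, h, h', add_zero]
  have h3 : bd hQ (w + w') v = 0 := by rw [bd_add hQ]; exact h''
  refine ⟨h3, ?_⟩
  rw [tv_congr' (bd_add hQ w w') v h3 h'', tv_add_dual _ _ v h h' h'']
  exact M.mul_mem hm hm'

theorem eSet_neg {M : Subgroup (Matrix.GeneralLinearGroup (Fin n) F)} {v w : Fin n → F}
    (hw : w ∈ eSet hQ M v) : -w ∈ eSet hQ M v := by
  obtain ⟨h, hm⟩ := hw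
  have h'' : (-bd hQ w) v = 0 := by rw [LinearMap.neg_apply, h, neg_zero]
  have h3 : bd hQ (-w) v = 0 := by rw [bd_neg hQ]; exact h''
  refine ⟨h3, ?_⟩
  rw [tv_congr' (bd_neg hQ w) v h3 h'', tv_neg_dual _ v h h'']
  exact M.inv_mem hm

theorem eSet_zero (M : Subgroup (Matrix.GeneralLinearGroup (Fin n) F)) (v : Fin n → F) :
    (0 : Fin n → F) ∈ eSet hQ M v := by
  have h : bd hQ 0 v = 0 := by rw [bd_apply, b_zero_right hQ]
  have e : bd hQ 0 = 0 := by
    apply LinearMap.ext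
    intro x
    rw [bd_apply, b_zero_right hQ, LinearMap.zero_apply]
  refine ⟨h, ?_⟩
  rw [tv_congr' e v h (by rw [LinearMap.zero_apply]), tv_zero_dual]
  exact M.one_mem

/-- the largest `F`-subspace inside `eSet M v` -/
def eSub (M : Subgroup (Matrix.GeneralLinearGroup (Fin n) F)) (v : Fin n → F) :
    Submodule F (Fin n → F) where
  carrier := {y | ∀ a : F, a • y ∈ eSet hQ M v}
  zero_mem' := fun a => by rw [smul_zero]; exact eSet_zero hQ M v
  add_mem' := fun {y y'} hy hy' a => by rw [smul_add]; exact eSet_add hQ (hy a) (hy' a)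
  smul_mem' := fun c y hy a => by rw [smul_smul]; exact hy (a * c)

theorem mem_eSub {M : Subgroup (Matrix.GeneralLinearGroup (Fin n) F)} {v y : Fin n → F} :
    y ∈ eSub hQ M v ↔ ∀ a : F, a • y ∈ eSet hQ M v := Iff.rfl

theorem mem_eSet_of_mem_eSub {M : Subgroup (Matrix.GeneralLinearGroup (Fin n) F)}
    {v y : Fin n → F} (h : y ∈ eSub hQ M v) : y ∈ eSet hQ M v := by
  have := h 1
  rwa [one_smul] at this

/-- the Siegel move -/
theorem sgo_move {M : Subgroup (Matrix.GeneralLinearGroup (Fin n) F)}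
    (hM : quadSimilarityGroup Q ⊓ specialLinear (Fin n) F ≤ M) {v w₀ y z : Fin n → F}
    (hw₀ : w₀ ∈ eSet hQ M v) (hyy : Q y = 0) (hyz : polar Q y z = 0)
    (hvy : polar Q v y = 0) (hvz : polar Q v z = 0) (hw₀y : polar Q w₀ y = 0)
    (hw₀z : polar Q w₀ z ≠ 0) : y ∈ eSub hQ M v := by
  intro a'
  have hyz' : polar Q y ((a' / polar Q w₀ z) • z) = 0 := by
    rw [b_smul_right hQ, hyz, mul_zero]
  have hmem := eSet_map hQ (hM (sgo_mem hQ y _ hyy hyz')) (sgo_b hQ y _ hyy hyz') hw₀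
  rw [sgo_mulVec, sgo_mulVec, hvy, b_smul_right hQ, hvz, hw₀y, b_smul_right hQ,
    div_mul_cancel₀ _ hw₀z] at hmem
  simp only [mul_zero, zero_smul, add_zero, sub_zero] at hmem
  have := eSet_add hQ hmem (eSet_neg hQ hw₀)
  rwa [add_comm w₀, add_neg_cancel_right] at this

end Cfsg.Agent.Helper45.OrInSL
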