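import Mathlib
import Cfsg.Prelude.Def_GeometricClasses
import Cfsg.Agent.Helper45.OrInSL

/-!
# `GO_n ∩ SL_n` in `SL_n`: one transvection forces `SL_n`
-/

set_option autoImplicit false

namespace Cfsg.Agent.Helper45.OrInSL

open Cfsg.Geo Matrix Module QuadraticMap Cfsg.Agent.Helper93
open Cfsg.Agent.Helper45.UnInSL (tv_congr' tv_add_dual tv_neg_dual tv_zero_dual)

variable {F : Type*} [Field F] [Fintype F] {n : ℕ}
variable {Q : (Fin n → F) → F} (hQ : IsNondegenerateQuadraticForm Q)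

include hQ

/-- step 1 -/
theorem perp_le_eSub (hn : 13 ≤ n) (h2 : (2 : F) ≠ 0)
    {M : Subgroup (Matrix.GeneralLinearGroup (Fin n) F)}
    (hM : quadSimilarityGroup Q ⊓ specialLinear (Fin n) F ≤ M) {v w₀ : Fin n → F}
    (hw₀ : w₀ ∈ eSet hQ M v) (hw₀v : w₀ ∉ Submodule.span F {v}) :
    perp hQ (Submodule.span F {v, w₀}) ≤ eSub hQ M v := by
  have hd := finrank_span_pair_le v w₀
  apply perp_le_of_singular hQ h2 _ (by omega)
  intro y hyS hyy hynS
  rw [mem_perp_span] at hyS
  have hyv : polar Q y v = 0 := hyS v (by simp)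
  have hyw₀ : polar Q y w₀ = 0 := hyS w₀ (by simp)
  have hw₀' : w₀ ∉ Submodule.span F {v, y} := by
    intro hmem
    obtain ⟨α, β, h⟩ := Submodule.mem_span_pair.1 hmem
    by_cases hβ : β = 0
    · apply hw₀v
      rw [← h, hβ, zero_smul, add_zero]
      exact Submodule.smul_mem _ _ (Submodule.mem_span_singleton_self v)
    · apply hynS
      have : y = β⁻¹ • (w₀ - α • v) := by
        rw [← h, add_sub_cancel_left, smul_smul, inv_mul_cancel₀ hβ, one_smul]
      rw [this]
      apply Submodule.smul_mem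
      apply Submodule.sub_mem
      · exact Submodule.subset_span (by simp)
      · exact Submodule.smul_mem _ _ (Submodule.subset_span (by simp))
  obtain ⟨z, hzS, hzw₀⟩ := exists_mem_perp_ne hQ (Submodule.span F {v, y}) hw₀'
  rw [mem_perp_span] at hzS
  have hzv : polar Q z v = 0 := hzS v (by simp)
  have hzy : polar Q z y = 0 := hzS y (by simp)
  exact sgo_move hQ hM hw₀ hyy (by rw [b_comm]; exact hzy) (by rw [b_comm]; exact hyv)
    (by rw [b_comm]; exact hzv) (by rw [b_comm]; exact hyw₀)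
    (by rw [b_comm]; exact hzw₀)

/-- step 2 -/
theorem mem_eSub_of_orth (hn : 13 ≤ n) (h2 : (2 : F) ≠ 0)
    {M : Subgroup (Matrix.GeneralLinearGroup (Fin n) F)}
    (hM : quadSimilarityGroup Q ⊓ specialLinear (Fin n) F ≤ M) {v w₀ : Fin n → F}
    (hw₀ : w₀ ∈ eSet hQ M v) (hw₀v : w₀ ∉ Submodule.span F {v}) {x : Fin n → F}
    (hx : polar Q x v = 0) : x ∈ eSub hQ M v := by
  by_cases hxw : polar Q x w₀ = 0
  · apply perp_le_eSub hQ hn h2 hM hw₀ hw₀v
    rw [mem_perp_span]
    intro y hy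
    rcases hy with rfl | rfl
    · exact hx
    · exact hxw
  · have hd1 := finrank_span_triple_le v w₀ x
    have hd2 := finrank_span_pair_le v w₀
    obtain ⟨w₁, hw₁S, hw₁n⟩ := exists_mem_perp_not_mem hQ (Submodule.span F {v, w₀, x})
      (Submodule.span F {v, w₀}) (by omega)
    rw [mem_perp_span] at hw₁S
    have h1 : polar Q w₁ v = 0 := hw₁S v (by simp)
    have h2' : polar Q w₁ w₀ = 0 := hw₁S w₀ (by simp)
    have h3 : polar Q w₁ x = 0 := hw₁S x (by simp)
    have hw₁E : w₁ ∈ eSub hQ M v := by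
      apply perp_le_eSub hQ hn h2 hM hw₀ hw₀v
      rw [mem_perp_span]
      intro y hy
      rcases hy with rfl | rfl
      · exact h1
      · exact h2'
    have hw₁v : w₁ ∉ Submodule.span F {v} := by
      intro hmem
      apply hw₁n
      exact Submodule.span_mono (by simp) hmem
    apply perp_le_eSub hQ hn h2 hM (mem_eSet_of_mem_eSub hQ hw₁E) hw₁v
    rw [mem_perp_span]
    intro y hy
    rcases hy with rfl | rfl
    · exact hx
    · rw [b_comm]; exact h3

/-- step 3: a non-trivial `eSet` puts `v` in `dirSub M` -/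
theorem mem_dirSub_of_eSet (hn : 13 ≤ n) (h2 : (2 : F) ≠ 0)
    {M : Subgroup (Matrix.GeneralLinearGroup (Fin n) F)}
    (hM : quadSimilarityGroup Q ⊓ specialLinear (Fin n) F ≤ M) {v w₀ : Fin n → F}
    (hw₀ : w₀ ∈ eSet hQ M v) (hw₀v : w₀ ∉ Submodule.span F {v}) : v ∈ dirSub M := by
  rw [mem_dirSub]
  intro φ h
  obtain ⟨w, rfl⟩ := exists_bd_eq hQ φ
  have hwv : polar Q w v = 0 := by rw [b_comm]; exact h
  obtain ⟨h', hm⟩ := mem_eSet_of_mem_eSub hQ (mem_eSub_of_orth hQ hn h2 hM hw₀ hw₀v hwv)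
  exact hm

/-- step 4: `dirSub M` is everything once it is non-zero -/
theorem dirSub_eq_top_of_ne_bot (hn : 13 ≤ n) (h2 : (2 : F) ≠ 0)
    {M : Subgroup (Matrix.GeneralLinearGroup (Fin n) F)}
    (hM : quadSimilarityGroup Q ⊓ specialLinear (Fin n) F ≤ M) {v : Fin n → F} (hv : v ≠ 0)
    (hvD : v ∈ dirSub M) : dirSub M = ⊤ := by
  have step : ∀ v : Fin n → F, v ≠ 0 → v ∈ dirSub M →
      perp hQ (Submodule.span F {v}) ≤ dirSub M := by
    intro v hv hvD
    have hd := finrank_span_singleton_le_one v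
    apply perp_le_of_singular hQ h2 _ (by omega)
    intro y hyS hyy hynS
    have hyv : polar Q y v = 0 := (mem_perp_singleton hQ).1 hyS
    have hvy : v ∉ Submodule.span F {y} := by
      intro hmem
      obtain ⟨c, hc⟩ := Submodule.mem_span_singleton.1 hmem
      have hc0 : c ≠ 0 := by
        rintro rfl
        rw [zero_smul] at hc
        exact hv hc.symm
      apply hynS
      have : y = c⁻¹ • v := by rw [← hc, smul_smul, inv_mul_cancel₀ hc0, one_smul]
      rw [this]
      exact Submodule.smul_mem _ _ (Submodule.mem_span_singleton_self v)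
    obtain ⟨z, hzS, hzv⟩ := exists_mem_perp_ne hQ (Submodule.span F {y}) hvy
    have hzy : polar Q z y = 0 := (mem_perp_singleton hQ).1 hzS
    have hvz : polar Q v z ≠ 0 := by rw [b_comm]; exact hzv
    have hyz' : polar Q y ((1 / polar Q v z) • z) = 0 := by
      rw [b_smul_right hQ, b_comm y z, hzy, mul_zero]
    have hmem := dirSet_map hvD (hM (sgo_mem hQ y _ hyy hyz'))
    rw [sgo_mulVec, b_comm v y, hyv, b_smul_right hQ, div_mul_cancel₀ _ hvz, zero_smul, sub_zero,
      one_smul] at hmem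
    have := (dirSub M).sub_mem hmem hvD
    rwa [add_sub_cancel_left] at this
  rw [eq_top_iff]
  intro x _
  have hd := finrank_span_pair_le v x
  obtain ⟨y, hyS, hy0⟩ := exists_mem_perp_not_mem hQ (Submodule.span F {v, x}) ⊥
    (by rw [finrank_bot]; omega)
  rw [mem_perp_span] at hyS
  have hyv : polar Q y v = 0 := hyS v (by simp)
  have hyx : polar Q y x = 0 := hyS x (by simp)
  have hy0' : y ≠ 0 := by simpa using hy0
  have hyD : y ∈ dirSub M := step v hv hvD ((mem_perp_singleton hQ).2 hyv)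
  apply step y hy0' hyD
  rw [mem_perp_singleton hQ, b_comm]
  exact hyx

/-- the special case: a transvection `x ↦ x + c B(x,v) v` in `M` yields a generic one -/
theorem exists_eSet_generic (hn : 13 ≤ n) (h2 : (2 : F) ≠ 0)
    {M : Subgroup (Matrix.GeneralLinearGroup (Fin n) F)}
    (hM : quadSimilarityGroup Q ⊓ specialLinear (Fin n) F ≤ M) {v : Fin n → F} {c : F}
    (hv : v ≠ 0) (hc : c ≠ 0) (hcv : c • v ∈ eSet hQ M v) :
    ∃ v'' w'' : Fin n → F, v'' ≠ 0 ∧ w'' ∈ eSet hQ M v'' ∧ w'' ∉ Submodule.span F {v''} := by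
  have hvv : Q v = 0 := by
    obtain ⟨h, -⟩ := hcv
    rw [bd_apply, b_smul_right hQ, b_self hQ] at h
    rcases mul_eq_zero.1 h with h | h
    · exact absurd h hc
    · exact (mul_eq_zero.1 h).resolve_left h2
  have hbvv : polar Q v v = 0 := by rw [b_self hQ, hvv, mul_zero]
  obtain ⟨y, -, hyy, hyv⟩ := exists_singular hQ h2 ⊥ (by rw [finrank_bot]; omega)
    (w₀ := v) (by simpa using hv)
  have hd := finrank_span_singleton_le_one y
  obtain ⟨z, hzS, hzz⟩ := exists_nonsingular_of_finrank hQ (perp hQ (Submodule.span F {y})) (by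
    have := finrank_perp hQ (Submodule.span F {y})
    omega)
  have hzy : polar Q z y = 0 := (mem_perp_singleton hQ).1 hzS
  have hyz : polar Q y z = 0 := by rw [b_comm]; exact hzy
  have hvy : polar Q v y ≠ 0 := by rw [b_comm]; exact hyv
  set g := sgo hQ y z hyy hyz with hg
  set v' : Fin n → F := (g : Matrix (Fin n) (Fin n) F).mulVec v with hv'
  have hv'eq : v' = v + polar Q v z • y - polar Q v y • (z + Q z • y) := by
    rw [hv', hg, sgo_mulVec]
  set β : F := polar Q v v' with hβ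
  have hβeq : β = - (Q z * polar Q v y ^ 2) := by
    rw [hβ, hv'eq, b_sub_right hQ, b_add_right hQ, b_smul_right hQ, b_smul_right hQ,
      b_add_right hQ, b_smul_right hQ, hbvv]
    ring
  have hβ0 : β ≠ 0 := by
    rw [hβeq]
    exact neg_ne_zero.2 (mul_ne_zero hzz (pow_ne_zero 2 hvy))
  have hv'v' : polar Q v' v' = 0 := by
    rw [hv', sgo_b hQ]
    exact hbvv
  have hcv' : c • v' ∈ eSet hQ M v' := by
    have := eSet_map hQ (hM (sgo_mem hQ y z hyy hyz)) (sgo_b hQ y z hyy hyz) hcv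
    rwa [Matrix.mulVec_smul] at this
  obtain ⟨h', hm'⟩ := hcv'
  obtain ⟨h0, hm0⟩ := hcv
  set τ' := tv (bd hQ (c • v')) v' h' with hτ'
  have hτ'v : (τ' : Matrix (Fin n) (Fin n) F).mulVec v = v + (c * β) • v' := by
    rw [hτ', tv_mulVec, bd_apply, b_smul_right hQ]
  refine ⟨v + (c * β) • v', c • v - (c ^ 2 * β) • v', ?_, ?_, ?_⟩
  · intro h0
    have h8 : polar Q (v + (c * β) • v') v = 0 := by rw [h0, b_zero_left hQ]
    rw [b_add_left hQ, b_smul_left hQ, hbvv, b_comm v' v, zero_add] at h8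
    exact mul_ne_zero (mul_ne_zero hc hβ0) hβ0 h8
  · have h'' : bd hQ (c • v - (c ^ 2 * β) • v') ((τ' : Matrix (Fin n) (Fin n) F).mulVec v) = 0 := by
      rw [hτ'v, bd_apply, b_sub_right hQ, b_smul_right hQ, b_smul_right hQ, b_add_left hQ,
        b_add_left hQ, b_smul_left hQ, b_smul_left hQ, hbvv, hv'v', b_comm v' v]
      ring
    have hconj := tv_conj τ' (bd hQ (c • v - (c ^ 2 * β) • v')) v h''
    have e : dualPull (bd hQ (c • v - (c ^ 2 * β) • v')) τ' = bd hQ (c • v) := by
      apply LinearMap.ext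
      intro x
      rw [dualPull_apply, hτ', tv_mulVec, bd_apply, bd_apply, bd_apply, b_smul_right hQ,
        b_sub_right hQ, b_smul_right hQ, b_smul_right hQ, b_add_left hQ, b_add_left hQ,
        b_smul_left hQ, b_smul_left hQ, hv'v', b_smul_right hQ, b_comm v' v]
      ring
    have h3 : bd hQ (c • v - (c ^ 2 * β) • v') (v + (c * β) • v') = 0 := by
      rw [← hτ'v]; exact h''
    refine ⟨h3, ?_⟩
    have h4 : tv (bd hQ (c • v - (c ^ 2 * β) • v')) (v + (c * β) • v') h3
        = tv (bd hQ (c • v - (c ^ 2 * β) • v')) ((τ' : Matrix (Fin n) (Fin n) F).mulVec v) h'' := by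
      congr 1
      exact hτ'v.symm
    rw [h4, hconj, tv_congr' e v _ h0]
    exact M.mul_mem (M.mul_mem hm' hm0) (M.inv_mem hm')
  · intro hmem
    obtain ⟨k, hk⟩ := Submodule.mem_span_singleton.1 hmem
    -- pair with `v`
    have h5 : polar Q (k • (v + (c * β) • v')) v = polar Q (c • v - (c ^ 2 * β) • v') v := by
      rw [hk]
    rw [b_smul_left hQ, b_add_left hQ, b_smul_left hQ, b_sub_left hQ, b_smul_left hQ,
      b_smul_left hQ, hbvv, b_comm v' v] at h5
    have h6 : (k + c) * (c * β ^ 2) = 0 := by linear_combination h5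
    have hk' : k = -c := by
      rcases mul_eq_zero.1 h6 with h | h
      · exact eq_neg_of_add_eq_zero_left h
      · exact absurd h (mul_ne_zero hc (pow_ne_zero 2 hβ0))
    rw [hk'] at hk
    have h7 : (2 * c) • v = 0 := by
      have : (2 * c) • v = c • v - (c ^ 2 * β) • v' - (-c) • (v + (c * β) • v') := by
        module
      rw [this, hk, sub_self]
    rcases smul_eq_zero.1 h7 with h | h
    · exact absurd h (mul_ne_zero h2 hc)
    · exact hv h

/-- **a subgroup containing `GO_n ∩ SL_n` and one non-trivial transvection contains `SL_n`** -/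
theorem sl_le_of_tv (hn : 13 ≤ n) (h2 : (2 : F) ≠ 0)
    {M : Subgroup (Matrix.GeneralLinearGroup (Fin n) F)}
    (hM : quadSimilarityGroup Q ⊓ specialLinear (Fin n) F ≤ M)
    {φ : Module.Dual F (Fin n → F)} {v : Fin n → F} (h : φ v = 0) (hφ : φ ≠ 0) (hv : v ≠ 0)
    (hm : tv φ v h ∈ M) : specialLinear (Fin n) F ≤ M := by
  have : Nontrivial (Fin n) := Fin.nontrivial_iff_two_le.mpr (by omega)
  obtain ⟨w₀, rfl⟩ := exists_bd_eq hQ φ
  have hw₀E : w₀ ∈ eSet hQ M v := ⟨h, hm⟩
  have hw₀0 : w₀ ≠ 0 := by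
    rintro rfl
    apply hφ
    apply LinearMap.ext
    intro x
    rw [bd_apply, b_zero_right hQ, LinearMap.zero_apply]
  have key : ∃ v'' w'' : Fin n → F, v'' ≠ 0 ∧ w'' ∈ eSet hQ M v'' ∧
      w'' ∉ Submodule.span F {v''} := by
    by_cases hmem : w₀ ∈ Submodule.span F {v}
    · obtain ⟨c, rfl⟩ := Submodule.mem_span_singleton.1 hmem
      have hc : c ≠ 0 := by
        rintro rfl
        exact hw₀0 (zero_smul F v)
      exact exists_eSet_generic hQ hn h2 hM hv hc hw₀E
    · exact ⟨v, w₀, hv, hw₀E, hmem⟩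
  obtain ⟨v'', w'', hv''0, hw''E, hw''v''⟩ := key
  exact sl_le_of_dirSub_eq_top (dirSub_eq_top_of_ne_bot hQ hn h2 hM hv''0
    (mem_dirSub_of_eSet hQ hn h2 hM hw''E hw''v''))

end Cfsg.Agent.Helper45.OrInSL
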