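import Mathlib
import Cfsg.Prelude.Def_GeometricClasses
import Cfsg.Agent.Helper45.OrInSL2

/-!
# `GO_n ∩ SL_n` in `SL_n`: a proper overgroup contains a transvection; assembly
-/

set_option autoImplicit false

namespace Cfsg.Agent.Helper45.OrInSL

open Cfsg.Geo Matrix Module QuadraticMap Cfsg.Agent.Helper93
open Cfsg.Agent.Helper45.UnInSL (tv_congr' tv_add_dual tv_neg_dual tv_zero_dual)

variable {F : Type*} [Field F] [Fintype F] {n : ℕ}
variable {Q : (Fin n → F) → F} (hQ : IsNondegenerateQuadraticForm Q)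

omit [Fintype F] in
theorem finrank_span_quad_le (x y z t : Fin n → F) :
    finrank F (Submodule.span F {x, y, z, t} : Submodule F (Fin n → F)) ≤ 4 := by
  rw [Submodule.span_insert, sup_comm]
  have h1 := finrank_sup_span_singleton_le (Submodule.span F {y, z, t}) x
  have h2 := finrank_span_triple_le y z t
  omega

include hQ

/-- if every conjugate of a Siegel element under `g₀` is a similarity of `Q`, so is `g₀` -/
theorem mem_quadSim_of_conj (hn : 13 ≤ n) (h2 : (2 : F) ≠ 0)
    (g₀ : Matrix.GeneralLinearGroup (Fin n) F)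
    (h : ∀ (u w : Fin n → F) (hu : Q u = 0) (huw : polar Q u w = 0),
      g₀ * sgo hQ u w hu huw * g₀⁻¹ ∈ quadSimilarityGroup Q) :
    g₀ ∈ quadSimilarityGroup Q := by
  -- Step 1
  have S1 : ∀ (u w : Fin n → F) (hu : Q u = 0) (huw : polar Q u w = 0) (y : Fin n → F),
      Q ((g₀ : Matrix (Fin n) (Fin n) F).mulVec
        ((sgo hQ u w hu huw : Matrix (Fin n) (Fin n) F).mulVec y))
        = Q ((g₀ : Matrix (Fin n) (Fin n) F).mulVec y) := by
    intro u w hu huw y
    obtain ⟨μ, hμ⟩ := h u w hu huw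
    have hμ' : ∀ y : Fin n → F, Q ((g₀ : Matrix (Fin n) (Fin n) F).mulVec
        ((sgo hQ u w hu huw : Matrix (Fin n) (Fin n) F).mulVec y))
        = (μ : F) * Q ((g₀ : Matrix (Fin n) (Fin n) F).mulVec y) := by
      intro y
      have := hμ ((g₀ : Matrix (Fin n) (Fin n) F).mulVec y)
      rwa [gl_mul_mulVec, gl_mul_mulVec, gl_inv_mulVec'] at this
    have hd := finrank_span_pair_le u w
    have hfin : finrank F ((perp hQ (Submodule.span F {u, w})).map
        (Matrix.mulVecLin (g₀ : Matrix (Fin n) (Fin n) F)))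
        = finrank F (perp hQ (Submodule.span F {u, w})) := by
      apply Cfsg.Agent.S0751.finrank_map_eq_of_injOn
      intro x _ hx
      rw [Matrix.mulVecLin_apply] at hx
      rw [← gl_inv_mulVec' g₀ x, hx, Matrix.mulVec_zero]
    obtain ⟨z, hz, hzz⟩ := exists_nonsingular_of_finrank hQ
      ((perp hQ (Submodule.span F {u, w})).map
        (Matrix.mulVecLin (g₀ : Matrix (Fin n) (Fin n) F))) (by
          have := finrank_perp hQ (Submodule.span F {u, w})
          omega)
    obtain ⟨y₀, hy₀, rfl⟩ := hz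
    rw [Matrix.mulVecLin_apply] at hzz
    rw [SetLike.mem_coe, mem_perp_span] at hy₀
    have hy₀u : polar Q y₀ u = 0 := hy₀ u (by simp)
    have hy₀w : polar Q y₀ w = 0 := hy₀ w (by simp)
    have hfix : (sgo hQ u w hu huw : Matrix (Fin n) (Fin n) F).mulVec y₀ = y₀ := by
      rw [sgo_mulVec, hy₀u, hy₀w, zero_smul, zero_smul, add_zero, sub_zero]
    have h3 := hμ' y₀
    rw [hfix] at h3
    have hμ1 : (μ : F) = 1 := by
      have h4 : ((μ : F) - 1) * Q ((g₀ : Matrix (Fin n) (Fin n) F).mulVec y₀) = 0 := by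
        linear_combination -h3
      exact sub_eq_zero.1 ((mul_eq_zero.1 h4).resolve_right hzz)
    rw [hμ' y, hμ1, one_mul]
  -- Step 2
  have S2 : ∀ u : Fin n → F, u ≠ 0 → Q u = 0 →
      Q ((g₀ : Matrix (Fin n) (Fin n) F).mulVec u) = 0 ∧
      ∀ y : Fin n → F, polar Q y u = 0 →
        polar Q ((g₀ : Matrix (Fin n) (Fin n) F).mulVec y)
          ((g₀ : Matrix (Fin n) (Fin n) F).mulVec u) = 0 := by
    intro u hu0 hu
    have key : ∀ y w : Fin n → F, polar Q y u = 0 → polar Q u w = 0 →
        (polar Q y w) ^ 2 * Q ((g₀ : Matrix (Fin n) (Fin n) F).mulVec u)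
          + polar Q y w * polar Q ((g₀ : Matrix (Fin n) (Fin n) F).mulVec y)
            ((g₀ : Matrix (Fin n) (Fin n) F).mulVec u) = 0 := by
      intro y w hyu huw
      have h1 := S1 u w hu huw y
      rw [sgo_mulVec, hyu, zero_smul, sub_zero, Matrix.mulVec_add, Matrix.mulVec_smul, Q_add Q,
        Q_smul hQ, b_smul_right hQ] at h1
      linear_combination h1
    have A : ∀ y : Fin n → F, polar Q y u = 0 → y ∉ Submodule.span F {u} →
        Q ((g₀ : Matrix (Fin n) (Fin n) F).mulVec u) = 0 ∧
        polar Q ((g₀ : Matrix (Fin n) (Fin n) F).mulVec y)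
          ((g₀ : Matrix (Fin n) (Fin n) F).mulVec u) = 0 := by
      intro y hyu hyn
      obtain ⟨w, hwS, hwy⟩ := exists_mem_perp_ne hQ (Submodule.span F {u}) hyn
      have hwu : polar Q u w = 0 := by rw [b_comm]; exact (mem_perp_singleton hQ).1 hwS
      have hyw : polar Q y w ≠ 0 := by rw [b_comm]; exact hwy
      have k1 := key y ((1 / polar Q y w) • w) hyu (by rw [b_smul_right hQ, hwu, mul_zero])
      have k2 := key y ((-1 / polar Q y w) • w) hyu (by rw [b_smul_right hQ, hwu, mul_zero])
      rw [b_smul_right hQ, div_mul_cancel₀ _ hyw] at k1 k2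
      have hq : (2 : F) * Q ((g₀ : Matrix (Fin n) (Fin n) F).mulVec u) = 0 := by
        linear_combination k1 + k2
      have hq' : Q ((g₀ : Matrix (Fin n) (Fin n) F).mulVec u) = 0 :=
        (mul_eq_zero.1 hq).resolve_left h2
      refine ⟨hq', ?_⟩
      rw [hq'] at k1
      linear_combination k1
    have hd := finrank_span_singleton_le_one u
    obtain ⟨y₁, hy₁S, hy₁n⟩ := exists_mem_perp_not_mem hQ (Submodule.span F {u})
      (Submodule.span F {u}) (by omega)
    have hq := (A y₁ ((mem_perp_singleton hQ).1 hy₁S) hy₁n).1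
    refine ⟨hq, fun y hyu => ?_⟩
    by_cases hmem : y ∈ Submodule.span F {u}
    · obtain ⟨c, rfl⟩ := Submodule.mem_span_singleton.1 hmem
      rw [Matrix.mulVec_smul, b_smul_left hQ, b_self hQ, hq]
      ring
    · exact (A y hyu hmem).2
  -- Step 3
  have S3 : ∀ u : Fin n → F, u ≠ 0 → Q u = 0 → ∃ l : F, ∀ y : Fin n → F,
      polar Q ((g₀ : Matrix (Fin n) (Fin n) F).mulVec y)
        ((g₀ : Matrix (Fin n) (Fin n) F).mulVec u) = l * polar Q y u := by
    intro u hu0 hu
    obtain ⟨⟨y₀, hy₀⟩, -⟩ := hQ.nondegenerate u hu0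
    refine ⟨polar Q ((g₀ : Matrix (Fin n) (Fin n) F).mulVec y₀)
      ((g₀ : Matrix (Fin n) (Fin n) F).mulVec u) / polar Q y₀ u, fun y => ?_⟩
    have h1 := (S2 u hu0 hu).2 (y - (polar Q y u / polar Q y₀ u) • y₀) (by
      rw [b_sub_left hQ, b_smul_left hQ, div_mul_cancel₀ _ hy₀, sub_self])
    rw [Matrix.mulVec_sub, Matrix.mulVec_smul, b_sub_left hQ, b_smul_left hQ, sub_eq_zero] at h1
    rw [h1]
    ring
  choose! lam hlam using S3
  -- Step 4
  have C : ∀ u u' : Fin n → F, u ≠ 0 → u' ≠ 0 → Q u = 0 → Q u' = 0 →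
      u' ∉ Submodule.span F {u} → lam u = lam u' := by
    intro u u' hu0 hu'0 hu hu' hn'
    by_cases hb : polar Q u u' = 0
    · have hs : Q (u + u') = 0 := by rw [Q_add Q, hu, hu', hb]; ring
      have hne : u + u' ≠ 0 := by
        intro h0
        apply hn'
        have : u' = (-1 : F) • u := by
          rw [neg_one_smul]
          exact eq_neg_of_add_eq_zero_right h0
        rw [this]
        exact Submodule.smul_mem _ _ (Submodule.mem_span_singleton_self u)
      have hu_n : u ∉ Submodule.span F {u'} := by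
        intro hmem
        obtain ⟨c, hc⟩ := Submodule.mem_span_singleton.1 hmem
        have hc0 : c ≠ 0 := by
          rintro rfl
          rw [zero_smul] at hc
          exact hu0 hc.symm
        apply hn'
        have : u' = c⁻¹ • u := by rw [← hc, smul_smul, inv_mul_cancel₀ hc0, one_smul]
        rw [this]
        exact Submodule.smul_mem _ _ (Submodule.mem_span_singleton_self u)
      obtain ⟨y, hyS, hyu⟩ := exists_mem_perp_ne hQ (Submodule.span F {u'}) hu_n
      obtain ⟨y', hy'S, hy'u'⟩ := exists_mem_perp_ne hQ (Submodule.span F {u}) hn'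
      have hyu' : polar Q y u' = 0 := (mem_perp_singleton hQ).1 hyS
      have hy'u : polar Q y' u = 0 := (mem_perp_singleton hQ).1 hy'S
      have e1 := hlam (u + u') hne hs y
      rw [Matrix.mulVec_add, b_add_right hQ, b_add_right hQ, hlam u hu0 hu y, hlam u' hu'0 hu' y,
        hyu'] at e1
      have e2 := hlam (u + u') hne hs y'
      rw [Matrix.mulVec_add, b_add_right hQ, b_add_right hQ, hlam u hu0 hu y', hlam u' hu'0 hu' y',
        hy'u] at e2
      have f1 : (lam u - lam (u + u')) * polar Q y u = 0 := by linear_combination e1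
      have f2 : (lam u' - lam (u + u')) * polar Q y' u' = 0 := by linear_combination e2
      have g1 := sub_eq_zero.1 ((mul_eq_zero.1 f1).resolve_right hyu)
      have g2 := sub_eq_zero.1 ((mul_eq_zero.1 f2).resolve_right hy'u')
      rw [g1, g2]
    · have e1 := hlam u hu0 hu u'
      have e2 := hlam u' hu'0 hu' u
      rw [b_comm ((g₀ : Matrix (Fin n) (Fin n) F).mulVec u') _, b_comm u' u] at e1
      have f1 : (lam u - lam u') * polar Q u u' = 0 := by linear_combination e2 - e1
      exact sub_eq_zero.1 ((mul_eq_zero.1 f1).resolve_right hb)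
  -- Step 5
  obtain ⟨u₀, -, hu₀0, hu₀⟩ := exists_singular_of_finrank hQ h2 ⊤ (by
    rw [finrank_top, Module.finrank_fintype_fun_eq_card, Fintype.card_fin]; omega)
  let W : Submodule F (Fin n → F) :=
    { carrier := {x | ∀ y : Fin n → F, polar Q ((g₀ : Matrix (Fin n) (Fin n) F).mulVec y)
        ((g₀ : Matrix (Fin n) (Fin n) F).mulVec x) = lam u₀ * polar Q y x}
      zero_mem' := fun y => by
        show polar Q _ ((g₀ : Matrix (Fin n) (Fin n) F).mulVec 0) = _
        rw [Matrix.mulVec_zero, b_zero_right hQ, b_zero_right hQ, mul_zero]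
      add_mem' := fun {a b} ha hb y => by
        show polar Q _ ((g₀ : Matrix (Fin n) (Fin n) F).mulVec (a + b)) = _
        rw [Matrix.mulVec_add, b_add_right hQ, b_add_right hQ, ha y, hb y, mul_add]
      smul_mem' := fun c a ha y => by
        show polar Q _ ((g₀ : Matrix (Fin n) (Fin n) F).mulVec (c • a)) = _
        rw [Matrix.mulVec_smul, b_smul_right hQ, b_smul_right hQ, ha y]
        ring }
  have hu₀W : u₀ ∈ W := fun y => hlam u₀ hu₀0 hu₀ y
  have hW : perp hQ ⊥ ≤ W := by
    apply perp_le_of_singular hQ h2 ⊥ (by rw [finrank_bot]; omega)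
    intro y _ hyy hy0
    have hy0' : y ≠ 0 := by simpa using hy0
    by_cases hmem : y ∈ Submodule.span F {u₀}
    · obtain ⟨c, rfl⟩ := Submodule.mem_span_singleton.1 hmem
      exact W.smul_mem c hu₀W
    · intro z
      rw [hlam y hy0' hyy z, C u₀ y hu₀0 hy0' hu₀ hyy hmem]
  have hall : ∀ x y : Fin n → F, polar Q ((g₀ : Matrix (Fin n) (Fin n) F).mulVec y)
      ((g₀ : Matrix (Fin n) (Fin n) F).mulVec x) = lam u₀ * polar Q y x := by
    intro x
    have hx : x ∈ W := hW (by
      rw [mem_perp]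
      intro s hs
      rw [Submodule.mem_bot] at hs
      rw [hs, b_zero_right hQ])
    exact hx
  have hQall : ∀ x : Fin n → F, Q ((g₀ : Matrix (Fin n) (Fin n) F).mulVec x) = lam u₀ * Q x := by
    intro x
    have h1 := hall x x
    rw [b_self hQ, b_self hQ] at h1
    have h3 : (2 : F) * (Q ((g₀ : Matrix (Fin n) (Fin n) F).mulVec x) - lam u₀ * Q x) = 0 := by
      linear_combination h1
    exact sub_eq_zero.1 ((mul_eq_zero.1 h3).resolve_left h2)
  have hμ0 : lam u₀ ≠ 0 := by
    intro h0
    obtain ⟨z, -, hzz⟩ := exists_nonsingular_of_finrank hQ ⊤ (by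
      rw [finrank_top, Module.finrank_fintype_fun_eq_card, Fintype.card_fin]; omega)
    apply hzz
    have := hQall (((g₀⁻¹ : Matrix.GeneralLinearGroup (Fin n) F) :
      Matrix (Fin n) (Fin n) F).mulVec z)
    rwa [gl_inv_mulVec, h0, zero_mul] at this
  exact ⟨Units.mk0 (lam u₀) hμ0, fun v => by rw [Units.val_mk0]; exact hQall v⟩

end Cfsg.Agent.Helper45.OrInSL
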