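import Mathlib
import Cfsg.Prelude.Def_GeometricClasses
import Cfsg.Agent.Helper45.OrInSL3

/-!
# `GO_n ∩ SL_n` in `SL_n`: producing a transvection, strictness, assembly
-/

set_option autoImplicit false

namespace Cfsg.Agent.Helper45.OrInSL

open Cfsg.Geo Matrix Module QuadraticMap Cfsg.Agent.Helper93
open Cfsg.Agent.Helper45.UnInSL (tv_congr' tv_add_dual tv_neg_dual tv_zero_dual)

variable {F : Type*} [Field F] [Fintype F] {n : ℕ}
variable {Q : (Fin n → F) → F} (hQ : IsNondegenerateQuadraticForm Q)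

include hQ

/-- a conjugate of a Siegel element that is not a similarity yields a transvection -/
theorem exists_tv_of_conj (hn : 13 ≤ n) (h2 : (2 : F) ≠ 0)
    {M : Subgroup (Matrix.GeneralLinearGroup (Fin n) F)}
    (hM : quadSimilarityGroup Q ⊓ specialLinear (Fin n) F ≤ M)
    {g₀ : Matrix.GeneralLinearGroup (Fin n) F} (hg₀ : g₀ ∈ M) {u₀ w₀ : Fin n → F}
    (hu₀ : Q u₀ = 0) (hu₀w₀ : polar Q u₀ w₀ = 0)
    (hg : g₀ * sgo hQ u₀ w₀ hu₀ hu₀w₀ * g₀⁻¹ ∉ quadSimilarityGroup Q) :
    ∃ (φ : Module.Dual F (Fin n → F)) (v : Fin n → F) (h : φ v = 0),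
      φ ≠ 0 ∧ v ≠ 0 ∧ tv φ v h ∈ M := by
  by_contra hno
  push Not at hno
  apply hg
  set g := g₀ * sgo hQ u₀ w₀ hu₀ hu₀w₀ * g₀⁻¹ with hgdef
  have hgM : g ∈ M := M.mul_mem (M.mul_mem hg₀ (hM (sgo_mem hQ u₀ w₀ hu₀ hu₀w₀))) (M.inv_mem hg₀)
  obtain ⟨r₁, hr₁⟩ := exists_bd_eq hQ (dualPull (bd hQ w₀) g₀⁻¹)
  obtain ⟨r₂, hr₂⟩ := exists_bd_eq hQ (dualPull (bd hQ u₀) g₀⁻¹)
  have er₁ : ∀ x : Fin n → F, polar Q x r₁ = polar Q (((g₀⁻¹ : Matrix.GeneralLinearGroup (Fin n) F) :
      Matrix (Fin n) (Fin n) F).mulVec x) w₀ := by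
    intro x
    have := LinearMap.congr_fun hr₁ x
    rw [dualPull_apply, bd_apply, bd_apply] at this
    exact this.symm
  have er₂ : ∀ x : Fin n → F, polar Q x r₂ = polar Q (((g₀⁻¹ : Matrix.GeneralLinearGroup (Fin n) F) :
      Matrix (Fin n) (Fin n) F).mulVec x) u₀ := by
    intro x
    have := LinearMap.congr_fun hr₂ x
    rw [dualPull_apply, bd_apply, bd_apply] at this
    exact this.symm
  set a : Fin n → F := (g₀ : Matrix (Fin n) (Fin n) F).mulVec u₀ with ha
  set c : Fin n → F := (g₀ : Matrix (Fin n) (Fin n) F).mulVec (w₀ + Q w₀ • u₀) with hc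
  have hgx : ∀ x : Fin n → F, (g : Matrix (Fin n) (Fin n) F).mulVec x
      = x + polar Q x r₁ • a - polar Q x r₂ • c := by
    intro x
    rw [hgdef, gl_mul_mulVec, gl_mul_mulVec, sgo_mulVec, Matrix.mulVec_sub, Matrix.mulVec_add,
      Matrix.mulVec_smul, Matrix.mulVec_smul, gl_inv_mulVec, er₁, er₂]
  clear_value g a c
  set R : Submodule F (Fin n → F) := Submodule.span F {r₁, r₂, a, c} with hRdef
  have hR : finrank F R ≤ 4 := finrank_span_quad_le r₁ r₂ a c
  have hmemR : ∀ u ∈ perp hQ R, polar Q u r₁ = 0 ∧ polar Q u r₂ = 0 ∧ polar Q u a = 0 ∧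
      polar Q u c = 0 := by
    intro u hu
    rw [hRdef, mem_perp_span] at hu
    exact ⟨hu r₁ (by simp), hu r₂ (by simp), hu a (by simp), hu c (by simp)⟩
  have hfix1 : ∀ u ∈ perp hQ R, (g : Matrix (Fin n) (Fin n) F).mulVec u = u := by
    intro u hu
    obtain ⟨h1, h2', -, -⟩ := hmemR u hu
    rw [hgx, h1, h2', zero_smul, zero_smul, add_zero, sub_zero]
  have hfix2 : ∀ u ∈ perp hQ R, ∀ x : Fin n → F,
      polar Q ((g : Matrix (Fin n) (Fin n) F).mulVec x) u = polar Q x u := by
    intro u hu x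
    obtain ⟨-, -, h3, h4⟩ := hmemR u hu
    rw [hgx, b_sub_left hQ, b_add_left hQ, b_smul_left hQ, b_smul_left hQ, b_comm a u, h3,
      b_comm c u, h4]
    ring
  have hfix3 : ∀ u ∈ perp hQ R, ((g⁻¹ : Matrix.GeneralLinearGroup (Fin n) F) :
      Matrix (Fin n) (Fin n) F).mulVec u = u := by
    intro u hu
    have := gl_inv_mulVec' g u
    rwa [hfix1 u hu] at this
  have hgs : ∀ w : Fin n → F, ∃ w₂ : Fin n → F, ∀ x : Fin n → F,
      polar Q x w₂ = polar Q (((g⁻¹ : Matrix.GeneralLinearGroup (Fin n) F) :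
        Matrix (Fin n) (Fin n) F).mulVec x) w := by
    intro w
    obtain ⟨w₂, hw₂⟩ := exists_bd_eq hQ (dualPull (bd hQ w) g⁻¹)
    refine ⟨w₂, fun x => ?_⟩
    have := LinearMap.congr_fun hw₂ x
    rw [dualPull_apply, bd_apply, bd_apply] at this
    exact this.symm
  choose gs hgs' using hgs
  -- main claim
  have main : ∀ u ∈ perp hQ R, u ≠ 0 → Q u = 0 → ∀ w : Fin n → F, polar Q u w = 0 →
      gs w - (g : Matrix (Fin n) (Fin n) F).mulVec w + (Q (gs w) - Q w) • u = 0 := by
    intro u huR hu0 hu w huw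
    have hbuu : polar Q u u = 0 := by rw [b_self hQ, hu, mul_zero]
    have hugs : polar Q u (gs w) = 0 := by rw [hgs', hfix3 u huR, huw]
    have huw₂ : polar Q u (-(gs w)) = 0 := by rw [b_neg_right hQ, hugs, neg_zero]
    have hc' : bd hQ u (gs w - (g : Matrix (Fin n) (Fin n) F).mulVec w
        + (Q (gs w) - Q w) • u) = 0 := by
      rw [bd_apply, b_add_left hQ, b_sub_left hQ, b_smul_left hQ, hbuu, hfix2 u huR w,
        b_comm (gs w) u, hugs, b_comm w u, huw]
      ring
    have hτ : tv (bd hQ u) (gs w - (g : Matrix (Fin n) (Fin n) F).mulVec w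
        + (Q (gs w) - Q w) • u) hc'
        = g * sgo hQ u w hu huw * g⁻¹ * sgo hQ u (-(gs w)) hu huw₂ := by
      apply gl_ext
      intro x
      set x' : Fin n → F := (sgo hQ u (-(gs w)) hu huw₂ : Matrix (Fin n) (Fin n) F).mulVec x
        with hx'
      have hx'eq : x' = x + polar Q x (-(gs w)) • u - polar Q x u • (-(gs w) + Q (-(gs w)) • u) := by
        rw [hx', sgo_mulVec]
      have hx'u : polar Q x' u = polar Q x u := by
        rw [hx'eq, b_sub_left hQ, b_add_left hQ, b_smul_left hQ, b_smul_left hQ, b_add_left hQ,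
          b_smul_left hQ, b_neg_left hQ, hbuu, b_comm (gs w) u, hugs]
        ring
      have hx'w : polar Q x' (gs w) = polar Q x (gs w) + 2 * Q (gs w) * polar Q x u := by
        rw [hx'eq, b_sub_left hQ, b_add_left hQ, b_smul_left hQ, b_smul_left hQ, b_add_left hQ,
          b_smul_left hQ, b_neg_left hQ, hugs, b_self hQ]
        ring
      have h1 : polar Q (((g⁻¹ : Matrix.GeneralLinearGroup (Fin n) F) :
          Matrix (Fin n) (Fin n) F).mulVec x') w = polar Q x' (gs w) := (hgs' w x').symm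
      have h2' : polar Q (((g⁻¹ : Matrix.GeneralLinearGroup (Fin n) F) :
          Matrix (Fin n) (Fin n) F).mulVec x') u = polar Q x' u := by
        have := hfix2 u huR (((g⁻¹ : Matrix.GeneralLinearGroup (Fin n) F) :
          Matrix (Fin n) (Fin n) F).mulVec x')
        rw [gl_inv_mulVec] at this
        exact this.symm
      rw [tv_mulVec, bd_apply, gl_mul_mulVec, gl_mul_mulVec, gl_mul_mulVec, ← hx', sgo_mulVec,
        Matrix.mulVec_sub, Matrix.mulVec_add, Matrix.mulVec_smul, Matrix.mulVec_smul, gl_inv_mulVec,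
        h1, h2', Matrix.mulVec_add, Matrix.mulVec_smul, hfix1 u huR, hx'w, hx'u, hx'eq,
        Q_neg hQ, b_neg_right hQ]
      module
    by_contra hne
    have hbd : bd hQ u ≠ 0 := by
      intro h0
      obtain ⟨⟨y, hy⟩, -⟩ := hQ.nondegenerate u hu0
      apply hy
      have := LinearMap.congr_fun h0 y
      rwa [bd_apply, LinearMap.zero_apply] at this
    apply hno (bd hQ u) _ hc' hbd hne
    rw [hτ]
    exact M.mul_mem (M.mul_mem (M.mul_mem hgM (hM (sgo_mem hQ u w hu huw))) (M.inv_mem hgM))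
      (hM (sgo_mem hQ u _ hu huw₂))
  -- `g = gs`
  have hiso : ∀ x : Fin n → F, (g : Matrix (Fin n) (Fin n) F).mulVec x = gs x := by
    intro x
    have hd : finrank F (R ⊔ Submodule.span F {x} : Submodule F (Fin n → F)) ≤ finrank F R + 1 :=
      finrank_sup_span_singleton_le R x
    have hY : 4 ≤ finrank F (perp hQ (R ⊔ Submodule.span F {x})) := by
      have := finrank_perp hQ (R ⊔ Submodule.span F {x})
      omega
    obtain ⟨u, huY, u', hu'Y, hu0, huu, hu'u', hu'0, hindep⟩ :=
      exists_two_singular_of_finrank hQ h2 _ hY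
    have huR : u ∈ perp hQ R := perp_anti hQ le_sup_left huY
    have hu'R : u' ∈ perp hQ R := perp_anti hQ le_sup_left hu'Y
    have hux : polar Q u x = 0 :=
      huY x (Submodule.mem_sup_right (Submodule.mem_span_singleton_self x))
    have hu'x : polar Q u' x = 0 :=
      hu'Y x (Submodule.mem_sup_right (Submodule.mem_span_singleton_self x))
    have m1 := main u huR hu0 huu x hux
    have m2 := main u' hu'R hu'0 hu'u' x hu'x
    by_cases hk : Q (gs x) - Q x = 0
    · rw [hk, zero_smul, add_zero, sub_eq_zero] at m1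
      exact m1.symm
    · exfalso
      apply hindep
      have h3 : (Q (gs x) - Q x) • u' = (Q (gs x) - Q x) • u := by
        have e1 : (Q (gs x) - Q x) • u = -(gs x - (g : Matrix (Fin n) (Fin n) F).mulVec x) :=
          eq_neg_of_add_eq_zero_right m1
        have e2 : (Q (gs x) - Q x) • u' = -(gs x - (g : Matrix (Fin n) (Fin n) F).mulVec x) :=
          eq_neg_of_add_eq_zero_right m2
        rw [e1, e2]
      have h4 : u' = u := by
        have := congrArg (fun t => (Q (gs x) - Q x)⁻¹ • t) h3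
        simp only [smul_smul, inv_mul_cancel₀ hk, one_smul] at this
        exact this
      rw [h4]
      exact Submodule.mem_span_singleton_self u
  have hpol : ∀ x y : Fin n → F, polar Q ((g : Matrix (Fin n) (Fin n) F).mulVec y)
      ((g : Matrix (Fin n) (Fin n) F).mulVec x) = polar Q y x := by
    intro x y
    rw [hiso x, hgs', gl_inv_mulVec']
  refine ⟨1, fun v => ?_⟩
  rw [Units.val_one, one_mul]
  have h1 := hpol v v
  rw [b_self hQ, b_self hQ] at h1
  exact mul_left_cancel₀ h2 h1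

/-- some transvection is not a similarity of `Q` -/
theorem exists_sl_not_quadSim (hn : 3 ≤ n) :
    ∃ g ∈ specialLinear (Fin n) F, g ∉ quadSimilarityGroup Q := by
  have hv₀ : (Pi.single (⟨0, by omega⟩ : Fin n) (1 : F) : Fin n → F) ≠ 0 := by
    intro h
    have := congrFun h ⟨0, by omega⟩
    rw [Pi.single_eq_same, Pi.zero_apply] at this
    exact one_ne_zero this
  set v : Fin n → F := Pi.single (⟨0, by omega⟩ : Fin n) (1 : F) with hvdef
  have hd := finrank_span_singleton_le_one v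
  obtain ⟨w, hwS, hwn⟩ := exists_mem_perp_not_mem hQ (Submodule.span F {v})
    (Submodule.span F {v}) (by omega)
  have hwv : polar Q w v = 0 := (mem_perp_singleton hQ).1 hwS
  have h : bd hQ w v = 0 := by rw [bd_apply, b_comm]; exact hwv
  refine ⟨tv (bd hQ w) v h, tv_mem_sl _ _ _, ?_⟩
  rintro ⟨μ, hμ⟩
  have hμp := polar_of_Q (Q := Q) (g := tv (bd hQ w) v h) (μ := (μ : F)) hμ
  have hvw : v ∉ Submodule.span F {w} := by
    intro hmem
    obtain ⟨c, hc⟩ := Submodule.mem_span_singleton.1 hmem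
    have hc0 : c ≠ 0 := by
      rintro rfl
      rw [zero_smul] at hc
      exact hv₀ hc.symm
    apply hwn
    have : w = c⁻¹ • v := by rw [← hc, smul_smul, inv_mul_cancel₀ hc0, one_smul]
    rw [this]
    exact Submodule.smul_mem _ _ (Submodule.mem_span_singleton_self v)
  obtain ⟨x, hxS, hxv⟩ := exists_mem_perp_ne hQ (Submodule.span F {w}) hvw
  have hxw : polar Q x w = 0 := (mem_perp_singleton hQ).1 hxS
  have key : ∀ y : Fin n → F, polar Q (((μ : F) - 1) • x - polar Q x v • w) y = 0 := by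
    intro y
    have h1 := hμp x y
    rw [tv_mulVec, tv_mulVec, bd_apply, bd_apply, hxw, zero_smul, add_zero, b_add_right hQ,
      b_smul_right hQ] at h1
    rw [b_sub_left hQ, b_smul_left hQ, b_smul_left hQ, b_comm w y]
    linear_combination (-1 : F) * h1
  have h0 : ((μ : F) - 1) • x - polar Q x v • w = 0 := by
    by_contra hne
    obtain ⟨-, ⟨y, hy⟩⟩ := hQ.nondegenerate _ hne
    exact hy (key y)
  have h2' : polar Q (((μ : F) - 1) • x - polar Q x v • w) v = 0 := by rw [h0, b_zero_left hQ]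
  rw [b_sub_left hQ, b_smul_left hQ, b_smul_left hQ, hwv, mul_zero, sub_zero] at h2'
  have hμ1 : (μ : F) - 1 = 0 := (mul_eq_zero.1 h2').resolve_right hxv
  rw [hμ1, zero_smul, zero_sub, neg_eq_zero] at h0
  apply hwn
  have hw0 : w = 0 := (smul_eq_zero.1 h0).resolve_left hxv
  rw [hw0]
  exact Submodule.zero_mem _

/-- **`GO_n(F) ∩ SL_n(F)` (similarities of a quadratic form) is a maximal subgroup of `SL_n(F)`,
`F` of odd order.** -/
theorem or_isMaximalIn_sl (hn : 13 ≤ n) (h2 : (2 : F) ≠ 0) :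
    IsMaximalIn (specialLinear (Fin n) F) (quadSimilarityGroup Q ⊓ specialLinear (Fin n) F) := by
  refine ⟨lt_of_le_of_ne inf_le_right fun heq => ?_, fun M hPM hMS => ?_⟩
  · obtain ⟨g, hg, hgs⟩ := exists_sl_not_quadSim hQ (by omega)
    rw [← heq] at hg
    exact hgs hg.1
  · by_cases hMQ : M ≤ quadSimilarityGroup Q
    · left
      exact le_antisymm (le_inf hMQ hMS) hPM
    · right
      obtain ⟨g₀, hg₀M, hg₀⟩ := SetLike.not_le_iff_exists.1 hMQ
      have hex : ∃ (u w : Fin n → F) (hu : Q u = 0) (huw : polar Q u w = 0),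
          g₀ * sgo hQ u w hu huw * g₀⁻¹ ∉ quadSimilarityGroup Q := by
        by_contra hcon
        push Not at hcon
        exact hg₀ (mem_quadSim_of_conj hQ hn h2 g₀ hcon)
      obtain ⟨u, w, hu, huw, hconj⟩ := hex
      obtain ⟨φ, v, h, hφ, hv, hm⟩ := exists_tv_of_conj hQ hn h2 hPM hg₀M hu huw hconj
      exact le_antisymm hMS (sl_le_of_tv hQ hn h2 hPM h hφ hv hm)

omit hQ in
theorem two_ne_zero_of_odd_card' (hF : Odd (Fintype.card F)) : (2 : F) ≠ 0 := by
  intro h2
  have hchar : ringChar F = 2 := by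
    have hdvd : ringChar F ∣ 2 := (ringChar.spec F 2).1 (by exact_mod_cast h2)
    have hp : (ringChar F).Prime := CharP.char_is_prime F (ringChar F)
    rcases (Nat.dvd_prime Nat.prime_two).1 hdvd with h | h
    · exact absurd h hp.ne_one
    · exact h
  have := FiniteField.even_card_of_char_two hchar
  have h3 := Nat.odd_iff.1 hF
  omega

end Cfsg.Agent.Helper45.OrInSL
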