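import Mathlib
import Cfsg.Prelude.Def_ClassicalGeometry
import Cfsg.Prelude.Def_GeometricClasses
import Cfsg.Agent.Helper45.OrthInSp
import Cfsg.Agent.Helper13.SpMax1

/-!
# `O^±_{2m}(q)` is maximal in `Sp_{2m}(q)`, `q` even: assembly in the `Cfsg.Geo` vocabulary
-/

set_option autoImplicit false

namespace Cfsg.Agent.Helper45.OmegaParity

open Matrix QuadraticMap Module

variable {F : Type*} [Field F] [Fintype F] {m : ℕ}

/-- the statement for a Mathlib quadratic form whose polar form is the standard symplectic form -/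
theorem orth_isMaximalIn_sp_aux [CharP F 2] (Q : QuadraticForm F (Fin m ⊕ Fin m → F))
    (hQ : (QuadraticMap.polarBilin Q).Nondegenerate) (hm : 3 ≤ m)
    (hpol : ∀ u v, QuadraticMap.polar ⇑Q u v = Cfsg.sympForm m F u v) :
    Cfsg.Geo.IsMaximalIn (Cfsg.spGL m F) (Cfsg.Geo.quadSimilarityGroup ⇑Q ⊓ Cfsg.spGL m F) := by
  have hcard : 4 < Fintype.card (Fin m ⊕ Fin m) := by
    rw [Fintype.card_sum, Fintype.card_fin]; omega
  -- (a) isometries lie in `H`
  have hA : ∀ h : GL (Fin m ⊕ Fin m) F,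
      (∀ x, Q ((h : Matrix (Fin m ⊕ Fin m) (Fin m ⊕ Fin m) F) *ᵥ x) = Q x) →
      h ∈ Cfsg.Geo.quadSimilarityGroup ⇑Q ⊓ Cfsg.spGL m F := by
    intro h hh
    refine ⟨⟨1, fun v => by rw [hh v, Units.val_one, one_mul]⟩, ?_⟩
    refine (Helper13.mem_spGL_iff h).2 ?_
    intro u v
    rw [← hpol, ← hpol]
    exact polar_of_isometry Q h hh u v
  -- (b) elements of `H` are isometries
  have hB : ∀ g ∈ Cfsg.Geo.quadSimilarityGroup ⇑Q ⊓ Cfsg.spGL m F,
      ∀ x, Q ((g : Matrix (Fin m ⊕ Fin m) (Fin m ⊕ Fin m) F) *ᵥ x) = Q x := by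
    rintro g ⟨⟨c, hc⟩, hg'⟩ x
    have hg := (Helper13.mem_spGL_iff g).1 hg'
    -- some non-zero polar value
    obtain ⟨z, hz0⟩ : ∃ z : Fin m ⊕ Fin m → F, z ≠ 0 := by
      haveI : Nonempty (Fin m ⊕ Fin m) := ⟨Sum.inl ⟨0, by omega⟩⟩
      exact ⟨fun _ => 1, fun h => one_ne_zero (congrFun h (Classical.arbitrary _))⟩
    obtain ⟨y, hy⟩ : ∃ y, QuadraticMap.polarBilin Q z y ≠ 0 := by
      by_contra hcon
      push Not at hcon
      exact hz0 (hQ.1 z hcon)
    rw [QuadraticMap.polarBilin_apply_apply] at hy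
    have h1 : QuadraticMap.polar ⇑Q ((g : Matrix (Fin m ⊕ Fin m) (Fin m ⊕ Fin m) F) *ᵥ z)
        ((g : Matrix (Fin m ⊕ Fin m) (Fin m ⊕ Fin m) F) *ᵥ y)
        = (c : F) * QuadraticMap.polar ⇑Q z y := by
      unfold QuadraticMap.polar
      rw [← Matrix.mulVec_add, hc, hc, hc]
      ring
    rw [hpol, hg, ← hpol] at h1
    have hc1 : (c : F) = 1 := by
      have h2 : ((c : F) - 1) * QuadraticMap.polar ⇑Q z y = 0 := by linear_combination -h1
      exact sub_eq_zero.1 ((mul_eq_zero.1 h2).resolve_right hy)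
    rw [hc x, hc1, one_mul]
  -- the action of a transvection on `Q`
  have htv : ∀ (v : Fin m ⊕ Fin m → F) (c : F) (x : Fin m ⊕ Fin m → F),
      Q (((Helper13.tvGL v c : GL (Fin m ⊕ Fin m) F) :
        Matrix (Fin m ⊕ Fin m) (Fin m ⊕ Fin m) F) *ᵥ x)
        = Q x + (c ^ 2 * Q v + c) * (QuadraticMap.polar ⇑Q x v) ^ 2 := by
    intro v c x
    rw [Helper13.tvGL_coe, Helper13.sympTransvection_mulVec, ← hpol, QuadraticMap.map_add ⇑Q,
      QuadraticMap.map_smul, QuadraticMap.polar_smul_right, smul_eq_mul, smul_eq_mul]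
    ring
  refine ⟨lt_of_le_of_ne inf_le_right ?_, ?_⟩
  · intro heq
    -- a non-zero singular vector
    have hli : LinearIndependent F ![fun _ : Fin m ⊕ Fin m => (1 : F)] :=
      LinearIndependent.of_subsingleton 0 (by
        haveI : Nonempty (Fin m ⊕ Fin m) := ⟨Sum.inl ⟨0, by omega⟩⟩
        intro h
        exact one_ne_zero (congrFun h (Classical.arbitrary _)))
    obtain ⟨v, hv, hvQ⟩ := exists_polar_eq_Q_eq Q hQ _ hli ![1] 0 (by omega)
    have hv1 : QuadraticMap.polar ⇑Q (fun _ : Fin m ⊕ Fin m => (1 : F)) v = 1 := hv 0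
    have ht : Helper13.tvGL v 1 ∈ Cfsg.Geo.quadSimilarityGroup ⇑Q ⊓ Cfsg.spGL m F := by
      rw [heq]
      exact Helper13.tvGL_mem_spGL v 1
    have h1 := hB _ ht (fun _ => 1)
    rw [htv, hvQ, hv1] at h1
    have h2 : (1 : F) = 0 := by linear_combination h1
    exact one_ne_zero h2
  · intro M hHM hMS
    by_cases hle : M ≤ Cfsg.Geo.quadSimilarityGroup ⇑Q ⊓ Cfsg.spGL m F
    · left
      exact le_antisymm hle hHM
    · right
      obtain ⟨g₀, hg₀M, hg₀H⟩ := SetLike.not_le_iff_exists.1 hle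
      have hMpol : ∀ g ∈ M, ∀ u v,
          QuadraticMap.polar ⇑Q ((g : Matrix (Fin m ⊕ Fin m) (Fin m ⊕ Fin m) F) *ᵥ u)
            ((g : Matrix (Fin m ⊕ Fin m) (Fin m ⊕ Fin m) F) *ᵥ v) = QuadraticMap.polar ⇑Q u v := by
        intro g hg u v
        rw [hpol, hpol]
        exact (Helper13.mem_spGL_iff g).1 (hMS hg) u v
      apply le_antisymm hMS
      apply Helper13.spGL_le_of_tv
      intro v c
      obtain ⟨σ, hσ⟩ := FiniteField.isSquare_of_char_two (F := F)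
        (CharP.ringChar_of_prime_eq_zero Nat.prime_two (CharP.cast_eq_zero F 2)) (c ^ 2 * Q v + c)
      refine mem_of_defect Q hQ hcard M (fun h hh => hHM (hA h hh)) hMpol g₀ hg₀M
        (fun hh => hg₀H (hA g₀ hh)) _ (σ • v) (c * Q v) ?_ ?_
      · rw [QuadraticMap.map_smul, smul_eq_mul, ← hσ]
        ring
      · intro x
        rw [htv, QuadraticMap.polar_smul_right, smul_eq_mul, mul_pow, pow_two σ, ← hσ]

/-- **`O(Q)` is maximal in `Sp_{2m}(q)`, `q` even**, for a functional quadratic form -/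
theorem orth_isMaximalIn_sp (Qf : (Fin m ⊕ Fin m → F) → F)
    (hQf : Cfsg.Geo.IsNondegenerateQuadraticForm Qf) (hchar : ¬ Odd (Fintype.card F))
    (hm : 3 ≤ m) (hpol : ∀ u v, QuadraticMap.polar Qf u v = Cfsg.sympForm m F u v) :
    Cfsg.Geo.IsMaximalIn (Cfsg.spGL m F) (Cfsg.Geo.quadSimilarityGroup Qf ⊓ Cfsg.spGL m F) := by
  have : CharP F 2 := charP_two_of_not_odd hchar
  obtain ⟨Q, hQcoe⟩ : ∃ Q : QuadraticForm F (Fin m ⊕ Fin m → F), ⇑Q = Qf :=
    ⟨qfOfGeo Qf hQf, rfl⟩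
  subst hQcoe
  exact orth_isMaximalIn_sp_aux Q (nondeg_of_geo Q hQf) hm hpol

end Cfsg.Agent.Helper45.OmegaParity
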