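import Cfsg.Agent.Helper45.PronBL3.Defs
import Cfsg.Agent.Helper53.PronBL3_B
import Cfsg.Agent.Helper53.PronBL3_C
import Cfsg.Agent.Helper34.PronBL3_E
import Cfsg.Agent.Helper66.PronBL3_F
import Cfsg.Agent.Helper34.PronBL3_G
import Cfsg.Agent.Helper97.PronBL3_H
import Cfsg.Agent.Helper24.PronBL3_I
import Cfsg.Agent.Helper24.PronBL3_J
import Cfsg.Agent.Helper24.PronBL3_K
import Cfsg.Agent.Helper87.PronBL3_L
import Cfsg.Agent.Helper97.PronBL3_N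

/-!
# helper45, block BL3 of helper99's S2225/S2226 (#15281): `exists_SD_linear`

The semidihedral Sylow `2`-subgroup `Psub = Csub ∪ phi * Csub` of `GL_2(q)`, `q ≡ 3 (mod 4)`, satisfies `InvP`.
-/

set_option autoImplicit false

namespace Cfsg.Agent.Helper45.Pron

open Matrix Cfsg.Agent.Helper99.Pron

variable {F : Type*} [Field F]

theorem twoPow_of_mem_Psub {a : GL (Fin 2) F} (ha : a ∈ (Psub : Subgroup (GL (Fin 2) F))) :
    ∃ k : ℕ, a ^ (2 ^ k) = 1 := by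
  rcases ha with ha | ha
  · exact ha.2
  · have h1 : a * a ∈ (Csub : Subgroup (GL (Fin 2) F)) := by
      have h := Subgroup.mul_mem _ (phi_conj_mem_Csub ha) ha
      have e : phi * (phi * a) * phi⁻¹ * (phi * a) = a * a := by
        have h3 : phi * (phi * a) * phi⁻¹ * (phi * a) = (phi * phi) * a * (phi⁻¹ * phi) * a := by group
        rw [h3, phi_mul_phi, inv_mul_cancel, one_mul, mul_one]
      rwa [e] at h
    obtain ⟨k, hk⟩ := h1.2
    exact ⟨k + 1, by rw [pow_succ', pow_mul, pow_two, hk]⟩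

theorem comm_Psub (h2 : (2 : F) ≠ 0) (X : Matrix (Fin 2) (Fin 2) F)
    (hX : ∀ a ∈ (Psub : Subgroup (GL (Fin 2) F)),
      (a : Matrix (Fin 2) (Fin 2) F) * X = X * (a : Matrix (Fin 2) (Fin 2) F)) :
    ∃ l : F, X = l • 1 := by
  have hJ := hX J0 J0_mem_Psub
  rw [J0_val] at hJ
  obtain ⟨u, v, rfl⟩ := Cfsg.Agent.Helper53.Pron.exists_eM_of_comm_J0 X hJ
  have h := hX phi phi_mem_Psub
  rw [phi_val] at h
  have hv : v = 0 := Cfsg.Agent.Helper53.Pron.eq_zero_of_comm_phiM_mul h2 1 0 u v (by simp) (by rwa [eM_one_zero, mul_one])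
  exact ⟨u, by rw [hv, smul_one_eq_eM]⟩

theorem comm6_Psub [Fintype F] (h2 : (2 : F) ≠ 0) (X : Matrix (Fin 2) (Fin 2) F)
    (hX : ∀ a ∈ (Psub : Subgroup (GL (Fin 2) F)),
      (∃ e ∈ (Psub : Subgroup (GL (Fin 2) F)),
        (a : Matrix (Fin 2) (Fin 2) F).det = (e : Matrix (Fin 2) (Fin 2) F).det ^ 2) →
      (a : Matrix (Fin 2) (Fin 2) F) * X = X * (a : Matrix (Fin 2) (Fin 2) F)) :
    ∃ l : F, X = l • 1 := by
  have hJ := hX J0 J0_mem_Psub ⟨1, Subgroup.one_mem _, by rw [J0_val, det_eM]; simp⟩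
  rw [J0_val] at hJ
  obtain ⟨u, v, rfl⟩ := Cfsg.Agent.Helper53.Pron.exists_eM_of_comm_J0 X hJ
  obtain ⟨e0, he0, hdet⟩ := Cfsg.Agent.Helper34.Pron.exists_mem_Csub_det_neg_one (F := F)
  obtain ⟨a, b, hab⟩ := he0.1
  have h := hX (phi * e0) (phi_mul_mem_Psub he0) ⟨1, Subgroup.one_mem _, by
    rw [Units.val_mul, det_mul, phi_val, det_phiM, hdet]; simp⟩
  rw [Units.val_mul, phi_val, hab] at h
  have hN : a ^ 2 + b ^ 2 ≠ 0 := by
    rw [← det_eM, ← hab, hdet]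
    simp
  have hv := Cfsg.Agent.Helper53.Pron.eq_zero_of_comm_phiM_mul h2 a b u v hN h
  exact ⟨u, by rw [hv, smul_one_eq_eM]⟩

theorem conj_J0 [Fintype F] (h2 : (2 : F) ≠ 0) (hns : ¬ ∃ i : F, i * i = -1) (x : GL (Fin 2) F)
    (hx : x ∈ Subgroup.normalizer ((Psub : Subgroup (GL (Fin 2) F)) : Set (GL (Fin 2) F))) :
    x * J0 * x⁻¹ = J0 ∨ x * J0 * x⁻¹ = J0⁻¹ := by
  obtain ⟨w, hw⟩ := Cfsg.Agent.Helper66.Pron.exists_sq_eq_two_or_neg_two h2 hns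
  obtain ⟨u, c, hu, hc, hcC, hc4⟩ := Cfsg.Agent.Helper34.Pron.exists_c0 h2 w hw
  have hy : x * c * x⁻¹ ∈ (Psub : Subgroup (GL (Fin 2) F)) :=
    (Subgroup.mem_normalizer_iff.mp hx c).mp (Csub_le_Psub hcC)
  have hy4 : (x * c * x⁻¹) ^ 4 ≠ 1 := by
    intro h
    rw [conj_pow] at h
    apply hc4
    have e : c ^ 4 = x⁻¹ * (x * c ^ 4 * x⁻¹) * x := by group
    rw [e, h]
    group
  obtain ⟨a, b, hab⟩ := Cfsg.Agent.Helper97.Pron.mem_Esub_of_pow_four_ne hns hy hy4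
  have hval := Cfsg.Agent.Helper24.Pron.conj_J0_val x c u a b hu hc hab
  have hsq : eM (a / u - 1) (b / u) * eM (a / u - 1) (b / u) = -1 := by
    rw [← hval, ← Units.val_mul]
    have e : x * J0 * x⁻¹ * (x * J0 * x⁻¹) = x * (J0 * J0) * x⁻¹ := by group
    rw [e, Units.val_mul, Units.val_mul, Units.val_mul, J0_mul_J0_val, mul_neg, mul_one, neg_mul,
      Units.mul_inv]
  obtain ⟨hs, ht⟩ := Cfsg.Agent.Helper24.Pron.eM_sq_eq_neg_one h2 hns hsq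
  rcases ht with ht | ht
  · left
    apply Units.ext
    rw [hval, hs, ht, J0_val]
  · right
    apply Units.ext
    rw [hval, hs, ht, J0_inv_val]

theorem norm_of_mem_Esub [Fintype F] (h2 : (2 : F) ≠ 0) (e : GL (Fin 2) F)
    (he : e ∈ (Esub : Subgroup (GL (Fin 2) F)))
    (h : e * phi * e⁻¹ ∈ (Psub : Subgroup (GL (Fin 2) F))) :
    ∃ l : Fˣ, ∃ p ∈ (Psub : Subgroup (GL (Fin 2) F)), e = sc l * p := by
  have hebE : phi * e * phi⁻¹ ∈ (Esub : Subgroup (GL (Fin 2) F)) := phi_conj_mem_Esub he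
  have hdE : phi * e * phi⁻¹ * e⁻¹ ∈ (Esub : Subgroup (GL (Fin 2) F)) :=
    Subgroup.mul_mem _ hebE (Subgroup.inv_mem _ he)
  have hphid : phi * (phi * e * phi⁻¹ * e⁻¹) ∈ (Psub : Subgroup (GL (Fin 2) F)) := by
    have e1 : phi * (phi * e * phi⁻¹ * e⁻¹) = e * phi * e⁻¹ := by
      have e2 : phi * (phi * e * phi⁻¹ * e⁻¹) = (phi * phi) * e * phi⁻¹ * e⁻¹ := by group
      rw [e2, phi_mul_phi, one_mul, phi_inv]
    rw [e1]
    exact h
  have hdC : phi * e * phi⁻¹ * e⁻¹ ∈ (Csub : Subgroup (GL (Fin 2) F)) := by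
    rcases hphid with h1 | h1
    · exfalso
      apply Cfsg.Agent.Helper24.Pron.phi_not_mem_Esub (F := F) h2
      have e1 : (phi : GL (Fin 2) F) =
          (phi * (phi * e * phi⁻¹ * e⁻¹)) * (phi * e * phi⁻¹ * e⁻¹)⁻¹ := by group
      rw [e1]
      exact Subgroup.mul_mem _ h1.1 (Subgroup.inv_mem _ hdE)
    · have e1 : phi * (phi * (phi * e * phi⁻¹ * e⁻¹)) = phi * e * phi⁻¹ * e⁻¹ := by
        rw [← mul_assoc phi phi, phi_mul_phi, one_mul]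
      rwa [e1] at h1
  obtain ⟨s, t, o, a, ho, hst, hso, hta⟩ := Cfsg.Agent.Helper87.Pron.exists_odd_two_decomp e (isOfFinOrder_of_finite e)
  have hetC : e ^ t ∈ (Csub : Subgroup (GL (Fin 2) F)) := ⟨Subgroup.zpow_mem _ he t, a, hta⟩
  have hfE : e ^ s ∈ (Esub : Subgroup (GL (Fin 2) F)) := Subgroup.zpow_mem _ he s
  -- `z = phi (e^s) phi⁻¹ (e^s)⁻¹ = d ^ s`
  have hz : phi * e ^ s * phi⁻¹ * (e ^ s)⁻¹ = (phi * e * phi⁻¹ * e⁻¹) ^ s := by
    have hcomm : Commute (phi * e * phi⁻¹) e⁻¹ := Esub_comm hebE (Subgroup.inv_mem _ he)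
    rw [hcomm.mul_zpow, conj_zpow, _root_.inv_zpow]
  have hz2 : TwoPow (phi * e ^ s * phi⁻¹ * (e ^ s)⁻¹) := by
    rw [hz]
    exact hdC.2.zpow s
  have hzo : (phi * e ^ s * phi⁻¹ * (e ^ s)⁻¹) ^ o = 1 := by
    have hcomm : Commute (phi * e ^ s * phi⁻¹) (e ^ s)⁻¹ :=
      Esub_comm (phi_conj_mem_Esub hfE) (Subgroup.inv_mem _ hfE)
    rw [hcomm.mul_pow, conj_pow, inv_pow, hso, mul_one, mul_inv_cancel, inv_one, mul_one]
  obtain ⟨k, hk⟩ := hz2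
  have hz1 := Cfsg.Agent.Helper87.Pron.eq_one_of_pow_two_pow_of_odd _ k o ho hk hzo
  have hfix : phi * e ^ s * phi⁻¹ = e ^ s := by
    rw [mul_inv_eq_one] at hz1
    exact hz1
  obtain ⟨l, hl⟩ := Cfsg.Agent.Helper97.Pron.exists_sc_of_phi_conj_eq h2 (e ^ s) hfE hfix
  refine ⟨l, e ^ t, Csub_le_Psub hetC, ?_⟩
  rw [← hl]
  exact hst

theorem norm_Psub [Fintype F] (h2 : (2 : F) ≠ 0) (hns : ¬ ∃ i : F, i * i = -1) (x : GL (Fin 2) F)
    (hx : x ∈ Subgroup.normalizer ((Psub : Subgroup (GL (Fin 2) F)) : Set (GL (Fin 2) F))) :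
    ∃ l : Fˣ, ∃ p ∈ (Psub : Subgroup (GL (Fin 2) F)), x = sc l * p := by
  have key : ∀ y : GL (Fin 2) F,
      y ∈ Subgroup.normalizer ((Psub : Subgroup (GL (Fin 2) F)) : Set (GL (Fin 2) F)) →
      y * J0 * y⁻¹ = J0 → ∃ l : Fˣ, ∃ p ∈ (Psub : Subgroup (GL (Fin 2) F)), y = sc l * p := by
    intro y hy hyJ
    have hyE : y ∈ (Esub : Subgroup (GL (Fin 2) F)) := by
      have hc : J0 * y = y * J0 := by
        have e1 : J0 * y = (y * J0 * y⁻¹) * y := by rw [hyJ]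
        rw [e1]
        group
      have hc' := congrArg (fun g : GL (Fin 2) F => (g : Matrix (Fin 2) (Fin 2) F)) hc
      simp only [Units.val_mul, J0_val] at hc'
      obtain ⟨u, v, huv⟩ := Cfsg.Agent.Helper53.Pron.exists_eM_of_comm_J0 _ hc'
      exact ⟨u, v, huv⟩
    have hphi : y * phi * y⁻¹ ∈ (Psub : Subgroup (GL (Fin 2) F)) :=
      (Subgroup.mem_normalizer_iff.mp hy phi).mp phi_mem_Psub
    exact norm_of_mem_Esub h2 y hyE hphi
  rcases conj_J0 h2 hns x hx with h | h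
  · exact key x hx h
  · have hy : x * phi ∈ Subgroup.normalizer ((Psub : Subgroup (GL (Fin 2) F)) : Set (GL (Fin 2) F)) :=
      Subgroup.mul_mem _ hx (Subgroup.le_normalizer phi_mem_Psub)
    have hyJ : (x * phi) * J0 * (x * phi)⁻¹ = J0 := by
      have hpJ : phi * J0 * phi⁻¹ = (J0 : GL (Fin 2) F)⁻¹ :=
        Units.ext (by rw [phi_conj_val J0 0 1 J0_val, J0_inv_val])
      have e1 : (x * phi) * J0 * (x * phi)⁻¹ = x * (phi * J0 * phi⁻¹) * x⁻¹ := by group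
      have e2 : x * (J0 : GL (Fin 2) F)⁻¹ * x⁻¹ = (x * J0 * x⁻¹)⁻¹ := by group
      rw [e1, hpJ, e2, h, inv_inv]
    obtain ⟨l, p, hp, hlp⟩ := key (x * phi) hy hyJ
    refine ⟨l, p * phi⁻¹, Subgroup.mul_mem _ hp (Subgroup.inv_mem _ phi_mem_Psub), ?_⟩
    calc x = (x * phi) * phi⁻¹ := by group
      _ = sc l * (p * phi⁻¹) := by rw [hlp, mul_assoc]

/-- BLOCK BL3: the semidihedral Sylow `2`-subgroup of `GL_2(q)`, `q ≡ 3 (mod 4)` -/
theorem exists_SD_linear {F : Type*} [Field F] [Fintype F] (h2 : (2 : F) ≠ 0)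
    (hns : ¬ ∃ i : F, i * i = -1) :
    ∃ P : Subgroup (GL (Fin 2) F), InvP P ∧ ∀ l : Fˣ, (∃ k : ℕ, l ^ (2 ^ k) = 1) → sc l ∈ P := by
  refine ⟨Psub, ⟨⟨?_, ?_, ?_, ?_⟩, ?_, ?_⟩, ?_⟩
  · intro a ha
    exact twoPow_of_mem_Psub ha
  · exact comm_Psub h2
  · exact norm_Psub h2 hns
  · exact ⟨J0, J0_mem_Psub, J0_mul_J0_val⟩
  · exact comm6_Psub h2
  · refine ⟨J0, J0_mem_Psub, J0_mul_J0_val, ?_⟩
    rw [J0_val, det_eM]
    simp
  · intro l hl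
    exact Csub_le_Psub (sc_mem_Csub l hl)

end Cfsg.Agent.Helper45.Pron
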