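import Mathlib
import Cfsg.Agent.Helper71.PsuA.Defs
import Cfsg.Agent.S0281

/-!
helper45 for helper71 (S2089 block A `p'`-part, farm #15135): piece (LEQ) `exists_ptL_equiv` of
`tools/helper71_psua/Skel.lean.txt`, verbatim.

`ptL = (detGU.ker).map beta ≃* detGU.ker ≃* SU_2(q) ≃* SL_2(K)`, `K = GaloisField p k`, `q = p ^ k`.
-/

set_option autoImplicit false

namespace Cfsg.Agent.Helper45.PsuA

open scoped commutatorElement
open Matrix Cfsg.Agent.Helper43.PsuM Cfsg.Agent.Helper37.SU3Inv Cfsg.Agent.Helper71.PsuA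

universe u

section gen

variable {F : Type*} [Field F] {q : ℕ}

/-- `SU_2(q) → GU_2(q)` -/
noncomputable def leqHom : ↥(Cfsg.SU 2 F q) →* ↥(Cfsg.GU 2 F q) where
  toFun s := ⟨Matrix.SpecialLinearGroup.toGL s.1, s.2⟩
  map_one' := by
    apply Subtype.ext
    show Matrix.SpecialLinearGroup.toGL ((1 : ↥(Cfsg.SU 2 F q)) : Matrix.SpecialLinearGroup (Fin 2) F) = 1
    rw [Subgroup.coe_one, map_one]
  map_mul' a b := by
    apply Subtype.ext
    show Matrix.SpecialLinearGroup.toGL ((a * b : ↥(Cfsg.SU 2 F q)) : Matrix.SpecialLinearGroup (Fin 2) F) =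
      Matrix.SpecialLinearGroup.toGL a.1 * Matrix.SpecialLinearGroup.toGL b.1
    rw [Subgroup.coe_mul, map_mul]

theorem leqHom_val (s : ↥(Cfsg.SU 2 F q)) :
    (((leqHom s : ↥(Cfsg.GU 2 F q)) : GL (Fin 2) F) : Matrix (Fin 2) (Fin 2) F) = (s.1).1 := rfl

theorem leqHom_injective : Function.Injective (leqHom : ↥(Cfsg.SU 2 F q) →* ↥(Cfsg.GU 2 F q)) := by
  intro a b h
  have h1 := congrArg (fun x : ↥(Cfsg.GU 2 F q) => ((x : GL (Fin 2) F) : Matrix (Fin 2) (Fin 2) F)) h
  simp only [leqHom_val] at h1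
  exact Subtype.ext (Subtype.ext h1)

theorem leqHom_range : (leqHom : ↥(Cfsg.SU 2 F q) →* ↥(Cfsg.GU 2 F q)).range =
    (detGU (F := F) (q := q)).ker := by
  ext g
  rw [MonoidHom.mem_range, MonoidHom.mem_ker]
  constructor
  · rintro ⟨s, rfl⟩
    apply Units.ext
    show ((leqHom s : ↥(Cfsg.GU 2 F q)) : GL (Fin 2) F).1.det = 1
    rw [leqHom_val]
    exact (s.1).2
  · intro h
    have hdet : ((g : GL (Fin 2) F) : Matrix (Fin 2) (Fin 2) F).det = 1 := by
      have := congrArg Units.val h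
      exact this
    refine ⟨⟨⟨((g : GL (Fin 2) F) : Matrix (Fin 2) (Fin 2) F), hdet⟩, ?_⟩, ?_⟩
    · exact g.2
    · apply Subtype.ext
      apply Units.ext
      rfl

/-- `SU_2(q) ≃* ker (det : GU_2(q) → Fˣ)` -/
noncomputable def leqEquiv : ↥(Cfsg.SU 2 F q) ≃* ↥((detGU (F := F) (q := q)).ker) :=
  (MonoidHom.ofInjective leqHom_injective).trans (MulEquiv.subgroupCongr leqHom_range)

end gen

section concrete

variable {F : Type u} [Field F] [Fintype F] {q : ℕ} (hF : Fintype.card F = q ^ 2)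
  (bar : F →+* F) (hbar : ∀ x, bar x = x ^ q)

include hF

/-- (LEQ) -/
theorem exists_ptL_equiv (p : ℕ) [Fact p.Prime] [CharP F p] :
    ∃ (K : Type) (_ : Field K) (_ : Fintype K) (_ : CharP K p),
      Nonempty (↥(ptL bar hbar) ≃* Matrix.SpecialLinearGroup (Fin 2) K) := by
  have hp : p.Prime := Fact.out
  -- `q` is a power of `p`
  obtain ⟨n, hn⟩ : ∃ n : ℕ, Fintype.card F = p ^ n := by
    obtain ⟨n, hn⟩ := FiniteField.card F p
    exact ⟨n, hn.2⟩
  have hq2 : q ^ 2 = p ^ n := by rw [← hF, hn]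
  have hqd : q ∣ p ^ n := by rw [← hq2]; exact dvd_pow_self q (by norm_num)
  obtain ⟨k, -, hk⟩ := (Nat.dvd_prime_pow hp).1 hqd
  have hk0 : k ≠ 0 := by
    rintro rfl
    rw [pow_zero] at hk
    rw [hk, one_pow] at hF
    have := Fintype.one_lt_card (α := F)
    omega
  letI : Fintype (GaloisField p k) := Fintype.ofFinite _
  have hKcard : Fintype.card (GaloisField p k) = q := by
    rw [← Nat.card_eq_fintype_card, GaloisField.card p k hk0, hk]
  obtain ⟨e⟩ := Cfsg.Agent.S0281.result (F := F) (K := GaloisField p k) hF hKcard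
  refine ⟨GaloisField p k, inferInstance, inferInstance, inferInstance, ⟨?_⟩⟩
  have e1 : ↥(ptL bar hbar) ≃* ↥((detGU (F := F) (q := q)).ker) :=
    ((detGU (F := F) (q := q)).ker.equivMapOfInjective (beta bar hbar) (beta_injective bar hbar)).symm
  exact e1.trans (leqEquiv.symm.trans e)

end concrete

end Cfsg.Agent.Helper45.PsuA
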