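import Mathlib
import Cfsg.Agent.Helper71.PsuA.Defs
import Cfsg.Agent.Helper45.SUBasic

/-!
helper45 for helper71 (S2089 block A `p'`-part, farm #15135): piece (TORC) `card_monoP` of
`tools/helper71_psua/Skel.lean.txt`, verbatim.

`|torus| = (q + 1) ^ 2` (`dgHom` injective, `|nrm F q| = q + 1`), `cyc` normalises `torus`
(`cycM * dgM a b c = dgM c a b * cycM`), `cyc` has order `3` and `⟨cyc⟩ ⊓ torus = ⊥`.
-/

set_option autoImplicit false

namespace Cfsg.Agent.Helper45.PsuA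

open scoped commutatorElement
open Matrix Cfsg.Agent.Helper43.PsuM Cfsg.Agent.Helper37.SU3Inv Cfsg.Agent.Helper71.PsuA

universe u

section gen

variable {F : Type*} [Field F] {q : ℕ} (bar : F →+* F) (hbar : ∀ x, bar x = x ^ q)

theorem torc_cycM_mul_dgM (a b c : F) : cycM * dgM a b c = dgM c a b * cycM := by
  ext i j
  fin_cases i <;> fin_cases j <;> simp [cycM, dgM, Matrix.mul_apply, Fin.sum_univ_three]

theorem torc_cycM_cube : (cycM : Matrix (Fin 3) (Fin 3) F) * cycM * cycM = 1 := by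
  ext i j
  fin_cases i <;> fin_cases j <;> simp [cycM, Matrix.mul_apply, Fin.sum_univ_three]

theorem torc_cycM_sq_00 : (cycM * cycM : Matrix (Fin 3) (Fin 3) F) 0 0 = 0 := by
  simp [cycM, Matrix.mul_apply, Fin.sum_univ_three]

theorem torc_cyc_cube : cyc bar hbar ^ 3 = 1 := by
  rw [pow_succ, pow_two]
  exact SU_ext (by rw [SU_mul_val, SU_mul_val, cyc_val, torc_cycM_cube, SU_one_val])

theorem torc_cyc_ne_one : cyc bar hbar ≠ 1 := by
  intro h
  have h1 := congrArg (fun g : ↥(Cfsg.SU 3 F q) => (g.1).1 0 0) h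
  simp only [cyc_val, SU_one_val] at h1
  simp [cycM] at h1

theorem torc_orderOf_cyc : orderOf (cyc bar hbar) = 3 := by
  haveI : Fact (Nat.Prime 3) := ⟨by norm_num⟩
  exact orderOf_eq_prime (torc_cyc_cube bar hbar) (torc_cyc_ne_one bar hbar)

theorem torc_dgHom_injective : Function.Injective (dgHom bar hbar) := by
  intro x y h
  have h1 := congrArg (fun g : ↥(Cfsg.SU 3 F q) => (g.1).1) h
  simp only [dgHom_val] at h1
  have h00 := congrFun (congrFun h1 0) 0
  have h11 := congrFun (congrFun h1 1) 1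
  simp [dgM] at h00 h11
  exact Prod.ext (Subtype.ext (Units.ext h00)) (Subtype.ext (Units.ext h11))

/-- the entry `(0, 0)` of an element of the torus is not zero -/
theorem torc_torus_00 (t : ↥(Cfsg.SU 3 F q)) (ht : t ∈ torus bar hbar) : (t.1).1 0 0 ≠ 0 := by
  obtain ⟨x, rfl⟩ := ht
  rw [dgHom_val]
  simp [dgM]

/-- `cyc * diag(a, b, c) = diag(c, a, b) * cyc` in `SU_3(q)` -/
theorem torc_cyc_mul (x : ↥(nrm F q) × ↥(nrm F q)) :
    cyc bar hbar * dgHom bar hbar x = dgHom bar hbar ((x.1 * x.2)⁻¹, x.1) * cyc bar hbar := by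
  apply SU_ext
  rw [SU_mul_val, SU_mul_val, cyc_val, dgHom_val, dgHom_val, torc_cycM_mul_dgM]
  congr 2
  simp only [Subgroup.coe_inv, Subgroup.coe_mul]
  congr 1
  group

theorem torc_conj_mem (t : ↥(Cfsg.SU 3 F q)) (ht : t ∈ torus bar hbar) :
    cyc bar hbar * t * (cyc bar hbar)⁻¹ ∈ torus bar hbar := by
  obtain ⟨x, rfl⟩ := ht
  rw [torc_cyc_mul, mul_inv_cancel_right]
  exact ⟨_, rfl⟩

theorem torc_conj_mem' (t : ↥(Cfsg.SU 3 F q)) (ht : t ∈ torus bar hbar) :
    (cyc bar hbar)⁻¹ * t * cyc bar hbar ∈ torus bar hbar := by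
  obtain ⟨x, rfl⟩ := ht
  have h := torc_cyc_mul bar hbar (x.2, (x.1 * x.2)⁻¹)
  have e : ((x.2 * (x.1 * x.2)⁻¹)⁻¹, x.2) = x := by
    apply Prod.ext
    · show (x.2 * (x.1 * x.2)⁻¹)⁻¹ = x.1
      group
    · rfl
  rw [e] at h
  rw [mul_assoc, ← h, inv_mul_cancel_left]
  exact ⟨_, rfl⟩

theorem torc_le_normalizer :
    Subgroup.zpowers (cyc bar hbar) ≤ Subgroup.normalizer (torus bar hbar : Set ↥(Cfsg.SU 3 F q)) := by
  rw [Subgroup.zpowers_le, Subgroup.mem_normalizer_iff]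
  intro t
  constructor
  · exact torc_conj_mem bar hbar t
  · intro h
    have h2 := torc_conj_mem' bar hbar _ h
    have e : (cyc bar hbar)⁻¹ * (cyc bar hbar * t * (cyc bar hbar)⁻¹) * cyc bar hbar = t := by group
    rw [e] at h2
    exact h2

theorem torc_disjoint : Disjoint (torus bar hbar) (Subgroup.zpowers (cyc bar hbar)) := by
  rw [Subgroup.disjoint_def]
  intro g hgT hgC
  obtain ⟨z, rfl⟩ := Subgroup.mem_zpowers_iff.mp hgC
  have h3 : cyc bar hbar ^ z = cyc bar hbar ^ (z % 3) := by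
    have := zpow_mod_orderOf (cyc bar hbar) z
    rw [torc_orderOf_cyc] at this
    exact this.symm
  have hz0 : 0 ≤ z % 3 := Int.emod_nonneg z (by norm_num)
  have hz3 : z % 3 < 3 := Int.emod_lt_of_pos z (by norm_num)
  have h00 := torc_torus_00 bar hbar _ hgT
  rw [h3] at h00 ⊢
  obtain h | h | h : z % 3 = 0 ∨ z % 3 = 1 ∨ z % 3 = 2 := by omega
  · rw [h, zpow_zero]
  · exfalso
    rw [h, zpow_one, cyc_val] at h00
    simp [cycM] at h00
  · exfalso
    rw [h, show (2 : ℤ) = ((2 : ℕ) : ℤ) from rfl, zpow_natCast, pow_two, SU_mul_val, cyc_val] at h00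
    exact h00 torc_cycM_sq_00

end gen

section concrete

variable {F : Type u} [Field F] [Fintype F] {q : ℕ} (hF : Fintype.card F = q ^ 2)
  (bar : F →+* F) (hbar : ∀ x, bar x = x ^ q)

include hF

/-- (TORC) -/
theorem card_monoP : Nat.card (monoP bar hbar) = 3 * (q + 1) ^ 2 := by
  have hnrm : Nat.card ↥(nrm F q) = q + 1 := Cfsg.Agent.Helper45.GU.card_U1 hF
  have hT : Nat.card ↥(torus bar hbar) = (q + 1) ^ 2 := by
    have e := MonoidHom.ofInjective (torc_dgHom_injective bar hbar)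
    have h1 : Nat.card ↥(torus bar hbar) = Nat.card (↥(nrm F q) × ↥(nrm F q)) :=
      (Nat.card_congr e.toEquiv).symm
    rw [h1, Nat.card_prod, hnrm, pow_two]
  have hC : Nat.card ↥(Subgroup.zpowers (cyc bar hbar)) = 3 := by
    rw [Nat.card_zpowers, torc_orderOf_cyc]
  -- the product map
  let f : ↥(torus bar hbar) × ↥(Subgroup.zpowers (cyc bar hbar)) → ↥(monoP bar hbar) := fun x =>
    ⟨(x.1 : ↥(Cfsg.SU 3 F q)) * (x.2 : ↥(Cfsg.SU 3 F q)),
      Subgroup.mul_mem _ (le_sup_left (a := torus bar hbar) x.1.2)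
        (le_sup_right (b := Subgroup.zpowers (cyc bar hbar)) x.2.2)⟩
  have hinj : Function.Injective f := by
    intro x y h
    have h1 : (x.1 : ↥(Cfsg.SU 3 F q)) * (x.2 : ↥(Cfsg.SU 3 F q)) =
        (y.1 : ↥(Cfsg.SU 3 F q)) * (y.2 : ↥(Cfsg.SU 3 F q)) := congrArg Subtype.val h
    exact Subgroup.mul_injective_of_disjoint (torc_disjoint bar hbar) h1
  have hsurj : Function.Surjective f := by
    intro g
    have hg : (g : ↥(Cfsg.SU 3 F q)) ∈
        ((torus bar hbar ⊔ Subgroup.zpowers (cyc bar hbar) : Subgroup ↥(Cfsg.SU 3 F q)) :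
          Set ↥(Cfsg.SU 3 F q)) := g.2
    rw [Subgroup.coe_mul_of_right_le_normalizer_left _ _ (torc_le_normalizer bar hbar)] at hg
    obtain ⟨t, ht, c, hc, htc⟩ := Set.mem_mul.mp hg
    exact ⟨(⟨t, ht⟩, ⟨c, hc⟩), Subtype.ext htc⟩
  have h2 := Nat.card_congr (Equiv.ofBijective f ⟨hinj, hsurj⟩)
  rw [Nat.card_prod, hT, hC] at h2
  rw [← h2, mul_comm]

end concrete

end Cfsg.Agent.Helper45.PsuA
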