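import Mathlib
import Cfsg.Agent.Helper13.QFEDefs
import Cfsg.Agent.Helper44.QTypeCount
import Cfsg.Agent.Helper94.SubW3
import Cfsg.Agent.Helper45.SiegelGeom

/-!
# (SIEGEL) a Siegel transformation in `Ω(Q)`: a `p`-element with `rank (x - 1) = 2`

Piece (SIEGEL) of helper13's skeleton for S5977/S5978.
-/

set_option autoImplicit false
set_option linter.unusedSectionVars false
set_option linter.unusedVariables false

namespace Cfsg.Agent.Helper45.QFESIEGEL

open Matrix Cfsg Cfsg.Geo QuadraticMap Module
open Cfsg.Agent.Helper94 Cfsg.Agent.Helper94.ORoot Cfsg.Agent.Helper94.SubW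
open Cfsg.Agent.Helper45.OmegaParity

universe u

variable {F : Type u} [Field F] {ι : Type} [Fintype ι] [DecidableEq ι]

/-- a non-degenerate `QuadraticForm` is non-degenerate in the sense of the prelude -/
theorem geo_of_nondeg (Q : QuadraticForm F (ι → F)) (hQ : (polarBilin Q).Nondegenerate) :
    IsNondegenerateQuadraticForm ⇑Q := by
  refine ⟨fun c v => ?_, ⟨?_, ?_, ?_, ?_⟩, fun v hv => ⟨?_, ?_⟩⟩
  · rw [QuadraticMap.map_smul, smul_eq_mul, pow_two]
  · intro x y v; exact QuadraticMap.polar_add_left Q x y v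
  · intro c x v; rw [QuadraticMap.polar_smul_left, smul_eq_mul]
  · intro v x y; exact QuadraticMap.polar_add_right Q v x y
  · intro c v x; rw [QuadraticMap.polar_smul_right, smul_eq_mul]
  · by_contra hcon
    push Not at hcon
    refine hv (hQ.2 v fun x => ?_)
    rw [QuadraticMap.polarBilin_apply_apply]
    exact hcon x
  · by_contra hcon
    push Not at hcon
    refine hv (hQ.1 v fun x => ?_)
    rw [QuadraticMap.polarBilin_apply_apply]
    exact hcon x


/-- an orthogonal pair of independent singular vectors, with witnesses for the rank computation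
(odd characteristic, dimension at least `5`) -/
theorem exists_singular_pair [Fintype F] (h2 : (2 : F) ≠ 0) (Q : QuadraticForm F (ι → F))
    (hQ : (polarBilin Q).Nondegenerate) (hn : 5 ≤ Fintype.card ι) :
    ∃ w v w' a : ι → F, SP ⇑Q w v ∧ polar ⇑Q w w' = 1 ∧ polar ⇑Q v w' = 0 ∧
      polar ⇑Q w a = 0 ∧ polar ⇑Q v a ≠ 0 := by
  -- a non-singular vector
  obtain ⟨a, ha⟩ : ∃ a : ι → F, Q a ≠ 0 := by
    by_contra hcon
    push Not at hcon
    have hne : Nonempty ι := by
      rw [← Fintype.card_pos_iff]; omega
    obtain ⟨i⟩ := hne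
    have h1 : (Pi.single i (1 : F) : ι → F) ≠ 0 := by
      intro h0
      have := congrFun h0 i
      simp at this
    refine h1 (hQ.1 _ fun x => ?_)
    rw [QuadraticMap.polarBilin_apply_apply, QuadraticMap.polar, hcon, hcon, hcon]
    simp
  obtain ⟨w, hw0, hw, haw⟩ := exists_singular_orth Q h2 hQ (by omega) a ha
  obtain ⟨w', hw', hww', haw'⟩ := exists_hyp_partner_orth Q h2 hQ a w ha hw0 hw haw
  obtain ⟨y, hyX, hy⟩ := exists_orth_Q_eq Q h2 hQ (Submodule.span F {a, w, w'})
    (nondeg_span_three Q h2 a w w' ha hw hw' hww' haw haw')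
    (by have := finrank_span_three_le (F := F) a w w'; omega) (-(Q a))
  have hay : polar ⇑Q a y = 0 := hyX a (Submodule.subset_span (by simp))
  have hwy : polar ⇑Q w y = 0 := hyX w (Submodule.subset_span (by simp))
  have hw'y : polar ⇑Q w' y = 0 := hyX w' (Submodule.subset_span (by simp))
  have hwa : polar ⇑Q w a = 0 := by rw [QuadraticMap.polar_comm]; exact haw
  refine ⟨w, a + y, w', a, ⟨hw, ?_, ?_⟩, hww', ?_, hwa, ?_⟩
  · rw [QuadraticMap.map_add ⇑Q, hy, hay]; ring
  · rw [QuadraticMap.polar_add_right, hwa, hwy, add_zero]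
  · have hyw' : polar ⇑Q y w' = 0 := by rw [QuadraticMap.polar_comm]; exact hw'y
    rw [QuadraticMap.polar_add_left, haw', hyw', add_zero]
  · rw [QuadraticMap.polar_add_left, polar_self', QuadraticMap.polar_comm ⇑Q y a, hay, add_zero]
    exact mul_ne_zero h2 ha


theorem two_ne_zero_of_odd [Fintype F] (hF : Odd (Fintype.card F)) : (2 : F) ≠ 0 := by
  intro h2
  have hchar : ringChar F = 2 := by
    have hdvd : ringChar F ∣ 2 := (ringChar.spec F 2).1 (by exact_mod_cast h2)
    have hp : (ringChar F).Prime := CharP.char_is_prime F (ringChar F)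
    rcases (Nat.dvd_prime Nat.prime_two).1 hdvd with h | h
    · exact absurd h hp.ne_one
    · exact h
  have := FiniteField.even_card_of_char_two hchar
  have h3 := Nat.odd_iff.1 hF
  omega

/-- powers of a parametrised Siegel element -/
theorem tg_pow {Q : (ι → F) → F} (hQ : IsNondegenerateQuadraticForm Q) {p r : ι → F}
    (h : SP Q p r) (k : ℕ) : (tg hQ p r 1) ^ k = tg hQ p r (k : F) := by
  induction k with
  | zero => rw [pow_zero, Nat.cast_zero, tg_zero hQ h]
  | succ k ih => rw [pow_succ, ih, tg_mul hQ h, Nat.cast_succ]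

/-- (SIEGEL) -/
theorem exists_siegel [Fintype F] {p : ℕ} [Fact p.Prime] [CharP F p] (hodd : Odd (Fintype.card F))
    (Q : QuadraticForm F (ι → F)) (hQ : (polarBilin Q).Nondegenerate) {d : ℕ}
    (hι : Fintype.card ι = 2 * d) (hd : 3 ≤ d) {ε : ℤ} (hε : ε = 1 ∨ ε = -1)
    (hT : Cfsg.Agent.Helper44.QType.HasType (⇑Q) d ε) :
    ∃ x : GL ι F, x ∈ omegaGL ⇑Q ∧ x ^ p = 1 ∧ ((x : Matrix ι ι F) - 1).rank = 2 := by
  have h2 : (2 : F) ≠ 0 := two_ne_zero_of_odd hodd
  have hn : 5 ≤ Fintype.card ι := by omega
  have hQg : IsNondegenerateQuadraticForm ⇑Q := geo_of_nondeg Q hQ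
  obtain ⟨w, v, w', a, hsp, hww', hvw', hwa, hva⟩ := exists_singular_pair h2 Q hQ hn
  set g : ↥(isometryGroup F ⇑Q) := sg hQg w v with hg
  have hg1 : g = tg hQg w v 1 := by rw [hg]; unfold tg; rw [one_smul]
  refine ⟨(g : GL ι F), (mem_omegaGL_iff Q g).2 (sg_mem_Omega Q hQg hn w v), ?_, ?_⟩
  · rw [← Subgroup.coe_pow, hg1, tg_pow hQg hsp, CharP.cast_eq_zero, tg_zero hQg hsp,
      Subgroup.coe_one]
  · -- the rank
    have hact : ∀ z : ι → F, (((g : GL ι F) : Matrix ι ι F) - 1) *ᵥ z
        = polar ⇑Q w z • v - polar ⇑Q v z • w := by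
      intro z
      rw [Matrix.sub_mulVec, one_mulVec]
      have := act_sg hQg hsp z
      unfold act at this
      rw [← hg] at this
      rw [this]
      abel
    have hrange : LinearMap.range (((g : GL ι F) : Matrix ι ι F) - 1).mulVecLin
        = Submodule.span F {w, v} := by
      apply le_antisymm
      · rintro _ ⟨z, rfl⟩
        rw [Matrix.mulVecLin_apply, hact]
        exact Submodule.sub_mem _
          (Submodule.smul_mem _ _ (Submodule.subset_span (by simp)))
          (Submodule.smul_mem _ _ (Submodule.subset_span (by simp)))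
      · rw [Submodule.span_le]
        rintro y hy
        rcases hy with rfl | rfl
        · -- `w` is the image of a multiple of `a`
          refine ⟨(-(polar ⇑Q v a)⁻¹) • a, ?_⟩
          rw [Matrix.mulVecLin_apply, hact, QuadraticMap.polar_smul_right,
            QuadraticMap.polar_smul_right, hwa, smul_zero, zero_smul, zero_sub, smul_eq_mul,
            ← neg_smul, neg_mul, neg_neg, inv_mul_cancel₀ hva, one_smul]
        · refine ⟨w', ?_⟩
          rw [Matrix.mulVecLin_apply, hact, hww', hvw', one_smul, zero_smul, sub_zero]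
    have hli : LinearIndependent F ![w, v] := by
      rw [LinearIndependent.pair_iff]
      intro s t hst
      have h1 := congrArg (fun y => polar ⇑Q y w') hst
      simp only [QuadraticMap.polar_add_left, QuadraticMap.polar_smul_left, hww', hvw',
        smul_eq_mul, mul_one, mul_zero, add_zero] at h1
      have h1' : s = 0 := by
        simpa [QuadraticMap.polar] using h1
      subst h1'
      rw [zero_smul, zero_add] at hst
      have h3 := congrArg (fun y => polar ⇑Q y a) hst
      simp only [QuadraticMap.polar_smul_left, smul_eq_mul] at h3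
      have h3' : t * polar ⇑Q v a = 0 := by
        simpa [QuadraticMap.polar] using h3
      rcases mul_eq_zero.1 h3' with h | h
      · exact ⟨rfl, h⟩
      · exact absurd h hva
    unfold Matrix.rank
    rw [hrange]
    have h4 : ({w, v} : Set (ι → F)) = Set.range ![w, v] := by
      ext y
      simp only [Set.mem_insert_iff, Set.mem_singleton_iff, Matrix.range_cons, Matrix.range_empty,
        Set.union_empty, Set.union_singleton]
      tauto
    rw [h4, finrank_span_eq_card hli]
    simp

end Cfsg.Agent.Helper45.QFESIEGEL
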