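import Mathlib
import Cfsg.Agent.Helper99.QSpDefs
import Cfsg.Agent.Helper94.TnJ
import Cfsg.Agent.Helper44.OrthRealizeE
import Cfsg.Agent.Helper44.OrthPrimeArith

/-! Piece (QB2) of helper99's S5974 (WANTED #5815): a fixed point free isometry of odd prime order `r` determines
the type of a nondegenerate invariant subspace modulo `r`; `j` blocks have type `bsign i j`.  (helper45) -/

set_option autoImplicit false
set_option linter.unusedSectionVars false

namespace Cfsg.Agent.Helper45.QSp

open Module Polynomial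
open Cfsg.Agent.Helper59.InvChain Cfsg.Agent.Helper59.Elusive
open Cfsg.Agent.Helper99.SpStruct Cfsg.Agent.Helper99.RDecomp
open Cfsg.Agent.Helper44 Cfsg.Agent.Helper44.QType
open Cfsg.Agent.Helper99.QSp

universe u v

variable {F : Type u} [Field F] [Fintype F]
variable {V : Type v} [AddCommGroup V] [Module F V] [FiniteDimensional F V]
variable {Q : QuadraticForm F V} {r : ℕ} {y : Module.End F V}

/-- (QB2) a fixed point free isometry of order `r` determines the type modulo `r` -/
theorem qType_cyc (h : QSetup Q r y) (hrq : ¬ r ∣ Fintype.card F) {W : Submodule F V}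
    (hWinv : Inv y W) (hW : Nd (pB Q) W) (hWc : W ≤ cycSp r y) {e : ℕ}
    (hdim : finrank F ↥W = 2 * e) {ε : ℤ} (hε : QType Q W e ε) :
    ((Fintype.card F : ℕ) : ZMod r) ^ e = ((ε : ℤ) : ZMod r) := by
  haveI : Fact r.Prime := ⟨h.setup.prime⟩
  let T : ↥W → ↥W := fun v => ⟨y v.1, hWinv.apply_mem v.2⟩
  have hiter : ∀ (n : ℕ) (v : ↥W), ((T^[n] v : ↥W) : V) = (y ^ n) v.1 := by
    intro n
    induction n with
    | zero => intro v; rfl
    | succ n ih =>
      intro v
      rw [Function.iterate_succ_apply', pow_succ', Module.End.mul_apply]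
      show y ((T^[n] v : ↥W) : V) = _
      rw [ih]
  have key := pow_eq_of_fpf (qSub Q W) hdim (qSub_nd Q hW) hε r
    (by rw [Nat.card_eq_fintype_card]; exact hrq) T
    (fun v => by
      rw [qSub_apply, qSub_apply]
      exact h.iso v.1)
    (fun v => by
      apply Subtype.ext
      rw [hiter, h.setup.pow_eq]
      rfl)
    (fun v hv => by
      apply Subtype.ext
      have h1 : y v.1 = v.1 := congrArg Subtype.val hv
      have h3 : v.1 ∈ fixSp y ⊓ cycSp r y := ⟨mem_fixSp.mpr h1, hWc v.2⟩
      rw [disjoint_fix_cyc r h.setup.ne_zero y, Submodule.mem_bot] at h3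
      exact h3)
  rw [Nat.card_eq_fintype_card] at key
  exact key

/-- (QB2) `j` blocks have type `bsign i j` -/
theorem qType_blocks (h : QSetup Q r y) (hrq : ¬ r ∣ Fintype.card F) {W : Submodule F V}
    (hWinv : Inv y W) (hW : Nd (pB Q) W) (hWc : W ≤ cycSp r y) {j e : ℕ}
    (hdim : finrank F ↥W = j * blockSize (orderOf ((Fintype.card F : ℕ) : ZMod r)))
    (hdim2 : finrank F ↥W = 2 * e) :
    QType Q W e (bsign (orderOf ((Fintype.card F : ℕ) : ZMod r)) j) := by
  haveI : Fact r.Prime := ⟨h.setup.prime⟩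
  have hr2 : r ≠ 2 := by
    intro h2
    obtain ⟨m, hm⟩ := h.odd
    omega
  obtain ⟨ε, hε12, hty⟩ := exists_qType Q hW hdim2
  have h1 := qType_cyc h hrq hWinv hW hWc hdim2 hty
  obtain ⟨i, hi⟩ : ∃ i, i = orderOf ((Fintype.card F : ℕ) : ZMod r) := ⟨_, rfl⟩
  rw [← hi] at hdim ⊢
  have hq0 : ((Fintype.card F : ℕ) : ZMod r) ≠ 0 := by
    rw [Ne, ZMod.natCast_eq_zero_iff]
    exact hrq
  have hipos : 0 < i := by
    rw [hi]
    apply orderOf_pos_iff.2
    rw [isOfFinOrder_iff_pow_eq_one]
    exact ⟨r - 1, Nat.sub_pos_of_lt h.setup.prime.one_lt, ZMod.pow_card_sub_one_eq_one hq0⟩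
  have hcast : ((ε : ℤ) : ZMod r) = ((bsign i j : ℤ) : ZMod r) := by
    rw [← h1]
    by_cases hie : Even i
    · obtain ⟨i', hi'⟩ := hie
      have hi'' : i = 2 * i' := by omega
      rw [blockSize_even ⟨i', hi'⟩] at hdim
      have he : e = j * i' := by
        have : 2 * e = j * (2 * i') := by rw [← hdim2, hdim, hi'']
        have h3 : 2 * e = 2 * (j * i') := by rw [this]; ring
        omega
      have hhalf := pow_half_eq_neg_one ((Fintype.card F : ℕ) : ZMod r) i' (by omega) (by rw [← hi, hi''])
      rw [he, mul_comm, pow_mul, hhalf]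
      unfold bsign
      rw [if_pos ⟨i', hi'⟩]
      push_cast
      rfl
    · rw [blockSize_odd hie] at hdim
      have he : e = j * i := by
        have : 2 * e = j * (2 * i) := by rw [← hdim2, hdim]
        have h3 : 2 * e = 2 * (j * i) := by rw [this]; ring
        omega
      rw [he, mul_comm, pow_mul, hi, pow_orderOf_eq_one, one_pow]
      unfold bsign
      rw [← hi, if_neg hie]
      push_cast
      rfl
  have := sign_eq_of_cast_eq h.setup.prime hr2 hε12 (bsign_eq i j) hcast
  rw [← this]
  exact hty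

end Cfsg.Agent.Helper45.QSp
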