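import Mathlib
import Cfsg.Prelude.Def_LieClassical
import Cfsg.Agent.Helper45.SUTransv2
import Cfsg.Agent.S0755

set_option autoImplicit false
open Matrix

/-!
# Involutions of unitary groups in characteristic two
-/

namespace Cfsg.Agent.Helper45.GU

section Invol
variable {F : Type*} [Field F] {n : ℕ} (bar : F →+* F)

theorem herm_zero_right (x : Fin n → F) : herm bar x 0 = 0 := by
  simp [herm]

/-- normal form of a unitary involution in characteristic two -/
theorem invol_normal_form [Finite F] (h2 : (2 : F) = 0) (hne : bar ≠ RingHom.id F)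
    (hinv : ∀ a, bar (bar a) = a) (A : Matrix (Fin n) (Fin n) F)
    (hA : ∀ x y, herm bar (A *ᵥ x) (A *ᵥ y) = herm bar x y) (hA2 : A * A = 1) :
    ∃ w : Fin (A - 1).rank → (Fin n → F),
      (∀ c : Fin (A - 1).rank → F, ∑ i, c i • w i = 0 → c = 0) ∧
      (∀ i j, herm bar (w i) (w j) = 0) ∧
      ∀ x, A *ᵥ x = x + ∑ i, herm bar x (w i) • w i := by
  have hvv : ∀ y : Fin n → F, y + y = 0 := by
    intro y
    rw [← two_smul F y, h2, zero_smul]
  have hneg : ∀ a : F, -a = a := by
    intro a
    linear_combination (-a) * h2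
  set N : Matrix (Fin n) (Fin n) F := A - 1 with hN
  have hNx : ∀ x, N *ᵥ x = A *ᵥ x - x := by
    intro x
    rw [hN, sub_mulVec, one_mulVec]
  have hAx : ∀ x, A *ᵥ x = x + N *ᵥ x := by
    intro x
    rw [hNx]; abel
  have hNN : ∀ x, N *ᵥ (N *ᵥ x) = 0 := by
    intro x
    rw [hNx, hNx, mulVec_sub, mulVec_mulVec, hA2, one_mulVec]
    have := hvv (A *ᵥ x)
    have h3 := hvv x
    calc x - A *ᵥ x - (A *ᵥ x - x) = (x + x) - (A *ᵥ x + A *ᵥ x) := by abel
      _ = 0 := by rw [this, h3, sub_zero]
  -- unitarity expanded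
  have hexp : ∀ x y, herm bar (N *ᵥ x) y + herm bar x (N *ᵥ y)
      + herm bar (N *ᵥ x) (N *ᵥ y) = 0 := by
    intro x y
    have := hA x y
    rw [hAx, hAx, herm_add_left, herm_add_right, herm_add_right] at this
    linear_combination this
  have hti : ∀ x y, herm bar (N *ᵥ x) (N *ᵥ y) = 0 := by
    intro x y
    have := hexp x (N *ᵥ y)
    rw [hNN, herm_zero_right, herm_zero_right, add_zero, add_zero] at this
    exact this
  have hsa : ∀ x y, herm bar (N *ᵥ x) y = herm bar x (N *ᵥ y) := by
    intro x y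
    have := hexp x y
    rw [hti, add_zero] at this
    rw [← hneg (herm bar x (N *ᵥ y))]
    linear_combination this
  -- the linear map and a complement of its kernel
  set Nl : (Fin n → F) →ₗ[F] (Fin n → F) := N.mulVecLin with hNl
  have hNl_apply : ∀ x, Nl x = N *ᵥ x := fun x => rfl
  obtain ⟨C, hC⟩ := Submodule.exists_isCompl (LinearMap.ker Nl)
  -- the induced Hermitian form
  set Bγ : (Fin n → F) →ₛₗ[bar] (Fin n → F) →ₗ[F] F := (Bform n bar).compl₂ Nl with hBγ
  have hBγ_apply : ∀ x y, Bγ x y = herm bar (N *ᵥ y) x := fun x y => rfl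
  set BC : C →ₛₗ[bar] C →ₗ[F] F := Bγ.domRestrict₁₂ C C with hBC
  have hBC_apply : ∀ x y : C, BC x y = herm bar (N *ᵥ (y : Fin n → F)) (x : Fin n → F) :=
    fun x y => rfl
  have hBCsymm : BC.IsSymm := by
    constructor
    intro x y
    rw [hBC_apply, hBC_apply]
    show bar (herm bar _ _) = _
    rw [herm_conj bar hinv, ← hsa]
  -- nondegeneracy on `C`
  have hsep : ∀ x : C, (∀ y : C, herm bar (N *ᵥ (x : Fin n → F)) (y : Fin n → F) = 0) →
      x = 0 := by
    intro x hx
    have hall : ∀ y : Fin n → F, herm bar (N *ᵥ (x : Fin n → F)) y = 0 := by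
      intro y
      have hy : y ∈ LinearMap.ker Nl ⊔ C := by rw [hC.sup_eq_top]; trivial
      obtain ⟨k, hk, c, hc, rfl⟩ := Submodule.mem_sup.mp hy
      rw [herm_add_right, hx ⟨c, hc⟩, add_zero, hsa]
      rw [LinearMap.mem_ker, hNl_apply] at hk
      rw [hk, herm_zero_right]
    have hNx0 : N *ᵥ (x : Fin n → F) = 0 := by
      by_contra hne0
      obtain ⟨y, hy⟩ := exists_herm_ne_zero bar _ hne0
      apply hy
      rw [← herm_conj bar hinv, hall, map_zero]
    have hxk : (x : Fin n → F) ∈ LinearMap.ker Nl ⊓ C := by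
      refine Submodule.mem_inf.mpr ⟨?_, x.2⟩
      rw [LinearMap.mem_ker, hNl_apply]; exact hNx0
    rw [hC.inf_eq_bot, Submodule.mem_bot] at hxk
    exact Subtype.ext hxk
  have hBCnd : BC.Nondegenerate := by
    constructor
    · intro x hx
      apply hsep x
      intro y
      have := hx y
      rw [hBC_apply] at this
      rw [hsa, ← herm_conj bar hinv, this, map_zero]
    · intro y hy
      apply hsep y
      intro x
      have := hy x
      rw [hBC_apply] at this
      exact this
  obtain ⟨b0, hb0⟩ := Cfsg.Agent.S0755.result bar hne hinv BC hBCsymm hBCnd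
  -- the rank
  have hrank : Module.finrank F C = (A - 1).rank := by
    have h1 := LinearMap.finrank_range_add_finrank_ker Nl
    have h3 := Submodule.finrank_add_eq_of_isCompl hC
    have h4 : (A - 1).rank = Module.finrank F (LinearMap.range Nl) := rfl
    omega
  set b : Module.Basis (Fin (A - 1).rank) F C := b0.reindex (finCongr hrank) with hb
  have hbb : ∀ i j, herm bar (N *ᵥ ((b j : C) : Fin n → F)) ((b i : C) : Fin n → F)
      = if i = j then 1 else 0 := by
    intro i j
    have := hb0 ((finCongr hrank).symm i) ((finCongr hrank).symm j)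
    rw [hBC_apply] at this
    simp only [hb, Module.Basis.reindex_apply]
    rw [this]
    simp
  refine ⟨fun i => N *ᵥ ((b i : C) : Fin n → F), ?_, ?_, ?_⟩
  · intro c hc
    have h1 : N *ᵥ (∑ i, c i • ((b i : C) : Fin n → F)) = 0 := by
      rw [← hNl_apply, map_sum, ← hc]
      apply Finset.sum_congr rfl
      intro i _
      rw [map_smul, hNl_apply]
    have hmem : (∑ i, c i • ((b i : C) : Fin n → F)) ∈ LinearMap.ker Nl ⊓ C := by
      refine Submodule.mem_inf.mpr ⟨?_, Submodule.sum_mem _ (fun i _ => C.smul_mem _ (b i).2)⟩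
      rw [LinearMap.mem_ker, hNl_apply]; exact h1
    rw [hC.inf_eq_bot, Submodule.mem_bot] at hmem
    have h5 : ∑ i, c i • b i = 0 := by
      apply Subtype.ext
      rw [Submodule.coe_sum]
      simpa using hmem
    have := Fintype.linearIndependent_iff.mp b.linearIndependent c h5
    exact funext this
  · intro i j
    exact hti _ _
  · intro x
    rw [hAx]
    congr 1
    have hx : x ∈ LinearMap.ker Nl ⊔ C := by rw [hC.sup_eq_top]; trivial
    obtain ⟨k, hk, c, hc, rfl⟩ := Submodule.mem_sup.mp hx
    rw [LinearMap.mem_ker, hNl_apply] at hk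
    have hcrepr : c = ∑ i, (b.repr ⟨c, hc⟩ i) • ((b i : C) : Fin n → F) := by
      have := b.sum_repr ⟨c, hc⟩
      have h6 := congrArg (Subtype.val) this
      rw [Submodule.coe_sum] at h6
      simpa using h6.symm
    set cc := b.repr ⟨c, hc⟩ with hcc
    have hNc : N *ᵥ c = ∑ i, cc i • N *ᵥ ((b i : C) : Fin n → F) := by
      conv_lhs => rw [hcrepr]
      rw [← hNl_apply, map_sum]
      apply Finset.sum_congr rfl
      intro i _
      rw [map_smul, hNl_apply]
    have hcoef : ∀ j, herm bar (k + c) (N *ᵥ ((b j : C) : Fin n → F)) = cc j := by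
      intro j
      rw [← hsa, mulVec_add, hk, zero_add, hNc, herm_sum_left]
      simp only [herm_smul_left, hbb]
      simp
    rw [mulVec_add, hk, zero_add, hNc]
    apply Finset.sum_congr rfl
    intro j _
    rw [hcoef]

end Invol

section Std
variable {F : Type*} [Field F] (bar : F →+* F)

/-- the standard isotropic vectors `e_{2i} + e_{2i+1}` (characteristic two) -/
def stdVec (n k : ℕ) (i : Fin k) : Fin n → F :=
  fun l => if l.val = 2 * i.val ∨ l.val = 2 * i.val + 1 then 1 else 0

theorem stdVec_apply (n k : ℕ) (i : Fin k) (l : Fin n) :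
    (stdVec n k i : Fin n → F) l = if l.val = 2 * i.val ∨ l.val = 2 * i.val + 1 then 1 else 0 := rfl

theorem herm_stdVec (h2 : (2 : F) = 0) (n k : ℕ) (hk : 2 * k ≤ n) (i j : Fin k) :
    herm bar (stdVec n k i : Fin n → F) (stdVec n k j) = 0 := by
  classical
  simp only [herm, stdVec_apply]
  by_cases hij : i = j
  · subst hij
    have : ∀ l : Fin n, (if l.val = 2 * i.val ∨ l.val = 2 * i.val + 1 then (1 : F) else 0)
        * bar (if l.val = 2 * i.val ∨ l.val = 2 * i.val + 1 then (1 : F) else 0)
        = if l = (⟨2 * i.val, by omega⟩ : Fin n) ∨ l = (⟨2 * i.val + 1, by omega⟩ : Fin n)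
          then 1 else 0 := by
      intro l
      by_cases h : l.val = 2 * i.val ∨ l.val = 2 * i.val + 1
      · have h' : l = (⟨2 * i.val, by omega⟩ : Fin n) ∨ l = (⟨2 * i.val + 1, by omega⟩ : Fin n) := by
          rcases h with h | h
          · left; exact Fin.ext h
          · right; exact Fin.ext h
        rw [if_pos h, if_pos h', map_one, mul_one]
      · have h' : ¬ (l = (⟨2 * i.val, by omega⟩ : Fin n) ∨ l = (⟨2 * i.val + 1, by omega⟩ : Fin n)) := by
          rintro (h' | h')
          · exact h (Or.inl (congrArg Fin.val h'))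
          · exact h (Or.inr (congrArg Fin.val h'))
        rw [if_neg h, if_neg h', zero_mul]
    simp only [this]
    rw [Finset.sum_ite, Finset.sum_const_zero, add_zero, Finset.sum_const, nsmul_eq_mul, mul_one]
    have hcard : (Finset.univ.filter (fun l : Fin n => l = (⟨2 * i.val, by omega⟩ : Fin n)
        ∨ l = (⟨2 * i.val + 1, by omega⟩ : Fin n))).card = 2 := by
      have : Finset.univ.filter (fun l : Fin n => l = (⟨2 * i.val, by omega⟩ : Fin n)
          ∨ l = (⟨2 * i.val + 1, by omega⟩ : Fin n))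
          = {(⟨2 * i.val, by omega⟩ : Fin n), (⟨2 * i.val + 1, by omega⟩ : Fin n)} := by
        ext l
        simp
      rw [this, Finset.card_pair]
      simp [Fin.ext_iff]
    rw [hcard]
    exact_mod_cast h2
  · apply Finset.sum_eq_zero
    intro l _
    by_cases h : l.val = 2 * i.val ∨ l.val = 2 * i.val + 1
    · have h' : ¬ (l.val = 2 * j.val ∨ l.val = 2 * j.val + 1) := by
        intro h'
        apply hij
        apply Fin.ext
        omega
      rw [if_neg h', map_zero, mul_zero]
    · rw [if_neg h, zero_mul]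

theorem stdVec_indep (n k : ℕ) (hk : 2 * k ≤ n) (c : Fin k → F)
    (hc : ∑ i, c i • (stdVec n k i : Fin n → F) = 0) : c = 0 := by
  classical
  ext j
  have h := congrFun hc (⟨2 * j.val, by omega⟩ : Fin n)
  rw [Finset.sum_apply, Finset.sum_eq_single j] at h
  · simpa [stdVec_apply] using h
  · intro i _ hij
    have : ¬ ((2 * j.val = 2 * i.val) ∨ (2 * j.val = 2 * i.val + 1)) := by
      intro h'
      apply hij
      apply Fin.ext
      omega
    rw [Pi.smul_apply, stdVec_apply, if_neg this, smul_zero]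
  · intro h'
    exact absurd (Finset.mem_univ j) h'

/-- the standard involution of rank `k` -/
def stdInvMat (n k : ℕ) : Matrix (Fin n) (Fin n) F :=
  1 + ∑ i : Fin k, vecMulVec (stdVec n k i : Fin n → F) (bar ∘ stdVec n k i)

theorem stdInvMat_mulVec (n k : ℕ) (x : Fin n → F) :
    stdInvMat bar n k *ᵥ x = x + ∑ i : Fin k, herm bar x (stdVec n k i) • (stdVec n k i : Fin n → F) := by
  rw [stdInvMat, add_mulVec, one_mulVec, sum_mulVec]
  congr 1
  apply Finset.sum_congr rfl
  intro i _
  rw [vecMulVec_mulVec, herm_eq, dotProduct_comm, op_smul_eq_smul]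

end Std

section ConjInv
variable {F : Type*} [Field F] [Fintype F] {q : ℕ} {n : ℕ} (bar : F →+* F)
  (hbar : ∀ x, bar x = x ^ q)

omit [Fintype F] in
theorem two_mul_rank_le (N : Matrix (Fin n) (Fin n) F) (hNN : N * N = 0) : 2 * N.rank ≤ n := by
  have h1 := LinearMap.finrank_range_add_finrank_ker N.mulVecLin
  have h2 : LinearMap.range N.mulVecLin ≤ LinearMap.ker N.mulVecLin := by
    rintro y ⟨x, rfl⟩
    rw [LinearMap.mem_ker]
    show N *ᵥ (N *ᵥ x) = 0
    rw [mulVec_mulVec, hNN, zero_mulVec]
  have h3 := Submodule.finrank_mono h2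
  have h4 : N.rank = Module.finrank F (LinearMap.range N.mulVecLin) := rfl
  have h5 : Module.finrank F (Fin n → F) = n := by simp
  omega

include hbar in
/-- every involution of `SU_n` in characteristic two is conjugate to the standard one of its rank -/
theorem exists_conj_invol (h2 : (2 : F) = 0) (hq : Even q) (hne : bar ≠ RingHom.id F)
    (hinv : ∀ a, bar (bar a) = a) (hn : 2 ≤ n) (a : Cfsg.SU n F q)
    (ha2 : ((a : SpecialLinearGroup (Fin n) F) : Matrix (Fin n) (Fin n) F)
      * ((a : SpecialLinearGroup (Fin n) F) : Matrix (Fin n) (Fin n) F) = 1) :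
    ∃ g : Cfsg.SU n F q,
      (((g * a * g⁻¹ : Cfsg.SU n F q) : SpecialLinearGroup (Fin n) F) :
        Matrix (Fin n) (Fin n) F)
        = stdInvMat bar n
          (((a : SpecialLinearGroup (Fin n) F) : Matrix (Fin n) (Fin n) F) - 1).rank := by
  classical
  set A : Matrix (Fin n) (Fin n) F := ((a : SpecialLinearGroup (Fin n) F) :
    Matrix (Fin n) (Fin n) F) with hAdef
  have hAu := (mem_SU_iff n bar hbar a.1).1 a.2
  obtain ⟨k, hk⟩ : ∃ k, (A - 1).rank = k := ⟨_, rfl⟩
  rw [hk]
  obtain ⟨w, hwind, hworth, hwA⟩ : ∃ w : Fin k → (Fin n → F),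
      (∀ c : Fin k → F, ∑ i, c i • w i = 0 → c = 0) ∧
      (∀ i j, herm bar (w i) (w j) = 0) ∧
      ∀ x, A *ᵥ x = x + ∑ i, herm bar x (w i) • w i := by
    subst hk
    exact invol_normal_form bar h2 hne hinv A hAu ha2
  have hNN : (A - 1) * (A - 1) = 0 := by
    have : (A - 1) * (A - 1) = A * A - A - A + 1 := by noncomm_ring
    rw [this, ha2]
    have h3 : (1 : Matrix (Fin n) (Fin n) F) - A - A + 1 = (2 : F) • (1 - A) := by
      rw [two_smul]; abel
    rw [h3, h2, zero_smul]
  have h2k : 2 * k ≤ n := by rw [← hk]; exact two_mul_rank_le (A - 1) hNN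
  -- Witt
  obtain ⟨g0, hg0, hg0w⟩ := exists_unitary_map_fam bar hne hinv w
    (fun i => (stdVec n k i : Fin n → F)) hwind (stdVec_indep n k h2k)
    (fun i j => by rw [hworth, herm_stdVec bar h2 n k h2k])
  set G0 : Matrix (Fin n) (Fin n) F := LinearMap.toMatrix' g0.toLinearMap with hG0
  have hG0x : ∀ x, G0 *ᵥ x = g0 x := by
    intro x
    rw [hG0, LinearMap.toMatrix'_mulVec]
    rfl
  have hG0u : ∀ x y, herm bar (G0 *ᵥ x) (G0 *ᵥ y) = herm bar x y := by
    intro x y
    rw [hG0x, hG0x, hg0]
  have hdet := det_mul_bar_det bar G0 hG0u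
  set δ : F := G0.det with hδ
  obtain ⟨m, hm⟩ := hq
  set lam : F := δ ^ m with hlam
  have hlam2 : lam * lam * δ = 1 := by
    rw [hlam, ← pow_add, ← hm, ← hbar, mul_comm]
    exact hdet
  have hlamN : lam * bar lam = 1 := by
    rw [hlam, map_pow, ← mul_pow, hdet, one_pow]
  let i0 : Fin n := ⟨0, by omega⟩
  let i1 : Fin n := ⟨1, by omega⟩
  have h01 : i0 ≠ i1 := by simp [i0, i1, Fin.ext_iff]
  set d0 : Fin n → F := Function.update (fun _ => (1 : F)) i0 lam with hd0
  set d1 : Fin n → F := Function.update (fun _ => (1 : F)) i1 lam with hd1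
  have hdd0 : ∀ i, d0 i * bar (d0 i) = 1 := by
    intro i
    by_cases hi : i = i0
    · subst hi
      simp only [hd0, Function.update_self]
      exact hlamN
    · simp only [hd0, Function.update_of_ne hi, map_one, mul_one]
  have hdd1 : ∀ i, d1 i * bar (d1 i) = 1 := by
    intro i
    by_cases hi : i = i1
    · subst hi
      simp only [hd1, Function.update_self]
      exact hlamN
    · simp only [hd1, Function.update_of_ne hi, map_one, mul_one]
  have hdet0 : (diagonal d0).det = lam := by
    rw [det_diagonal, hd0, Finset.prod_update_of_mem (Finset.mem_univ _)]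
    simp only [Finset.prod_const_one, mul_one]
  have hdet1 : (diagonal d1).det = lam := by
    rw [det_diagonal, hd1, Finset.prod_update_of_mem (Finset.mem_univ _)]
    simp only [Finset.prod_const_one, mul_one]
  set G : Matrix (Fin n) (Fin n) F := diagonal d0 * (diagonal d1 * G0) with hG
  have hGdet : G.det = 1 := by
    rw [hG, det_mul, det_mul, hdet0, hdet1]
    linear_combination hlam2
  have hGx : ∀ x, G *ᵥ x = diagonal d0 *ᵥ (diagonal d1 *ᵥ (G0 *ᵥ x)) := by
    intro x
    rw [hG, ← mulVec_mulVec, ← mulVec_mulVec]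
  have hGu : ∀ x y, herm bar (G *ᵥ x) (G *ᵥ y) = herm bar x y := by
    intro x y
    rw [hGx x, hGx y, herm_diagonal n bar d0 hdd0, herm_diagonal n bar d1 hdd1, hG0u]
  -- the scalars
  set μ : Fin k → F := fun i => if i.val = 0 then lam else 1 with hμ
  have hμN : ∀ i, μ i * bar (μ i) = 1 := by
    intro i
    simp only [hμ]
    split_ifs
    · exact hlamN
    · rw [map_one, mul_one]
  have hGw : ∀ i, G *ᵥ w i = μ i • (stdVec n k i : Fin n → F) := by
    intro i
    rw [hGx, hG0x, hg0w]
    ext l
    rw [mulVec_diagonal, mulVec_diagonal, Pi.smul_apply, smul_eq_mul, stdVec_apply]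
    simp only [hμ]
    by_cases hi : i.val = 0
    · rw [if_pos hi]
      by_cases hl0 : l = i0
      · subst hl0
        rw [hd0, hd1, Function.update_self, Function.update_of_ne h01]
        simp [i0, hi]
      · by_cases hl1 : l = i1
        · subst hl1
          rw [hd0, hd1, Function.update_self, Function.update_of_ne h01.symm]
          simp [i1, hi]
        · rw [hd0, hd1, Function.update_of_ne hl0, Function.update_of_ne hl1]
          have hl0' : l.val ≠ 0 := fun h => hl0 (Fin.ext h)
          have hl1' : l.val ≠ 1 := fun h => hl1 (Fin.ext h)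
          have : ¬ (l.val = 2 * i.val ∨ l.val = 2 * i.val + 1) := by
            rw [hi]; omega
          rw [if_neg this]
          ring
    · rw [if_neg hi]
      by_cases hl0 : l = i0
      · subst hl0
        have : ¬ ((i0 : Fin n).val = 2 * i.val ∨ (i0 : Fin n).val = 2 * i.val + 1) := by
          simp only [i0]; omega
        rw [if_neg this]
        ring
      · by_cases hl1 : l = i1
        · subst hl1
          have : ¬ ((i1 : Fin n).val = 2 * i.val ∨ (i1 : Fin n).val = 2 * i.val + 1) := by
            simp only [i1]; omega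
          rw [if_neg this]
          ring
        · rw [hd0, hd1, Function.update_of_ne hl0, Function.update_of_ne hl1]
          ring
  -- the matrix identity
  have hcomm : G * A = stdInvMat bar n k * G := by
    rw [ext_iff_mulVec]
    intro x
    have e1 : (G * A) *ᵥ x = G *ᵥ (A *ᵥ x) := (mulVec_mulVec x G A).symm
    have e2 : (stdInvMat bar n k * G) *ᵥ x = stdInvMat bar n k *ᵥ (G *ᵥ x) :=
      (mulVec_mulVec x (stdInvMat bar n k) G).symm
    rw [e1, e2, hwA, stdInvMat_mulVec, mulVec_add, mulVec_sum]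
    congr 1
    apply Finset.sum_congr rfl
    intro i _
    rw [mulVec_smul, hGw, smul_smul]
    congr 1
    have hμ0 : μ i ≠ 0 := by
      intro h0
      have := hμN i
      rw [h0, zero_mul] at this
      exact zero_ne_one this
    have hs : (stdVec n k i : Fin n → F) = (μ i)⁻¹ • (G *ᵥ w i) := by
      rw [hGw, smul_smul, inv_mul_cancel₀ hμ0, one_smul]
    rw [hs, herm_smul_right, hGu, map_inv₀]
    have hb : bar (μ i) ≠ 0 := (map_ne_zero bar).mpr hμ0
    have := hμN i
    field_simp
    linear_combination (herm bar x (w i)) * this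
  let gSL : SpecialLinearGroup (Fin n) F := ⟨G, hGdet⟩
  have hgmem : gSL ∈ Cfsg.SU n F q := by
    rw [mem_SU_iff n bar hbar]
    exact hGu
  refine ⟨⟨gSL, hgmem⟩, ?_⟩
  have h1 : (((⟨gSL, hgmem⟩ * a * (⟨gSL, hgmem⟩ : Cfsg.SU n F q)⁻¹ : Cfsg.SU n F q) :
      SpecialLinearGroup (Fin n) F) : Matrix (Fin n) (Fin n) F)
      = G * A * ((gSL⁻¹ : SpecialLinearGroup (Fin n) F) : Matrix (Fin n) (Fin n) F) := rfl
  have h2' : G * ((gSL⁻¹ : SpecialLinearGroup (Fin n) F) : Matrix (Fin n) (Fin n) F) = 1 := by
    have h3 : ((gSL * gSL⁻¹ : SpecialLinearGroup (Fin n) F) : Matrix (Fin n) (Fin n) F) = 1 := by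
      rw [mul_inv_cancel]
      rfl
    exact h3
  rw [h1, hcomm, Matrix.mul_assoc, h2', Matrix.mul_one]

end ConjInv

end Cfsg.Agent.Helper45.GU
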