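import Mathlib
import Cfsg.Prelude.Def_ClassicalGeometry
import Cfsg.Agent.Helper45.SiegelGeom
import Cfsg.Agent.Helper44.SpinorRefl
import Cfsg.Agent.Helper14.Polar
import Cfsg.Agent.S0793
import Cfsg.Agent.S0794

/-!
# Siegel transformations in the isometry group

`siegelIso`, `siegelSet`, conjugation invariance and normality of the subgroup they generate.
-/

set_option autoImplicit false

namespace Cfsg.Agent.Helper45.OmegaParity

open Matrix QuadraticMap Module Cfsg.Agent.Helper44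

variable {F : Type*} [Field F] {n : ℕ}
variable (Q : QuadraticForm F (Fin n → F))

theorem siegelMatrix_mulVec (u v : Fin n → F) (c : F) (x : Fin n → F) :
    (Cfsg.siegelMatrix ⇑Q u v c) *ᵥ x =
      x + ((c * QuadraticMap.polar ⇑Q u x) • v + (-(c * QuadraticMap.polar ⇑Q v x)) • u) := by
  unfold Cfsg.siegelMatrix
  rw [Matrix.add_mulVec, Matrix.one_mulVec, Matrix.smul_mulVec, Matrix.sub_mulVec,
    Helper14.vecMulVec_polarVec_mulVec, Helper14.vecMulVec_polarVec_mulVec]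
  rw [smul_sub, smul_smul, smul_smul, neg_smul, sub_eq_add_neg]

theorem siegelMatrix_zero (u v : Fin n → F) : Cfsg.siegelMatrix ⇑Q u v 0 = 1 := by
  simp [Cfsg.siegelMatrix]

/-- the Siegel transformation as an element of the isometry group -/
noncomputable def siegelIso (u v : Fin n → F) (hu : Q u = 0) (hv : Q v = 0)
    (huv : QuadraticMap.polar ⇑Q u v = 0) (c : F) : Cfsg.isometryGroup F ⇑Q :=
  ⟨⟨Cfsg.siegelMatrix ⇑Q u v c, Cfsg.siegelMatrix ⇑Q u v (-c),
    by rw [(Cfsg.Agent.S0793.result Q u v hu hv huv).2.2, add_neg_cancel, siegelMatrix_zero],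
    by rw [(Cfsg.Agent.S0793.result Q u v hu hv huv).2.2, neg_add_cancel, siegelMatrix_zero]⟩,
   (Helper13.mem_isometryGroup_iff _ _).2 (fun x => (Cfsg.Agent.S0793.result Q u v hu hv huv).1 c x)⟩

theorem siegelIso_coe (u v : Fin n → F) (hu : Q u = 0) (hv : Q v = 0)
    (huv : QuadraticMap.polar ⇑Q u v = 0) (c : F) :
    ((siegelIso Q u v hu hv huv c).1 : Matrix (Fin n) (Fin n) F) = Cfsg.siegelMatrix ⇑Q u v c := rfl

/-- the set of Siegel transformations in the isometry group -/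
def siegelSet : Set (Cfsg.isometryGroup F ⇑Q) :=
  {g | ∃ (u v : Fin n → F) (c : F), Q u = 0 ∧ Q v = 0 ∧ QuadraticMap.polar ⇑Q u v = 0 ∧
    ((g : Matrix.GeneralLinearGroup (Fin n) F) : Matrix (Fin n) (Fin n) F)
      = Cfsg.siegelMatrix ⇑Q u v c}

theorem siegelIso_mem (u v : Fin n → F) (hu : Q u = 0) (hv : Q v = 0)
    (huv : QuadraticMap.polar ⇑Q u v = 0) (c : F) : siegelIso Q u v hu hv huv c ∈ siegelSet Q :=
  ⟨u, v, c, hu, hv, huv, rfl⟩

theorem conj_mem_siegelSet (h g : Cfsg.isometryGroup F ⇑Q) (hg : g ∈ siegelSet Q) :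
    h * g * h⁻¹ ∈ siegelSet Q := by
  obtain ⟨u, v, c, hu, hv, huv, hgm⟩ := hg
  refine ⟨(h.1 : Matrix (Fin n) (Fin n) F) *ᵥ u, (h.1 : Matrix (Fin n) (Fin n) F) *ᵥ v, c, ?_, ?_,
    ?_, ?_⟩
  · rw [isometryGroup_apply h u, hu]
  · rw [isometryGroup_apply h v, hv]
  · rw [polar_isometry, huv]
  · apply Matrix.toLin'.injective
    apply LinearMap.ext
    intro x
    rw [Matrix.toLin'_apply, Matrix.toLin'_apply, siegelMatrix_mulVec]
    have e1 : (((h * g * h⁻¹ : Cfsg.isometryGroup F ⇑Q).1 : GL (Fin n) F) :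
        Matrix (Fin n) (Fin n) F) *ᵥ x
        = (h.1 : Matrix (Fin n) (Fin n) F) *ᵥ ((g.1 : Matrix (Fin n) (Fin n) F) *ᵥ
          (((h⁻¹ : Cfsg.isometryGroup F ⇑Q).1 : Matrix (Fin n) (Fin n) F) *ᵥ x)) := by
      rw [isometryGroup_mul_mulVec, isometryGroup_mul_mulVec]
    have e2 : (h.1 : Matrix (Fin n) (Fin n) F) *ᵥ
        (((h⁻¹ : Cfsg.isometryGroup F ⇑Q).1 : Matrix (Fin n) (Fin n) F) *ᵥ x) = x := by
      rw [← isometryGroup_mul_mulVec, mul_inv_cancel, isometryGroup_one_mulVec]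
    set y := ((h⁻¹ : Cfsg.isometryGroup F ⇑Q).1 : Matrix (Fin n) (Fin n) F) *ᵥ x with hy
    have e3 : ∀ z : Fin n → F, QuadraticMap.polar ⇑Q ((h.1 : Matrix (Fin n) (Fin n) F) *ᵥ z) x
        = QuadraticMap.polar ⇑Q z y := by
      intro z
      rw [← e2, polar_isometry]
    rw [e1, hgm, siegelMatrix_mulVec, Matrix.mulVec_add, Matrix.mulVec_add, Matrix.mulVec_smul,
      Matrix.mulVec_smul, e2, e3, e3]

theorem siegelClosure_normal : (Subgroup.closure (siegelSet Q)).Normal := by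
  constructor
  intro g hg h
  induction hg using Subgroup.closure_induction with
  | mem x hx => exact Subgroup.subset_closure (conj_mem_siegelSet Q h x hx)
  | one => rw [mul_one, mul_inv_cancel]; exact Subgroup.one_mem _
  | mul x y _ _ hx hy =>
    have : h * (x * y) * h⁻¹ = (h * x * h⁻¹) * (h * y * h⁻¹) := by group
    rw [this]
    exact Subgroup.mul_mem _ hx hy
  | inv x _ hx =>
    have : h * x⁻¹ * h⁻¹ = (h * x * h⁻¹)⁻¹ := by group
    rw [this]
    exact Subgroup.inv_mem _ hx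

end Cfsg.Agent.Helper45.OmegaParity
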