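import Mathlib
import Cfsg.Prelude.Def_ClassicalGeometry
import Cfsg.Agent.Helper45.SiegelGen

/-!
# The Siegel group is transitive on vectors of a given non-zero norm (odd characteristic, `n ≥ 5`)
-/

set_option autoImplicit false

namespace Cfsg.Agent.Helper45.OmegaParity

open Matrix QuadraticMap Module Cfsg.Agent.Helper44

variable {F : Type*} [Field F] {n : ℕ}
variable (Q : QuadraticForm F (Fin n → F))

/-- **Moving along a singular vector**: if `a` is non-singular and `w` is singular and orthogonal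
to `a`, some Siegel transformation maps `a` to `a + w` (dimension `≥ 5`). -/
theorem siegel_move [Fintype F] (h2 : (2 : F) ≠ 0) (hQ : (QuadraticMap.polarBilin Q).Nondegenerate)
    (hn : 5 ≤ n) (a w : Fin n → F) (ha : Q a ≠ 0) (hw : Q w = 0)
    (haw : QuadraticMap.polar ⇑Q a w = 0) :
    ∃ t ∈ Subgroup.closure (siegelSet Q), (t.1 : Matrix (Fin n) (Fin n) F) *ᵥ a = a + w := by
  by_cases hw0 : w = 0
  · exact ⟨1, Subgroup.one_mem _, by rw [hw0, add_zero, isometryGroup_one_mulVec]⟩
  have hcard : Fintype.card (Fin n) = n := Fintype.card_fin n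
  obtain ⟨w', hw', hww', haw'⟩ := exists_hyp_partner_orth Q h2 hQ a w ha hw0 hw haw
  obtain ⟨z, hzX, hz⟩ := exists_orth_Q_eq Q h2 hQ (Submodule.span F {a, w, w'})
    (nondeg_span_three Q h2 a w w' ha hw hw' hww' haw haw')
    (by have := finrank_span_three_le (F := F) a w w'; omega) (-(Q a))
  have haz : QuadraticMap.polar ⇑Q a z = 0 := hzX a (Submodule.subset_span (by simp))
  have hwz : QuadraticMap.polar ⇑Q w z = 0 := hzX w (Submodule.subset_span (by simp))
  have hwa : QuadraticMap.polar ⇑Q w a = 0 := by rw [QuadraticMap.polar_comm]; exact haw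
  have h2a : (2 : F) * Q a ≠ 0 := mul_ne_zero h2 ha
  -- the singular vector `v`, orthogonal to `w`, with `f(a, v) = -1`
  obtain ⟨v, hv, hwv, hva⟩ : ∃ v : Fin n → F, Q v = 0 ∧ QuadraticMap.polar ⇑Q w v = 0 ∧
      QuadraticMap.polar ⇑Q v a = -1 := by
    refine ⟨(-(2 * Q a)⁻¹) • (a + z), ?_, ?_, ?_⟩
    · rw [QuadraticMap.map_smul, QuadraticMap.map_add ⇑Q, hz, haz]
      simp
    · rw [QuadraticMap.polar_smul_right, QuadraticMap.polar_add_right, hwa, hwz, add_zero,
        smul_zero]
    · rw [QuadraticMap.polar_smul_left, QuadraticMap.polar_add_left, polar_self',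
        QuadraticMap.polar_comm ⇑Q z a, haz, add_zero, smul_eq_mul, neg_mul, inv_mul_cancel₀ h2a]
  refine ⟨siegelIso Q w v hw hv hwv 1, Subgroup.subset_closure (siegelIso_mem Q w v hw hv hwv 1), ?_⟩
  rw [siegelIso_coe, siegelMatrix_mulVec, hwa, hva]
  simp

/-- **The Siegel group is transitive on vectors of a given non-zero norm**, outside the line case -/
theorem siegel_trans_aux [Fintype F] (h2 : (2 : F) ≠ 0)
    (hQ : (QuadraticMap.polarBilin Q).Nondegenerate) (hn : 5 ≤ n) (a b : Fin n → F) (ha : Q a ≠ 0)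
    (hab : Q b = Q a) (hb : ∀ l : F, b ≠ l • a) :
    ∃ t ∈ Subgroup.closure (siegelSet Q), (t.1 : Matrix (Fin n) (Fin n) F) *ᵥ a = b := by
  have hcard : Fintype.card (Fin n) = n := Fintype.card_fin n
  obtain ⟨w₀, hw₀, haw₀, hbw₀⟩ := exists_singular_orth_not_orth Q h2 hQ (by omega) a b ha hb
  -- the first step
  set δ := Q (b - a) with hδ
  set w₁ := (δ / QuadraticMap.polar ⇑Q b w₀) • w₀ with hw₁
  have hQw₁ : Q w₁ = 0 := by rw [hw₁, QuadraticMap.map_smul, hw₀, smul_zero]
  have haw₁ : QuadraticMap.polar ⇑Q a w₁ = 0 := by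
    rw [hw₁, QuadraticMap.polar_smul_right, haw₀, smul_zero]
  have hbw₁ : QuadraticMap.polar ⇑Q b w₁ = δ := by
    rw [hw₁, QuadraticMap.polar_smul_right, smul_eq_mul, div_mul_cancel₀ _ hbw₀]
  obtain ⟨t₁, ht₁, ht₁a⟩ := siegel_move Q h2 hQ hn a w₁ ha hQw₁ haw₁
  -- the second step
  have hQe : Q (a + w₁) = Q a := by
    rw [QuadraticMap.map_add ⇑Q, hQw₁, haw₁, add_zero, add_zero]
  have hδ' : δ = 2 * Q a - QuadraticMap.polar ⇑Q a b := by
    rw [hδ]
    have : b - a = b + (-1 : F) • a := by rw [neg_one_smul, sub_eq_add_neg]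
    rw [this, QuadraticMap.map_add ⇑Q, QuadraticMap.map_smul, QuadraticMap.polar_smul_right, hab,
      QuadraticMap.polar_comm ⇑Q b a]
    simp only [smul_eq_mul]
    ring
  have hw₁w₁ : QuadraticMap.polar ⇑Q w₁ w₁ = 0 := by rw [polar_self', hQw₁, mul_zero]
  have hw₁a : QuadraticMap.polar ⇑Q w₁ a = 0 := by rw [QuadraticMap.polar_comm]; exact haw₁
  have hw₁b : QuadraticMap.polar ⇑Q w₁ b = δ := by rw [QuadraticMap.polar_comm]; exact hbw₁
  have hQw₂ : Q (b - (a + w₁)) = 0 := by
    have : b - (a + w₁) = b + (-1 : F) • (a + w₁) := by rw [neg_one_smul, sub_eq_add_neg]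
    rw [this, QuadraticMap.map_add ⇑Q, QuadraticMap.map_smul, QuadraticMap.polar_smul_right, hQe,
      hab, QuadraticMap.polar_add_right, hbw₁, QuadraticMap.polar_comm ⇑Q b a, hδ']
    simp only [smul_eq_mul]
    ring
  have hew₂ : QuadraticMap.polar ⇑Q (a + w₁) (b - (a + w₁)) = 0 := by
    rw [QuadraticMap.polar_sub_right, QuadraticMap.polar_add_left, QuadraticMap.polar_add_left,
      QuadraticMap.polar_add_right, QuadraticMap.polar_add_right, polar_self', hw₁w₁, haw₁, hw₁a,
      hw₁b, hδ']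
    ring
  obtain ⟨t₂, ht₂, ht₂e⟩ := siegel_move Q h2 hQ hn (a + w₁) (b - (a + w₁)) (by rw [hQe]; exact ha)
    hQw₂ hew₂
  refine ⟨t₂ * t₁, Subgroup.mul_mem _ ht₂ ht₁, ?_⟩
  rw [isometryGroup_mul_mulVec, ht₁a, ht₂e]
  abel

/-- **The Siegel group is transitive on vectors of a given non-zero norm.** -/
theorem siegel_trans [Fintype F] (h2 : (2 : F) ≠ 0)
    (hQ : (QuadraticMap.polarBilin Q).Nondegenerate) (hn : 5 ≤ n) (a b : Fin n → F) (ha : Q a ≠ 0)
    (hab : Q b = Q a) :
    ∃ t ∈ Subgroup.closure (siegelSet Q), (t.1 : Matrix (Fin n) (Fin n) F) *ᵥ a = b := by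
  by_cases hb : ∀ l : F, b ≠ l • a
  · exact siegel_trans_aux Q h2 hQ hn a b ha hab hb
  · push Not at hb
    obtain ⟨l, hl⟩ := hb
    have hcard : Fintype.card (Fin n) = n := Fintype.card_fin n
    -- an intermediate vector outside the line of `a`
    obtain ⟨w, hw0, hw, haw⟩ := exists_singular_orth Q h2 hQ (by omega) a ha
    have hQe : Q (a + w) = Q a := by
      rw [QuadraticMap.map_add ⇑Q, hw, haw, add_zero, add_zero]
    have he : ∀ m : F, a + w ≠ m • a := by
      intro m hm
      have h1 : w = (m - 1) • a := by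
        rw [sub_smul, one_smul, ← hm]
        abel
      have h3 : Q w = (m - 1) * (m - 1) * Q a := by rw [h1, QuadraticMap.map_smul, smul_eq_mul]
      rw [hw] at h3
      have h4 : m - 1 = 0 := by
        rcases mul_eq_zero.1 h3.symm with h | h
        · rcases mul_eq_zero.1 h with h | h <;> exact h
        · exact absurd h ha
      rw [h4, zero_smul] at h1
      exact hw0 h1
    obtain ⟨t₁, ht₁, ht₁a⟩ := siegel_move Q h2 hQ hn a w ha hw haw
    have hb' : ∀ m : F, b ≠ m • (a + w) := by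
      intro m hm
      rw [hl] at hm
      have hl0 : l ≠ 0 := by
        intro h0
        rw [hl, h0, zero_smul, map_zero] at hab
        exact ha hab.symm
      apply he (m⁻¹ * l)
      have hm0 : m ≠ 0 := by
        intro h0
        rw [h0, zero_smul] at hm
        have : Q (l • a) = 0 := by rw [hm, map_zero]
        rw [QuadraticMap.map_smul, smul_eq_mul] at this
        rcases mul_eq_zero.1 this with h | h
        · rcases mul_eq_zero.1 h with h | h <;> exact hl0 h
        · exact ha h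
      rw [mul_smul, hm, smul_smul, inv_mul_cancel₀ hm0, one_smul]
    obtain ⟨t₂, ht₂, ht₂e⟩ := siegel_trans_aux Q h2 hQ hn (a + w) b (by rw [hQe]; exact ha)
      (by rw [hQe]; exact hab) hb'
    refine ⟨t₂ * t₁, Subgroup.mul_mem _ ht₂ ht₁, ?_⟩
    rw [isometryGroup_mul_mulVec, ht₁a, ht₂e]

end Cfsg.Agent.Helper45.OmegaParity
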