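import Mathlib
import Cfsg.Prelude.Def_ClassicalGeometry
import Cfsg.Agent.Helper45.SiegelGen2

/-!
# `Ω` is generated by the Siegel transformations (odd characteristic, `n ≥ 5`)
-/

set_option autoImplicit false

namespace Cfsg.Agent.Helper45.OmegaParity

open Matrix QuadraticMap Module Cfsg.Agent.Helper44
open scoped commutatorElement

variable {F : Type*} [Field F] {n : ℕ}
variable (Q : QuadraticForm F (Fin n → F))

/-- conjugating a reflection -/
theorem conj_reflT (g : Cfsg.isometryGroup F ⇑Q) (a : Fin n → F) (ha : Q a ≠ 0) :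
    g * reflT Q a * g⁻¹ = reflT Q ((g.1 : Matrix (Fin n) (Fin n) F) *ᵥ a) := by
  have hga : Q ((g.1 : Matrix (Fin n) (Fin n) F) *ᵥ a) ≠ 0 := by
    rw [isometryGroup_apply g a]; exact ha
  rw [reflT_of_ne Q a ha, reflT_of_ne Q _ hga, mul_refl Q g a ha hga, mul_inv_cancel_right]

/-- commutators with reflections lie in the Siegel group -/
theorem commutator_reflT_mem [Fintype F] (h2 : (2 : F) ≠ 0)
    (hQ : (QuadraticMap.polarBilin Q).Nondegenerate) (hn : 5 ≤ n)
    (g : Cfsg.isometryGroup F ⇑Q) (a : Fin n → F) (ha : Q a ≠ 0) :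
    ⁅g, reflT Q a⁆ ∈ Subgroup.closure (siegelSet Q) := by
  have hN := siegelClosure_normal Q
  obtain ⟨t, ht, hta⟩ := siegel_trans Q h2 hQ hn a ((g.1 : Matrix (Fin n) (Fin n) F) *ᵥ a) ha
    (isometryGroup_apply g a)
  have e1 : g * reflT Q a * g⁻¹ = t * reflT Q a * t⁻¹ := by
    rw [conj_reflT Q g a ha, conj_reflT Q t a ha, hta]
  have e2 : ⁅g, reflT Q a⁆ = t * (reflT Q a * t⁻¹ * (reflT Q a)⁻¹) := by
    rw [commutatorElement_def, e1]
    group
  rw [e2]
  exact Subgroup.mul_mem _ ht (hN.conj_mem _ (Subgroup.inv_mem _ ht) _)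

/-- all commutators lie in the Siegel group -/
theorem commutator_mem_siegelClosure [Fintype F] (h2 : (2 : F) ≠ 0)
    (hQ : (QuadraticMap.polarBilin Q).Nondegenerate) (hn : 5 ≤ n)
    (g h : Cfsg.isometryGroup F ⇑Q) : ⁅g, h⁆ ∈ Subgroup.closure (siegelSet Q) := by
  have hN := siegelClosure_normal Q
  obtain ⟨vs, hvs, rfl⟩ := cartan_dieudonne Q h2 hQ h
  induction vs with
  | nil =>
    rw [List.map_nil, List.prod_nil, commutatorElement_one_right]
    exact Subgroup.one_mem _
  | cons a l ih =>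
    have hl : ∀ x ∈ l, Q x ≠ 0 := fun x hx => hvs x (List.mem_cons_of_mem _ hx)
    have ha : Q a ≠ 0 := hvs a List.mem_cons_self
    rw [List.map_cons, List.prod_cons]
    have e : ⁅g, reflT Q a * (l.map (reflT Q)).prod⁆
        = ⁅g, reflT Q a⁆ * (reflT Q a * ⁅g, (l.map (reflT Q)).prod⁆ * (reflT Q a)⁻¹) := by
      rw [commutatorElement_def, commutatorElement_def, commutatorElement_def]
      group
    rw [e]
    exact Subgroup.mul_mem _ (commutator_reflT_mem Q h2 hQ hn g a ha)
      (hN.conj_mem _ (ih hl) _)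

/-- **`Ω` is generated by the Siegel transformations** (odd characteristic, dimension `≥ 5`). -/
theorem Omega_eq_siegelClosure [Fintype F] (h2 : (2 : F) ≠ 0)
    (hQ : (QuadraticMap.polarBilin Q).Nondegenerate) (hn : 5 ≤ n) :
    Cfsg.Omega F ⇑Q = Subgroup.closure (siegelSet Q) := by
  apply le_antisymm
  · show commutator (Cfsg.isometryGroup F ⇑Q) ≤ _
    rw [commutator_def, Subgroup.commutator_le]
    intro g₁ _ g₂ _
    exact commutator_mem_siegelClosure Q h2 hQ hn g₁ g₂
  · rw [Subgroup.closure_le]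
    rintro g ⟨u, v, c, hu, hv, huv, hg⟩
    exact (Cfsg.Agent.S0794.result h2 hn Q hQ u v hu hv huv c g hg).2

end Cfsg.Agent.Helper45.OmegaParity
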