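import Mathlib
import Cfsg.Prelude.Def_GeometricClasses
import Cfsg.Agent.Helper45.SpInSL

/-!
# The symplectic similarity group is maximal in `SL_n`: assembly

`eSet M v`, the dichotomy, and `sp_isMaximalIn_sl`.
-/

set_option autoImplicit false

namespace Cfsg.Agent.Helper45.SpInSL

open Cfsg.Geo Matrix Module Cfsg.Agent.Helper93

variable {F : Type*} [Field F] {n : ℕ}
variable {f : (Fin n → F) → (Fin n → F) → F} (hf : IsSymplecticForm f)

/-- `w ∈ eSet M v` iff `f v w = 0` and the transvection `x ↦ x + f(x,w) v` lies in `M` -/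
def eSet (M : Subgroup (Matrix.GeneralLinearGroup (Fin n) F)) (v : Fin n → F) :
    Set (Fin n → F) :=
  {w | ∃ h : fd hf w v = 0, tv (fd hf w) v h ∈ M}

include hf

theorem eSet_map {M : Subgroup (Matrix.GeneralLinearGroup (Fin n) F)}
    {g : Matrix.GeneralLinearGroup (Fin n) F} (hgM : g ∈ M)
    (hg : ∀ a b : Fin n → F, f ((g : Matrix (Fin n) (Fin n) F).mulVec a)
      ((g : Matrix (Fin n) (Fin n) F).mulVec b) = f a b)
    {v w : Fin n → F} (hw : w ∈ eSet hf M v) :
    (g : Matrix (Fin n) (Fin n) F).mulVec w ∈ eSet hf M ((g : Matrix (Fin n) (Fin n) F).mulVec v) := by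
  obtain ⟨h, hm⟩ := hw
  have h' : fd hf ((g : Matrix (Fin n) (Fin n) F).mulVec w)
      ((g : Matrix (Fin n) (Fin n) F).mulVec v) = 0 := by
    rw [fd_apply, hg]
    exact h
  refine ⟨h', ?_⟩
  rw [tv_conj g (fd hf ((g : Matrix (Fin n) (Fin n) F).mulVec w)) v h']
  have e : dualPull (fd hf ((g : Matrix (Fin n) (Fin n) F).mulVec w)) g = fd hf w := by
    apply LinearMap.ext
    intro x
    rw [dualPull_apply, fd_apply, fd_apply, hg]
  rw [tv_congr e v _ h]
  exact M.mul_mem (M.mul_mem hgM hm) (M.inv_mem hgM)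

theorem eSet_smul_self {M : Subgroup (Matrix.GeneralLinearGroup (Fin n) F)} (hM : spT hf ≤ M)
    (v : Fin n → F) (c : F) : c • v ∈ eSet hf M v := by
  have h : fd hf (c • v) v = 0 := by rw [fd_apply, f_smul_right hf, f_self hf, mul_zero]
  refine ⟨h, ?_⟩
  have e : fd hf (c • v) = c • fd hf v := by
    apply LinearMap.ext
    intro x
    rw [fd_apply, LinearMap.smul_apply, fd_apply, f_smul_right hf, smul_eq_mul]
  have h2 : tv (fd hf (c • v)) v h = st hf v c := tv_congr e v _ _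
  rw [h2]
  exact hM (st_mem_spT hf v c)

/-- **dichotomy, first half**: one non-trivial member of some `eSet M v` forces all transvections
into `M`. -/
theorem eSet_all {M : Subgroup (Matrix.GeneralLinearGroup (Fin n) F)} (hM : spT hf ≤ M)
    {v w : Fin n → F} (hv : v ≠ 0) (hw : w ∈ eSet hf M v) (hwv : w ∉ Submodule.span F {v})
    (v' w' : Fin n → F) (hv' : v' ≠ 0) (hw' : f v' w' = 0) : w' ∈ eSet hf M v' := by
  have hvw : f v w = 0 := by
    obtain ⟨h, -⟩ := hw
    exact h
  have step1 : ∀ w₁ : Fin n → F, f v w₁ = 0 → w₁ ∈ eSet hf M v := by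
    intro w₁ hw₁
    by_cases hmem : w₁ ∈ Submodule.span F {v}
    · obtain ⟨c, rfl⟩ := Submodule.mem_span_singleton.1 hmem
      exact eSet_smul_self hf hM v c
    · obtain ⟨g, hg, hgv, hgw⟩ := exists_spT_fix_map hf hv hvw hw₁ hwv hmem
      have := eSet_map hf (hM hg) (spT_form hf hg) hw
      rwa [hgv, hgw] at this
  obtain ⟨g, hg, hgv⟩ := exists_spT_map hf hv hv'
  have h0 : f v (((g⁻¹ : Matrix.GeneralLinearGroup (Fin n) F) :
      Matrix (Fin n) (Fin n) F).mulVec w') = 0 := by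
    rw [← spT_form hf hg, hgv, gl_inv_mulVec]
    exact hw'
  have := eSet_map hf (hM hg) (spT_form hf hg) (step1 _ h0)
  rwa [hgv, gl_inv_mulVec] at this

theorem dirSub_eq_top_of_eSet {M : Subgroup (Matrix.GeneralLinearGroup (Fin n) F)}
    (hall : ∀ v' w' : Fin n → F, v' ≠ 0 → f v' w' = 0 → w' ∈ eSet hf M v') : dirSub M = ⊤ := by
  rw [eq_top_iff]
  intro v _
  rw [mem_dirSub]
  intro φ h
  by_cases hv : v = 0
  · subst hv
    exact dirSet_zero φ h
  · obtain ⟨w, rfl⟩ := exists_fd_eq hf φ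
    obtain ⟨h', hm⟩ := hall v w hv h
    exact hm

theorem exists_nonorth_both {u v : Fin n → F} (hu : u ≠ 0) (hv : v ≠ 0) :
    ∃ y : Fin n → F, f y u ≠ 0 ∧ f y v ≠ 0 := by
  obtain ⟨y₁, hy₁⟩ := exists_form_eq hf ![u]
    (LinearIndependent.of_subsingleton 0 (by simpa using hu)) ![1]
  obtain ⟨y₂, hy₂⟩ := exists_form_eq hf ![v]
    (LinearIndependent.of_subsingleton 0 (by simpa using hv)) ![1]
  have h1 : f u y₁ = 1 := hy₁ 0
  have h2 : f v y₂ = 1 := hy₂ 0
  have key : ∃ y : Fin n → F, f u y ≠ 0 ∧ f v y ≠ 0 := by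
    by_cases h3 : f v y₁ ≠ 0
    · exact ⟨y₁, by rw [h1]; exact one_ne_zero, h3⟩
    push Not at h3
    by_cases h4 : f u y₂ ≠ 0
    · exact ⟨y₂, h4, by rw [h2]; exact one_ne_zero⟩
    push Not at h4
    refine ⟨y₁ + y₂, ?_, ?_⟩
    · rw [f_add_right hf, h1, h4, add_zero]; exact one_ne_zero
    · rw [f_add_right hf, h3, h2, zero_add]; exact one_ne_zero
  obtain ⟨y, hy1, hy2⟩ := key
  exact ⟨y, by rw [f_skew hf]; exact neg_ne_zero.2 hy1, by rw [f_skew hf]; exact neg_ne_zero.2 hy2⟩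

/-- **dichotomy, second half**: if every `eSet M v` is trivial then `M` consists of similarities -/
theorem le_similarityGroup {M : Subgroup (Matrix.GeneralLinearGroup (Fin n) F)} (hn : 1 ≤ n)
    (hM : spT hf ≤ M)
    (htriv : ∀ v : Fin n → F, v ≠ 0 → ∀ w ∈ eSet hf M v, w ∈ Submodule.span F {v}) :
    M ≤ similarityGroup f := by
  intro g hgM
  -- E1
  have E1 : ∀ v : Fin n → F, v ≠ 0 → ∃ l : F, ∀ y : Fin n → F,
      f y v = l * f ((g : Matrix (Fin n) (Fin n) F).mulVec y)
        ((g : Matrix (Fin n) (Fin n) F).mulVec v) := by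
    intro v hv
    obtain ⟨w, hw⟩ := exists_fd_eq hf (dualPull (fd hf v) g⁻¹)
    have hgv : (g : Matrix (Fin n) (Fin n) F).mulVec v ≠ 0 := by
      intro h0
      apply hv
      rw [← gl_inv_mulVec' g v, h0, Matrix.mulVec_zero]
    have hwE : w ∈ eSet hf M ((g : Matrix (Fin n) (Fin n) F).mulVec v) := by
      have h : fd hf w ((g : Matrix (Fin n) (Fin n) F).mulVec v) = 0 := by
        rw [← hw, dualPull_apply, gl_inv_mulVec', fd_apply, f_self hf]
      refine ⟨h, ?_⟩
      rw [tv_conj g (fd hf w) v h]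
      have e : dualPull (fd hf w) g = (1 : F) • fd hf v := by
        apply LinearMap.ext
        intro x
        rw [← hw, dualPull_apply, dualPull_apply, gl_inv_mulVec', one_smul]
      have h2 : tv (dualPull (fd hf w) g) v (by rw [dualPull_apply]; exact h) = st hf v 1 :=
        tv_congr e v _ _
      rw [h2]
      exact M.mul_mem (M.mul_mem hgM (hM (st_mem_spT hf v 1))) (M.inv_mem hgM)
    obtain ⟨l, hl⟩ := Submodule.mem_span_singleton.1 (htriv _ hgv w hwE)
    refine ⟨l, fun y => ?_⟩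
    have h3 : dualPull (fd hf v) g⁻¹ ((g : Matrix (Fin n) (Fin n) F).mulVec y)
        = fd hf w ((g : Matrix (Fin n) (Fin n) F).mulVec y) := by rw [hw]
    rw [dualPull_apply, gl_inv_mulVec', fd_apply, fd_apply, ← hl, f_smul_right hf] at h3
    exact h3
  choose! lam hlam using E1
  have hlam0 : ∀ v : Fin n → F, v ≠ 0 → lam v ≠ 0 := by
    intro v hv h0
    obtain ⟨⟨x, hx⟩, -⟩ := hf.nondegenerate v hv
    apply hx
    rw [hlam v hv x, h0, zero_mul]
  have E2 : ∀ u v : Fin n → F, u ≠ 0 → v ≠ 0 → f u v ≠ 0 → lam u = lam v := by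
    intro u v hu hv huv
    have h1 := hlam v hv u
    have h2 := hlam u hu v
    rw [f_skew hf v u, f_skew hf ((g : Matrix (Fin n) (Fin n) F).mulVec v)] at h2
    have h3 : f ((g : Matrix (Fin n) (Fin n) F).mulVec u)
        ((g : Matrix (Fin n) (Fin n) F).mulVec v) ≠ 0 := by
      intro h0
      apply huv
      rw [h1, h0, mul_zero]
    have h4 : (lam u - lam v) * f ((g : Matrix (Fin n) (Fin n) F).mulVec u)
        ((g : Matrix (Fin n) (Fin n) F).mulVec v) = 0 := by linear_combination h2 + h1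
    exact sub_eq_zero.1 ((mul_eq_zero.1 h4).resolve_right h3)
  have E3 : ∀ u v : Fin n → F, u ≠ 0 → v ≠ 0 → lam u = lam v := by
    intro u v hu hv
    obtain ⟨y, hyu, hyv⟩ := exists_nonorth_both hf hu hv
    have hy0 : y ≠ 0 := by
      rintro rfl
      exact hyu (f_zero_left hf u)
    rw [← E2 y u hy0 hu hyu, ← E2 y v hy0 hv hyv]
  -- a non-zero vector
  have hv₀ : (Pi.single (⟨0, by omega⟩ : Fin n) (1 : F) : Fin n → F) ≠ 0 := by
    intro h
    have := congrFun h ⟨0, by omega⟩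
    rw [Pi.single_eq_same, Pi.zero_apply] at this
    exact one_ne_zero this
  refine ⟨Units.mk0 (lam (Pi.single (⟨0, by omega⟩ : Fin n) (1 : F)))⁻¹
    (inv_ne_zero (hlam0 _ hv₀)), fun u v => ?_⟩
  rw [Units.val_mk0]
  by_cases hv : v = 0
  · subst hv
    rw [Matrix.mulVec_zero, f_zero_right hf, f_zero_right hf, mul_zero]
  · have h1 := hlam v hv u
    rw [E3 v _ hv hv₀] at h1
    rw [h1, ← mul_assoc, inv_mul_cancel₀ (hlam0 _ hv₀), one_mul]

/-- some transvection is not a similarity -/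
theorem exists_sl_not_similarity (hn : 3 ≤ n) :
    ∃ g ∈ specialLinear (Fin n) F, g ∉ similarityGroup f := by
  have hv₀ : (Pi.single (⟨0, by omega⟩ : Fin n) (1 : F) : Fin n → F) ≠ 0 := by
    intro h
    have := congrFun h ⟨0, by omega⟩
    rw [Pi.single_eq_same, Pi.zero_apply] at this
    exact one_ne_zero this
  set v : Fin n → F := Pi.single (⟨0, by omega⟩ : Fin n) (1 : F) with hvdef
  -- `w ⊥ v`, `w ∉ Fv`
  obtain ⟨w, hwv, hwn⟩ : ∃ w : Fin n → F, f v w = 0 ∧ w ∉ Submodule.span F {v} := by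
    have h1 := LinearMap.BilinForm.finrank_orthogonal (fB_nondeg hf) (Submodule.span F {v})
    rw [Module.finrank_fintype_fun_eq_card, Fintype.card_fin, finrank_span_singleton hv₀] at h1
    have h2 : ¬ LinearMap.BilinForm.orthogonal (fB hf) (Submodule.span F {v})
        ≤ Submodule.span F {v} := by
      intro hle
      have h3 := Submodule.finrank_mono hle
      rw [h1, finrank_span_singleton hv₀] at h3
      omega
    obtain ⟨w, hw1, hw2⟩ := SetLike.not_le_iff_exists.1 h2
    refine ⟨w, ?_, hw2⟩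
    rw [LinearMap.BilinForm.mem_orthogonal_iff] at hw1
    exact hw1 v (Submodule.mem_span_singleton_self v)
  have h : fd hf w v = 0 := hwv
  refine ⟨tv (fd hf w) v h, tv_mem_sl _ _ _, ?_⟩
  rintro ⟨μ, hμ⟩
  -- `x` with `f v x = 1`, `f w x = 0`
  obtain ⟨x, hx⟩ := exists_form_eq hf ![v, w] (li_pair hv₀ hwn) ![1, 0]
  have hx0 : f v x = 1 := hx 0
  have hx1 : f w x = 0 := hx 1
  have hxv : f x v = -1 := by rw [f_skew hf, hx0]
  have hxw : f x w = 0 := by rw [f_skew hf, hx1, neg_zero]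
  have key : ∀ y : Fin n → F, f (((1 : F) - μ) • x + w) y = 0 := by
    intro y
    have h1 := hμ x y
    rw [tv_mulVec, tv_mulVec, fd_apply, fd_apply, hxw, zero_smul, add_zero, f_add_right hf,
      f_smul_right hf, hxv] at h1
    rw [f_add_left hf, f_smul_left hf, f_skew hf w y]
    linear_combination h1
  have h0 : ((1 : F) - μ) • x + w = 0 := by
    by_contra hne
    obtain ⟨-, ⟨y, hy⟩⟩ := hf.nondegenerate _ hne
    exact hy (key y)
  have h2 : f v (((1 : F) - μ) • x + w) = 0 := by rw [h0, f_zero_right hf]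
  rw [f_add_right hf, f_smul_right hf, hx0, hwv, add_zero, mul_one] at h2
  rw [h2, zero_smul, zero_add] at h0
  apply hwn
  rw [h0]
  exact Submodule.zero_mem _

/-- **`GSp_n(F) ∩ SL_n(F)` is a maximal subgroup of `SL_n(F)`.** -/
theorem sp_isMaximalIn_sl (hn : 3 ≤ n) :
    IsMaximalIn (specialLinear (Fin n) F) (similarityGroup f ⊓ specialLinear (Fin n) F) := by
  have : Nontrivial (Fin n) := Fin.nontrivial_iff_two_le.mpr (by omega)
  refine ⟨lt_of_le_of_ne inf_le_right fun heq => ?_, fun M hPM hMS => ?_⟩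
  · obtain ⟨g, hg, hgs⟩ := exists_sl_not_similarity hf hn
    rw [← heq] at hg
    exact hgs hg.1
  · have hM : spT hf ≤ M := (spT_le hf).trans hPM
    by_cases hE : ∃ v : Fin n → F, v ≠ 0 ∧ ∃ w ∈ eSet hf M v, w ∉ Submodule.span F {v}
    · right
      obtain ⟨v, hv, w, hw, hwv⟩ := hE
      exact le_antisymm hMS
        (sl_le_of_dirSub_eq_top (dirSub_eq_top_of_eSet hf (eSet_all hf hM hv hw hwv)))
    · left
      push Not at hE
      exact le_antisymm
        (le_inf (le_similarityGroup hf (by omega) hM (fun v hv w hw => hE v hv w hw)) hMS) hPM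

end Cfsg.Agent.Helper45.SpInSL
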