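import Mathlib
import Cfsg.Agent.Helper94.SubW6
import Cfsg.Agent.Helper45.SubOmA

/-!
# From one full rational root group to `Ω`, characteristic two

Characteristic-two versions of `Helper94.SubW.mem_span_sing_perp`, `emb_mem_eDir`,
`Omega_le_of_full`.
-/

set_option autoImplicit false
set_option linter.unusedSectionVars false
set_option linter.unusedVariables false
set_option linter.unusedSimpArgs false
set_option linter.style.haveILetI false

namespace Cfsg.Agent.Helper45.SubOm

open Matrix Cfsg Cfsg.Geo Cfsg.Agent.Helper94 Cfsg.Agent.Helper94.ORoot Cfsg.Agent.Helper94.SubW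

variable {ι : Type} [Fintype ι] [DecidableEq ι] {F : Type*} [Field F] {n : ℕ}
variable (Qf : QuadraticForm F (ι → F)) (hQ : IsNondegenerateQuadraticForm ⇑Qf)

theorem two_eq_zero_sub {F₀ : Subfield F} (h2 : (2 : F) = 0) : (2 : F₀) = 0 := by
  apply Subtype.ext
  have : ((2 : F₀) : F) = 2 := by
    rw [← one_add_one_eq_two, Subfield.coe_add, Subfield.coe_one, one_add_one_eq_two]
  rw [this, h2]
  rfl

section Fixed

variable (F₀ : Subfield F) {P : GL ι F} (e : ι ≃ Fin n)
  (hP : Cfsg.Geo.IsQuadFormRationalStructure ⇑Qf F₀ P)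
  (M' : Subgroup ↥(isometryGroup F ⇑Qf))
  (hHM : (Cfsg.Geo.subfieldSubgroup F₀ P ⊓ Cfsg.Geo.omegaGL ⇑Qf).comap
    (isometryGroup F ⇑Qf).subtype ≤ M')

local notation "E" => emb F₀ P e
local notation "Qz'" => Qz F₀ e hP

include hQ in
/-- a non-zero rational singular vector -/
theorem exists_rat_sing [Fintype F] (h2 : (2 : F) = 0) (hn : 5 ≤ n) :
    ∃ u : Fin n → F₀, u ≠ 0 ∧ Qz' u = 0 := by
  haveI : Fintype F₀ := Fintype.ofFinite F₀
  have hQz := nondeg_Qz hQ F₀ e hP
  have h2' := two_eq_zero_sub (F₀ := F₀) h2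
  obtain ⟨u, -, huQ, hu⟩ := exists_singular_not_mem hQz h2' ⊥ (by rw [finrank_bot]; omega)
  refine ⟨u, ?_, huQ⟩
  rintro rfl
  exact hu (Submodule.zero_mem _)

include hQ in
/-- a rational hyperbolic partner -/
theorem exists_rat_partner [Fintype F] (h2 : (2 : F) = 0) (hn : 5 ≤ n) {u : Fin n → F₀}
    (hu0 : u ≠ 0) : ∃ u' : Fin n → F₀, Qz' u' = 0 ∧ QuadraticMap.polar Qz' u u' = 1 := by
  haveI : Fintype F₀ := Fintype.ofFinite F₀
  have hQz := nondeg_Qz hQ F₀ e hP
  have h2' := two_eq_zero_sub (F₀ := F₀) h2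
  obtain ⟨u', -, hu'Q, hu'u⟩ := exists_partner_perp hQz h2' ⊥ (by rw [finrank_bot]; omega)
    (c := u) (by rw [Submodule.mem_bot]; exact hu0)
  exact ⟨u', hu'Q, by rw [QuadraticMap.polar_comm]; exact hu'u⟩

include hQ in
/-- the perpendicular space of a rational singular vector is spanned by rational singular
vectors (characteristic two) -/
theorem mem_span_sing_perp2 [Fintype F] (h2 : (2 : F) = 0) (hn : 7 ≤ n) {u : Fin n → F₀}
    (hu : Qz' u = 0) (hu0 : u ≠ 0) {w : ι → F} (hw : QuadraticMap.polar ⇑Qf (E u) w = 0) :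
    w ∈ Submodule.span F {v : ι → F | ∃ b : Fin n → F₀, Qz' b = 0 ∧
      QuadraticMap.polar Qz' u b = 0 ∧ v = E b} := by
  haveI : Fintype F₀ := Fintype.ofFinite F₀
  have hQz := nondeg_Qz hQ F₀ e hP
  have h2' := two_eq_zero_sub (F₀ := F₀) h2
  obtain ⟨WF, hWF⟩ : ∃ WF : Submodule F (ι → F), WF = Submodule.span F {v : ι → F |
      ∃ b : Fin n → F₀, Qz' b = 0 ∧ QuadraticMap.polar Qz' u b = 0 ∧ v = E b} := ⟨_, rfl⟩
  rw [← hWF]
  obtain ⟨W₀, hW₀⟩ : ∃ W₀ : Submodule F₀ (Fin n → F₀), ∀ x, x ∈ W₀ ↔ E x ∈ WF := by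
    refine ⟨{ carrier := {x | E x ∈ WF}, add_mem' := ?_, zero_mem' := ?_, smul_mem' := ?_ },
      fun x => Iff.rfl⟩
    · intro x y hx hy
      show E (x + y) ∈ WF
      rw [emb_add]
      exact WF.add_mem hx hy
    · show E 0 ∈ WF
      rw [emb_zero]
      exact WF.zero_mem
    · intro c x hx
      show E (c • x) ∈ WF
      rw [emb_smul]
      exact WF.smul_mem _ hx
  have h1 : Cfsg.Agent.Helper45.OrInSL.perp hQz (Submodule.span F₀ {u}) ≤ W₀ := by
    have hfr := Cfsg.Agent.Helper45.OrInSL.finrank_span_singleton_le_one u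
    apply perp_le_of_singular2 hQz h2' _ (by omega)
    intro y hy hyQ
    rw [hW₀, hWF]
    apply Submodule.subset_span
    refine ⟨y, hyQ, ?_, rfl⟩
    rw [QuadraticMap.polar_comm]
    exact (Cfsg.Agent.Helper45.OrInSL.mem_perp_singleton hQz).1 hy
  obtain ⟨u', hu', huu'⟩ := exists_rat_partner Qf hQ F₀ e hP h2 (by omega) hu0
  have key : ∀ w : ι → F, w - QuadraticMap.polar ⇑Qf (E u) w • E u' ∈ WF := by
    apply emb_span_induction (F₀ := F₀) (P := P) (e := e)
    · intro v w hv hw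
      have : v + w - QuadraticMap.polar ⇑Qf (E u) (v + w) • E u'
          = (v - QuadraticMap.polar ⇑Qf (E u) v • E u')
            + (w - QuadraticMap.polar ⇑Qf (E u) w • E u') := by
        rw [B_add_right hQ]
        module
      rw [this]
      exact WF.add_mem hv hw
    · intro c v hv
      have : c • v - QuadraticMap.polar ⇑Qf (E u) (c • v) • E u'
          = c • (v - QuadraticMap.polar ⇑Qf (E u) v • E u') := by
        rw [B_smul_right hQ]
        module
      rw [this]
      exact WF.smul_mem _ hv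
    · intro x
      have : E x - QuadraticMap.polar ⇑Qf (E u) (E x) • E u'
          = E (x - QuadraticMap.polar Qz' u x • u') := by
        rw [emb_sub, emb_smul, coe_polar_Qz]
      rw [this, ← hW₀]
      apply h1
      rw [Cfsg.Agent.Helper45.OrInSL.mem_perp_singleton hQz,
        Cfsg.Agent.Helper45.OrInSL.b_sub_left hQz, Cfsg.Agent.Helper45.OrInSL.b_smul_left hQz,
        QuadraticMap.polar_comm (Qz') u' u, huu', QuadraticMap.polar_comm (Qz') x u]
      ring
  have := key w
  rwa [hw, zero_smul, sub_zero] at this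

include hHM in
/-- a rational singular vector is an Eichler direction, once all rational root groups are full -/
theorem emb_mem_eDir2 [Fintype F] (h2 : (2 : F) = 0) (hn : 7 ≤ n)
    (hall : ∀ a b : Fin n → F₀, SP Qz' a b → LinearIndependent F₀ ![a, b] →
      ∀ t : F, tg hQ (E a) (E b) t ∈ M')
    {u : Fin n → F₀} (hu : Qz' u = 0) (hu0 : u ≠ 0) :
    E u ∈ Cfsg.Agent.Helper45.OmegaParity.eDir Qf M' := by
  haveI : Fintype F₀ := Fintype.ofFinite F₀
  have huE : Qf (E u) = 0 := (Qz_eq_zero_iff hQ F₀ e hP u).1 hu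
  refine ⟨huE, ?_⟩
  have stepA : ∀ b : Fin n → F₀, Qz' b = 0 → QuadraticMap.polar Qz' u b = 0 → ∀ t : F,
      Cfsg.Agent.Helper5.eichlerO Qf (E u) (t • E b) ∈ M' := by
    intro b hb hub t
    have hsp : SP Qz' u b := ⟨hu, hb, hub⟩
    have hspE := SP_emb Qf hQ F₀ e hP hsp
    rw [eichlerO_eq_tg Qf hQ hspE]
    by_cases hbu : b ∈ Submodule.span F₀ {u}
    · obtain ⟨c, rfl⟩ := Submodule.mem_span_singleton.1 hbu
      have h1 : tg hQ (E (c • u)) (E u) t = 1 := by
        apply iso_ext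
        intro x
        rw [act_tg hQ hspE.symm, act_one, emb_smul, B_smul_left hQ]
        module
      rw [h1]
      exact M'.one_mem
    · apply hall b u hsp.symm
      rw [LinearIndependent.pair_iff]
      intro s t hst
      by_cases hs : s = 0
      · subst hs
        rw [zero_smul, zero_add] at hst
        rcases smul_eq_zero.1 hst with h | h
        · exact ⟨rfl, h⟩
        · exact absurd h hu0
      · exfalso
        apply hbu
        rw [Submodule.mem_span_singleton]
        refine ⟨-(s⁻¹ * t), ?_⟩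
        have h3 : s • b = -(t • u) := eq_neg_of_add_eq_zero_left hst
        have h4 : b = s⁻¹ • (s • b) := by rw [smul_smul, inv_mul_cancel₀ hs, one_smul]
        rw [h4, h3]
        module
  intro w hw
  have hspan := mem_span_sing_perp2 Qf hQ F₀ e hP h2 hn hu hu0 hw
  have hind : QuadraticMap.polar ⇑Qf (E u) w = 0 ∧ Cfsg.Agent.Helper5.eichlerO Qf (E u) w ∈ M' := by
    refine Submodule.closure_induction
      (p := fun w _ => QuadraticMap.polar ⇑Qf (E u) w = 0
        ∧ Cfsg.Agent.Helper5.eichlerO Qf (E u) w ∈ M') ?_ ?_ ?_ hspan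
    · refine ⟨B_zero_right hQ _, ?_⟩
      rw [Cfsg.Agent.Helper5.eichlerO_zero]
      exact M'.one_mem
    · intro x y _ _ hx hy
      refine ⟨by rw [B_add_right hQ, hx.1, hy.1, add_zero], ?_⟩
      rw [← Cfsg.Agent.Helper5.eichlerO_mul Qf huE hx.1 hy.1]
      exact M'.mul_mem hx.2 hy.2
    · rintro t x ⟨b, hb, hub, rfl⟩
      refine ⟨?_, stepA b hb hub t⟩
      rw [B_smul_right hQ, ← coe_polar_Qz F₀ e hP, hub]
      simp
  exact hind.2

include hHM in
/-- **one full rational root group forces `Ω`** (characteristic two) -/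
theorem Omega_le_of_full2 [Fintype F] (h2 : (2 : F) = 0) (hn : 7 ≤ n) {a b : Fin n → F₀}
    (h : SP Qz' a b) (hli : LinearIndependent F₀ ![a, b])
    (hfull : ∀ t : F, tg hQ (E a) (E b) t ∈ M') : Cfsg.Omega F ⇑Qf ≤ M' := by
  haveI : Fintype F₀ := Fintype.ofFinite F₀
  have hQz := nondeg_Qz hQ F₀ e hP
  have hall : ∀ a' b' : Fin n → F₀, SP Qz' a' b' → LinearIndependent F₀ ![a', b'] →
      ∀ t : F, tg hQ (E a') (E b') t ∈ M' := fun a' b' h' hli' =>
    full_all Qf hQ F₀ e hP M' hHM (by omega) h hli hfull h' hli'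
  obtain ⟨u, hu0, hu⟩ := exists_rat_sing Qf hQ F₀ e hP h2 (by omega)
  obtain ⟨u', hu', huu'⟩ := exists_rat_partner Qf hQ F₀ e hP h2 (by omega) hu0
  have hu'0 : u' ≠ 0 := by
    rintro rfl
    rw [Cfsg.Agent.Helper45.OrInSL.b_zero_right hQz] at huu'
    exact zero_ne_one huu'
  have hD := emb_mem_eDir2 Qf hQ F₀ e hP M' hHM h2 hn hall hu hu0
  have hD' := emb_mem_eDir2 Qf hQ F₀ e hP M' hHM h2 hn hall hu' hu'0
  have hnd := Cfsg.Agent.Helper45.OmegaParity.nondeg_of_geo Qf hQ
  have hb : QuadraticMap.polar ⇑Qf (E u) (E u') ≠ 0 := by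
    rw [← coe_polar_Qz F₀ e hP, huu']
    simp
  apply Cfsg.Agent.Helper45.OmegaParity.Omega_le_of_eDir_all hnd (by rw [card_eq e]; omega)
  intro z hz
  exact Cfsg.Agent.Helper45.OmegaParity.eDir_all hnd hD hD' hb z hz

end Fixed

end Cfsg.Agent.Helper45.SubOm
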