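import Mathlib
import Cfsg.Agent.Helper45.SubOmB

/-!
# Transfer of single parameters between opposite rational lines (characteristic two)
-/

set_option autoImplicit false
set_option linter.unusedSectionVars false
set_option linter.unusedVariables false
set_option linter.unusedSimpArgs false
set_option linter.style.haveILetI false

namespace Cfsg.Agent.Helper45.SubOm

open Matrix Cfsg Cfsg.Geo Cfsg.Agent.Helper94 Cfsg.Agent.Helper94.ORoot Cfsg.Agent.Helper94.SubW
open Cfsg.Agent.S5016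
open Cfsg.Agent.Helper46.Dk (ext' mul_00 mul_01 mul_10 mul_11)

variable {ι : Type} [Fintype ι] [DecidableEq ι] {F : Type*} [Field F] {n : ℕ}

/-- the Weyl element `U a L(-a⁻¹) U a` conjugates lower to upper unipotent elements -/
theorem L_mul_weyl' {a : F} (ha : a ≠ 0) (s : F) :
    (L s : Matrix.SpecialLinearGroup (Fin 2) F) * (U a * L (-a⁻¹) * U a)
      = (U a * L (-a⁻¹) * U a) * U (-(a ^ 2 * s)) := by
  apply ext' <;>
  simp only [mul_00, mul_01, mul_10, mul_11, U_00, U_01, U_10, U_11, L_00, L_01, L_10, L_11] <;>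
  field_simp <;> ring

variable {Q : (ι → F) → F} (hQ : IsNondegenerateQuadraticForm Q)

/-- transfer of a single parameter to an opposite line -/
theorem tg_transfer (M' : Subgroup ↥(isometryGroup F Q)) {p r p' r' : ι → F} (h : SP Q p r)
    (h' : SP Q p' r') {Δ : F}
    (hΔ : Δ = QuadraticMap.polar Q p p' * QuadraticMap.polar Q r r'
      - QuadraticMap.polar Q p r' * QuadraticMap.polar Q r p') (hΔ0 : Δ ≠ 0)
    {a : F} (ha : a ≠ 0) (hW1 : tg hQ p r (-a) ∈ M') (hW2 : tg hQ p' r' (-a⁻¹ / Δ) ∈ M')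
    {σ : F} (hσ : tg hQ p r σ ∈ M') : tg hQ p' r' (σ / (a ^ 2 * Δ)) ∈ M' := by
  obtain ⟨f1, f2, hh, htg, -⟩ := exists_hyp4_of_det hQ h h' hΔ hΔ0
  have hUa : slHom hQ hh (U a) ∈ M' := by
    rw [slHom_U]
    exact hW1
  have hLa : slHom hQ hh (L (-a⁻¹)) ∈ M' := by
    rw [slHom_L, htg]
    exact hW2
  have hw : slHom hQ hh (U a * L (-a⁻¹) * U a) ∈ M' := by
    rw [map_mul, map_mul]
    exact M'.mul_mem (M'.mul_mem hUa hLa) hUa
  obtain ⟨s, hs⟩ : ∃ s : F, s = σ / a ^ 2 := ⟨_, rfl⟩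
  have ha2 : a ^ 2 ≠ 0 := pow_ne_zero 2 ha
  have hσs : σ = a ^ 2 * s := by rw [hs]; field_simp
  have key := L_mul_weyl' ha s
  have h3 : (L s : Matrix.SpecialLinearGroup (Fin 2) F)
      = (U a * L (-a⁻¹) * U a) * U (-(a ^ 2 * s)) * (U a * L (-a⁻¹) * U a)⁻¹ :=
    eq_mul_inv_of_mul_eq key
  have hU : slHom hQ hh (U (-(a ^ 2 * s))) ∈ M' := by
    rw [slHom_U, neg_neg, ← hσs]
    exact hσ
  have h4 : slHom hQ hh (L s) ∈ M' := by
    rw [h3, map_mul, map_mul, map_inv]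
    exact M'.mul_mem (M'.mul_mem hw hU) (M'.inv_mem hw)
  rw [slHom_L, htg] at h4
  have : σ / (a ^ 2 * Δ) = s / Δ := by
    rw [hs]; field_simp
  rw [this]
  exact h4

end Cfsg.Agent.Helper45.SubOm
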