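import Mathlib
import Cfsg.Prelude.Def_GeometricClasses
import Cfsg.Agent.Helper93.ParabolicMax

/-!
# Subfield subgroups of `SL_n`: rational vectors, functionals and transvections

`F₀` a subfield of `F`.  A vector of `F^n` is *rational* when its coordinates lie in `F₀`, a functional
is rational when its values on the standard basis do.  `ratGL F₀` is the image of `GL_n(F₀)` and
`hat F₀ = ratGL F₀ ⊔ scalars` the subfield group (with trivial change of basis).
-/

set_option autoImplicit false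

namespace Cfsg.Agent.Helper45.SubSL

open Cfsg.Geo Matrix Module Cfsg.Agent.Helper93

variable {F : Type*} [Field F] {n : ℕ}

/-- standard basis vector -/
def ee (i : Fin n) : Fin n → F := Pi.single i 1

theorem ee_apply (i j : Fin n) : (ee i : Fin n → F) j = if j = i then 1 else 0 := by
  unfold ee; rw [Pi.single_apply]

theorem ee_same (i : Fin n) : (ee i : Fin n → F) i = 1 := by rw [ee_apply, if_pos rfl]

theorem ee_of_ne {i j : Fin n} (h : j ≠ i) : (ee i : Fin n → F) j = 0 := by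
  rw [ee_apply, if_neg h]

theorem ee_ne_zero (i : Fin n) : (ee i : Fin n → F) ≠ 0 := by
  intro h
  have := congrFun h i
  rw [ee_same] at this
  exact one_ne_zero this

theorem dual_apply_eq_sum (φ : Module.Dual F (Fin n → F)) (x : Fin n → F) :
    φ x = ∑ i, x i * φ (ee i) := by
  rw [LinearMap.pi_apply_eq_sum_univ φ x]
  refine Finset.sum_congr rfl fun i _ => ?_
  rw [smul_eq_mul]
  have : (fun j : Fin n => if i = j then (1 : F) else 0) = ee i := by
    funext j
    rw [ee_apply]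
    by_cases h : i = j
    · rw [if_pos h, if_pos h.symm]
    · rw [if_neg h, if_neg (fun h' => h h'.symm)]
  rw [this]

theorem dual_ext {φ ψ : Module.Dual F (Fin n → F)} (h : ∀ i, φ (ee i) = ψ (ee i)) : φ = ψ := by
  apply LinearMap.ext
  intro x
  rw [dual_apply_eq_sum φ, dual_apply_eq_sum ψ]
  exact Finset.sum_congr rfl fun i _ => by rw [h i]

theorem exists_ee_ne_zero {φ : Module.Dual F (Fin n → F)} (h : φ ≠ 0) : ∃ i, φ (ee i) ≠ 0 := by
  by_contra hcon
  push Not at hcon
  exact h (dual_ext fun i => by rw [hcon i, LinearMap.zero_apply])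

theorem exists_coord_ne_zero {v : Fin n → F} (h : v ≠ 0) : ∃ i, v i ≠ 0 := by
  by_contra hcon
  push Not at hcon
  exact h (funext hcon)

/-- the coordinate functional -/
def pr (j : Fin n) : Module.Dual F (Fin n → F) := LinearMap.proj j

@[simp] theorem pr_apply (j : Fin n) (x : Fin n → F) : (pr j : Module.Dual F (Fin n → F)) x = x j := rfl

theorem pr_ee (j i : Fin n) : (pr j : Module.Dual F (Fin n → F)) (ee i) = if j = i then 1 else 0 := by
  rw [pr_apply, ee_apply]

theorem pr_ne_zero (j : Fin n) : (pr j : Module.Dual F (Fin n → F)) ≠ 0 := by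
  intro h
  have := LinearMap.congr_fun h (ee j)
  rw [pr_apply, ee_same, LinearMap.zero_apply] at this
  exact one_ne_zero this

/-- entries of a matrix through the standard basis -/
theorem entry_eq (A : Matrix (Fin n) (Fin n) F) (a b : Fin n) : A a b = (A.mulVec (ee b)) a := by
  unfold ee
  rw [Matrix.mulVec_single_one]
  rfl

theorem mulVec_eq_sum (A : Matrix (Fin n) (Fin n) F) (x : Fin n → F) (a : Fin n) :
    (A.mulVec x) a = ∑ b, A a b * x b := rfl

/-! ### rationality -/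

variable (F₀ : Subfield F)

/-- vectors with coordinates in the subfield -/
def RatV (v : Fin n → F) : Prop := ∀ i, v i ∈ F₀

/-- functionals with rational values on the standard basis -/
def RatD (φ : Module.Dual F (Fin n → F)) : Prop := ∀ i, φ (ee i) ∈ F₀

variable {F₀}

theorem RatV.zero : RatV F₀ (0 : Fin n → F) := fun _ => F₀.zero_mem

theorem RatV.ee (i : Fin n) : RatV F₀ (ee i : Fin n → F) := fun j => by
  rw [ee_apply]
  split_ifs
  · exact F₀.one_mem
  · exact F₀.zero_mem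

theorem RatV.add {u v : Fin n → F} (hu : RatV F₀ u) (hv : RatV F₀ v) : RatV F₀ (u + v) :=
  fun i => F₀.add_mem (hu i) (hv i)

theorem RatV.sub {u v : Fin n → F} (hu : RatV F₀ u) (hv : RatV F₀ v) : RatV F₀ (u - v) :=
  fun i => F₀.sub_mem (hu i) (hv i)

theorem RatV.neg {u : Fin n → F} (hu : RatV F₀ u) : RatV F₀ (-u) :=
  fun i => F₀.neg_mem (hu i)

theorem RatV.smul {u : Fin n → F} {c : F} (hc : c ∈ F₀) (hu : RatV F₀ u) : RatV F₀ (c • u) :=
  fun i => F₀.mul_mem hc (hu i)

theorem RatD.zero : RatD F₀ (0 : Module.Dual F (Fin n → F)) := fun _ => by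
  rw [LinearMap.zero_apply]; exact F₀.zero_mem

theorem RatD.pr (j : Fin n) : RatD F₀ (pr j : Module.Dual F (Fin n → F)) := fun i => by
  rw [pr_ee]
  split_ifs
  · exact F₀.one_mem
  · exact F₀.zero_mem

theorem RatD.add {φ ψ : Module.Dual F (Fin n → F)} (hφ : RatD F₀ φ) (hψ : RatD F₀ ψ) :
    RatD F₀ (φ + ψ) := fun i => by
  rw [LinearMap.add_apply]; exact F₀.add_mem (hφ i) (hψ i)

theorem RatD.sub {φ ψ : Module.Dual F (Fin n → F)} (hφ : RatD F₀ φ) (hψ : RatD F₀ ψ) :
    RatD F₀ (φ - ψ) := fun i => by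
  rw [LinearMap.sub_apply]; exact F₀.sub_mem (hφ i) (hψ i)

theorem RatD.neg {φ : Module.Dual F (Fin n → F)} (hφ : RatD F₀ φ) : RatD F₀ (-φ) := fun i => by
  rw [LinearMap.neg_apply]; exact F₀.neg_mem (hφ i)

theorem RatD.smul {φ : Module.Dual F (Fin n → F)} {c : F} (hc : c ∈ F₀) (hφ : RatD F₀ φ) :
    RatD F₀ (c • φ) := fun i => by
  rw [LinearMap.smul_apply, smul_eq_mul]; exact F₀.mul_mem hc (hφ i)

theorem RatD.apply {φ : Module.Dual F (Fin n → F)} (hφ : RatD F₀ φ) {v : Fin n → F}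
    (hv : RatV F₀ v) : φ v ∈ F₀ := by
  rw [dual_apply_eq_sum]
  exact F₀.sum_mem fun i _ => F₀.mul_mem (hv i) (hφ i)

/-- a vector with a coordinate outside the subfield is not rational -/
theorem exists_coord_not_mem {v : Fin n → F} (h : ¬ RatV F₀ v) : ∃ k, v k ∉ F₀ := by
  by_contra hcon
  push Not at hcon
  exact h hcon

variable (F₀)

/-- the image of `GL_n(F₀)` in `GL_n(F)` -/
def ratGL : Subgroup (GL (Fin n) F) :=
  (Matrix.GeneralLinearGroup.map (F₀.subtype : F₀ →+* F)).range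

/-- the subfield group (trivial change of basis) -/
def hat : Subgroup (GL (Fin n) F) := ratGL F₀ ⊔ scalars (Fin n) F

variable {F₀}

theorem mem_ratGL_iff (g : GL (Fin n) F) :
    g ∈ ratGL (n := n) F₀ ↔ ∀ a b, (g : Matrix (Fin n) (Fin n) F) a b ∈ F₀ := by
  constructor
  · rintro ⟨A, rfl⟩ a b
    have : ((Matrix.GeneralLinearGroup.map (F₀.subtype : F₀ →+* F) A : GL (Fin n) F) :
        Matrix (Fin n) (Fin n) F) = (F₀.subtype).mapMatrix (A : Matrix (Fin n) (Fin n) F₀) := rfl
    rw [this]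
    exact ((A : Matrix (Fin n) (Fin n) F₀) a b).2
  · intro h
    obtain ⟨M₀, hM₀⟩ : ∃ M₀ : Matrix (Fin n) (Fin n) F₀,
        M₀ = Matrix.of fun i j => (⟨(g : Matrix (Fin n) (Fin n) F) i j, h i j⟩ : F₀) := ⟨_, rfl⟩
    have hmap : (F₀.subtype).mapMatrix M₀ = (g : Matrix (Fin n) (Fin n) F) := by
      ext i j
      rw [hM₀]
      simp
    have hdet : M₀.det ≠ 0 := by
      intro h0
      have h1 : ((F₀.subtype).mapMatrix M₀).det = 0 := by
        rw [← RingHom.map_det, h0, map_zero]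
      rw [hmap] at h1
      have h2 : (g : Matrix (Fin n) (Fin n) F).det ≠ 0 := by
        have := (Matrix.GeneralLinearGroup.det g).ne_zero
        simpa using this
      exact h2 h1
    refine ⟨Matrix.GeneralLinearGroup.mkOfDetNeZero M₀ hdet, ?_⟩
    apply Units.ext
    have : ((Matrix.GeneralLinearGroup.map (F₀.subtype : F₀ →+* F)
        (Matrix.GeneralLinearGroup.mkOfDetNeZero M₀ hdet) : GL (Fin n) F) :
        Matrix (Fin n) (Fin n) F) = (F₀.subtype).mapMatrix M₀ := rfl
    rw [this, hmap]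

theorem ratGL_le_hat : ratGL (n := n) F₀ ≤ hat F₀ := le_sup_left

theorem mem_hat_iff (g : GL (Fin n) F) :
    g ∈ hat (n := n) F₀ ↔ ∃ s : F, s ≠ 0 ∧ ∀ a b, s * (g : Matrix (Fin n) (Fin n) F) a b ∈ F₀ := by
  unfold hat
  rw [Subgroup.mem_sup_of_normal_right]
  constructor
  · rintro ⟨m, hm, z, hz, rfl⟩
    rw [mem_scalars_iff] at hz
    obtain ⟨c, hc⟩ := hz
    rw [mem_ratGL_iff] at hm
    refine ⟨(c : F)⁻¹, inv_ne_zero c.ne_zero, fun a b => ?_⟩
    rw [Units.val_mul, hc, Matrix.mul_smul, Matrix.mul_one, Matrix.smul_apply, smul_eq_mul,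
      ← mul_assoc, inv_mul_cancel₀ c.ne_zero, one_mul]
    exact hm a b
  · rintro ⟨s, hs, h⟩
    obtain ⟨sc, hsc1, hsc2⟩ : ∃ sc : GL (Fin n) F, sc ∈ scalars (Fin n) F ∧
        (sc : Matrix (Fin n) (Fin n) F) = s⁻¹ • (1 : Matrix (Fin n) (Fin n) F) := by
      refine ⟨Units.map (Matrix.scalar (Fin n) : F →+* Matrix (Fin n) (Fin n) F).toMonoidHom
        (Units.mk0 s⁻¹ (inv_ne_zero hs)), ⟨_, rfl⟩, ?_⟩
      simp [Matrix.smul_one_eq_diagonal]
    have hsc3 : ((sc⁻¹ : GL (Fin n) F) : Matrix (Fin n) (Fin n) F)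
        = s • (1 : Matrix (Fin n) (Fin n) F) := by
      have h1 : (sc : Matrix (Fin n) (Fin n) F) * (s • (1 : Matrix (Fin n) (Fin n) F)) = 1 := by
        rw [hsc2, Matrix.smul_mul, Matrix.mul_smul, Matrix.mul_one, smul_smul,
          inv_mul_cancel₀ hs, one_smul]
      have h2 : ((sc⁻¹ : GL (Fin n) F) : Matrix (Fin n) (Fin n) F)
          = ((sc⁻¹ : GL (Fin n) F) : Matrix (Fin n) (Fin n) F) *
            ((sc : Matrix (Fin n) (Fin n) F) * (s • (1 : Matrix (Fin n) (Fin n) F))) := by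
        rw [h1, Matrix.mul_one]
      rw [h2, ← Matrix.mul_assoc, ← Units.val_mul, inv_mul_cancel, Units.val_one, Matrix.one_mul]
    refine ⟨g * sc⁻¹, ?_, sc, hsc1, by group⟩
    rw [mem_ratGL_iff]
    intro a b
    rw [Units.val_mul, hsc3, Matrix.mul_smul, Matrix.mul_one, Matrix.smul_apply, smul_eq_mul]
    exact h a b

/-- rational matrices send rational vectors to rational vectors -/
theorem RatV.mulVec {g : GL (Fin n) F} (hg : g ∈ ratGL (n := n) F₀) {v : Fin n → F}
    (hv : RatV F₀ v) : RatV F₀ ((g : Matrix (Fin n) (Fin n) F).mulVec v) := by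
  rw [mem_ratGL_iff] at hg
  intro a
  rw [mulVec_eq_sum]
  exact F₀.sum_mem fun b _ => F₀.mul_mem (hg a b) (hv b)

/-! ### transvections -/

theorem tv_entry (φ : Module.Dual F (Fin n → F)) (u : Fin n → F) (h : φ u = 0) (a b : Fin n) :
    (tv φ u h : Matrix (Fin n) (Fin n) F) a b = (if a = b then 1 else 0) + φ (ee b) * u a := by
  rw [entry_eq (tv φ u h : Matrix (Fin n) (Fin n) F) a b, tv_mulVec, Pi.add_apply, Pi.smul_apply,
    smul_eq_mul, ee_apply]

/-- rational transvections are rational matrices -/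
theorem tv_mem_ratGL {φ : Module.Dual F (Fin n → F)} {u : Fin n → F} (h : φ u = 0)
    (hφ : RatD F₀ φ) (hu : RatV F₀ u) : tv φ u h ∈ ratGL (n := n) F₀ := by
  rw [mem_ratGL_iff]
  intro a b
  rw [tv_entry]
  refine F₀.add_mem ?_ (F₀.mul_mem (hφ b) (hu a))
  split_ifs
  · exact F₀.one_mem
  · exact F₀.zero_mem

theorem tv_congr {φ φ' : Module.Dual F (Fin n → F)} {v v' : Fin n → F} (hφ : φ = φ') (hv : v = v')
    (h : φ v = 0) (h' : φ' v' = 0) : tv φ v h = tv φ' v' h' := by
  subst hφ; subst hv; rfl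

theorem tv_add_dual (φ φ' : Module.Dual F (Fin n → F)) (v : Fin n → F) (h : φ v = 0)
    (h' : φ' v = 0) (h'' : (φ + φ') v = 0) : tv (φ + φ') v h'' = tv φ v h * tv φ' v h' := by
  apply gl_ext
  intro x
  rw [gl_mul_mulVec, tv_mulVec, tv_mulVec, tv_mulVec, map_add, map_smul, h, smul_zero, add_zero,
    LinearMap.add_apply, add_smul]
  abel

theorem tv_neg_dual (φ : Module.Dual F (Fin n → F)) (v : Fin n → F) (h : φ v = 0)
    (h' : (-φ) v = 0) : tv (-φ) v h' = (tv φ v h)⁻¹ := by
  rw [eq_inv_iff_mul_eq_one]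
  apply gl_ext
  intro x
  rw [gl_mul_mulVec, tv_mulVec, tv_mulVec, map_add, map_smul, h', smul_zero, add_zero,
    LinearMap.neg_apply, neg_smul, Units.val_one, Matrix.one_mulVec]
  abel

theorem tv_zero_dual (v : Fin n → F) (h : (0 : Module.Dual F (Fin n → F)) v = 0) :
    tv (0 : Module.Dual F (Fin n → F)) v h = 1 := by
  apply gl_ext
  intro x
  rw [tv_mulVec, LinearMap.zero_apply, zero_smul, add_zero, Units.val_one, Matrix.one_mulVec]

theorem tv_inv_mulVec (φ : Module.Dual F (Fin n → F)) (v : Fin n → F) (h : φ v = 0)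
    (x : Fin n → F) :
    (((tv φ v h)⁻¹ : GL (Fin n) F) : Matrix (Fin n) (Fin n) F).mulVec x = x - φ x • v := by
  have h' : (-φ) v = 0 := by rw [LinearMap.neg_apply, h, neg_zero]
  rw [← tv_neg_dual φ v h h', tv_mulVec, LinearMap.neg_apply, neg_smul, sub_eq_add_neg]

/-- the commutator of two transvections, the centre of the first lying on the axis of the second -/
theorem tv_comm (φ ψ : Module.Dual F (Fin n → F)) (u v : Fin n → F) (hu : φ u = 0) (hv : ψ v = 0)
    (hψu : ψ u = 0) (h' : (φ v • ψ) u = 0) :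
    tv φ u hu * tv ψ v hv * (tv φ u hu)⁻¹ * (tv ψ v hv)⁻¹ = tv (φ v • ψ) u h' := by
  apply gl_ext
  intro x
  rw [gl_mul_mulVec, gl_mul_mulVec, gl_mul_mulVec, tv_inv_mulVec, tv_inv_mulVec, tv_mulVec,
    tv_mulVec, tv_mulVec]
  simp only [map_add, map_sub, map_smul, hu, hv, hψu, smul_eq_mul, mul_zero, sub_zero,
    LinearMap.smul_apply]
  module

end Cfsg.Agent.Helper45.SubSL
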