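import Mathlib
import Cfsg.Agent.Helper45.SubSLA

/-!
# Subfield subgroups of `SL_n`: a non-rational element of a rational root group gives everything
-/

set_option autoImplicit false
set_option linter.style.haveILetI false

namespace Cfsg.Agent.Helper45.SubSL

open Cfsg.Geo Matrix Module Cfsg.Agent.Helper93

variable {F : Type*} [Field F] {n : ℕ}

/-- no subfield lies properly between `F₀` and `F` -/
def NoInter (F₀ : Subfield F) : Prop := ∀ K : Subfield F, F₀ ≤ K → K = F₀ ∨ K = ⊤

theorem noInter_of_card [Fintype F] (F₀ : Subfield F) (r : ℕ) (hr : r.Prime)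
    (hcard : Fintype.card F = Nat.card F₀ ^ r) : NoInter F₀ := by
  classical
  letI : Fintype F₀ := Fintype.ofFinite F₀
  have h1 : Fintype.card F = Fintype.card F₀ ^ Module.finrank F₀ F :=
    Module.card_eq_pow_finrank (K := F₀) (V := F)
  rw [Nat.card_eq_fintype_card] at hcard
  have h2 : Module.finrank F₀ F = r := by
    have h3 : Fintype.card F₀ ^ Module.finrank F₀ F = Fintype.card F₀ ^ r := by
      rw [← h1, hcard]
    exact Nat.pow_right_injective (Fintype.one_lt_card (α := F₀)) h3
  have hp : (Module.finrank F₀ F).Prime := by rw [h2]; exact hr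
  have := IntermediateField.isSimpleOrder_of_finrank_prime F₀ F hp
  intro K hK
  obtain ⟨K', hK'⟩ : ∃ K' : IntermediateField F₀ F, ∀ x, x ∈ K' ↔ x ∈ K :=
    ⟨Subfield.toIntermediateField K (fun x => hK x.2), fun x => Iff.rfl⟩
  rcases eq_bot_or_eq_top K' with h | h
  · left
    refine le_antisymm ?_ hK
    intro x hx
    have hx' : x ∈ K' := (hK' x).mpr hx
    rw [h, IntermediateField.mem_bot] at hx'
    obtain ⟨y, rfl⟩ := hx'
    exact y.2
  · right
    rw [eq_top_iff]
    intro x _
    have hx' : x ∈ K' := by rw [h]; exact IntermediateField.mem_top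
    exact (hK' x).mp hx'

/-- a subset closed under sums and products, containing `F₀` and an element outside, is everything -/
theorem forall_mem_of_closed [Fintype F] {F₀ : Subfield F} (hN : NoInter F₀) (S : Set F)
    (h0 : ∀ x ∈ F₀, x ∈ S) (hadd : ∀ x y, x ∈ S → y ∈ S → x + y ∈ S)
    (hmul : ∀ x y, x ∈ S → y ∈ S → x * y ∈ S) {μ : F} (hμ : μ ∈ S) (hμ0 : μ ∉ F₀) :
    ∀ x, x ∈ S := by
  have hpow : ∀ (x : F) (k : ℕ), x ∈ S → x ^ k ∈ S := by
    intro x k hx
    induction k with
    | zero => rw [pow_zero]; exact h0 1 F₀.one_mem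
    | succ k ih => rw [pow_succ]; exact hmul _ _ ih hx
  have hneg : ∀ x, x ∈ S → -x ∈ S := by
    intro x hx
    have : -x = (-1) * x := by ring
    rw [this]
    exact hmul _ _ (h0 _ (F₀.neg_mem F₀.one_mem)) hx
  have hinv : ∀ x, x ∈ S → x⁻¹ ∈ S := by
    intro x hx
    by_cases hx0 : x = 0
    · rw [hx0, _root_.inv_zero]; exact h0 0 F₀.zero_mem
    · have h1 : x ^ (Fintype.card F - 1) = 1 := FiniteField.pow_card_sub_one_eq_one x hx0
      have h2 : 2 ≤ Fintype.card F := Fintype.one_lt_card
      have h3 : x⁻¹ = x ^ (Fintype.card F - 2) := by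
        have : Fintype.card F - 1 = (Fintype.card F - 2) + 1 := by omega
        rw [this, pow_succ] at h1
        exact inv_eq_of_mul_eq_one_left h1
      rw [h3]
      exact hpow x _ hx
  let K : Subfield F :=
    { carrier := S
      mul_mem' := fun ha hb => hmul _ _ ha hb
      one_mem' := h0 1 F₀.one_mem
      add_mem' := fun ha hb => hadd _ _ ha hb
      zero_mem' := h0 0 F₀.zero_mem
      neg_mem' := fun ha => hneg _ ha
      inv_mem' := fun x hx => hinv x hx }
  have hK : F₀ ≤ K := fun x hx => h0 x hx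
  rcases hN K hK with h | h
  · exfalso
    apply hμ0
    have : μ ∈ K := hμ
    rw [h] at this
    exact this
  · intro x
    have : x ∈ K := by rw [h]; exact Subfield.mem_top x
    exact this

end Cfsg.Agent.Helper45.SubSL
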