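import Mathlib
import Cfsg.Agent.Helper45.SubOmC
import Cfsg.Agent.Helper45.SubSLB

/-!
# Universal parameters of the rational root groups (characteristic two)

`parOK θ`: every rational root group contains its element with parameter `θ`.  The set of
universal parameters contains `F₀`, is closed under sums and products, and contains a parameter as
soon as a single independent rational root group does.
-/

set_option autoImplicit false
set_option linter.unusedSectionVars false
set_option linter.unusedVariables false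
set_option linter.unusedSimpArgs false
set_option linter.style.haveILetI false

namespace Cfsg.Agent.Helper45.SubOm

open Matrix Cfsg Cfsg.Geo Cfsg.Agent.Helper94 Cfsg.Agent.Helper94.ORoot Cfsg.Agent.Helper94.SubW

variable {ι : Type} [Fintype ι] [DecidableEq ι] {F : Type*} [Field F] {n : ℕ}
variable (Qf : QuadraticForm F (ι → F)) (hQ : IsNondegenerateQuadraticForm ⇑Qf)

section Fixed

variable (F₀ : Subfield F) {P : GL ι F} (e : ι ≃ Fin n)
  (hP : Cfsg.Geo.IsQuadFormRationalStructure ⇑Qf F₀ P)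
  (M' : Subgroup ↥(isometryGroup F ⇑Qf))
  (hHM : (Cfsg.Geo.subfieldSubgroup F₀ P ⊓ Cfsg.Geo.omegaGL ⇑Qf).comap
    (isometryGroup F ⇑Qf).subtype ≤ M')

local notation "E" => emb F₀ P e
local notation "Qz'" => Qz F₀ e hP

theorem li_of_not_mem_span {K : Type*} [Field K] {V : Type*} [AddCommGroup V] [Module K V]
    {a b : V} (ha : a ≠ 0) (hb : b ∉ Submodule.span K {a}) : LinearIndependent K ![a, b] := by
  rw [LinearIndependent.pair_iff' ha]
  intro c hc
  apply hb
  rw [Submodule.mem_span_singleton]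
  exact ⟨c, hc⟩

include hHM in
/-- rational transfer with an arbitrary non-zero rational factor -/
theorem tg_transfer_rat [Fintype F] (h2 : (2 : F) = 0) (hn : 5 ≤ n) {a b u v : Fin n → F₀}
    (h : SP Qz' a b) (h' : SP Qz' u v)
    (hδ : QuadraticMap.polar Qz' a u * QuadraticMap.polar Qz' b v
      - QuadraticMap.polar Qz' a v * QuadraticMap.polar Qz' b u ≠ 0)
    {θ : F} (hθ : tg hQ (E a) (E b) θ ∈ M') {lam : F₀} (hlam : lam ≠ 0) :
    tg hQ (E u) (E v) ((lam : F) * θ) ∈ M' := by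
  haveI : Fintype F₀ := Fintype.ofFinite F₀
  have h2' := two_eq_zero_sub (F₀ := F₀) h2
  obtain ⟨δ, hδdef⟩ : ∃ δ : F₀, δ = QuadraticMap.polar Qz' a u * QuadraticMap.polar Qz' b v
      - QuadraticMap.polar Qz' a v * QuadraticMap.polar Qz' b u := ⟨_, rfl⟩
  rw [← hδdef] at hδ
  have hΔ : (δ : F) = QuadraticMap.polar ⇑Qf (E a) (E u) * QuadraticMap.polar ⇑Qf (E b) (E v)
      - QuadraticMap.polar ⇑Qf (E a) (E v) * QuadraticMap.polar ⇑Qf (E b) (E u) := by
    rw [hδdef, Subfield.coe_sub, Subfield.coe_mul, Subfield.coe_mul, coe_polar_Qz, coe_polar_Qz,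
      coe_polar_Qz, coe_polar_Qz]
  have hΔ0 : (δ : F) ≠ 0 := by
    intro h0
    apply hδ
    exact Subtype.ext h0
  obtain ⟨s, hs⟩ := exists_sq_eq h2' (lam * δ)⁻¹
  have hs0 : s ≠ 0 := by
    rintro rfl
    rw [mul_zero] at hs
    exact inv_ne_zero (mul_ne_zero hlam hδ) hs.symm
  have hsF : (s : F) ≠ 0 := by
    intro h0
    apply hs0
    exact Subtype.ext h0
  have hlamF : (lam : F) ≠ 0 := by
    intro h0
    apply hlam
    exact Subtype.ext h0
  have hsq : (s : F) ^ 2 * (δ : F) = ((lam : F))⁻¹ := by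
    have h3 : ((s * s : F₀) : F) = (((lam * δ)⁻¹ : F₀) : F) := by rw [hs]
    rw [Subfield.coe_mul, Subfield.coe_inv, Subfield.coe_mul] at h3
    rw [pow_two, h3]
    field_simp
  have key := tg_transfer hQ M' (SP_emb Qf hQ F₀ e hP h) (SP_emb Qf hQ F₀ e hP h') hΔ hΔ0
    (a := (s : F)) hsF
    (tg_rat_mem Qf hQ F₀ e hP M' hHM hn h (F₀.neg_mem s.2))
    (tg_rat_mem Qf hQ F₀ e hP M' hHM hn h' (F₀.div_mem (F₀.neg_mem (F₀.inv_mem s.2)) δ.2)) hθ
  rw [hsq] at key
  have : θ / ((lam : F))⁻¹ = (lam : F) * θ := by field_simp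
  rw [this] at key
  exact key

include hHM in
/-- rational scaling of a parameter -/
theorem tg_scale_rat [Fintype F] (h2 : (2 : F) = 0) (hn : 6 ≤ n) {a b : Fin n → F₀}
    (h : SP Qz' a b) (hli : LinearIndependent F₀ ![a, b])
    {θ : F} (hθ : tg hQ (E a) (E b) θ ∈ M') (lam : F₀) :
    tg hQ (E a) (E b) ((lam : F) * θ) ∈ M' := by
  haveI : Fintype F₀ := Fintype.ofFinite F₀
  have hQz := nondeg_Qz hQ F₀ e hP
  by_cases hlam : lam = 0
  · rw [hlam, Subfield.coe_zero, zero_mul, tg_zero hQ (SP_emb Qf hQ F₀ e hP h)]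
    exact M'.one_mem
  obtain ⟨u, v, huv, hd₁, -⟩ := exists_common_opp hQz (by rw [Fintype.card_fin]; exact hn)
    h h hli hli
  have hd' : QuadraticMap.polar Qz' a u * QuadraticMap.polar Qz' b v
      - QuadraticMap.polar Qz' a v * QuadraticMap.polar Qz' b u ≠ 0 := by
    intro h0
    apply hd₁
    rw [QuadraticMap.polar_comm (Qz') u a, QuadraticMap.polar_comm (Qz') v b,
      QuadraticMap.polar_comm (Qz') u b, QuadraticMap.polar_comm (Qz') v a]
    rw [← h0]
    ring
  have h1 := tg_transfer_rat Qf hQ F₀ e hP M' hHM h2 (by omega) h huv hd' hθ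
    (lam := 1) one_ne_zero
  rw [Subfield.coe_one, one_mul] at h1
  exact tg_transfer_rat Qf hQ F₀ e hP M' hHM h2 (by omega) huv h hd₁ h1 hlam

include hHM in
/-- one rational root group containing the parameter `θ` forces all of them to -/
theorem tg_spread_rat [Fintype F] (h2 : (2 : F) = 0) (hn : 6 ≤ n) {a b : Fin n → F₀}
    (h : SP Qz' a b) (hli : LinearIndependent F₀ ![a, b])
    {θ : F} (hθ : tg hQ (E a) (E b) θ ∈ M') {a' b' : Fin n → F₀} (h' : SP Qz' a' b')
    (hli' : LinearIndependent F₀ ![a', b']) : tg hQ (E a') (E b') θ ∈ M' := by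
  haveI : Fintype F₀ := Fintype.ofFinite F₀
  have hQz := nondeg_Qz hQ F₀ e hP
  obtain ⟨u, v, huv, hd₁, hd₂⟩ := exists_common_opp hQz (by rw [Fintype.card_fin]; exact hn)
    h h' hli hli'
  have hd' : QuadraticMap.polar Qz' a u * QuadraticMap.polar Qz' b v
      - QuadraticMap.polar Qz' a v * QuadraticMap.polar Qz' b u ≠ 0 := by
    intro h0
    apply hd₁
    rw [QuadraticMap.polar_comm (Qz') u a, QuadraticMap.polar_comm (Qz') v b,
      QuadraticMap.polar_comm (Qz') u b, QuadraticMap.polar_comm (Qz') v a]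
    rw [← h0]
    ring
  have h1 := tg_transfer_rat Qf hQ F₀ e hP M' hHM h2 (by omega) h huv hd' hθ
    (lam := 1) one_ne_zero
  rw [Subfield.coe_one, one_mul] at h1
  have h3 := tg_transfer_rat Qf hQ F₀ e hP M' hHM h2 (by omega) huv h' hd₂ h1
    (lam := 1) one_ne_zero
  rw [Subfield.coe_one, one_mul] at h3
  exact h3

/-- the universal parameters -/
def parOK (θ : F) : Prop :=
  ∀ a b : Fin n → F₀, SP Qz' a b → LinearIndependent F₀ ![a, b] → tg hQ (E a) (E b) θ ∈ M'

include hHM in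
theorem parOK_of_mem [Fintype F] (h2 : (2 : F) = 0) (hn : 6 ≤ n) {a b : Fin n → F₀}
    (h : SP Qz' a b) (hli : LinearIndependent F₀ ![a, b])
    {θ : F} (hθ : tg hQ (E a) (E b) θ ∈ M') : parOK Qf hQ F₀ e hP M' θ :=
  fun a' b' h' hli' => tg_spread_rat Qf hQ F₀ e hP M' hHM h2 hn h hli hθ h' hli'

include hHM in
theorem parOK_rat [Fintype F] (hn : 5 ≤ n) {c : F} (hc : c ∈ F₀) :
    parOK Qf hQ F₀ e hP M' c :=
  fun a b h _ => tg_rat_mem Qf hQ F₀ e hP M' hHM hn h hc

theorem parOK_add {α β : F} (hα : parOK Qf hQ F₀ e hP M' α) (hβ : parOK Qf hQ F₀ e hP M' β) :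
    parOK Qf hQ F₀ e hP M' (α + β) := by
  intro a b h hli
  rw [← tg_mul hQ (SP_emb Qf hQ F₀ e hP h)]
  exact M'.mul_mem (hα a b h hli) (hβ a b h hli)

include hQ in
/-- the universal parameters are closed under products -/
theorem parOK_mul [Fintype F] (h2 : (2 : F) = 0) (hn : 9 ≤ n) {α β : F}
    (hα : parOK Qf hQ F₀ e hP M' α) (hβ : parOK Qf hQ F₀ e hP M' β) :
    parOK Qf hQ F₀ e hP M' (α * β) := by
  haveI : Fintype F₀ := Fintype.ofFinite F₀
  have hQz := nondeg_Qz hQ F₀ e hP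
  have h2' := two_eq_zero_sub (F₀ := F₀) h2
  intro a d had hli
  have ha0 : a ≠ 0 := li_ne_zero_left hli
  have hd0 : d ≠ 0 := li_ne_zero_right hli
  obtain ⟨S, hS⟩ : ∃ S : Submodule F₀ (Fin n → F₀), S = Submodule.span F₀ {a, d} := ⟨_, rfl⟩
  have hfr : Module.finrank F₀ S ≤ 2 := by
    rw [hS]; exact Cfsg.Agent.Helper45.OrInSL.finrank_span_pair_le a d
  have haS : a ∈ S := by rw [hS]; exact Submodule.subset_span (by simp)
  have hdS : d ∈ S := by rw [hS]; exact Submodule.subset_span (by simp)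
  obtain ⟨c, hcS, hcQ, hcn⟩ := exists_singular_not_mem hQz h2' S (by omega)
  obtain ⟨f, hfS, hfQ, hfc⟩ := exists_partner_perp hQz h2' S (by omega) hcn
  have hca : QuadraticMap.polar Qz' c a = 0 := hcS a haS
  have hcd : QuadraticMap.polar Qz' c d = 0 := hcS d hdS
  have hfa : QuadraticMap.polar Qz' f a = 0 := hfS a haS
  have hfd : QuadraticMap.polar Qz' f d = 0 := hfS d hdS
  have hac : SP Qz' a c := ⟨had.1, hcQ, by rw [QuadraticMap.polar_comm]; exact hca⟩
  have hdf : SP Qz' d f := ⟨had.2.1, hfQ, by rw [QuadraticMap.polar_comm]; exact hfd⟩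
  have hliac : LinearIndependent F₀ ![a, c] := by
    apply li_of_not_mem_span ha0
    intro hmem
    apply hcn
    rw [hS]
    exact Submodule.span_mono (by simp) hmem
  have hlidf : LinearIndependent F₀ ![d, f] := by
    apply li_of_not_mem_span hd0
    intro hmem
    obtain ⟨t, ht⟩ := Submodule.mem_span_singleton.1 hmem
    rw [← ht, Cfsg.Agent.Helper45.OrInSL.b_smul_left hQz, QuadraticMap.polar_comm (Qz') d c, hcd,
      mul_zero] at hfc
    exact zero_ne_one hfc
  have hacE := SP_emb Qf hQ F₀ e hP hac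
  have hdfE := SP_emb Qf hQ F₀ e hP hdf
  have e11 : QuadraticMap.polar ⇑Qf (E a) (E d) = 0 := (SP_emb Qf hQ F₀ e hP had).2.2
  have e12 : QuadraticMap.polar ⇑Qf (E a) (E f) = 0 := by
    rw [← coe_polar_Qz F₀ e hP, QuadraticMap.polar_comm, hfa]; rfl
  have e21 : QuadraticMap.polar ⇑Qf (E c) (E d) = 0 := by
    rw [← coe_polar_Qz F₀ e hP, hcd]; rfl
  have e22 : QuadraticMap.polar ⇑Qf (E c) (E f) = 1 := by
    rw [← coe_polar_Qz F₀ e hP, QuadraticMap.polar_comm, hfc]; rfl
  have key := tg_comm_formula hQ hacE hdfE e11 e12 e21 α β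
  rw [e22, mul_one] at key
  rw [← key]
  have m1 := hα a c hac hliac
  have m2 := hβ d f hdf hlidf
  exact M'.mul_mem (M'.mul_mem (M'.mul_mem m1 m2) (M'.inv_mem m1)) (M'.inv_mem m2)

include hHM in
/-- a single irrational universal parameter makes every parameter universal -/
theorem parOK_all [Fintype F] (h2 : (2 : F) = 0) (hn : 9 ≤ n)
    (hN : Cfsg.Agent.Helper45.SubSL.NoInter F₀) {θ : F} (hθ : parOK Qf hQ F₀ e hP M' θ)
    (hθ0 : θ ∉ F₀) : ∀ t : F, parOK Qf hQ F₀ e hP M' t :=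
  Cfsg.Agent.Helper45.SubSL.forall_mem_of_closed hN {t | parOK Qf hQ F₀ e hP M' t}
    (fun x hx => parOK_rat Qf hQ F₀ e hP M' hHM (by omega) hx)
    (fun x y hx hy => parOK_add Qf hQ F₀ e hP M' hx hy)
    (fun x y hx hy => parOK_mul Qf hQ F₀ e hP M' h2 hn hx hy) hθ hθ0

end Fixed

end Cfsg.Agent.Helper45.SubOm
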