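import Mathlib
import Cfsg.Agent.Helper45.SubOmD

/-!
# The hard case, and `Ω ≤ M'` outside the hard case (characteristic two)
-/

set_option autoImplicit false
set_option linter.unusedSectionVars false
set_option linter.unusedVariables false
set_option linter.unusedSimpArgs false
set_option linter.style.haveILetI false

namespace Cfsg.Agent.Helper45.SubOm

open Matrix Cfsg Cfsg.Geo Cfsg.Agent.Helper94 Cfsg.Agent.Helper94.ORoot Cfsg.Agent.Helper94.SubW

variable {ι : Type} [Fintype ι] [DecidableEq ι] {F : Type*} [Field F] {n : ℕ}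

theorem finrank_span_quad_le {K : Type*} [Field K] (x y z w : Fin n → K) :
    Module.finrank K (Submodule.span K {x, y, z, w} : Submodule K (Fin n → K)) ≤ 4 := by
  rw [Submodule.span_insert, sup_comm]
  have h1 := Cfsg.Agent.Helper45.OrInSL.finrank_sup_span_singleton_le (Submodule.span K {y, z, w}) x
  have h2 := Cfsg.Agent.Helper45.OrInSL.finrank_span_triple_le y z w
  omega

section Generic

variable {Q : (ι → F) → F} (hQ : IsNondegenerateQuadraticForm Q)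

theorem tg_one (p r : ι → F) : tg hQ p r 1 = sg hQ p r := by
  unfold tg
  rw [one_smul]

/-- moving the second vector of a root element by a root element fixing the first -/
theorem sg_move (M' : Subgroup ↥(isometryGroup F Q)) {u y p r : ι → F} (hu : SP Q u y)
    (hpr : SP Q p r) (hup : QuadraticMap.polar Q p u = 0) (hur : QuadraticMap.polar Q r u = 0)
    (h1 : sg hQ u y ∈ M') (h2 : sg hQ p r ∈ M') :
    sg hQ u (QuadraticMap.polar Q p y • r - QuadraticMap.polar Q r y • p) ∈ M' := by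
  have hfix : act (sg hQ p r) u = u := by
    rw [act_sg hQ hpr, hup, hur]
    simp
  have hconj : sg hQ p r * sg hQ u y * (sg hQ p r)⁻¹ = sg hQ u (act (sg hQ p r) y) := by
    rw [sg_conj hQ _ hu, hfix]
  have hm : sg hQ u (act (sg hQ p r) y) ∈ M' := by
    rw [← hconj]
    exact M'.mul_mem (M'.mul_mem h2 h1) (M'.inv_mem h2)
  have hsp1 : SP Q u (act (sg hQ p r) y) := by
    refine ⟨hu.1, by rw [Q_act (sg hQ p r) y, hu.2.1], ?_⟩
    have := B_act (sg hQ p r) u y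
    rw [hfix] at this
    rw [this, hu.2.2]
  have hsp2 : SP Q u (-y) := by
    have := hu.smul_right hQ (-1)
    rwa [neg_one_smul] at this
  have hyy : QuadraticMap.polar Q y y = 0 := by rw [B_self hQ, hu.2.1, mul_zero]
  have hvw : QuadraticMap.polar Q (act (sg hQ p r) y) (-y) = 0 := by
    rw [act_sg hQ hpr, B_neg_right hQ, B_sub_left hQ, B_add_left hQ, B_smul_left hQ,
      B_smul_left hQ, hyy]
    ring
  have h3 := sg_add hQ hsp1 hsp2 hvw
  have h4 : act (sg hQ p r) y + -y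
      = QuadraticMap.polar Q p y • r - QuadraticMap.polar Q r y • p := by
    rw [act_sg hQ hpr]
    abel
  rw [h4, ← sg_inv hQ hu] at h3
  rw [← h3]
  exact M'.mul_mem hm (M'.inv_mem h1)

end Generic

/-- the hard case: every root element of `M'` through a rational singular point is rational -/
def HardCase (Qf : QuadraticForm F (ι → F)) (hQ : IsNondegenerateQuadraticForm ⇑Qf)
    (F₀ : Subfield F) (P : GL ι F) (e : ι ≃ Fin n) (M' : Subgroup ↥(isometryGroup F ⇑Qf)) : Prop :=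
  ∀ (a : Fin n → F₀) (y : ι → F), a ≠ 0 → SP ⇑Qf (emb F₀ P e a) y → sg hQ (emb F₀ P e a) y ∈ M' →
    ∃ (y₀ : Fin n → F₀) (τ : F), y = emb F₀ P e y₀ + τ • emb F₀ P e a

variable (Qf : QuadraticForm F (ι → F)) (hQ : IsNondegenerateQuadraticForm ⇑Qf)

section Fixed

variable (F₀ : Subfield F) {P : GL ι F} (e : ι ≃ Fin n)
  (hP : Cfsg.Geo.IsQuadFormRationalStructure ⇑Qf F₀ P)
  (M' : Subgroup ↥(isometryGroup F ⇑Qf))
  (hHM : (Cfsg.Geo.subfieldSubgroup F₀ P ⊓ Cfsg.Geo.omegaGL ⇑Qf).comap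
    (isometryGroup F ⇑Qf).subtype ≤ M')

local notation "E" => emb F₀ P e
local notation "Qz'" => Qz F₀ e hP

include hQ in
/-- a vector whose polar values against the rational part of `a^⊥` are rational is rational up to
a multiple of `a` -/
theorem exists_rat_add_smul [Fintype F] (h2 : (2 : F) = 0) (hn : 5 ≤ n) {a : Fin n → F₀}
    (ha0 : a ≠ 0) {y : ι → F}
    (h : ∀ x : Fin n → F₀, QuadraticMap.polar Qz' a x = 0 →
      QuadraticMap.polar ⇑Qf y (E x) ∈ F₀) :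
    ∃ (y₀ : Fin n → F₀) (τ : F), y = E y₀ + τ • E a := by
  haveI : Fintype F₀ := Fintype.ofFinite F₀
  have hQz := nondeg_Qz hQ F₀ e hP
  obtain ⟨a', -, haa'⟩ := exists_rat_partner Qf hQ F₀ e hP h2 hn ha0
  have haa'E : QuadraticMap.polar ⇑Qf (E a) (E a') = 1 := by
    rw [← coe_polar_Qz F₀ e hP, haa']; rfl
  obtain ⟨τ, hτ⟩ : ∃ τ : F, τ = QuadraticMap.polar ⇑Qf y (E a') := ⟨_, rfl⟩
  have hall : ∀ x : Fin n → F₀, QuadraticMap.polar ⇑Qf (y - τ • E a) (E x) ∈ F₀ := by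
    intro x
    obtain ⟨β, hβ⟩ : ∃ β : F₀, β = QuadraticMap.polar Qz' a x := ⟨_, rfl⟩
    have hx₁ : QuadraticMap.polar Qz' a (x - β • a') = 0 := by
      rw [Cfsg.Agent.Helper45.OrInSL.b_sub_right hQz, Cfsg.Agent.Helper45.OrInSL.b_smul_right hQz,
        haa', ← hβ]
      ring
    have hx : E x = E (x - β • a') + (β : F) • E a' := by
      rw [emb_sub, emb_smul]
      abel
    have h3 := h _ hx₁
    have hax₁ : QuadraticMap.polar ⇑Qf (E a) (E (x - β • a')) = 0 := by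
      rw [← coe_polar_Qz F₀ e hP, hx₁]; rfl
    have h4 : QuadraticMap.polar ⇑Qf (y - τ • E a) (E x)
        = QuadraticMap.polar ⇑Qf y (E (x - β • a')) := by
      rw [hx, B_add_right hQ, B_smul_right hQ, B_sub_left hQ, B_sub_left hQ, B_smul_left hQ,
        B_smul_left hQ, hax₁, haa'E, ← hτ]
      ring
    rw [h4]
    exact h3
  obtain ⟨z, hz⟩ := exists_emb_of_polar_mem hQ F₀ e hP hall
  refine ⟨z, τ, ?_⟩
  rw [← hz]
  abel

include hQ in
/-- rationality of the polar values on the singular part of `a^⊥` extends to all of `a^⊥` -/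
theorem polar_mem_of_singular [Fintype F] (h2 : (2 : F) = 0) (hn : 7 ≤ n) {a : Fin n → F₀}
    {y : ι → F}
    (h : ∀ b : Fin n → F₀, Qz' b = 0 → QuadraticMap.polar Qz' a b = 0 →
      QuadraticMap.polar ⇑Qf y (E b) ∈ F₀) :
    ∀ x : Fin n → F₀, QuadraticMap.polar Qz' a x = 0 →
      QuadraticMap.polar ⇑Qf y (E x) ∈ F₀ := by
  haveI : Fintype F₀ := Fintype.ofFinite F₀
  have hQz := nondeg_Qz hQ F₀ e hP
  have h2' := two_eq_zero_sub (F₀ := F₀) h2
  let W₀ : Submodule F₀ (Fin n → F₀) :=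
    { carrier := {x | QuadraticMap.polar ⇑Qf y (E x) ∈ F₀}
      add_mem' := by
        intro x x' hx hx'
        show QuadraticMap.polar ⇑Qf y (E (x + x')) ∈ F₀
        rw [emb_add, B_add_right hQ]
        exact F₀.add_mem hx hx'
      zero_mem' := by
        show QuadraticMap.polar ⇑Qf y (E 0) ∈ F₀
        rw [emb_zero, B_zero_right hQ]
        exact F₀.zero_mem
      smul_mem' := by
        intro c x hx
        show QuadraticMap.polar ⇑Qf y (E (c • x)) ∈ F₀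
        rw [emb_smul, B_smul_right hQ]
        exact F₀.mul_mem c.2 hx }
  have hW₀ : ∀ x, x ∈ W₀ ↔ QuadraticMap.polar ⇑Qf y (E x) ∈ F₀ := fun x => Iff.rfl
  have hfr := Cfsg.Agent.Helper45.OrInSL.finrank_span_singleton_le_one a
  have h1 : Cfsg.Agent.Helper45.OrInSL.perp hQz (Submodule.span F₀ {a}) ≤ W₀ := by
    apply perp_le_of_singular2 hQz h2' _ (by omega)
    intro b hb hbQ
    rw [hW₀]
    apply h b hbQ
    rw [QuadraticMap.polar_comm]
    exact (Cfsg.Agent.Helper45.OrInSL.mem_perp_singleton hQz).1 hb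
  intro x hx
  rw [← hW₀]
  apply h1
  rw [Cfsg.Agent.Helper45.OrInSL.mem_perp_singleton hQz, QuadraticMap.polar_comm]
  exact hx

include hHM in
/-- outside the hard case some rational root group contains an irrational parameter -/
theorem exists_tg_of_not_hard [Fintype F] (h2 : (2 : F) = 0) (hn : 13 ≤ n)
    (hnh : ¬ HardCase Qf hQ F₀ P e M') :
    ∃ (a c : Fin n → F₀) (θ : F), SP Qz' a c ∧ LinearIndependent F₀ ![a, c] ∧ θ ∉ F₀ ∧
      tg hQ (E a) (E c) θ ∈ M' := by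
  haveI : Fintype F₀ := Fintype.ofFinite F₀
  have hQz := nondeg_Qz hQ F₀ e hP
  have h2' := two_eq_zero_sub (F₀ := F₀) h2
  unfold HardCase at hnh
  push Not at hnh
  obtain ⟨a, y, ha0, hsp, hmem, hnot⟩ := hnh
  have haQ : Qz' a = 0 := (Qz_eq_zero_iff hQ F₀ e hP a).2 hsp.1
  -- a rational singular vector of `a^⊥` with irrational polar value against `y`
  obtain ⟨b₁, hb₁Q, hab₁, hθ⟩ : ∃ b₁ : Fin n → F₀, Qz' b₁ = 0 ∧ QuadraticMap.polar Qz' a b₁ = 0 ∧
      QuadraticMap.polar ⇑Qf y (E b₁) ∉ F₀ := by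
    by_contra hcon
    push Not at hcon
    obtain ⟨y₀, τ, hy⟩ := exists_rat_add_smul Qf hQ F₀ e hP h2 (by omega) ha0
      (polar_mem_of_singular Qf hQ F₀ e hP h2 (by omega) (a := a) (y := y) hcon)
    exact hnot y₀ τ hy
  obtain ⟨θ, hθdef⟩ : ∃ θ : F, θ = QuadraticMap.polar ⇑Qf y (E b₁) := ⟨_, rfl⟩
  rw [← hθdef] at hθ
  -- the auxiliary rational vectors
  obtain ⟨S₁, hS₁⟩ : ∃ S₁ : Submodule F₀ (Fin n → F₀), S₁ = Submodule.span F₀ {a, b₁} := ⟨_, rfl⟩
  have hfr₁ : Module.finrank F₀ S₁ ≤ 2 := by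
    rw [hS₁]; exact Cfsg.Agent.Helper45.OrInSL.finrank_span_pair_le a b₁
  have haS₁ : a ∈ S₁ := by rw [hS₁]; exact Submodule.subset_span (by simp)
  have hbS₁ : b₁ ∈ S₁ := by rw [hS₁]; exact Submodule.subset_span (by simp)
  obtain ⟨c, hcS, hcQ, hcn⟩ := exists_singular_not_mem hQz h2' S₁ (by omega)
  obtain ⟨b₂, hb₂S, hb₂Q, hb₂c⟩ := exists_partner_perp hQz h2' S₁ (by omega) hcn
  obtain ⟨S₂, hS₂⟩ : ∃ S₂ : Submodule F₀ (Fin n → F₀), S₂ = Submodule.span F₀ {a, b₁, c, b₂} :=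
    ⟨_, rfl⟩
  have hfr₂ : Module.finrank F₀ S₂ ≤ 4 := by
    rw [hS₂]; exact finrank_span_quad_le a b₁ c b₂
  have haS₂ : a ∈ S₂ := by rw [hS₂]; exact Submodule.subset_span (by simp)
  have hb₁S₂ : b₁ ∈ S₂ := by rw [hS₂]; exact Submodule.subset_span (by simp)
  have hcS₂ : c ∈ S₂ := by rw [hS₂]; exact Submodule.subset_span (by simp)
  have hb₂S₂ : b₂ ∈ S₂ := by rw [hS₂]; exact Submodule.subset_span (by simp)
  obtain ⟨c₂, hc₂S, hc₂Q, hc₂n⟩ := exists_singular_not_mem hQz h2' S₂ (by omega)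
  -- polar values
  have eE : ∀ x x' : Fin n → F₀, QuadraticMap.polar Qz' x x' = 0 →
      QuadraticMap.polar ⇑Qf (E x) (E x') = 0 := by
    intro x x' hxx'
    rw [← coe_polar_Qz F₀ e hP, hxx']; rfl
  have hca : QuadraticMap.polar Qz' c a = 0 := hcS a haS₁
  have hcb₁ : QuadraticMap.polar Qz' c b₁ = 0 := hcS b₁ hbS₁
  have hb₂a : QuadraticMap.polar Qz' b₂ a = 0 := hb₂S a haS₁
  have hb₂b₁ : QuadraticMap.polar Qz' b₂ b₁ = 0 := hb₂S b₁ hbS₁
  have hc₂a : QuadraticMap.polar Qz' c₂ a = 0 := hc₂S a haS₂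
  have hc₂b₁ : QuadraticMap.polar Qz' c₂ b₁ = 0 := hc₂S b₁ hb₁S₂
  have hc₂c : QuadraticMap.polar Qz' c₂ c = 0 := hc₂S c hcS₂
  have hc₂b₂ : QuadraticMap.polar Qz' c₂ b₂ = 0 := hc₂S b₂ hb₂S₂
  have hb₂cE : QuadraticMap.polar ⇑Qf (E b₂) (E c) = 1 := by
    rw [← coe_polar_Qz F₀ e hP, hb₂c]; rfl
  -- first move
  have hsp1 : SP Qz' b₁ c := ⟨hb₁Q, hcQ, by rw [QuadraticMap.polar_comm]; exact hcb₁⟩
  have hsp1E := SP_emb Qf hQ F₀ e hP hsp1
  have hm1 : sg hQ (E b₁) (E c) ∈ M' := by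
    rw [← tg_one hQ]
    exact tg_rat_mem Qf hQ F₀ e hP M' hHM (by omega) hsp1 F₀.one_mem
  have step1 := sg_move hQ M' hsp hsp1E
    (by rw [QuadraticMap.polar_comm]; exact eE a b₁ hab₁) (eE c a hca) hmem hm1
  obtain ⟨β, hβ⟩ : ∃ β : F, β = QuadraticMap.polar ⇑Qf (E c) y := ⟨_, rfl⟩
  rw [QuadraticMap.polar_comm ⇑Qf (E b₁) y, ← hθdef, ← hβ] at step1
  -- second move
  have hsp2 : SP Qz' b₂ c₂ := ⟨hb₂Q, hc₂Q, by rw [QuadraticMap.polar_comm]; exact hc₂b₂⟩
  have hsp2E := SP_emb Qf hQ F₀ e hP hsp2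
  have hm2 : sg hQ (E b₂) (E c₂) ∈ M' := by
    rw [← tg_one hQ]
    exact tg_rat_mem Qf hQ F₀ e hP M' hHM (by omega) hsp2 F₀.one_mem
  have hacE : QuadraticMap.polar ⇑Qf (E a) (E c) = 0 := by
    rw [QuadraticMap.polar_comm]; exact eE c a hca
  have hab₁E : QuadraticMap.polar ⇑Qf (E a) (E b₁) = 0 := eE a b₁ hab₁
  have hspy' : SP ⇑Qf (E a) (θ • E c - β • E b₁) := by
    refine ⟨hsp.1, ?_, ?_⟩
    · have := Q_comb hQ hsp1E.symm θ (-β)
      rw [neg_smul, ← sub_eq_add_neg] at this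
      exact this
    · rw [B_sub_right hQ, B_smul_right hQ, B_smul_right hQ, hacE, hab₁E]
      ring
  have step2 := sg_move hQ M' hspy' hsp2E (eE b₂ a hb₂a) (eE c₂ a hc₂a) step1 hm2
  have e1 : QuadraticMap.polar ⇑Qf (E b₂) (θ • E c - β • E b₁) = θ := by
    rw [B_sub_right hQ, B_smul_right hQ, B_smul_right hQ, hb₂cE, eE b₂ b₁ hb₂b₁]
    ring
  have e2 : QuadraticMap.polar ⇑Qf (E c₂) (θ • E c - β • E b₁) = 0 := by
    rw [B_sub_right hQ, B_smul_right hQ, B_smul_right hQ, eE c₂ c hc₂c, eE c₂ b₁ hc₂b₁]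
    ring
  rw [e1, e2, zero_smul, sub_zero] at step2
  refine ⟨a, c₂, θ, ⟨haQ, hc₂Q, by rw [QuadraticMap.polar_comm]; exact hc₂a⟩, ?_, hθ, step2⟩
  apply li_of_not_mem_span ha0
  intro hmem'
  apply hc₂n
  rw [hS₂]
  exact Submodule.span_mono (by simp) hmem'

include hHM hP in
/-- **outside the hard case, `Ω ≤ M'`** -/
theorem Omega_le_of_not_hard [Fintype F] (h2 : (2 : F) = 0) (hn : 13 ≤ n)
    (hN : Cfsg.Agent.Helper45.SubSL.NoInter F₀) (hnh : ¬ HardCase Qf hQ F₀ P e M') :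
    Cfsg.Omega F ⇑Qf ≤ M' := by
  obtain ⟨a, c, θ, hac, hli, hθ, hmem⟩ := exists_tg_of_not_hard Qf hQ F₀ e hP M' hHM h2 hn hnh
  have hpar := parOK_of_mem Qf hQ F₀ e hP M' hHM h2 (by omega) hac hli hmem
  have hall := parOK_all Qf hQ F₀ e hP M' hHM h2 (by omega) hN hpar hθ
  exact Omega_le_of_full2 Qf hQ F₀ e hP M' hHM h2 (by omega) hac hli
    (fun t => hall t a c hac hli)

end Fixed

end Cfsg.Agent.Helper45.SubOm
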