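import Mathlib
import Cfsg.Agent.Helper45.SubSLB

/-!
# Subfield subgroups of `SL_n`: elementary transvections and the generation lemma
-/

set_option autoImplicit false
set_option linter.style.haveILetI false
set_option linter.unusedSimpArgs false

namespace Cfsg.Agent.Helper45.SubSL

open Cfsg.Geo Matrix Module Cfsg.Agent.Helper93

variable {F : Type*} [Field F] {n : ℕ}

theorem smul_pr_ee {i j : Fin n} (hij : i ≠ j) (κ : F) :
    (κ • pr j : Module.Dual F (Fin n → F)) (ee i) = 0 := by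
  rw [LinearMap.smul_apply, pr_ee, if_neg (fun h => hij h.symm), smul_zero]

/-- elementary transvection `x ↦ x + κ x_j e_i` -/
noncomputable def xe (i j : Fin n) (hij : i ≠ j) (κ : F) : GL (Fin n) F :=
  tv (κ • pr j) (ee i) (smul_pr_ee hij κ)

theorem xe_mulVec (i j : Fin n) (hij : i ≠ j) (κ : F) (x : Fin n → F) :
    (xe i j hij κ : Matrix (Fin n) (Fin n) F).mulVec x = x + (κ * x j) • ee i := by
  unfold xe
  rw [tv_mulVec, LinearMap.smul_apply, pr_apply, smul_eq_mul]

theorem xe_add (i j : Fin n) (hij : i ≠ j) (κ κ' : F) :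
    xe i j hij (κ + κ') = xe i j hij κ * xe i j hij κ' := by
  apply gl_ext
  intro x
  rw [gl_mul_mulVec, xe_mulVec, xe_mulVec, xe_mulVec, Pi.add_apply, Pi.smul_apply, ee_of_ne hij.symm,
    smul_zero, add_zero, add_mul, add_smul]
  abel

theorem xe_inv_mulVec (i j : Fin n) (hij : i ≠ j) (κ : F) (x : Fin n → F) :
    (((xe i j hij κ)⁻¹ : GL (Fin n) F) : Matrix (Fin n) (Fin n) F).mulVec x
      = x - (κ * x j) • ee i := by
  unfold xe
  rw [tv_inv_mulVec, LinearMap.smul_apply, pr_apply, smul_eq_mul]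

/-- Chevalley commutator relation -/
theorem xe_comm {a b c : Fin n} (hab : a ≠ b) (hbc : b ≠ c) (hac : a ≠ c) (κ κ' : F) :
    xe a b hab κ * xe b c hbc κ' * (xe a b hab κ)⁻¹ * (xe b c hbc κ')⁻¹ = xe a c hac (κ * κ') := by
  apply gl_ext
  intro x
  rw [gl_mul_mulVec, gl_mul_mulVec, gl_mul_mulVec, xe_inv_mulVec, xe_inv_mulVec, xe_mulVec,
    xe_mulVec, xe_mulVec]
  simp only [Pi.add_apply, Pi.sub_apply, Pi.smul_apply, smul_eq_mul, ee_same, ee_of_ne hab.symm,
    ee_of_ne hbc.symm, ee_of_ne hac.symm, ee_of_ne hab, ee_of_ne hbc, ee_of_ne hac, mul_zero,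
    sub_zero, add_zero, mul_one]
  module

theorem exists_ne2 (hn : 3 ≤ n) (a b : Fin n) : ∃ c : Fin n, c ≠ a ∧ c ≠ b := by
  by_contra hcon
  push Not at hcon
  have h1 : (Finset.univ : Finset (Fin n)) ⊆ {a, b} := by
    intro c _
    by_cases hc : c = a
    · rw [hc]; exact Finset.mem_insert_self _ _
    · rw [hcon c hc]
      exact Finset.mem_insert_of_mem (Finset.mem_singleton_self _)
  have h2 := Finset.card_le_card h1
  have h3 : ({a, b} : Finset (Fin n)).card ≤ 2 := Finset.card_le_two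
  rw [Finset.card_univ, Fintype.card_fin] at h2
  omega

theorem exists_ne1 (hn : 2 ≤ n) (a : Fin n) : ∃ c : Fin n, c ≠ a := by
  by_contra hcon
  push Not at hcon
  have h1 : (Finset.univ : Finset (Fin n)) ⊆ {a} := by
    intro c _
    rw [hcon c]; exact Finset.mem_singleton_self _
  have h2 := Finset.card_le_card h1
  rw [Finset.card_univ, Fintype.card_fin, Finset.card_singleton] at h2
  omega

theorem exists_ne3 (hn : 4 ≤ n) (a b c : Fin n) : ∃ d : Fin n, d ≠ a ∧ d ≠ b ∧ d ≠ c := by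
  by_contra hcon
  push Not at hcon
  have h1 : (Finset.univ : Finset (Fin n)) ⊆ {a, b, c} := by
    intro d _
    by_cases hd : d = a
    · rw [hd]; exact Finset.mem_insert_self _ _
    · by_cases hd' : d = b
      · rw [hd']; exact Finset.mem_insert_of_mem (Finset.mem_insert_self _ _)
      · rw [hcon d hd hd']
        exact Finset.mem_insert_of_mem (Finset.mem_insert_of_mem (Finset.mem_singleton_self _))
  have h2 := Finset.card_le_card h1
  have h3 : ({a, b, c} : Finset (Fin n)).card ≤ 3 := Finset.card_le_three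
  rw [Finset.card_univ, Fintype.card_fin] at h2
  omega

variable {F₀ : Subfield F} {H : Subgroup (GL (Fin n) F)}

/-- the subgroup contains all rational transvections -/
def HasRat (F₀ : Subfield F) (H : Subgroup (GL (Fin n) F)) : Prop :=
  ∀ (φ : Module.Dual F (Fin n → F)) (u : Fin n → F) (h : φ u = 0),
    RatD F₀ φ → RatV F₀ u → tv φ u h ∈ H

theorem HasRat.xe (hrat : HasRat F₀ H) {a b : Fin n} (hab : a ≠ b) {κ : F} (hκ : κ ∈ F₀) :
    xe a b hab κ ∈ H :=
  hrat _ _ _ ((RatD.pr b).smul hκ) (RatV.ee a)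

theorem xe_rule1 (hrat : HasRat F₀ H) {a b c : Fin n} (hab : a ≠ b) (hbc : b ≠ c) (hac : a ≠ c)
    {κ : F} (h : xe a b hab κ ∈ H) : xe a c hac κ ∈ H := by
  have h1 := xe_comm hab hbc hac κ 1
  rw [mul_one] at h1
  rw [← h1]
  have h2 : xe b c hbc (1 : F) ∈ H := hrat.xe hbc F₀.one_mem
  exact H.mul_mem (H.mul_mem (H.mul_mem h h2) (H.inv_mem h)) (H.inv_mem h2)

theorem xe_rule2 (hrat : HasRat F₀ H) {a b c : Fin n} (hab : a ≠ b) (hbc : b ≠ c) (hac : a ≠ c)
    {κ : F} (h : xe b c hbc κ ∈ H) : xe a c hac κ ∈ H := by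
  have h1 := xe_comm hab hbc hac 1 κ
  rw [one_mul] at h1
  rw [← h1]
  have h2 : xe a b hab (1 : F) ∈ H := hrat.xe hab F₀.one_mem
  exact H.mul_mem (H.mul_mem (H.mul_mem h2 h) (H.inv_mem h2)) (H.inv_mem h)

/-- one elementary transvection with parameter `μ` gives all of them -/
theorem xe_spread (hn : 3 ≤ n) (hrat : HasRat F₀ H) {i k : Fin n} (hik : i ≠ k) {μ : F}
    (h : xe i k hik μ ∈ H) : ∀ (a b : Fin n) (hab : a ≠ b), xe a b hab μ ∈ H := by
  have S1 : ∀ (b : Fin n) (hb : i ≠ b), xe i b hb μ ∈ H := by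
    intro b hb
    by_cases hbk : b = k
    · subst hbk; exact h
    · exact xe_rule1 hrat hik (fun h' => hbk h'.symm) hb h
  have S2 : ∀ (a b : Fin n) (hab : a ≠ b), b ≠ i → a ≠ i → xe a b hab μ ∈ H := by
    intro a b hab hbi hai
    exact xe_rule2 hrat hai (fun h' => hbi h'.symm) hab (S1 b (fun h' => hbi h'.symm))
  intro a b hab
  by_cases hai : a = i
  · subst hai; exact S1 b hab
  · by_cases hbi : b = i
    · subst hbi
      obtain ⟨c, hca, hcb⟩ := exists_ne2 hn a b
      exact xe_rule1 hrat (fun h' => hca h'.symm) hcb hab (S2 a c (fun h' => hca h'.symm) hcb hai)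
    · exact S2 a b hab hbi hai

/-- the set of universal parameters -/
def parSet (H : Subgroup (GL (Fin n) F)) : Set F :=
  {κ | ∀ (a b : Fin n) (hab : a ≠ b), xe a b hab κ ∈ H}

theorem parSet_eq_univ [Fintype F] (hn : 3 ≤ n) (hN : NoInter F₀) (hrat : HasRat F₀ H)
    {i k : Fin n} (hik : i ≠ k) {μ : F} (hμ : μ ∉ F₀) (h : xe i k hik μ ∈ H) :
    ∀ κ : F, κ ∈ parSet H := by
  refine forall_mem_of_closed hN (parSet H) ?_ ?_ ?_ (xe_spread hn hrat hik h) hμ
  · intro x hx a b hab
    exact hrat.xe hab hx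
  · intro x y hx hy a b hab
    rw [xe_add]
    exact H.mul_mem (hx a b hab) (hy a b hab)
  · intro x y hx hy a c hac
    obtain ⟨b, hba, hbc⟩ := exists_ne2 hn a c
    rw [← xe_comm (fun h' => hba h'.symm) hbc hac x y]
    have h1 := hx a b (fun h' => hba h'.symm)
    have h2 := hy b c hbc
    exact H.mul_mem (H.mul_mem (H.mul_mem h1 h2) (H.inv_mem h1)) (H.inv_mem h2)

end Cfsg.Agent.Helper45.SubSL
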