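import Mathlib
import Cfsg.Agent.Helper45.SubSLC

/-!
# Subfield subgroups of `SL_n`: the generation lemma
A subgroup containing the rational transvections and one non-rational element of a rational root
group contains `SL_n`.
-/

set_option autoImplicit false
set_option linter.style.haveILetI false
set_option linter.unusedSimpArgs false

namespace Cfsg.Agent.Helper45.SubSL

open Cfsg.Geo Matrix Module Cfsg.Agent.Helper93

variable {F : Type*} [Field F] {n : ℕ}
variable {F₀ : Subfield F} {H : Subgroup (GL (Fin n) F)}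

theorem sum_smul_pr_ee (c : Fin n → F) (S : Finset (Fin n)) (i : Fin n) :
    (∑ j ∈ S, c j • (pr j : Module.Dual F (Fin n → F))) (ee i) = if i ∈ S then c i else 0 := by
  rw [LinearMap.sum_apply]
  simp only [LinearMap.smul_apply, pr_ee, smul_eq_mul, mul_ite, mul_one, mul_zero]
  rw [Finset.sum_ite_eq' S i c]

/-- all transvections with centre `e_i` lie in `H` when all parameters are universal -/
theorem tv_ee_mem (hpar : ∀ κ : F, κ ∈ parSet H) (i : Fin n) (c : Fin n → F) :
    ∀ (S : Finset (Fin n)), i ∉ S →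
      ∀ h : (∑ j ∈ S, c j • (pr j : Module.Dual F (Fin n → F))) (ee i) = 0,
        tv (∑ j ∈ S, c j • (pr j : Module.Dual F (Fin n → F))) (ee i) h ∈ H := by
  classical
  intro S
  induction S using Finset.induction_on with
  | empty =>
    intro _ h
    have : tv (∑ j ∈ (∅ : Finset (Fin n)), c j • (pr j : Module.Dual F (Fin n → F))) (ee i) h
        = 1 := by
      apply gl_ext
      intro x
      rw [tv_mulVec, Finset.sum_empty, LinearMap.zero_apply, zero_smul, add_zero, Units.val_one,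
        Matrix.one_mulVec]
    rw [this]; exact H.one_mem
  | insert j S hjS ih =>
    intro hiS h
    have hij : i ≠ j := fun h' => hiS (h' ▸ Finset.mem_insert_self _ _)
    have hiS' : i ∉ S := fun h' => hiS (Finset.mem_insert_of_mem h')
    have h1 : (∑ j ∈ S, c j • (pr j : Module.Dual F (Fin n → F))) (ee i) = 0 := by
      rw [sum_smul_pr_ee, if_neg hiS']
    have h2 : tv (∑ k ∈ insert j S, c k • (pr k : Module.Dual F (Fin n → F))) (ee i) h
        = xe i j hij (c j) * tv (∑ k ∈ S, c k • (pr k : Module.Dual F (Fin n → F))) (ee i) h1 := by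
      apply gl_ext
      intro x
      rw [gl_mul_mulVec, tv_mulVec, tv_mulVec, xe_mulVec, Finset.sum_insert hjS,
        LinearMap.add_apply, LinearMap.smul_apply, pr_apply, Pi.add_apply, Pi.smul_apply,
        ee_of_ne hij.symm, smul_zero, add_zero, smul_eq_mul, add_smul]
      abel
    rw [h2]
    exact H.mul_mem (hpar (c j) i j hij) (ih hiS' h1)

theorem tv_ee_mem' (hpar : ∀ κ : F, κ ∈ parSet H) (i : Fin n) (φ : Module.Dual F (Fin n → F))
    (h : φ (ee i) = 0) : tv φ (ee i) h ∈ H := by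
  classical
  have hφ : φ = ∑ j ∈ Finset.univ.erase i, (fun j => φ (ee j)) j • (pr j : Module.Dual F (Fin n → F)) := by
    apply dual_ext
    intro k
    rw [sum_smul_pr_ee]
    by_cases hk : k = i
    · rw [if_neg (by rw [hk]; exact Finset.notMem_erase _ _), hk, h]
    · rw [if_pos (Finset.mem_erase.mpr ⟨hk, Finset.mem_univ _⟩)]
  have h' : (∑ j ∈ Finset.univ.erase i, (fun j => φ (ee j)) j •
      (pr j : Module.Dual F (Fin n → F))) (ee i) = 0 := by rw [← hφ]; exact h
  rw [tv_congr hφ rfl h h']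
  exact tv_ee_mem hpar i (fun j => φ (ee j)) _ (Finset.notMem_erase _ _) h'

theorem vec_eq_sum (x : Fin n → F) : x = ∑ a, x a • (ee a : Fin n → F) := by
  funext b
  rw [Finset.sum_apply]
  simp only [Pi.smul_apply, ee_apply, smul_eq_mul, mul_ite, mul_one, mul_zero]
  rw [Finset.sum_ite_eq Finset.univ b x, if_pos (Finset.mem_univ _)]

/-- all parameters universal implies `SL_n ≤ H` -/
theorem sl_le_of_parSet (hn : 2 ≤ n) (hrat : HasRat F₀ H) (hpar : ∀ κ : F, κ ∈ parSet H) :
    specialLinear (Fin n) F ≤ H := by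
  haveI : Nontrivial (Fin n) := Fin.nontrivial_iff_two_le.mpr hn
  apply sl_le_of_dirSub_eq_top
  rw [eq_top_iff]
  have i0 : Fin n := ⟨0, by omega⟩
  have h0 : (ee i0 : Fin n → F) ∈ dirSub H := by
    rw [mem_dirSub]
    intro φ h
    exact tv_ee_mem' hpar i0 φ h
  have hall : ∀ a : Fin n, (ee a : Fin n → F) ∈ dirSub H := by
    intro a
    by_cases ha : a = i0
    · rw [ha]; exact h0
    · have hm : xe a i0 ha (1 : F) ∈ H := hrat.xe ha F₀.one_mem
      have h1 := dirSet_map (M := H) h0 hm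
      rw [xe_mulVec, ee_same, mul_one, one_smul] at h1
      have h2 : (ee a : Fin n → F) = (ee i0 + ee a) - ee i0 := by abel
      rw [h2]
      exact (dirSub H).sub_mem h1 h0
  intro x _
  rw [vec_eq_sum x]
  exact (dirSub H).sum_mem fun a _ => (dirSub H).smul_mem _ (hall a)

/-- a rational transvection sending `e_i` to a given rational vector -/
theorem exists_rat_map {v : Fin n → F} (hv : RatV F₀ v) {i j : Fin n} (hij : j ≠ i)
    (hvj : v j ≠ 0) :
    ∃ (φ0 : Module.Dual F (Fin n → F)) (h0 : φ0 (v - ee i) = 0), RatD F₀ φ0 ∧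
      (tv φ0 (v - ee i) h0 : Matrix (Fin n) (Fin n) F).mulVec (ee i) = v := by
  have h1 : (pr i + ((1 - v i) / v j) • pr j : Module.Dual F (Fin n → F)) (ee i) = 1 := by
    rw [LinearMap.add_apply, LinearMap.smul_apply, pr_apply, pr_apply, ee_same, ee_of_ne hij,
      smul_zero, add_zero]
  have h2 : (pr i + ((1 - v i) / v j) • pr j : Module.Dual F (Fin n → F)) v = 1 := by
    rw [LinearMap.add_apply, LinearMap.smul_apply, pr_apply, pr_apply, smul_eq_mul,
      div_mul_cancel₀ _ hvj]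
    ring
  have h0 : (pr i + ((1 - v i) / v j) • pr j : Module.Dual F (Fin n → F)) (v - ee i) = 0 := by
    rw [map_sub, h1, h2, sub_self]
  refine ⟨_, h0, ?_, ?_⟩
  · exact (RatD.pr i).add ((RatD.pr j).smul
      (F₀.div_mem (F₀.sub_mem F₀.one_mem (hv i)) (hv j)))
  · rw [tv_mulVec, h1, one_smul]
    abel

theorem dualPull_smul (c : F) (ψ : Module.Dual F (Fin n → F)) (g : GL (Fin n) F) :
    dualPull (c • ψ) g = c • dualPull ψ g := by
  apply LinearMap.ext
  intro x
  rw [dualPull_apply, LinearMap.smul_apply, LinearMap.smul_apply, dualPull_apply]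

theorem dualPull_ne_zero {ψ : Module.Dual F (Fin n → F)} (hψ : ψ ≠ 0) (g : GL (Fin n) F) :
    dualPull ψ g ≠ 0 := by
  intro h
  apply hψ
  apply LinearMap.ext
  intro x
  have := LinearMap.congr_fun h (((g⁻¹ : GL (Fin n) F) : Matrix (Fin n) (Fin n) F).mulVec x)
  rw [dualPull_apply, gl_inv_mulVec, LinearMap.zero_apply] at this
  rw [this, LinearMap.zero_apply]

theorem RatD.dualPull {ψ : Module.Dual F (Fin n → F)} (hψ : RatD F₀ ψ) {g : GL (Fin n) F}
    (hg : g ∈ ratGL (n := n) F₀) : RatD F₀ (dualPull ψ g) := by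
  intro i
  rw [dualPull_apply]
  exact hψ.apply ((RatV.ee i).mulVec hg)

/-- conjugation formula: `g⁻¹ (tv φ (g v)) g = tv (φ ∘ g) v` -/
theorem tv_conj' (g : GL (Fin n) F) (φ : Module.Dual F (Fin n → F)) (v : Fin n → F)
    (h : φ ((g : Matrix (Fin n) (Fin n) F).mulVec v) = 0) (h' : dualPull φ g v = 0) :
    tv (dualPull φ g) v h' = g⁻¹ * tv φ ((g : Matrix (Fin n) (Fin n) F).mulVec v) h * g := by
  rw [tv_conj g φ v h]
  group

/-- **generation lemma**: a non-rational element of a rational root group gives `SL_n` -/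
theorem sl_le_of_rat_tv [Fintype F] (hn : 3 ≤ n) (hN : NoInter F₀) (hrat : HasRat F₀ H)
    {v : Fin n → F} {ψ : Module.Dual F (Fin n → F)} (hv : RatV F₀ v) (hv0 : v ≠ 0)
    (hψ : RatD F₀ ψ) (hψ0 : ψ ≠ 0) {lam : F} (hlam : lam ∉ F₀) (h : (lam • ψ) v = 0)
    (hmem : tv (lam • ψ) v h ∈ H) : specialLinear (Fin n) F ≤ H := by
  have hlam0 : lam ≠ 0 := fun h0 => hlam (h0 ▸ F₀.zero_mem)
  have hψv : ψ v = 0 := by
    rw [LinearMap.smul_apply, smul_eq_mul] at h
    rcases mul_eq_zero.mp h with h' | h'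
    · exact absurd h' hlam0
    · exact h'
  obtain ⟨j, hj⟩ := exists_coord_ne_zero hv0
  obtain ⟨i, hij⟩ := exists_ne1 (by omega : 2 ≤ n) j
  obtain ⟨φ0, h0, hφ0, hm⟩ := exists_rat_map hv hij.symm hj
  obtain ⟨m, hmdef⟩ : ∃ m : GL (Fin n) F, m = tv φ0 (v - ee i) h0 := ⟨_, rfl⟩
  rw [← hmdef] at hm
  have hmR : m ∈ ratGL (n := n) F₀ := by
    rw [hmdef]; exact tv_mem_ratGL h0 hφ0 (hv.sub (RatV.ee i))
  have hmH : m ∈ H := by
    rw [hmdef]; exact hrat _ _ h0 hφ0 (hv.sub (RatV.ee i))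
  -- conjugate
  have e1 : (lam • ψ) ((m : Matrix (Fin n) (Fin n) F).mulVec (ee i)) = 0 := by rw [hm]; exact h
  have e2 : dualPull (lam • ψ) m (ee i) = 0 := by rw [dualPull_apply]; exact e1
  have h1 : tv (dualPull (lam • ψ) m) (ee i) e2 ∈ H := by
    rw [tv_conj' m (lam • ψ) (ee i) e1 e2]
    refine H.mul_mem (H.mul_mem (H.inv_mem hmH) ?_) hmH
    rw [tv_congr rfl hm e1 h]
    exact hmem
  obtain ⟨ψ', hψ'def⟩ : ∃ ψ' : Module.Dual F (Fin n → F), ψ' = dualPull ψ m := ⟨_, rfl⟩
  have hψ'R : RatD F₀ ψ' := by rw [hψ'def]; exact hψ.dualPull hmR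
  have hψ'0 : ψ' ≠ 0 := by rw [hψ'def]; exact dualPull_ne_zero hψ0 m
  have hψ'i : ψ' (ee i) = 0 := by rw [hψ'def, dualPull_apply, hm]; exact hψv
  have e3 : (lam • ψ') (ee i) = 0 := by rw [LinearMap.smul_apply, hψ'i, smul_zero]
  have h2 : tv (lam • ψ') (ee i) e3 ∈ H := by
    rw [tv_congr (by rw [hψ'def, dualPull_smul]) rfl e3 e2]
    exact h1
  -- extract an elementary transvection
  obtain ⟨j', hj'⟩ := exists_ee_ne_zero hψ'0
  have hij' : i ≠ j' := fun h' => hj' (h' ▸ hψ'i)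
  obtain ⟨k, hki, hkj'⟩ := exists_ne2 hn i j'
  have e4 : (pr k : Module.Dual F (Fin n → F)) (ee j') = 0 := by
    rw [pr_apply, ee_of_ne hkj']
  have e5 : (pr k : Module.Dual F (Fin n → F)) (ee i) = 0 := by
    rw [pr_apply, ee_of_ne hki]
  have e6 : (((lam • ψ') (ee j')) • (pr k : Module.Dual F (Fin n → F))) (ee i) = 0 := by
    rw [LinearMap.smul_apply, e5, smul_zero]
  have h3 := tv_comm (lam • ψ') (pr k) (ee i) (ee j') e3 e4 e5 e6
  have h4 : tv (pr k) (ee j') e4 ∈ H := hrat _ _ e4 (RatD.pr k) (RatV.ee j')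
  have h5 : tv (((lam • ψ') (ee j')) • (pr k : Module.Dual F (Fin n → F))) (ee i) e6 ∈ H := by
    rw [← h3]
    exact H.mul_mem (H.mul_mem (H.mul_mem h2 h4) (H.inv_mem h2)) (H.inv_mem h4)
  have h6 : xe i k (fun h' => hki h'.symm) (lam * ψ' (ee j')) ∈ H := by
    unfold xe
    rw [tv_congr (φ' := ((lam • ψ') (ee j')) • (pr k : Module.Dual F (Fin n → F))) (by
      rw [LinearMap.smul_apply, smul_eq_mul]) rfl _ e6]
    exact h5
  have hμ : lam * ψ' (ee j') ∉ F₀ := by
    intro hmem'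
    apply hlam
    have : lam = lam * ψ' (ee j') * (ψ' (ee j'))⁻¹ := by
      rw [mul_assoc, mul_inv_cancel₀ hj', mul_one]
    rw [this]
    exact F₀.mul_mem hmem' (F₀.inv_mem (hψ'R j'))
  exact sl_le_of_parSet (by omega) hrat
    (parSet_eq_univ hn hN hrat (fun h' => hki h'.symm) hμ h6)

end Cfsg.Agent.Helper45.SubSL
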