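import Mathlib
import Cfsg.Agent.Helper45.SubSLD

/-!
# Subfield subgroups of `SL_n`: the commutator case
A transvection of the overgroup outside the subfield group whose centre is killed by a non-zero rational
functional gives `SL_n`.
-/

set_option autoImplicit false
set_option linter.style.haveILetI false
set_option linter.unusedSimpArgs false

namespace Cfsg.Agent.Helper45.SubSL

open Cfsg.Geo Matrix Module Cfsg.Agent.Helper93

variable {F : Type*} [Field F] {n : ℕ}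
variable {F₀ : Subfield F} {H : Subgroup (GL (Fin n) F)}

/-- a non-zero rational vector with a prescribed zero coordinate in the kernel of a rational functional -/
theorem exists_rat_ker (hn : 3 ≤ n) {ψ : Module.Dual F (Fin n → F)} (hψ : RatD F₀ ψ) (k : Fin n) :
    ∃ w : Fin n → F, RatV F₀ w ∧ w ≠ 0 ∧ w k = 0 ∧ ψ w = 0 := by
  obtain ⟨a, hak⟩ := exists_ne1 (by omega : 2 ≤ n) k
  obtain ⟨b, hbk, hba⟩ := exists_ne2 hn k a
  by_cases h0 : ψ (ee a) = 0
  · exact ⟨ee a, RatV.ee a, ee_ne_zero a, ee_of_ne hak.symm, h0⟩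
  · refine ⟨ψ (ee b) • ee a - ψ (ee a) • ee b, ?_, ?_, ?_, ?_⟩
    · exact ((RatV.ee a).smul (hψ b)).sub ((RatV.ee b).smul (hψ a))
    · intro h
      have := congrFun h b
      rw [Pi.sub_apply, Pi.smul_apply, Pi.smul_apply, ee_of_ne hba, ee_same, smul_zero, zero_sub,
        smul_eq_mul, mul_one, Pi.zero_apply, neg_eq_zero] at this
      exact h0 this
    · rw [Pi.sub_apply, Pi.smul_apply, Pi.smul_apply, ee_of_ne hak.symm, ee_of_ne hbk.symm,
        smul_zero, smul_zero, sub_zero]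
    · rw [map_sub, map_smul, map_smul, smul_eq_mul, smul_eq_mul, mul_comm, sub_self]

/-- a transvection of `H` with rational axis and non-rational centre gives `SL_n` -/
theorem sl_le_of_tv_rat_axis [Fintype F] (hn : 3 ≤ n) (hN : NoInter F₀) (hrat : HasRat F₀ H)
    {ψ : Module.Dual F (Fin n → F)} (hψ : RatD F₀ ψ) (hψ0 : ψ ≠ 0) {u1 : Fin n → F}
    (h : ψ u1 = 0) (hmem : tv ψ u1 h ∈ H) {k : Fin n} (hk : u1 k ∉ F₀) :
    specialLinear (Fin n) F ≤ H := by
  obtain ⟨w, hwR, hw0, hwk, hψw⟩ := exists_rat_ker hn hψ k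
  have e1 : (pr k : Module.Dual F (Fin n → F)) w = 0 := by rw [pr_apply, hwk]
  have e2 : (((pr k : Module.Dual F (Fin n → F)) u1) • ψ) w = 0 := by
    rw [LinearMap.smul_apply, hψw, smul_zero]
  have h1 := tv_comm (pr k) ψ w u1 e1 h hψw e2
  have h2 : tv (pr k) w e1 ∈ H := hrat _ _ e1 (RatD.pr k) hwR
  have h3 : tv (((pr k : Module.Dual F (Fin n → F)) u1) • ψ) w e2 ∈ H := by
    rw [← h1]
    exact H.mul_mem (H.mul_mem (H.mul_mem h2 hmem) (H.inv_mem h2)) (H.inv_mem hmem)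
  have e3 : ((u1 k) • ψ) w = 0 := by rw [LinearMap.smul_apply, hψw, smul_zero]
  exact sl_le_of_rat_tv hn hN hrat hwR hw0 hψ hψ0 hk e3 h3

/-- **the commutator case** -/
theorem sl_le_of_nonfull [Fintype F] (hn : 3 ≤ n) (hN : NoInter F₀) (hrat : HasRat F₀ H)
    {φ : Module.Dual F (Fin n → F)} {u : Fin n → F} (h : φ u = 0) (hmem : tv φ u h ∈ H)
    (hnot : tv φ u h ∉ hat (n := n) F₀) {ψ : Module.Dual F (Fin n → F)} (hψ : RatD F₀ ψ)
    (hψ0 : ψ ≠ 0) (hψu : ψ u = 0) : specialLinear (Fin n) F ≤ H := by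
  obtain ⟨j0, hj0⟩ := exists_ee_ne_zero hψ0
  have hu0 : u ≠ 0 := by
    intro h0
    apply hnot
    have : tv φ u h = 1 := by
      apply gl_ext
      intro x
      rw [tv_mulVec, h0, smul_zero, add_zero, Units.val_one, Matrix.one_mulVec]
    rw [this]; exact Subgroup.one_mem _
  -- the rational vectors `vk k` spanning the kernel of `ψ`
  obtain ⟨vk, hvk⟩ : ∃ vk : Fin n → (Fin n → F), ∀ k, vk k = ee k - (ψ (ee k) / ψ (ee j0)) • ee j0 :=
    ⟨_, fun _ => rfl⟩
  have hvkR : ∀ k, RatV F₀ (vk k) := fun k => by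
    rw [hvk]; exact (RatV.ee k).sub ((RatV.ee j0).smul (F₀.div_mem (hψ k) (hψ j0)))
  have hvkψ : ∀ k, ψ (vk k) = 0 := fun k => by
    rw [hvk, map_sub, map_smul, smul_eq_mul, div_mul_cancel₀ _ hj0, sub_self]
  have hvkφ : ∀ (χ : Module.Dual F (Fin n → F)) (k : Fin n),
      χ (vk k) = χ (ee k) - ψ (ee k) / ψ (ee j0) * χ (ee j0) := fun χ k => by
    rw [hvk, map_sub, map_smul, smul_eq_mul]
  have hY : ∀ (k : Fin n) (h' : ((φ (vk k)) • ψ) u = 0), tv ((φ (vk k)) • ψ) u h' ∈ H := by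
    intro k h'
    rw [← tv_comm φ ψ u (vk k) h (hvkψ k) hψu h']
    have h2 : tv ψ (vk k) (hvkψ k) ∈ H := hrat _ _ _ hψ (hvkR k)
    exact H.mul_mem (H.mul_mem (H.mul_mem hmem h2) (H.inv_mem hmem)) (H.inv_mem h2)
  by_cases hall : ∀ k, φ (vk k) = 0
  · -- `φ` is a multiple of `ψ`
    have hφ : φ = (φ (ee j0) / ψ (ee j0)) • ψ := by
      apply dual_ext
      intro k
      have := hall k
      rw [hvkφ] at this
      rw [LinearMap.smul_apply, smul_eq_mul]
      field_simp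
      field_simp at this
      linear_combination this
    obtain ⟨c, hc⟩ : ∃ c : F, c = φ (ee j0) / ψ (ee j0) := ⟨_, rfl⟩
    rw [← hc] at hφ
    have e1 : ψ (c • u) = 0 := by rw [map_smul, hψu, smul_zero]
    have e2 : (c • ψ) u = 0 := by rw [LinearMap.smul_apply, hψu, smul_zero]
    have hx : tv φ u h = tv ψ (c • u) e1 := by
      rw [tv_smul ψ u c e1 e2]
      exact tv_congr hφ rfl h e2
    by_cases hR : RatV F₀ (c • u)
    · exfalso
      apply hnot
      rw [hx]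
      exact ratGL_le_hat (tv_mem_ratGL e1 hψ hR)
    · obtain ⟨k, hk⟩ := exists_coord_not_mem hR
      rw [hx] at hmem
      exact sl_le_of_tv_rat_axis hn hN hrat hψ hψ0 e1 hmem hk
  · push Not at hall
    obtain ⟨k0, hk0⟩ := hall
    obtain ⟨c0, hc0⟩ : ∃ c0 : F, c0 = φ (vk k0) := ⟨_, rfl⟩
    rw [← hc0] at hk0
    have e1 : ψ (c0 • u) = 0 := by rw [map_smul, hψu, smul_zero]
    have e2 : (c0 • ψ) u = 0 := by rw [LinearMap.smul_apply, hψu, smul_zero]
    have hy : tv ψ (c0 • u) e1 ∈ H := by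
      rw [tv_smul ψ u c0 e1 e2]
      have := hY k0 (by rw [← hc0]; exact e2)
      rw [tv_congr (by rw [hc0]) rfl e2 (by rw [← hc0]; exact e2)]
      exact this
    by_cases hR : RatV F₀ (c0 • u)
    · -- `u1 = c0 • u` is rational
      obtain ⟨u1, hu1⟩ : ∃ u1 : Fin n → F, u1 = c0 • u := ⟨_, rfl⟩
      rw [← hu1] at hR e1
      have hu1' : u = c0⁻¹ • u1 := by rw [hu1, smul_smul, inv_mul_cancel₀ hk0, one_smul]
      have hu10 : u1 ≠ 0 := by
        rw [hu1]; exact smul_ne_zero hk0 hu0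
      obtain ⟨φ1, hφ1⟩ : ∃ φ1 : Module.Dual F (Fin n → F), φ1 = c0⁻¹ • φ := ⟨_, rfl⟩
      have hφ1u1 : φ1 u1 = 0 := by
        rw [hφ1, hu1, LinearMap.smul_apply, map_smul, h, smul_zero, smul_zero]
      have hx : tv φ u h = tv φ1 u1 hφ1u1 := by
        have e3 : φ (c0⁻¹ • u1) = 0 := by rw [← hu1']; exact h
        have e4 : (c0⁻¹ • φ) u1 = 0 := by rw [← hφ1]; exact hφ1u1
        rw [tv_congr rfl hu1' h e3, tv_smul φ u1 c0⁻¹ e3 e4]
        exact tv_congr hφ1.symm rfl e4 hφ1u1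
      have hY1 : ∀ (k : Fin n) (h' : ((φ1 (vk k)) • ψ) u1 = 0), tv ((φ1 (vk k)) • ψ) u1 h' ∈ H := by
        intro k h'
        have e5 : ((φ (vk k)) • ψ) u = 0 := by rw [LinearMap.smul_apply, hψu, smul_zero]
        have e6 : (φ1 (vk k) • ψ) (c0 • u) = 0 := by rw [← hu1]; exact h'
        have e7 : (c0 • (φ1 (vk k) • ψ)) u = 0 := by
          rw [LinearMap.smul_apply, LinearMap.smul_apply, hψu, smul_zero, smul_zero]
        rw [tv_congr rfl hu1 h' e6, tv_smul _ u c0 e6 e7]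
        have e8 : c0 • (φ1 (vk k) • ψ) = (φ (vk k)) • ψ := by
          rw [hφ1, LinearMap.smul_apply, smul_smul, smul_eq_mul, ← mul_assoc, mul_inv_cancel₀ hk0,
            one_mul]
        rw [tv_congr e8 rfl e7 e5]
        exact hY k e5
      by_cases hk : ∃ k, φ1 (vk k) ∉ F₀
      · obtain ⟨k, hk⟩ := hk
        have e5 : ((φ1 (vk k)) • ψ) u1 = 0 := by rw [LinearMap.smul_apply, e1, smul_zero]
        exact sl_le_of_rat_tv hn hN hrat hR hu10 hψ hψ0 hk e5 (hY1 k e5)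
      · push Not at hk
        obtain ⟨d, hd⟩ : ∃ d : F, d = φ1 (ee j0) / ψ (ee j0) := ⟨_, rfl⟩
        obtain ⟨φ0, hφ0⟩ : ∃ φ0 : Module.Dual F (Fin n → F), φ0 = φ1 - d • ψ := ⟨_, rfl⟩
        have hφ0R : RatD F₀ φ0 := by
          intro k
          have : φ0 (ee k) = φ1 (vk k) := by
            rw [hφ0, hvkφ, LinearMap.sub_apply, LinearMap.smul_apply, hd, smul_eq_mul]
            field_simp
          rw [this]
          exact hk k
        have hφ0u1 : φ0 u1 = 0 := by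
          rw [hφ0, LinearMap.sub_apply, LinearMap.smul_apply, hφ1u1, e1, smul_zero, sub_zero]
        have e5 : (d • ψ) u1 = 0 := by rw [LinearMap.smul_apply, e1, smul_zero]
        have hsum : φ1 = φ0 + d • ψ := by rw [hφ0]; abel
        have e6 : (φ0 + d • ψ) u1 = 0 := by rw [← hsum]; exact hφ1u1
        have hx2 : tv φ1 u1 hφ1u1 = tv φ0 u1 hφ0u1 * tv (d • ψ) u1 e5 := by
          rw [← tv_add_dual φ0 (d • ψ) u1 hφ0u1 e5 e6]
          exact tv_congr hsum rfl hφ1u1 e6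
        have h0H : tv φ0 u1 hφ0u1 ∈ H := hrat _ _ _ hφ0R hR
        have hdH : tv (d • ψ) u1 e5 ∈ H := by
          have : tv (d • ψ) u1 e5 = (tv φ0 u1 hφ0u1)⁻¹ * tv φ1 u1 hφ1u1 := by
            rw [hx2]; group
          rw [this, ← hx]
          exact H.mul_mem (H.inv_mem h0H) hmem
        by_cases hdR : d ∈ F₀
        · exfalso
          apply hnot
          rw [hx]
          apply ratGL_le_hat
          apply tv_mem_ratGL hφ1u1 _ hR
          rw [hsum]
          exact hφ0R.add (hψ.smul hdR)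
        · exact sl_le_of_rat_tv hn hN hrat hR hu10 hψ hψ0 hdR e5 hdH
    · obtain ⟨k, hk⟩ := exists_coord_not_mem hR
      exact sl_le_of_tv_rat_axis hn hN hrat hψ hψ0 e1 hy hk

end Cfsg.Agent.Helper45.SubSL
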