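import Mathlib
import Cfsg.Agent.Helper45.SubSLE

/-!
# Subfield subgroups of `SL_n`: the hard case
If every transvection of the overgroup `H` with non-full centre lies in the subfield group, then every
element of `H` mapping some rational vector to a non-full vector lies in the subfield group.
-/

set_option autoImplicit false
set_option linter.style.haveILetI false
set_option linter.unusedSimpArgs false

namespace Cfsg.Agent.Helper45.SubSL

open Cfsg.Geo Matrix Module Cfsg.Agent.Helper93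

variable {F : Type*} [Field F] {n : ℕ}
variable {F₀ : Subfield F} {H : Subgroup (GL (Fin n) F)}

/-- a vector killed by a non-zero rational functional -/
def NonFull (F₀ : Subfield F) (u : Fin n → F) : Prop :=
  ∃ ψ : Module.Dual F (Fin n → F), RatD F₀ ψ ∧ ψ ≠ 0 ∧ ψ u = 0

/-- the hard case: every transvection of `H` with non-full centre lies in the subfield group -/
def HardCase (F₀ : Subfield F) (H : Subgroup (GL (Fin n) F)) : Prop :=
  ∀ (φ : Module.Dual F (Fin n → F)) (u : Fin n → F) (h : φ u = 0),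
    tv φ u h ∈ H → NonFull F₀ u → tv φ u h ∈ hat (n := n) F₀

/-- a transvection in the subfield group is a rational matrix -/
theorem tv_hat_entries (hn : 3 ≤ n) {φ : Module.Dual F (Fin n → F)} {u : Fin n → F} (h : φ u = 0)
    (hu : u ≠ 0) (hφ : φ ≠ 0) (hmem : tv φ u h ∈ hat (n := n) F₀) :
    ∀ a b, φ (ee b) * u a ∈ F₀ := by
  obtain ⟨s, hs, hS⟩ := (mem_hat_iff _).mp hmem
  have hoff : ∀ a b, a ≠ b → s * (φ (ee b) * u a) ∈ F₀ := by
    intro a b hab
    have := hS a b
    rwa [tv_entry, if_neg hab, zero_add] at this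
  have hdiag : ∀ a, s * (1 + φ (ee a) * u a) ∈ F₀ := by
    intro a
    have := hS a a
    rwa [tv_entry, if_pos rfl] at this
  have hsF : s ∈ F₀ := by
    by_cases hex : ∃ a b, a ≠ b ∧ φ (ee b) * u a ≠ 0
    · obtain ⟨a, b, hab, hN⟩ := hex
      obtain ⟨c, hca, hcb⟩ := exists_ne2 hn a b
      have h1 := hoff a b hab
      have h2 := hoff a c (fun h' => hca h'.symm)
      have h3 := hoff c b hcb
      have h4 : s * (φ (ee c) * u c) ∈ F₀ := by
        have : s * (φ (ee c) * u c)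
            = (s * (φ (ee c) * u a)) * (s * (φ (ee b) * u c)) * (s * (φ (ee b) * u a))⁻¹ := by
          have hua : u a ≠ 0 := right_ne_zero_of_mul hN
          have hφb : φ (ee b) ≠ 0 := left_ne_zero_of_mul hN
          field_simp
        rw [this]
        exact F₀.mul_mem (F₀.mul_mem h2 h3) (F₀.inv_mem h1)
      have h5 := hdiag c
      have : s = s * (1 + φ (ee c) * u c) - s * (φ (ee c) * u c) := by ring
      rw [this]
      exact F₀.sub_mem h5 h4
    · exfalso
      push Not at hex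
      obtain ⟨a0, ha0⟩ := exists_coord_ne_zero hu
      obtain ⟨b0, hb0⟩ := exists_ee_ne_zero hφ
      by_cases hab : a0 = b0
      · subst hab
        have hz : ∀ b, b ≠ a0 → φ (ee b) = 0 := by
          intro b hb
          have := hex a0 b (fun h' => hb h'.symm)
          rcases mul_eq_zero.mp this with h' | h'
          · exact h'
          · exact absurd h' ha0
        rw [dual_apply_eq_sum, Finset.sum_eq_single a0 (fun b _ hb => by rw [hz b hb, mul_zero])
          (fun h' => absurd (Finset.mem_univ _) h')] at h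
        exact mul_ne_zero ha0 hb0 h
      · exact mul_ne_zero hb0 ha0 (hex a0 b0 hab)
  intro a b
  have h1 := hS a b
  rw [tv_entry] at h1
  have h2 : (if a = b then (1 : F) else 0) + φ (ee b) * u a ∈ F₀ := by
    have : (if a = b then (1 : F) else 0) + φ (ee b) * u a
        = s⁻¹ * (s * ((if a = b then (1 : F) else 0) + φ (ee b) * u a)) := by
      rw [← mul_assoc, inv_mul_cancel₀ hs, one_mul]
    rw [this]
    exact F₀.mul_mem (F₀.inv_mem hsF) h1
  have h3 : (if a = b then (1 : F) else 0) ∈ F₀ := by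
    split_ifs
    · exact F₀.one_mem
    · exact F₀.zero_mem
  have : φ (ee b) * u a = ((if a = b then (1 : F) else 0) + φ (ee b) * u a)
      - (if a = b then (1 : F) else 0) := by ring
  rw [this]
  exact F₀.sub_mem h2 h3

/-- the centre of a transvection in the subfield group is proportional to a rational vector -/
theorem tv_hat_centre (hn : 3 ≤ n) {φ : Module.Dual F (Fin n → F)} {u : Fin n → F} (h : φ u = 0)
    (hu : u ≠ 0) (hφ : φ ≠ 0) (hmem : tv φ u h ∈ hat (n := n) F₀) :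
    ∃ s : F, s ≠ 0 ∧ RatV F₀ (s • u) := by
  obtain ⟨b0, hb0⟩ := exists_ee_ne_zero hφ
  exact ⟨φ (ee b0), hb0, fun a => tv_hat_entries hn h hu hφ hmem a b0⟩

theorem mulVec_ne_zero (g : GL (Fin n) F) {v : Fin n → F} (hv : v ≠ 0) :
    (g : Matrix (Fin n) (Fin n) F).mulVec v ≠ 0 := by
  intro h
  apply hv
  have := gl_inv_mulVec' g v
  rw [h, Matrix.mulVec_zero] at this
  exact this.symm

/-- conjugating a transvection -/
theorem tv_conj'' (g : GL (Fin n) F) (χ : Module.Dual F (Fin n → F)) (v : Fin n → F)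
    (h : χ v = 0) (h' : dualPull χ g⁻¹ ((g : Matrix (Fin n) (Fin n) F).mulVec v) = 0) :
    tv (dualPull χ g⁻¹) ((g : Matrix (Fin n) (Fin n) F).mulVec v) h' = g * tv χ v h * g⁻¹ := by
  apply gl_ext
  intro x
  rw [gl_mul_mulVec, gl_mul_mulVec, tv_mulVec, tv_mulVec, dualPull_apply, Matrix.mulVec_add,
    Matrix.mulVec_smul, gl_inv_mulVec]

theorem dualPull_inv_mulVec (g : GL (Fin n) F) (χ : Module.Dual F (Fin n → F)) (v : Fin n → F) :
    dualPull χ g⁻¹ ((g : Matrix (Fin n) (Fin n) F).mulVec v) = χ v := by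
  rw [dualPull_apply, gl_inv_mulVec']

theorem tv_conj_mem {g : GL (Fin n) F} (hg : g ∈ H) {χ : Module.Dual F (Fin n → F)}
    {v : Fin n → F} (h : χ v = 0) (hmem : tv χ v h ∈ H)
    (h' : dualPull χ g⁻¹ ((g : Matrix (Fin n) (Fin n) F).mulVec v) = 0) :
    tv (dualPull χ g⁻¹) ((g : Matrix (Fin n) (Fin n) F).mulVec v) h' ∈ H := by
  rw [tv_conj'' g χ v h h']
  exact H.mul_mem (H.mul_mem hg hmem) (H.inv_mem hg)

/-- a non-zero rational functional killing a rational vector -/
theorem exists_rat_dual_ker (hn : 2 ≤ n) {v : Fin n → F} (hv : RatV F₀ v) :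
    ∃ χ : Module.Dual F (Fin n → F), RatD F₀ χ ∧ χ ≠ 0 ∧ χ v = 0 := by
  have a : Fin n := ⟨0, by omega⟩
  obtain ⟨b, hba⟩ := exists_ne1 hn a
  by_cases h0 : v a = 0
  · exact ⟨pr a, RatD.pr a, pr_ne_zero a, by rw [pr_apply, h0]⟩
  · refine ⟨v b • pr a - v a • pr b, ((RatD.pr a).smul (hv b)).sub ((RatD.pr b).smul (hv a)), ?_, ?_⟩
    · intro h
      have := LinearMap.congr_fun h (ee b)
      rw [LinearMap.sub_apply, LinearMap.smul_apply, LinearMap.smul_apply, pr_apply, pr_apply,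
        ee_of_ne hba.symm, ee_same, smul_zero, zero_sub, smul_eq_mul, mul_one,
        LinearMap.zero_apply, neg_eq_zero] at this
      exact h0 this
    · rw [LinearMap.sub_apply, LinearMap.smul_apply, LinearMap.smul_apply, pr_apply, pr_apply,
        smul_eq_mul, smul_eq_mul, mul_comm, sub_self]

/-- under the hard case, an element of `H` fixing a coordinate point lies in the subfield group -/
theorem mem_hat_of_fix_ee (hn : 3 ≤ n) (hrat : HasRat F₀ H) (hHC : HardCase F₀ H)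
    {g : GL (Fin n) F} (hg : g ∈ H) {i : Fin n} {c : F}
    (hgi : (g : Matrix (Fin n) (Fin n) F).mulVec (ee i) = c • ee i) : g ∈ hat (n := n) F₀ := by
  have hc : c ≠ 0 := by
    intro h0
    rw [h0, zero_smul] at hgi
    exact mulVec_ne_zero g (ee_ne_zero i) hgi
  have hgi' : (g : Matrix (Fin n) (Fin n) F).mulVec (c⁻¹ • ee i) = ee i := by
    rw [Matrix.mulVec_smul, hgi, smul_smul, inv_mul_cancel₀ hc, one_smul]
  -- rows different from `i`
  have hrow : ∀ a b, a ≠ i → c⁻¹ * (g : Matrix (Fin n) (Fin n) F) a b ∈ F₀ := by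
    intro a b hai
    have e1 : (pr a : Module.Dual F (Fin n → F))
        ((g : Matrix (Fin n) (Fin n) F).mulVec (c⁻¹ • ee i)) = 0 := by
      rw [hgi', pr_apply, ee_of_ne hai]
    have e2 : dualPull (pr a) g (c⁻¹ • ee i) = 0 := by rw [dualPull_apply]; exact e1
    have e3 : (pr a : Module.Dual F (Fin n → F)) (ee i) = 0 := by rw [pr_apply, ee_of_ne hai]
    have h1 : tv (dualPull (pr a) g) (c⁻¹ • ee i) e2 ∈ H := by
      rw [tv_conj' g (pr a) (c⁻¹ • ee i) e1 e2, tv_congr rfl hgi' e1 e3]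
      exact H.mul_mem (H.mul_mem (H.inv_mem hg) (hrat _ _ e3 (RatD.pr a) (RatV.ee i))) hg
    have hnf : NonFull F₀ (c⁻¹ • (ee i : Fin n → F)) :=
      ⟨pr a, RatD.pr a, pr_ne_zero a, by rw [map_smul, e3, smul_zero]⟩
    have h2 := hHC _ _ e2 h1 hnf
    have h3 := tv_hat_entries hn e2 (smul_ne_zero (inv_ne_zero hc) (ee_ne_zero i))
      (dualPull_ne_zero (pr_ne_zero a) g) h2 i b
    rw [dualPull_apply, pr_apply, Pi.smul_apply, ee_same, smul_eq_mul, mul_one,
      ← entry_eq (g : Matrix (Fin n) (Fin n) F) a b, mul_comm] at h3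
    exact h3
  rw [mem_hat_iff]
  refine ⟨c⁻¹, inv_ne_zero hc, fun a b => ?_⟩
  by_cases hai : a = i
  swap
  · exact hrow a b hai
  subst hai
  by_cases hba : b = a
  · subst hba
    rw [entry_eq (g : Matrix (Fin n) (Fin n) F) b b, hgi, Pi.smul_apply, ee_same, smul_eq_mul,
      mul_one, inv_mul_cancel₀ hc]
    exact F₀.one_mem
  -- the entry `(a, b)` with `b ≠ a`
  obtain ⟨y, hy⟩ : ∃ y : Fin n → F, y = (g : Matrix (Fin n) (Fin n) F).mulVec (ee b) := ⟨_, rfl⟩
  have hyent : ∀ a', (g : Matrix (Fin n) (Fin n) F) a' b = y a' := fun a' => by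
    rw [hy, ← entry_eq]
  have hyrow : ∀ a', a' ≠ a → c⁻¹ * y a' ∈ F₀ := fun a' ha' => by
    rw [← hyent]; exact hrow a' b ha'
  have hy0 : y ≠ 0 := by rw [hy]; exact mulVec_ne_zero g (ee_ne_zero b)
  have e1 : (pr a : Module.Dual F (Fin n → F)) (ee b) = 0 := by
    rw [pr_apply, ee_of_ne (fun h' => hba h'.symm)]
  have e2 : dualPull (pr a) g⁻¹ ((g : Matrix (Fin n) (Fin n) F).mulVec (ee b)) = 0 := by
    rw [dualPull_inv_mulVec]; exact e1
  have h1 : tv (dualPull (pr a) g⁻¹) ((g : Matrix (Fin n) (Fin n) F).mulVec (ee b)) e2 ∈ H :=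
    tv_conj_mem hg e1 (hrat _ _ e1 (RatD.pr a) (RatV.ee b)) e2
  have hnf : NonFull F₀ ((g : Matrix (Fin n) (Fin n) F).mulVec (ee b)) := by
    rw [← hy]
    obtain ⟨a1, ha1⟩ := exists_ne1 (by omega : 2 ≤ n) a
    obtain ⟨a2, ha2, ha21⟩ := exists_ne2 hn a a1
    by_cases h0 : y a1 = 0
    · exact ⟨pr a1, RatD.pr a1, pr_ne_zero a1, by rw [pr_apply, h0]⟩
    · refine ⟨(c⁻¹ * y a2) • pr a1 - (c⁻¹ * y a1) • pr a2,
        ((RatD.pr a1).smul (hyrow a2 ha2)).sub ((RatD.pr a2).smul (hyrow a1 ha1)), ?_, ?_⟩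
      · intro h
        have := LinearMap.congr_fun h (ee a2)
        rw [LinearMap.sub_apply, LinearMap.smul_apply, LinearMap.smul_apply, pr_apply, pr_apply,
          ee_of_ne ha21.symm, ee_same, smul_zero, zero_sub, smul_eq_mul, mul_one,
          LinearMap.zero_apply, neg_eq_zero] at this
        exact mul_ne_zero (inv_ne_zero hc) h0 this
      · rw [LinearMap.sub_apply, LinearMap.smul_apply, LinearMap.smul_apply, pr_apply, pr_apply,
          smul_eq_mul, smul_eq_mul]
        ring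
  have h2 := hHC _ _ e2 h1 hnf
  have hφ0 : dualPull (pr a : Module.Dual F (Fin n → F)) g⁻¹ ≠ 0 :=
    dualPull_ne_zero (pr_ne_zero a) g⁻¹
  have h3 := tv_hat_entries hn e2 (by rw [← hy]; exact hy0) hφ0 h2
  obtain ⟨b', hb'⟩ := exists_ee_ne_zero hφ0
  obtain ⟨s, hs⟩ : ∃ s : F, s = dualPull (pr a : Module.Dual F (Fin n → F)) g⁻¹ (ee b') := ⟨_, rfl⟩
  rw [← hs] at hb'
  have h4 : ∀ a', s * y a' ∈ F₀ := fun a' => by
    have := h3 a' b'
    rwa [← hs, ← hy] at this
  -- a non-zero entry of the column off the row `a`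
  obtain ⟨a0, ha0a, ha0⟩ : ∃ a0, a0 ≠ a ∧ y a0 ≠ 0 := by
    by_contra hcon
    push Not at hcon
    have hy' : y = y a • ee a := by
      funext a'
      by_cases ha' : a' = a
      · rw [ha', Pi.smul_apply, ee_same, smul_eq_mul, mul_one]
      · rw [hcon a' ha', Pi.smul_apply, ee_of_ne ha', smul_zero]
    have h5 : (g : Matrix (Fin n) (Fin n) F).mulVec (ee b - (y a / c) • ee a) = 0 := by
      rw [Matrix.mulVec_sub, Matrix.mulVec_smul, hgi, ← hy, smul_smul, div_mul_cancel₀ _ hc,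
        ← hy', sub_self]
    have h6 : (ee b - (y a / c) • ee a : Fin n → F) = 0 := by
      by_contra hne
      exact mulVec_ne_zero g hne h5
    have := congrFun h6 b
    rw [Pi.sub_apply, Pi.smul_apply, ee_same, ee_of_ne hba, smul_zero, sub_zero,
      Pi.zero_apply] at this
    exact one_ne_zero this
  rw [hyent]
  have h5 := h4 a0
  have h6 := hyrow a0 ha0a
  have h7 := h4 a
  have : c⁻¹ * y a = (s * y a) * (c⁻¹ * y a0) * (s * y a0)⁻¹ := by
    field_simp
  rw [this]
  exact F₀.mul_mem (F₀.mul_mem h7 h6) (F₀.inv_mem h5)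

/-- under the hard case, an element of `H` mapping a rational point to a rational point lies in the
subfield group -/
theorem mem_hat_of_map_rat (hn : 3 ≤ n) (hrat : HasRat F₀ H) (hHC : HardCase F₀ H)
    {g : GL (Fin n) F} (hg : g ∈ H) {v v' : Fin n → F} (hv : RatV F₀ v) (hv0 : v ≠ 0)
    (hv' : RatV F₀ v') {c : F}
    (hgv : (g : Matrix (Fin n) (Fin n) F).mulVec v = c • v') : g ∈ hat (n := n) F₀ := by
  have hv'0 : v' ≠ 0 := by
    intro h0
    rw [h0, smul_zero] at hgv
    exact mulVec_ne_zero g hv0 hgv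
  obtain ⟨j, hj⟩ := exists_coord_ne_zero hv0
  obtain ⟨j', hj'⟩ := exists_coord_ne_zero hv'0
  obtain ⟨i, hij, hij'⟩ := exists_ne2 hn j j'
  obtain ⟨φ0, h0, hφ0, hm⟩ := exists_rat_map hv hij.symm hj
  obtain ⟨φ0', h0', hφ0', hm'⟩ := exists_rat_map hv' hij'.symm hj'
  obtain ⟨m, hmdef⟩ : ∃ m : GL (Fin n) F, m = tv φ0 (v - ee i) h0 := ⟨_, rfl⟩
  obtain ⟨m', hm'def⟩ : ∃ m' : GL (Fin n) F, m' = tv φ0' (v' - ee i) h0' := ⟨_, rfl⟩
  rw [← hmdef] at hm
  rw [← hm'def] at hm'
  have hmR : m ∈ ratGL (n := n) F₀ := by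
    rw [hmdef]; exact tv_mem_ratGL h0 hφ0 (hv.sub (RatV.ee i))
  have hmH : m ∈ H := by
    rw [hmdef]; exact hrat _ _ h0 hφ0 (hv.sub (RatV.ee i))
  have hm'R : m' ∈ ratGL (n := n) F₀ := by
    rw [hm'def]; exact tv_mem_ratGL h0' hφ0' (hv'.sub (RatV.ee i))
  have hm'H : m' ∈ H := by
    rw [hm'def]; exact hrat _ _ h0' hφ0' (hv'.sub (RatV.ee i))
  have h1 : ((m'⁻¹ * g * m : GL (Fin n) F) : Matrix (Fin n) (Fin n) F).mulVec (ee i) = c • ee i := by
    rw [gl_mul_mulVec, gl_mul_mulVec, hm, hgv, Matrix.mulVec_smul, ← hm', gl_inv_mulVec']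
  have h2 : m'⁻¹ * g * m ∈ hat (n := n) F₀ :=
    mem_hat_of_fix_ee hn hrat hHC (H.mul_mem (H.mul_mem (H.inv_mem hm'H) hg) hmH) h1
  have h3 : g = m' * (m'⁻¹ * g * m) * m⁻¹ := by group
  rw [h3]
  exact Subgroup.mul_mem _ (Subgroup.mul_mem _ (ratGL_le_hat hm'R) h2)
    (Subgroup.inv_mem _ (ratGL_le_hat hmR))

/-- under the hard case, an element of `H` mapping a rational vector to a non-full vector lies in the
subfield group -/
theorem mem_hat_of_nonfull_image (hn : 3 ≤ n) (hrat : HasRat F₀ H) (hHC : HardCase F₀ H)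
    {g : GL (Fin n) F} (hg : g ∈ H) {v : Fin n → F} (hv : RatV F₀ v) (hv0 : v ≠ 0)
    (hnf : NonFull F₀ ((g : Matrix (Fin n) (Fin n) F).mulVec v)) : g ∈ hat (n := n) F₀ := by
  obtain ⟨χ, hχ, hχ0, hχv⟩ := exists_rat_dual_ker (by omega : 2 ≤ n) hv
  have e2 : dualPull χ g⁻¹ ((g : Matrix (Fin n) (Fin n) F).mulVec v) = 0 := by
    rw [dualPull_inv_mulVec]; exact hχv
  have h1 := tv_conj_mem hg hχv (hrat _ _ hχv hχ hv) e2
  have h2 := hHC _ _ e2 h1 hnf
  obtain ⟨s, hs, hsR⟩ := tv_hat_centre hn e2 (mulVec_ne_zero g hv0) (dualPull_ne_zero hχ0 g⁻¹) h2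
  have h3 : (g : Matrix (Fin n) (Fin n) F).mulVec v
      = s⁻¹ • (s • (g : Matrix (Fin n) (Fin n) F).mulVec v) := by
    rw [smul_smul, inv_mul_cancel₀ hs, one_smul]
  exact mem_hat_of_map_rat hn hrat hHC hg hv hv0 hsR h3

end Cfsg.Agent.Helper45.SubSL
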