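import Mathlib
import Cfsg.Agent.Helper45.SubSLF

/-!
# Subfield subgroups of `SL_n`: the hard case is impossible in characteristic two
The dihedral trick: a rational involution `z` with `rank (z - 1) = 2` and a non-rational transvection `u`
of the overgroup are not conjugate, so some involution `w` commutes with both; then `w`, and then `u`,
lies in the subfield group.
-/

set_option autoImplicit false
set_option linter.style.haveILetI false
set_option linter.unusedSimpArgs false

namespace Cfsg.Agent.Helper45.SubSL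

open Cfsg.Geo Matrix Module Cfsg.Agent.Helper93

/-- two involutions are conjugate by a power of their product, or some power of the product is an
involution commuting with both -/
theorem dihedral_dichotomy {G : Type*} [Group G] [Finite G] (a b : G) (ha : a * a = 1)
    (hb : b * b = 1) :
    (∃ k : ℕ, (a * b) ^ k * a * ((a * b) ^ k)⁻¹ = b) ∨
    (∃ k : ℕ, (a * b) ^ k ≠ 1 ∧ (a * b) ^ k * (a * b) ^ k = 1 ∧
      a * (a * b) ^ k = (a * b) ^ k * a ∧ b * (a * b) ^ k = (a * b) ^ k * b) := by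
  have ha' : a⁻¹ = a := inv_eq_of_mul_eq_one_left ha
  have hb' : b⁻¹ = b := inv_eq_of_mul_eq_one_left hb
  have hra : SemiconjBy a (a * b)⁻¹ (a * b) := by
    show a * (a * b)⁻¹ = a * b * a
    rw [_root_.mul_inv_rev, ha', hb', mul_assoc]
  have hra' : SemiconjBy a (a * b) (a * b)⁻¹ := by
    show a * (a * b) = (a * b)⁻¹ * a
    rw [_root_.mul_inv_rev, ha', hb', ← mul_assoc, ha, one_mul, mul_assoc, ha, mul_one]
  have hrb' : SemiconjBy b (a * b) (a * b)⁻¹ := by
    show b * (a * b) = (a * b)⁻¹ * b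
    rw [_root_.mul_inv_rev, ha', hb', mul_assoc]
  have hm : 0 < orderOf (a * b) := orderOf_pos (a * b)
  rcases Nat.even_or_odd' (orderOf (a * b)) with ⟨j, hj | hj⟩
  · right
    refine ⟨j, ?_, ?_, ?_, ?_⟩
    · intro h1
      have := orderOf_dvd_of_pow_eq_one h1
      have := Nat.le_of_dvd (by omega) this
      omega
    · rw [← pow_add, ← two_mul, ← hj, pow_orderOf_eq_one]
    · have h1 : (a * b) ^ j * (a * b) ^ j = 1 := by
        rw [← pow_add, ← two_mul, ← hj, pow_orderOf_eq_one]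
      have h2 : ((a * b) ^ j)⁻¹ = (a * b) ^ j := inv_eq_of_mul_eq_one_left h1
      have := (hra'.pow_right j).eq
      rw [inv_pow, h2] at this
      exact this
    · have h1 : (a * b) ^ j * (a * b) ^ j = 1 := by
        rw [← pow_add, ← two_mul, ← hj, pow_orderOf_eq_one]
      have h2 : ((a * b) ^ j)⁻¹ = (a * b) ^ j := inv_eq_of_mul_eq_one_left h1
      have := (hrb'.pow_right j).eq
      rw [inv_pow, h2] at this
      exact this
  · left
    refine ⟨j, ?_⟩
    have h1 : (a * b) ^ (2 * j) * (a * b) = 1 := by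
      rw [← pow_succ, ← hj, pow_orderOf_eq_one]
    have h2 : ((a * b) ^ (2 * j))⁻¹ = a * b := inv_eq_of_mul_eq_one_right h1
    have h3 := (hra.pow_right j).eq
    -- a * ((a*b)⁻¹)^j = (a*b)^j * a
    rw [← h3, inv_pow, mul_assoc, ← _root_.mul_inv_rev, ← pow_add, ← two_mul, h2, ← mul_assoc, ha, one_mul]

variable {F : Type*} [Field F] {n : ℕ}
variable {F₀ : Subfield F} {H : Subgroup (GL (Fin n) F)}

/-- in characteristic two, square roots of elements of a finite subfield lie in the subfield -/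
theorem mem_of_sq_mem [Finite F] (h2 : (2 : F) = 0) {s : F} (hs : s * s ∈ F₀) : s ∈ F₀ := by
  have hinj : Function.Injective (fun t : F₀ => t * t) := by
    intro t t' h
    have h1 : (t : F) * t = t' * t' := by
      have := congrArg (fun x : F₀ => (x : F)) h
      simpa using this
    have h3 : ((t : F) - t') * ((t : F) - t') = 0 := by
      linear_combination h1 + ((t' : F) * t' - t * t') * h2
    have h4 : (t : F) - t' = 0 := by
      rcases mul_eq_zero.mp h3 with h' | h' <;> exact h'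
    exact Subtype.ext (sub_eq_zero.mp h4)
  have hsurj := Finite.injective_iff_surjective.mp hinj
  obtain ⟨t, ht⟩ := hsurj ⟨s * s, hs⟩
  have h1 : (t : F) * t = s * s := by
    have := congrArg (fun x : F₀ => (x : F)) ht
    simpa using this
  have h3 : (s - t) * (s - t) = 0 := by
    linear_combination h1 + (s * s - s * t) * h2
  have h4 : s - t = 0 := by
    rcases mul_eq_zero.mp h3 with h' | h' <;> exact h'
  rw [sub_eq_zero.mp h4]
  exact t.2

theorem neg_eq_self_of_two (h2 : (2 : F) = 0) (x : Fin n → F) : -x = x := by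
  funext i
  rw [Pi.neg_apply]
  linear_combination (-(x i)) * h2

/-- **the hard case is impossible in characteristic two** -/
theorem false_of_hardCase_char_two [Fintype F] (hn : 4 ≤ n) (h2 : (2 : F) = 0)
    (hrat : HasRat F₀ H) (hHC : HardCase F₀ H) {g0 : GL (Fin n) F} (hg0 : g0 ∈ H)
    (hg0' : g0 ∉ hat (n := n) F₀) : False := by
  have hn3 : 3 ≤ n := by omega
  obtain ⟨i0, hi0⟩ : ∃ i0 : Fin n, i0 = ⟨0, by omega⟩ := ⟨_, rfl⟩
  obtain ⟨i1, hi1⟩ : ∃ i1 : Fin n, i1 = ⟨1, by omega⟩ := ⟨_, rfl⟩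
  obtain ⟨i2, hi2⟩ : ∃ i2 : Fin n, i2 = ⟨2, by omega⟩ := ⟨_, rfl⟩
  obtain ⟨i3, hi3⟩ : ∃ i3 : Fin n, i3 = ⟨3, by omega⟩ := ⟨_, rfl⟩
  have h01 : i0 ≠ i1 := by rw [hi0, hi1]; intro h; simp [Fin.ext_iff] at h
  have h02 : i0 ≠ i2 := by rw [hi0, hi2]; intro h; simp [Fin.ext_iff] at h
  have h03 : i0 ≠ i3 := by rw [hi0, hi3]; intro h; simp [Fin.ext_iff] at h
  have h12 : i1 ≠ i2 := by rw [hi1, hi2]; intro h; simp [Fin.ext_iff] at h
  have h13 : i1 ≠ i3 := by rw [hi1, hi3]; intro h; simp [Fin.ext_iff] at h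
  have h23 : i2 ≠ i3 := by rw [hi2, hi3]; intro h; simp [Fin.ext_iff] at h
  -- the non-rational transvection `u`
  have e1 : (pr i1 : Module.Dual F (Fin n → F)) (ee i0) = 0 := by rw [pr_apply, ee_of_ne h01.symm]
  have e2 : dualPull (pr i1) g0⁻¹ ((g0 : Matrix (Fin n) (Fin n) F).mulVec (ee i0)) = 0 := by
    rw [dualPull_inv_mulVec]; exact e1
  obtain ⟨a, hadef⟩ : ∃ a : Fin n → F, a = (g0 : Matrix (Fin n) (Fin n) F).mulVec (ee i0) :=
    ⟨_, rfl⟩
  obtain ⟨φ, hφdef⟩ : ∃ φ : Module.Dual F (Fin n → F), φ = dualPull (pr i1) g0⁻¹ := ⟨_, rfl⟩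
  have hφa : φ a = 0 := by rw [hφdef, hadef]; exact e2
  have ha0 : a ≠ 0 := by rw [hadef]; exact mulVec_ne_zero g0 (ee_ne_zero i0)
  have hφ0 : φ ≠ 0 := by rw [hφdef]; exact dualPull_ne_zero (pr_ne_zero i1) g0⁻¹
  have huH : tv φ a hφa ∈ H := by
    have := tv_conj_mem hg0 e1 (hrat _ _ e1 (RatD.pr i1) (RatV.ee i0)) e2
    rw [tv_congr hφdef hadef hφa e2]
    exact this
  have hu_not : tv φ a hφa ∉ hat (n := n) F₀ := by
    intro hmem
    obtain ⟨s, hs, hsR⟩ := tv_hat_centre hn3 hφa ha0 hφ0 hmem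
    apply hg0'
    have h3 : (g0 : Matrix (Fin n) (Fin n) F).mulVec (ee i0) = s⁻¹ • (s • a) := by
      rw [smul_smul, inv_mul_cancel₀ hs, one_smul, hadef]
    exact mem_hat_of_map_rat hn3 hrat hHC hg0 (RatV.ee i0) (ee_ne_zero i0) hsR h3
  obtain ⟨u, hudef⟩ : ∃ u : GL (Fin n) F, u = tv φ a hφa := ⟨_, rfl⟩
  rw [← hudef] at huH hu_not
  have hu_mul : ∀ x, (u : Matrix (Fin n) (Fin n) F).mulVec x = x + φ x • a := by
    intro x; rw [hudef, tv_mulVec]
  have huu : u * u = 1 := by
    apply gl_ext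
    intro x
    rw [gl_mul_mulVec, hu_mul, hu_mul, map_add, map_smul, hφa, smul_zero, add_zero,
      Units.val_one, Matrix.one_mulVec, add_assoc, ← add_smul]
    have : φ x + φ x = 0 := by linear_combination (φ x) * h2
    rw [this, zero_smul, add_zero]
  -- the rational involution `z`
  obtain ⟨z, hzdef⟩ : ∃ z : GL (Fin n) F, z = xe i0 i2 h02 1 * xe i1 i3 h13 1 := ⟨_, rfl⟩
  have hzH : z ∈ H := by
    rw [hzdef]
    exact H.mul_mem (hrat.xe h02 F₀.one_mem) (hrat.xe h13 F₀.one_mem)
  have hz_mul : ∀ x, (z : Matrix (Fin n) (Fin n) F).mulVec x = x + x i2 • ee i0 + x i3 • ee i1 := by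
    intro x
    rw [hzdef, gl_mul_mulVec, xe_mulVec, xe_mulVec, one_mul, one_mul, Pi.add_apply, Pi.smul_apply,
      ee_of_ne h12.symm, smul_zero, add_zero]
    abel
  have hzz : z * z = 1 := by
    apply gl_ext
    intro x
    rw [gl_mul_mulVec, hz_mul, hz_mul, Units.val_one, Matrix.one_mulVec]
    simp only [Pi.add_apply, Pi.smul_apply, ee_of_ne h02.symm, ee_of_ne h12.symm, ee_of_ne h03.symm,
      ee_of_ne h13.symm, smul_zero, add_zero]
    have e : x + x i2 • ee i0 + x i3 • ee i1 + x i2 • ee i0 + x i3 • ee i1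
        = x + (x i2 + x i2) • ee i0 + (x i3 + x i3) • (ee i1 : Fin n → F) := by
      rw [add_smul, add_smul]; abel
    rw [e]
    have e' : ∀ t : F, t + t = 0 := fun t => by linear_combination t * h2
    rw [e', e', zero_smul, zero_smul, add_zero, add_zero]
  rcases dihedral_dichotomy z u hzz huu with ⟨k, hk⟩ | ⟨k, hk1, hk2, hk3, hk4⟩
  · -- `z` and `u` would be conjugate
    obtain ⟨c, hc⟩ : ∃ c : GL (Fin n) F, c = (z * u) ^ k := ⟨_, rfl⟩
    rw [← hc] at hk
    have hz' : z = c⁻¹ * u * c := by rw [← hk]; group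
    have hzx : ∀ x, (z : Matrix (Fin n) (Fin n) F).mulVec x
        = x + φ ((c : Matrix (Fin n) (Fin n) F).mulVec x) •
          ((c⁻¹ : GL (Fin n) F) : Matrix (Fin n) (Fin n) F).mulVec a := by
      intro x
      rw [hz', gl_mul_mulVec, gl_mul_mulVec, hu_mul, Matrix.mulVec_add, Matrix.mulVec_smul,
        gl_inv_mulVec']
    have h1 := hzx (ee i2)
    rw [hz_mul, ee_same, ee_of_ne h23.symm, zero_smul, add_zero, one_smul, add_right_inj] at h1
    have h3 := hzx (ee i3)
    rw [hz_mul, ee_same, ee_of_ne h23, zero_smul, add_zero, one_smul, add_right_inj] at h3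
    have h4 := congrFun h1 i1
    rw [ee_of_ne h01.symm, Pi.smul_apply, smul_eq_mul] at h4
    have h5 := congrFun h1 i0
    rw [ee_same, Pi.smul_apply, smul_eq_mul] at h5
    have h6 := congrFun h3 i1
    rw [ee_same, Pi.smul_apply, smul_eq_mul] at h6
    have h7 : φ ((c : Matrix (Fin n) (Fin n) F).mulVec (ee i2)) ≠ 0 := by
      intro h0
      rw [h0, zero_mul] at h5
      exact one_ne_zero h5
    have h8 : (((c⁻¹ : GL (Fin n) F) : Matrix (Fin n) (Fin n) F).mulVec a) i1 = 0 := by
      rcases mul_eq_zero.mp h4.symm with h' | h'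
      · exact absurd h' h7
      · exact h'
    rw [h8, mul_zero] at h6
    exact one_ne_zero h6
  · -- an involution `w` commuting with `z` and `u`
    obtain ⟨w, hw⟩ : ∃ w : GL (Fin n) F, w = (z * u) ^ k := ⟨_, rfl⟩
    rw [← hw] at hk1 hk2 hk3 hk4
    have hwH : w ∈ H := by rw [hw]; exact H.pow_mem (H.mul_mem hzH huH) k
    have hwz : ∀ x, (w : Matrix (Fin n) (Fin n) F).mulVec ((z : Matrix (Fin n) (Fin n) F).mulVec x)
        = (z : Matrix (Fin n) (Fin n) F).mulVec ((w : Matrix (Fin n) (Fin n) F).mulVec x) := by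
      intro x; rw [← gl_mul_mulVec, ← gl_mul_mulVec, hk3]
    have hwu : ∀ x, (w : Matrix (Fin n) (Fin n) F).mulVec ((u : Matrix (Fin n) (Fin n) F).mulVec x)
        = (u : Matrix (Fin n) (Fin n) F).mulVec ((w : Matrix (Fin n) (Fin n) F).mulVec x) := by
      intro x; rw [← gl_mul_mulVec, ← gl_mul_mulVec, hk4]
    have hww : ∀ x, (w : Matrix (Fin n) (Fin n) F).mulVec ((w : Matrix (Fin n) (Fin n) F).mulVec x)
        = x := by
      intro x; rw [← gl_mul_mulVec, hk2, Units.val_one, Matrix.one_mulVec]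
    -- `w e_0` lies in the span of `e_0`, `e_1`
    have h1 : (w : Matrix (Fin n) (Fin n) F).mulVec (ee i0)
        = ((w : Matrix (Fin n) (Fin n) F).mulVec (ee i2)) i2 • ee i0
          + ((w : Matrix (Fin n) (Fin n) F).mulVec (ee i2)) i3 • ee i1 := by
      have e : (ee i0 : Fin n → F) = (z : Matrix (Fin n) (Fin n) F).mulVec (ee i2) - ee i2 := by
        rw [hz_mul, ee_same, ee_of_ne h23.symm, zero_smul, add_zero, one_smul]; abel
      have e' : (w : Matrix (Fin n) (Fin n) F).mulVec
          ((z : Matrix (Fin n) (Fin n) F).mulVec (ee i2) - ee i2)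
          = ((w : Matrix (Fin n) (Fin n) F).mulVec (ee i2)) i2 • ee i0
            + ((w : Matrix (Fin n) (Fin n) F).mulVec (ee i2)) i3 • ee i1 := by
        rw [Matrix.mulVec_sub, hwz, hz_mul]
        abel
      rw [← e] at e'
      exact e'
    have hnf : NonFull F₀ ((w : Matrix (Fin n) (Fin n) F).mulVec (ee i0)) := by
      refine ⟨pr i2, RatD.pr i2, pr_ne_zero i2, ?_⟩
      rw [h1, map_add, map_smul, map_smul, pr_apply, pr_apply, ee_of_ne h02.symm,
        ee_of_ne h12.symm, smul_zero, smul_zero, add_zero]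
    have hw_hat := mem_hat_of_nonfull_image hn3 hrat hHC hwH (RatV.ee i0) (ee_ne_zero i0) hnf
    -- `w` is a rational matrix
    obtain ⟨s, hs, hS⟩ := (mem_hat_iff _).mp hw_hat
    have hsF : s ∈ F₀ := by
      apply mem_of_sq_mem h2
      have h3 : ((w * w : GL (Fin n) F) : Matrix (Fin n) (Fin n) F) i0 i0 = 1 := by
        rw [hk2, Units.val_one, Matrix.one_apply_eq]
      rw [Units.val_mul, Matrix.mul_apply] at h3
      have : s * s = ∑ b, (s * (w : Matrix (Fin n) (Fin n) F) i0 b) *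
          (s * (w : Matrix (Fin n) (Fin n) F) b i0) := by
        have : ∀ b, (s * (w : Matrix (Fin n) (Fin n) F) i0 b) *
          (s * (w : Matrix (Fin n) (Fin n) F) b i0) = (s * s) *
            ((w : Matrix (Fin n) (Fin n) F) i0 b * (w : Matrix (Fin n) (Fin n) F) b i0) := by
          intro b; ring
        simp_rw [this]
        rw [← Finset.mul_sum, h3, mul_one]
      rw [this]
      exact F₀.sum_mem fun b _ => F₀.mul_mem (hS i0 b) (hS b i0)
    have hwR : w ∈ ratGL (n := n) F₀ := by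
      rw [mem_ratGL_iff]
      intro a' b'
      have : (w : Matrix (Fin n) (Fin n) F) a' b'
          = s⁻¹ * (s * (w : Matrix (Fin n) (Fin n) F) a' b') := by
        rw [← mul_assoc, inv_mul_cancel₀ hs, one_mul]
      rw [this]
      exact F₀.mul_mem (F₀.inv_mem hsF) (hS a' b')
    -- a column of `w` differing from the identity
    obtain ⟨b, hb⟩ : ∃ b : Fin n, (w : Matrix (Fin n) (Fin n) F).mulVec (ee b) ≠ ee b := by
      by_contra hcon
      push Not at hcon
      apply hk1
      apply gl_ext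
      intro x
      rw [Units.val_one, Matrix.one_mulVec]
      conv_lhs => rw [vec_eq_sum x]
      rw [Matrix.mulVec_sum]
      conv_rhs => rw [vec_eq_sum x]
      exact Finset.sum_congr rfl fun b _ => by rw [Matrix.mulVec_smul, hcon b]
    obtain ⟨v', hv'⟩ : ∃ v' : Fin n → F, v' = (w : Matrix (Fin n) (Fin n) F).mulVec (ee b) - ee b :=
      ⟨_, rfl⟩
    have hv'R : RatV F₀ v' := by
      rw [hv']; exact ((RatV.ee b).mulVec hwR).sub (RatV.ee b)
    have hv'0 : v' ≠ 0 := by
      rw [hv']; exact sub_ne_zero.mpr hb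
    have hwv' : (w : Matrix (Fin n) (Fin n) F).mulVec v' = v' := by
      rw [hv', Matrix.mulVec_sub, hww, ← neg_sub, neg_eq_self_of_two h2]
    obtain ⟨a', ha'⟩ : ∃ a' : Fin n, ((w : Matrix (Fin n) (Fin n) F).mulVec (ee b)) a' ≠ (ee b : Fin n → F) a' := by
      by_contra hcon
      push Not at hcon
      exact hb (funext hcon)
    have hnf' : NonFull F₀ ((u : Matrix (Fin n) (Fin n) F).mulVec v') := by
      refine ⟨dualPull (pr a') w - pr a', ((RatD.pr a').dualPull hwR).sub (RatD.pr a'), ?_, ?_⟩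
      · intro h
        have := LinearMap.congr_fun h (ee b)
        rw [LinearMap.sub_apply, dualPull_apply, pr_apply, pr_apply, LinearMap.zero_apply,
          sub_eq_zero] at this
        exact ha' this
      · rw [LinearMap.sub_apply, dualPull_apply, pr_apply, pr_apply, hwu, hwv', sub_self]
    exact hu_not (mem_hat_of_nonfull_image hn3 hrat hHC huH hv'R hv'0 hnf')

end Cfsg.Agent.Helper45.SubSL
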