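import Mathlib
import Cfsg.Agent.Helper45.SubOmE
import Cfsg.Agent.Helper45.SubSLG

/-!
# The hard case: generic lemmas on root elements and rational isometries (characteristic two)
-/

set_option autoImplicit false
set_option linter.unusedSectionVars false
set_option linter.unusedVariables false
set_option linter.unusedSimpArgs false
set_option linter.style.haveILetI false

namespace Cfsg.Agent.Helper45.SubOm

open Matrix Cfsg Cfsg.Geo Cfsg.Agent.Helper94 Cfsg.Agent.Helper94.ORoot Cfsg.Agent.Helper94.SubW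

variable {ι : Type} [Fintype ι] [DecidableEq ι] {F : Type*} [Field F] {n : ℕ}

section Generic

variable {Q : (ι → F) → F} (hQ : IsNondegenerateQuadraticForm Q)

/-- a root element is an involution in characteristic two -/
theorem sg_sq (h2 : (2 : F) = 0) {u v : ι → F} (h : SP Q u v) : sg hQ u v * sg hQ u v = 1 := by
  rw [← tg_one hQ, tg_mul hQ h, one_add_one_eq_two, h2, tg_zero hQ h]

/-- root elements through a common point commute -/
theorem sg_commute_common {u v w : ι → F} (h1 : SP Q u v) (h2 : SP Q u w) :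
    sg hQ u v * sg hQ u w = sg hQ u w * sg hQ u v := by
  apply iso_ext
  intro x
  rw [act_mul, act_mul, act_sg hQ h1, act_sg hQ h2, act_sg hQ h1, act_sg hQ h2]
  simp only [B_add_right hQ, B_sub_right hQ, B_smul_right hQ, h1.2.2, h2.2.2,
    h1.self_left hQ, B_comm w v, h1.symm.2.2, h2.symm.2.2]
  module

include hQ in
theorem sp_split {a c d : ι → F} (hac : SP Q a c) (had : SP Q a d) (hcd : SP Q c d) (s t : F) :
    SP Q a (s • d - t • c) := by
  have hdc : QuadraticMap.polar Q d c = 0 := hcd.symm.2.2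
  refine ⟨hac.1, ?_, ?_⟩
  · rw [sub_eq_add_neg, Q_add (Q := Q), Q_smul hQ, ← neg_smul, Q_smul hQ, had.2.1, hac.2.1,
      B_smul_left hQ, B_smul_right hQ, hdc]
    ring
  · rw [B_sub_right hQ, B_smul_right hQ, B_smul_right hQ, had.2.2, hac.2.2]; ring

/-- splitting a root element along a common orthogonal singular vector -/
theorem sg_split {a c d : ι → F} (hac : SP Q a c) (had : SP Q a d) (hcd : SP Q c d) (s t : F) :
    sg hQ (c + s • a) (d + t • a) = sg hQ c d * sg hQ a (s • d - t • c) := by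
  have hca : QuadraticMap.polar Q c a = 0 := hac.symm.2.2
  have hda : QuadraticMap.polar Q d a = 0 := had.symm.2.2
  have hdc : QuadraticMap.polar Q d c = 0 := hcd.symm.2.2
  have haa : QuadraticMap.polar Q a a = 0 := hac.self_left hQ
  have hcc : QuadraticMap.polar Q c c = 0 := hcd.self_left hQ
  have hdd : QuadraticMap.polar Q d d = 0 := hcd.self_right hQ
  have h1 : SP Q (c + s • a) (d + t • a) := by
    refine ⟨?_, ?_, ?_⟩
    · rw [Q_add (Q := Q), Q_smul hQ, hac.1, hac.2.1, B_smul_right hQ, hca]; ring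
    · rw [Q_add (Q := Q), Q_smul hQ, hac.1, had.2.1, B_smul_right hQ, hda]; ring
    · simp only [B_add_left hQ, B_add_right hQ, B_smul_left hQ, B_smul_right hQ, hcd.2.2, hca,
        had.2.2, haa]
      ring
  have h3 : SP Q a (s • d - t • c) := by
    refine ⟨hac.1, ?_, ?_⟩
    · rw [sub_eq_add_neg, Q_add (Q := Q), Q_smul hQ, ← neg_smul, Q_smul hQ, had.2.1, hac.2.1,
        B_smul_left hQ, B_smul_right hQ, hdc]
      ring
    · rw [B_sub_right hQ, B_smul_right hQ, B_smul_right hQ, had.2.2, hac.2.2]; ring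
  apply iso_ext
  intro x
  rw [act_mul, act_sg hQ h1, act_sg hQ h3, act_sg hQ hcd]
  simp only [B_add_left hQ, B_add_right hQ, B_sub_left hQ, B_sub_right hQ, B_smul_left hQ,
    B_smul_right hQ, hcd.2.2, hca, hda, hdc, hac.2.2, had.2.2, haa, hcc, hdd]
  module

/-- moving a scalar between the two arguments of a root element -/
theorem sg_smul_left {u v : ι → F} (h : SP Q u v) (c : F) :
    sg hQ (c • u) v = sg hQ u (c • v) := by
  have := sg_comb hQ h c 0 0 1
  simpa using this

/-- `B(t v, v) = 0` for a root element in characteristic two -/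
theorem B_sg_self (h2 : (2 : F) = 0) {u v : ι → F} (h : SP Q u v) (x : ι → F) :
    QuadraticMap.polar Q (act (sg hQ u v) x) x = 0 := by
  rw [act_sg hQ h, B_sub_left hQ, B_add_left hQ, B_smul_left hQ, B_smul_left hQ, B_self hQ, h2]
  ring

end Generic

variable (Qf : QuadraticForm F (ι → F)) (hQ : IsNondegenerateQuadraticForm ⇑Qf)

section Fixed

variable (F₀ : Subfield F) {P : GL ι F} (e : ι ≃ Fin n)
  (hP : Cfsg.Geo.IsQuadFormRationalStructure ⇑Qf F₀ P)
  (M' : Subgroup ↥(isometryGroup F ⇑Qf))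
  (hHM : (Cfsg.Geo.subfieldSubgroup F₀ P ⊓ Cfsg.Geo.omegaGL ⇑Qf).comap
    (isometryGroup F ⇑Qf).subtype ≤ M')

local notation "E" => emb F₀ P e
local notation "Qz'" => Qz F₀ e hP

/-- an isometry mapping rational vectors to rational vectors -/
def RatEl (F₀ : Subfield F) (P : GL ι F) (e : ι ≃ Fin n) (g : ↥(isometryGroup F ⇑Qf)) : Prop :=
  ∀ x : Fin n → F₀, ∃ y : Fin n → F₀, act g (emb F₀ P e x) = emb F₀ P e y

theorem mem_subfield_of_ratEl {g : ↥(isometryGroup F ⇑Qf)} (hg : RatEl Qf F₀ P e g) :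
    (g : GL ι F) ∈ Cfsg.Geo.subfieldSubgroup F₀ P := by
  apply mem_subfieldSubgroup_of_emb (e := e) _ 1 one_ne_zero
  intro x
  obtain ⟨y, hy⟩ := hg x
  refine ⟨y, ?_⟩
  rw [one_smul]
  exact hy

include hHM in
/-- the commutator of a rational root element with a root element of `M'` in special position -/
theorem hard_comm [Fintype F] (hn : 5 ≤ n) (hH : HardCase Qf hQ F₀ P e M') {b e' : Fin n → F₀}
    (hb0 : b ≠ 0) (hbe : SP Qz' b e') {x z : ι → F} (hxz : SP ⇑Qf x z) (hmem : sg hQ x z ∈ M')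
    (h11 : QuadraticMap.polar ⇑Qf (E b) x = 0) (h12 : QuadraticMap.polar ⇑Qf (E b) z = 0)
    (h21 : QuadraticMap.polar ⇑Qf (E e') x = 0) :
    ∃ (y₀ : Fin n → F₀) (τ : F), QuadraticMap.polar ⇑Qf (E e') z • x = E y₀ + τ • E b := by
  have hbeE := SP_emb Qf hQ F₀ e hP hbe
  have h1 : tg hQ (E b) (E e') 1 ∈ M' := tg_rat_mem Qf hQ F₀ e hP M' hHM hn hbe F₀.one_mem
  have h3 : tg hQ x z 1 ∈ M' := by rw [tg_one]; exact hmem
  have hc := tg_comm_formula hQ hbeE hxz h11 h12 h21 1 1
  have h4 : tg hQ (E b) x (1 * 1 * QuadraticMap.polar ⇑Qf (E e') z) ∈ M' := by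
    rw [← hc]
    exact M'.mul_mem (M'.mul_mem (M'.mul_mem h1 h3) (M'.inv_mem h1)) (M'.inv_mem h3)
  rw [one_mul, one_mul] at h4
  have hsp : SP ⇑Qf (E b) x := ⟨hbeE.1, hxz.1, h11⟩
  exact hH b _ hb0 (hsp.smul_right hQ _) h4

include hQ hP in
/-- a rational vector outside a rational subspace is not an `F`-combination of it -/
theorem exists_dual_vec [Fintype F] (S : Submodule F₀ (Fin n → F₀)) {d : Fin n → F₀}
    (hd : d ∉ S) : ∃ v : Fin n → F₀, (∀ s ∈ S, QuadraticMap.polar Qz' v s = 0) ∧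
      QuadraticMap.polar Qz' v d = 1 := by
  haveI : Fintype F₀ := Fintype.ofFinite F₀
  have hQz := nondeg_Qz hQ F₀ e hP
  obtain ⟨x, hxS, hxd⟩ := Cfsg.Agent.Helper45.OrInSL.exists_mem_perp_ne hQz S hd
  refine ⟨(QuadraticMap.polar Qz' x d)⁻¹ • x, ?_, ?_⟩
  · intro s hs
    rw [Cfsg.Agent.Helper45.OrInSL.b_smul_left hQz,
      (Cfsg.Agent.Helper45.OrInSL.mem_perp hQz).1 hxS s hs, mul_zero]
  · rw [Cfsg.Agent.Helper45.OrInSL.b_smul_left hQz, inv_mul_cancel₀ hxd]

end Fixed

end Cfsg.Agent.Helper45.SubOm
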