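import Mathlib
import Cfsg.Agent.Helper45.SubOmF

/-!
# The hard case: an element of `M'` fixing a rational singular point is rational
-/

set_option autoImplicit false
set_option linter.unusedSectionVars false
set_option linter.unusedVariables false
set_option linter.unusedSimpArgs false
set_option linter.style.haveILetI false

namespace Cfsg.Agent.Helper45.SubOm

open Matrix Cfsg Cfsg.Geo Cfsg.Agent.Helper94 Cfsg.Agent.Helper94.ORoot Cfsg.Agent.Helper94.SubW

variable {ι : Type} [Fintype ι] [DecidableEq ι] {F : Type*} [Field F] {n : ℕ}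
variable (Qf : QuadraticForm F (ι → F)) (hQ : IsNondegenerateQuadraticForm ⇑Qf)

section Fixed

variable (F₀ : Subfield F) {P : GL ι F} (e : ι ≃ Fin n)
  (hP : Cfsg.Geo.IsQuadFormRationalStructure ⇑Qf F₀ P)
  (M' : Subgroup ↥(isometryGroup F ⇑Qf))
  (hHM : (Cfsg.Geo.subfieldSubgroup F₀ P ⊓ Cfsg.Geo.omegaGL ⇑Qf).comap
    (isometryGroup F ⇑Qf).subtype ≤ M')

local notation "E" => emb F₀ P e
local notation "Qz'" => Qz F₀ e hP

include hHM in
/-- in the hard case, an element of `M'` mapping a rational singular point to a rational point maps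
the rational part of its perp to rational vectors -/
theorem rat_on_perp [Fintype F] (h2 : (2 : F) = 0) (hn : 13 ≤ n)
    (hH : HardCase Qf hQ F₀ P e M') {g : ↥(isometryGroup F ⇑Qf)} (hg : g ∈ M')
    {a a'' : Fin n → F₀} {lam : F} (ha0 : a ≠ 0) (haQ : Qz' a = 0)
    (hga : act g (E a) = lam • E a'') :
    lam ∈ F₀ ∧ ∀ x : Fin n → F₀, QuadraticMap.polar Qz' a x = 0 →
      ∃ y : Fin n → F₀, act g (E x) = E y := by
  haveI : Fintype F₀ := Fintype.ofFinite F₀
  have hQz := nondeg_Qz hQ F₀ e hP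
  have h2' := two_eq_zero_sub (F₀ := F₀) h2
  have haE : Qf (E a) = 0 := (Qz_eq_zero_iff hQ F₀ e hP a).1 haQ
  have eE : ∀ x x' : Fin n → F₀, QuadraticMap.polar Qz' x x' = 0 →
      QuadraticMap.polar ⇑Qf (E x) (E x') = 0 := by
    intro x x' hxx'
    rw [← coe_polar_Qz F₀ e hP, hxx']; rfl
  have hgne : act g (E a) ≠ 0 := by
    intro h0
    have h1 : act g (E a) = act g 0 := by rw [h0, act_zero]
    exact emb_ne_zero ha0 (act_injective g h1)
  have hlam0 : lam ≠ 0 := by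
    rintro rfl
    rw [zero_smul] at hga
    exact hgne hga
  have ha''0 : a'' ≠ 0 := by
    rintro rfl
    rw [emb_zero, smul_zero] at hga
    exact hgne hga
  have ha''E : Qf (E a'') = 0 := by
    have h1 : Qf (act g (E a)) = 0 := by rw [Q_act g (E a), haE]
    rw [hga, Q_smul hQ] at h1
    rcases mul_eq_zero.1 h1 with h | h
    · exact absurd h (pow_ne_zero 2 hlam0)
    · exact h
  have ha''a'' : QuadraticMap.polar ⇑Qf (E a'') (E a'') = 0 := by
    rw [B_self hQ, ha''E, mul_zero]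
  have hEa'' : E a'' = lam⁻¹ • act g (E a) := by
    rw [hga, smul_smul, inv_mul_cancel₀ hlam0, one_smul]
  have hB'' : ∀ y, QuadraticMap.polar ⇑Qf (E a'') (act g y)
      = lam⁻¹ * QuadraticMap.polar ⇑Qf (E a) y := by
    intro y
    rw [hEa'', B_smul_left hQ, B_act]
  -- step A
  have stepA : ∀ c : Fin n → F₀, Qz' c = 0 → QuadraticMap.polar Qz' a c = 0 →
      ∃ (c' : Fin n → F₀) (τ : F), lam • act g (E c) = E c' + τ • E a'' := by
    intro c hcQ hac
    have hsp : SP Qz' a c := ⟨haQ, hcQ, hac⟩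
    have hspE := SP_emb Qf hQ F₀ e hP hsp
    have hm : sg hQ (E a) (E c) ∈ M' := by
      rw [← tg_one hQ]
      exact tg_rat_mem Qf hQ F₀ e hP M' hHM (by omega) hsp F₀.one_mem
    have hconj := sg_conj hQ g hspE
    have hm2 : sg hQ (act g (E a)) (act g (E c)) ∈ M' := by
      rw [← hconj]
      exact M'.mul_mem (M'.mul_mem hg hm) (M'.inv_mem hg)
    rw [hga] at hm2
    have hsp2 : SP ⇑Qf (E a'') (act g (E c)) :=
      ⟨ha''E, by rw [Q_act g (E c), hspE.2.1], by rw [hB'', hspE.2.2, mul_zero]⟩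
    rw [sg_smul_left hQ hsp2] at hm2
    exact hH a'' _ ha''0 (hsp2.smul_right hQ lam) hm2
  have key : ∀ (c c' : Fin n → F₀) (τ : F), QuadraticMap.polar Qz' a c = 0 →
      lam • act g (E c) = E c' + τ • E a'' → QuadraticMap.polar ⇑Qf (E a'') (E c') = 0 := by
    intro c c' τ hac h
    have h1 : E c' = lam • act g (E c) - τ • E a'' := by rw [h]; abel
    rw [h1, B_sub_right hQ, B_smul_right hQ, B_smul_right hQ, hB'', ha''a'', eE a c hac]
    ring
  -- the scalar is rational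
  have hlam : lam ∈ F₀ := by
    obtain ⟨S₁, hS₁⟩ : ∃ S₁ : Submodule F₀ (Fin n → F₀), S₁ = Submodule.span F₀ {a} := ⟨_, rfl⟩
    have hfr₁ : Module.finrank F₀ S₁ ≤ 1 := by
      rw [hS₁]; exact Cfsg.Agent.Helper45.OrInSL.finrank_span_singleton_le_one a
    have haS₁ : a ∈ S₁ := by rw [hS₁]; exact Submodule.subset_span (by simp)
    obtain ⟨c, hcS, hcQ, hcn⟩ := exists_singular_not_mem hQz h2' S₁ (by omega)
    obtain ⟨d, hdS, hdQ, hdc⟩ := exists_partner_perp hQz h2' S₁ (by omega) hcn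
    have hac : QuadraticMap.polar Qz' a c = 0 := by
      rw [QuadraticMap.polar_comm]; exact hcS a haS₁
    have had : QuadraticMap.polar Qz' a d = 0 := by
      rw [QuadraticMap.polar_comm]; exact hdS a haS₁
    obtain ⟨c', τc, hc'⟩ := stepA c hcQ hac
    obtain ⟨d', τd, hd'⟩ := stepA d hdQ had
    have k1 := key c c' τc hac hc'
    have k2 := key d d' τd had hd'
    have e1 : QuadraticMap.polar ⇑Qf (lam • act g (E d)) (lam • act g (E c)) = lam * lam := by
      rw [B_smul_left hQ, B_smul_right hQ, B_act, ← coe_polar_Qz F₀ e hP, hdc]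
      simp
    rw [hc', hd'] at e1
    simp only [B_add_left hQ, B_add_right hQ, B_smul_left hQ, B_smul_right hQ, k1,
      B_comm (E d') (E a''), k2, ha''a''] at e1
    have e2 : lam * lam = QuadraticMap.polar ⇑Qf (E d') (E c') := by
      rw [← e1]; ring
    apply Cfsg.Agent.Helper45.SubSL.mem_of_sq_mem h2
    rw [e2]
    exact polar_emb_mem F₀ e hP d' c'
  refine ⟨hlam, ?_⟩
  obtain ⟨lam₀, hlam₀⟩ : ∃ lam₀ : F₀, (lam₀ : F) = lam := ⟨⟨lam, hlam⟩, rfl⟩
  have hlam₀0 : lam₀ ≠ 0 := by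
    rintro rfl
    apply hlam0
    rw [← hlam₀]; rfl
  -- normalised step A
  have stepA' : ∀ c : Fin n → F₀, Qz' c = 0 → QuadraticMap.polar Qz' a c = 0 →
      ∃ (c₁ : Fin n → F₀) (σ : F), act g (E c) = E c₁ + σ • E a'' ∧ Qf (E c₁) = 0 ∧
        QuadraticMap.polar ⇑Qf (E a'') (E c₁) = 0 := by
    intro c hcQ hac
    obtain ⟨c', τ, hc'⟩ := stepA c hcQ hac
    have k1 := key c c' τ hac hc'
    have h1 : act g (E c) = E (lam₀⁻¹ • c') + (lam⁻¹ * τ) • E a'' := by
      have : act g (E c) = lam⁻¹ • (lam • act g (E c)) := by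
        rw [smul_smul, inv_mul_cancel₀ hlam0, one_smul]
      rw [this, hc', emb_smul, smul_add, smul_smul]
      congr 2
      rw [← hlam₀]
      simp
    have k3 : QuadraticMap.polar ⇑Qf (E a'') (E (lam₀⁻¹ • c')) = 0 := by
      rw [emb_smul, B_smul_right hQ, k1, mul_zero]
    refine ⟨lam₀⁻¹ • c', lam⁻¹ * τ, h1, ?_, k3⟩
    have h3 : E (lam₀⁻¹ • c') = act g (E c) + (-(lam⁻¹ * τ)) • E a'' := by
      rw [h1]; module
    have hcE : Qf (E c) = 0 := (Qz_eq_zero_iff hQ F₀ e hP c).1 hcQ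
    rw [h3, Q_add (Q := ⇑Qf), Q_smul hQ, Q_act g (E c), hcE, ha''E, B_smul_right hQ,
      B_comm (act g (E c)) (E a''), hB'', eE a c hac]
    ring
  -- step B
  have stepB : ∀ c : Fin n → F₀, Qz' c = 0 → QuadraticMap.polar Qz' a c = 0 →
      ∃ y : Fin n → F₀, act g (E c) = E y := by
    intro c hcQ hac
    by_cases hcS : c ∈ Submodule.span F₀ {a}
    · obtain ⟨β, rfl⟩ := Submodule.mem_span_singleton.1 hcS
      refine ⟨(β * lam₀) • a'', ?_⟩
      rw [emb_smul, act_smul, hga, emb_smul, smul_smul, ← hlam₀]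
      simp
    obtain ⟨S₂, hS₂⟩ : ∃ S₂ : Submodule F₀ (Fin n → F₀), S₂ = Submodule.span F₀ {a, c} := ⟨_, rfl⟩
    have hfr₂ : Module.finrank F₀ S₂ ≤ 2 := by
      rw [hS₂]; exact Cfsg.Agent.Helper45.OrInSL.finrank_span_pair_le a c
    have haS₂ : a ∈ S₂ := by rw [hS₂]; exact Submodule.subset_span (by simp)
    have hcS₂ : c ∈ S₂ := by rw [hS₂]; exact Submodule.subset_span (by simp)
    obtain ⟨d, hdS, hdQ, hdn⟩ := exists_singular_not_mem hQz h2' S₂ (by omega)
    have had : QuadraticMap.polar Qz' a d = 0 := by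
      rw [QuadraticMap.polar_comm]; exact hdS a haS₂
    have hcd : QuadraticMap.polar Qz' c d = 0 := by
      rw [QuadraticMap.polar_comm]; exact hdS c hcS₂
    obtain ⟨c₁, σc, hc₁, hc₁Q, hac₁⟩ := stepA' c hcQ hac
    obtain ⟨d₁, σd, hd₁, hd₁Q, had₁⟩ := stepA' d hdQ had
    have hcE : Qf (E c) = 0 := (Qz_eq_zero_iff hQ F₀ e hP c).1 hcQ
    have hdE : Qf (E d) = 0 := (Qz_eq_zero_iff hQ F₀ e hP d).1 hdQ
    have hspac : SP ⇑Qf (E a'') (E c₁) := ⟨ha''E, hc₁Q, hac₁⟩
    have hspad : SP ⇑Qf (E a'') (E d₁) := ⟨ha''E, hd₁Q, had₁⟩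
    have hc₁d₁ : QuadraticMap.polar ⇑Qf (E c₁) (E d₁) = 0 := by
      have h1 : E c₁ = act g (E c) - σc • E a'' := by rw [hc₁]; abel
      have h3 : E d₁ = act g (E d) - σd • E a'' := by rw [hd₁]; abel
      rw [h1, h3]
      simp only [B_sub_left hQ, B_sub_right hQ, B_smul_left hQ, B_smul_right hQ, B_act, hB'',
        B_comm (act g (E c)) (E a''), ha''a'', eE a c hac, eE a d had, eE c d hcd]
      ring
    have hspcd : SP ⇑Qf (E c₁) (E d₁) := ⟨hc₁Q, hd₁Q, hc₁d₁⟩
    -- the conjugated root element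
    have hsp : SP Qz' c d := ⟨hcQ, hdQ, hcd⟩
    have hspE := SP_emb Qf hQ F₀ e hP hsp
    have hm : sg hQ (E c) (E d) ∈ M' := by
      rw [← tg_one hQ]
      exact tg_rat_mem Qf hQ F₀ e hP M' hHM (by omega) hsp F₀.one_mem
    have hconj := sg_conj hQ g hspE
    have hm2 : sg hQ (act g (E c)) (act g (E d)) ∈ M' := by
      rw [← hconj]
      exact M'.mul_mem (M'.mul_mem hg hm) (M'.inv_mem hg)
    rw [hc₁, hd₁, sg_split hQ hspac hspad hspcd] at hm2
    have hm3 : sg hQ (E c₁) (E d₁) ∈ M' := by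
      apply hHM
      exact sg_emb_mem_H Qf hQ F₀ e hP (by rw [card_eq e]; omega) hspcd
    have hm4 : sg hQ (E a'') (σc • E d₁ - σd • E c₁) ∈ M' := by
      have := M'.mul_mem (M'.inv_mem hm3) hm2
      rwa [inv_mul_cancel_left] at this
    obtain ⟨y₀, τ, hy₀⟩ := hH a'' _ ha''0 (sp_split hQ hspac hspad hspcd σc σd) hm4
    -- `d₁` is independent of `a''`, `c₁`
    have hd₁n : d₁ ∉ Submodule.span F₀ {a'', c₁} := by
      intro hmem
      obtain ⟨α, β, hαβ⟩ := Submodule.mem_span_pair.1 hmem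
      obtain ⟨v₀, hv₀S, hv₀d⟩ := exists_dual_vec Qf hQ F₀ e hP S₂ hdn
      have h1 : act g (E d) = act g ((((α : F) + σd - (β : F) * σc) * lam⁻¹) • E a
          + (β : F) • E c) := by
        rw [act_add, act_smul, act_smul, hga, hd₁, hc₁, ← hαβ, emb_add, emb_smul, emb_smul,
          smul_smul, mul_assoc, inv_mul_cancel₀ hlam0]
        module
      have h3 := act_injective g h1
      have h4 : QuadraticMap.polar ⇑Qf (E v₀) (E d) = 1 := by
        rw [← coe_polar_Qz F₀ e hP, hv₀d]; rfl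
      rw [h3, B_add_right hQ, B_smul_right hQ, B_smul_right hQ, eE v₀ a (hv₀S a haS₂),
        eE v₀ c (hv₀S c hcS₂)] at h4
      simp at h4
    obtain ⟨v, hvS, hvd⟩ := exists_dual_vec Qf hQ F₀ e hP _ hd₁n
    have hva : QuadraticMap.polar Qz' v a'' = 0 := hvS a'' (Submodule.subset_span (by simp))
    have hvc : QuadraticMap.polar Qz' v c₁ = 0 := hvS c₁ (Submodule.subset_span (by simp))
    have h5 := congrArg (fun w => QuadraticMap.polar ⇑Qf (E v) w) hy₀
    simp only [B_add_right hQ, B_sub_right hQ, B_smul_right hQ, eE v a'' hva, eE v c₁ hvc] at h5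
    have h6 : QuadraticMap.polar ⇑Qf (E v) (E d₁) = 1 := by
      rw [← coe_polar_Qz F₀ e hP, hvd]; rfl
    rw [h6] at h5
    have hσ : σc ∈ F₀ := by
      have : σc = QuadraticMap.polar ⇑Qf (E v) (E y₀) := by
        linear_combination h5
      rw [this]
      exact polar_emb_mem F₀ e hP v y₀
    refine ⟨c₁ + (⟨σc, hσ⟩ : F₀) • a'', ?_⟩
    rw [hc₁, emb_add, emb_smul]
  -- step C
  let W₀ : Submodule F₀ (Fin n → F₀) :=
    { carrier := {x | ∃ y : Fin n → F₀, act g (E x) = E y}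
      add_mem' := by
        rintro x x' ⟨y, hy⟩ ⟨y', hy'⟩
        exact ⟨y + y', by rw [emb_add, act_add, hy, hy', emb_add]⟩
      zero_mem' := ⟨0, by rw [emb_zero, act_zero]⟩
      smul_mem' := by
        rintro c x ⟨y, hy⟩
        exact ⟨c • y, by rw [emb_smul, act_smul, hy, emb_smul]⟩ }
  have hW₀ : ∀ x, x ∈ W₀ ↔ ∃ y : Fin n → F₀, act g (E x) = E y := fun x => Iff.rfl
  have hfr := Cfsg.Agent.Helper45.OrInSL.finrank_span_singleton_le_one a
  have h1 : Cfsg.Agent.Helper45.OrInSL.perp hQz (Submodule.span F₀ {a}) ≤ W₀ := by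
    apply perp_le_of_singular2 hQz h2' _ (by omega)
    intro b hb hbQ
    rw [hW₀]
    apply stepB b hbQ
    rw [QuadraticMap.polar_comm]
    exact (Cfsg.Agent.Helper45.OrInSL.mem_perp_singleton hQz).1 hb
  intro x hx
  rw [← hW₀]
  apply h1
  rw [Cfsg.Agent.Helper45.OrInSL.mem_perp_singleton hQz, QuadraticMap.polar_comm]
  exact hx

end Fixed

end Cfsg.Agent.Helper45.SubOm
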