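import Mathlib
import Cfsg.Agent.Helper45.SubOmG

/-!
# The hard case: an element of `M'` fixing a rational singular point is rational (conclusion);
existence of an irrational root element
-/

set_option autoImplicit false
set_option linter.unusedSectionVars false
set_option linter.unusedVariables false
set_option linter.unusedSimpArgs false
set_option linter.style.haveILetI false

namespace Cfsg.Agent.Helper45.SubOm

open Matrix Cfsg Cfsg.Geo Cfsg.Agent.Helper94 Cfsg.Agent.Helper94.ORoot Cfsg.Agent.Helper94.SubW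

variable {ι : Type} [Fintype ι] [DecidableEq ι] {F : Type*} [Field F] {n : ℕ}
variable (Qf : QuadraticForm F (ι → F)) (hQ : IsNondegenerateQuadraticForm ⇑Qf)

section Fixed

variable (F₀ : Subfield F) {P : GL ι F} (e : ι ≃ Fin n)
  (hP : Cfsg.Geo.IsQuadFormRationalStructure ⇑Qf F₀ P)
  (M' : Subgroup ↥(isometryGroup F ⇑Qf))
  (hHM : (Cfsg.Geo.subfieldSubgroup F₀ P ⊓ Cfsg.Geo.omegaGL ⇑Qf).comap
    (isometryGroup F ⇑Qf).subtype ≤ M')

local notation "E" => emb F₀ P e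
local notation "Qz'" => Qz F₀ e hP

include hHM in
/-- **in the hard case, an element of `M'` mapping a rational singular point to a rational point is
rational** -/
theorem ratEl_of_fix [Fintype F] (h2 : (2 : F) = 0) (hn : 13 ≤ n)
    (hH : HardCase Qf hQ F₀ P e M') {g : ↥(isometryGroup F ⇑Qf)} (hg : g ∈ M')
    {a a'' : Fin n → F₀} {lam : F} (ha0 : a ≠ 0) (haQ : Qz' a = 0)
    (hga : act g (E a) = lam • E a'') : RatEl Qf F₀ P e g := by
  haveI : Fintype F₀ := Fintype.ofFinite F₀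
  have hQz := nondeg_Qz hQ F₀ e hP
  have h2' := two_eq_zero_sub (F₀ := F₀) h2
  obtain ⟨hlam, hperp⟩ := rat_on_perp Qf hQ F₀ e hP M' hHM h2 hn hH hg ha0 haQ hga
  have haE : Qf (E a) = 0 := (Qz_eq_zero_iff hQ F₀ e hP a).1 haQ
  have hgne : act g (E a) ≠ 0 := by
    intro h0
    have h1 : act g (E a) = act g 0 := by rw [h0, act_zero]
    exact emb_ne_zero ha0 (act_injective g h1)
  have hlam0 : lam ≠ 0 := by
    rintro rfl
    rw [zero_smul] at hga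
    exact hgne hga
  have ha''0 : a'' ≠ 0 := by
    rintro rfl
    rw [emb_zero, smul_zero] at hga
    exact hgne hga
  have ha''E : Qf (E a'') = 0 := by
    have h1 : Qf (act g (E a)) = 0 := by rw [Q_act g (E a), haE]
    rw [hga, Q_smul hQ] at h1
    rcases mul_eq_zero.1 h1 with h | h
    · exact absurd h (pow_ne_zero 2 hlam0)
    · exact h
  have ha''Q : Qz' a'' = 0 := (Qz_eq_zero_iff hQ F₀ e hP a'').2 ha''E
  have ha''a'' : QuadraticMap.polar ⇑Qf (E a'') (E a'') = 0 := by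
    rw [B_self hQ, ha''E, mul_zero]
  have hEa'' : E a'' = lam⁻¹ • act g (E a) := by
    rw [hga, smul_smul, inv_mul_cancel₀ hlam0, one_smul]
  have hB'' : ∀ y, QuadraticMap.polar ⇑Qf (E a'') (act g y)
      = lam⁻¹ * QuadraticMap.polar ⇑Qf (E a) y := by
    intro y
    rw [hEa'', B_smul_left hQ, B_act]
  have hga' : act g⁻¹ (E a'') = lam⁻¹ • E a := by
    rw [hEa'', act_smul, act_inv_act]
  obtain ⟨-, hperp'⟩ := rat_on_perp Qf hQ F₀ e hP M' hHM h2 hn hH (M'.inv_mem hg) ha''0 ha''Q hga'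
  obtain ⟨a', ha'Q, haa'⟩ := exists_rat_partner Qf hQ F₀ e hP h2 (by omega) ha0
  have ha'E : Qf (E a') = 0 := (Qz_eq_zero_iff hQ F₀ e hP a').1 ha'Q
  have haa'E : QuadraticMap.polar ⇑Qf (E a) (E a') = 1 := by
    rw [← coe_polar_Qz F₀ e hP, haa']; rfl
  have hv : ∀ y : Fin n → F₀, QuadraticMap.polar Qz' a'' y = 0 →
      QuadraticMap.polar ⇑Qf (act g (E a')) (E y) ∈ F₀ := by
    intro y hy
    obtain ⟨x, hx⟩ := hperp' y hy
    have h1 : E y = act g (E x) := by rw [← hx, act_act_inv]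
    rw [h1, B_act]
    exact polar_emb_mem F₀ e hP a' x
  obtain ⟨z, τ, hz⟩ := exists_rat_add_smul Qf hQ F₀ e hP h2 (by omega) ha''0 hv
  have hBz : QuadraticMap.polar ⇑Qf (E z) (E a'') = lam⁻¹ := by
    have h1 : E z = act g (E a') - τ • E a'' := by rw [hz]; abel
    rw [h1, B_sub_left hQ, B_smul_left hQ, ha''a'', B_comm, hB'', haa'E]
    ring
  have hτ : τ ∈ F₀ := by
    have h1 : Qf (act g (E a')) = 0 := by rw [Q_act g (E a'), ha'E]
    rw [hz, Q_add (Q := ⇑Qf), Q_smul hQ, ha''E, B_smul_right hQ, hBz] at h1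
    have h3 : τ = -(lam * Qf (E z)) := by
      field_simp at h1
      linear_combination h1
    rw [h3]
    exact F₀.neg_mem (F₀.mul_mem hlam (Q_emb_mem F₀ e hP z))
  have hga'2 : act g (E a') = E (z + (⟨τ, hτ⟩ : F₀) • a'') := by
    rw [hz, emb_add, emb_smul]
  intro x
  obtain ⟨β, hβ⟩ : ∃ β : F₀, β = QuadraticMap.polar Qz' a x := ⟨_, rfl⟩
  have hx₁ : QuadraticMap.polar Qz' a (x - β • a') = 0 := by
    rw [Cfsg.Agent.Helper45.OrInSL.b_sub_right hQz, Cfsg.Agent.Helper45.OrInSL.b_smul_right hQz,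
      haa', ← hβ]
    ring
  obtain ⟨y₁, hy₁⟩ := hperp _ hx₁
  refine ⟨y₁ + β • (z + (⟨τ, hτ⟩ : F₀) • a''), ?_⟩
  have hx : E x = E (x - β • a') + (β : F) • E a' := by
    rw [emb_sub, emb_smul]
    abel
  rw [hx, act_add, act_smul, hy₁, hga'2]
  simp only [emb_add, emb_smul]

include hHM hP in
/-- **in the hard case, `M'` contains an irrational root element unless it consists of rational
elements** -/
theorem exists_irrational_root [Fintype F] (h2 : (2 : F) = 0) (hn : 13 ≤ n)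
    (hH : HardCase Qf hQ F₀ P e M') {g₀ : ↥(isometryGroup F ⇑Qf)} (hg₀ : g₀ ∈ M')
    (hg₀r : ¬ RatEl Qf F₀ P e g₀) :
    ∃ x z : ι → F, SP ⇑Qf x z ∧ sg hQ x z ∈ M' ∧ ¬ RatEl Qf F₀ P e (sg hQ x z) := by
  haveI : Fintype F₀ := Fintype.ofFinite F₀
  have hQz := nondeg_Qz hQ F₀ e hP
  have h2' := two_eq_zero_sub (F₀ := F₀) h2
  have eE : ∀ x x' : Fin n → F₀, QuadraticMap.polar Qz' x x' = 0 →
      QuadraticMap.polar ⇑Qf (E x) (E x') = 0 := by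
    intro x x' hxx'
    rw [← coe_polar_Qz F₀ e hP, hxx']; rfl
  obtain ⟨a, ha0, haQ⟩ := exists_rat_sing Qf hQ F₀ e hP h2 (by omega)
  obtain ⟨S₁, hS₁⟩ : ∃ S₁ : Submodule F₀ (Fin n → F₀), S₁ = Submodule.span F₀ {a} := ⟨_, rfl⟩
  have hfr₁ : Module.finrank F₀ S₁ ≤ 1 := by
    rw [hS₁]; exact Cfsg.Agent.Helper45.OrInSL.finrank_span_singleton_le_one a
  have haS₁ : a ∈ S₁ := by rw [hS₁]; exact Submodule.subset_span (by simp)
  obtain ⟨c₁, hc₁S, hc₁Q, hc₁n⟩ := exists_singular_not_mem hQz h2' S₁ (by omega)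
  obtain ⟨c₂, hc₂S, hc₂Q, hc₂c₁⟩ := exists_partner_perp hQz h2' S₁ (by omega) hc₁n
  have hac₁ : QuadraticMap.polar Qz' a c₁ = 0 := by
    rw [QuadraticMap.polar_comm]; exact hc₁S a haS₁
  have hac₂ : QuadraticMap.polar Qz' a c₂ = 0 := by
    rw [QuadraticMap.polar_comm]; exact hc₂S a haS₁
  have hsp₁ : SP Qz' a c₁ := ⟨haQ, hc₁Q, hac₁⟩
  have hsp₂ : SP Qz' a c₂ := ⟨haQ, hc₂Q, hac₂⟩
  have hsp₁E := SP_emb Qf hQ F₀ e hP hsp₁
  have hsp₂E := SP_emb Qf hQ F₀ e hP hsp₂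
  obtain ⟨x, hx⟩ : ∃ x, x = act g₀ (E a) := ⟨_, rfl⟩
  obtain ⟨z₁, hz₁⟩ : ∃ z₁, z₁ = act g₀ (E c₁) := ⟨_, rfl⟩
  obtain ⟨z₂, hz₂⟩ : ∃ z₂, z₂ = act g₀ (E c₂) := ⟨_, rfl⟩
  have hxz₁ : SP ⇑Qf x z₁ :=
    ⟨by rw [hx, Q_act g₀ (E a), hsp₁E.1], by rw [hz₁, Q_act g₀ (E c₁), hsp₁E.2.1],
      by rw [hx, hz₁, B_act, hsp₁E.2.2]⟩
  have hxz₂ : SP ⇑Qf x z₂ :=
    ⟨by rw [hx, Q_act g₀ (E a), hsp₂E.1], by rw [hz₂, Q_act g₀ (E c₂), hsp₂E.2.1],
      by rw [hx, hz₂, B_act, hsp₂E.2.2]⟩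
  have hm₁ : sg hQ x z₁ ∈ M' := by
    rw [hx, hz₁, ← sg_conj hQ g₀ hsp₁E]
    refine M'.mul_mem (M'.mul_mem hg₀ ?_) (M'.inv_mem hg₀)
    rw [← tg_one hQ]
    exact tg_rat_mem Qf hQ F₀ e hP M' hHM (by omega) hsp₁ F₀.one_mem
  have hm₂ : sg hQ x z₂ ∈ M' := by
    rw [hx, hz₂, ← sg_conj hQ g₀ hsp₂E]
    refine M'.mul_mem (M'.mul_mem hg₀ ?_) (M'.inv_mem hg₀)
    rw [← tg_one hQ]
    exact tg_rat_mem Qf hQ F₀ e hP M' hHM (by omega) hsp₂ F₀.one_mem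
  by_contra hcon
  push Not at hcon
  have hr₁ := hcon x z₁ hxz₁ hm₁
  have hr₂ := hcon x z₂ hxz₂ hm₂
  apply hg₀r
  -- a rational vector not orthogonal to `x`
  have hx0 : x ≠ 0 := by
    intro h0
    have h1 : act g₀ (E a) = act g₀ 0 := by rw [← hx, h0, act_zero]
    exact emb_ne_zero ha0 (act_injective g₀ h1)
  obtain ⟨v, hv⟩ : ∃ v : Fin n → F₀, QuadraticMap.polar ⇑Qf (E v) x ≠ 0 := by
    by_contra hno
    push Not at hno
    exact hx0 (eq_zero_of_emb_perp hQ F₀ e hno)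
  obtain ⟨θ, hθ⟩ : ∃ θ : F, θ = QuadraticMap.polar ⇑Qf x (E v) := ⟨_, rfl⟩
  have hθ0 : θ ≠ 0 := by
    rw [hθ, B_comm]; exact hv
  obtain ⟨y₁, hy₁⟩ := hr₁ v
  rw [act_sg hQ hxz₁, ← hθ] at hy₁
  -- `u₁ = y₁ - v`
  have hu₁ : E (y₁ - v) = θ • z₁ - QuadraticMap.polar ⇑Qf z₁ (E v) • x := by
    rw [emb_sub, ← hy₁]; abel
  obtain ⟨y₂, hy₂⟩ := hr₂ (y₁ - v)
  rw [act_sg hQ hxz₂] at hy₂
  have hz₂z₁ : QuadraticMap.polar ⇑Qf z₂ z₁ = 1 := by
    rw [hz₂, hz₁, B_act, ← coe_polar_Qz F₀ e hP, hc₂c₁]; rfl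
  have e1 : QuadraticMap.polar ⇑Qf x (E (y₁ - v)) = 0 := by
    rw [hu₁, B_sub_right hQ, B_smul_right hQ, B_smul_right hQ, hxz₁.2.2, hxz₁.self_left hQ]
    ring
  have e2 : QuadraticMap.polar ⇑Qf z₂ (E (y₁ - v)) = θ := by
    rw [hu₁, B_sub_right hQ, B_smul_right hQ, B_smul_right hQ, hz₂z₁, hxz₂.symm.2.2]
    ring
  rw [e1, e2, zero_smul, add_zero] at hy₂
  have h3 : act g₀ (E a) = θ⁻¹ • E (y₁ - v - y₂) := by
    rw [← hx, emb_sub, ← hy₂, sub_sub_cancel, smul_smul, inv_mul_cancel₀ hθ0, one_smul]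
  exact ratEl_of_fix Qf hQ F₀ e hP M' hHM h2 hn hH hg₀ ha0 haQ h3

end Fixed

end Cfsg.Agent.Helper45.SubOm
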