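import Mathlib
import Cfsg.Agent.Helper45.SubOmH

/-!
# The hard case: an involution of `M'` commuting with a given root element and fixing a rational
singular point (the dihedral trick)
-/

set_option autoImplicit false
set_option linter.unusedSectionVars false
set_option linter.unusedVariables false
set_option linter.unusedSimpArgs false
set_option linter.style.haveILetI false

namespace Cfsg.Agent.Helper45.SubOm

open Matrix Cfsg Cfsg.Geo Cfsg.Agent.Helper94 Cfsg.Agent.Helper94.ORoot Cfsg.Agent.Helper94.SubW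

variable {ι : Type} [Fintype ι] [DecidableEq ι] {F : Type*} [Field F] {n : ℕ}
variable (Qf : QuadraticForm F (ι → F)) (hQ : IsNondegenerateQuadraticForm ⇑Qf)

section Fixed

variable (F₀ : Subfield F) {P : GL ι F} (e : ι ≃ Fin n)
  (hP : Cfsg.Geo.IsQuadFormRationalStructure ⇑Qf F₀ P)
  (M' : Subgroup ↥(isometryGroup F ⇑Qf))
  (hHM : (Cfsg.Geo.subfieldSubgroup F₀ P ⊓ Cfsg.Geo.omegaGL ⇑Qf).comap
    (isometryGroup F ⇑Qf).subtype ≤ M')

local notation "E" => emb F₀ P e
local notation "Qz'" => Qz F₀ e hP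

include hHM hP in
/-- the dihedral trick: a non-trivial involution of `M'` commuting with a given root element of
`M'` and fixing a given rational singular point -/
theorem exists_commuting_invol [Fintype F] (h2 : (2 : F) = 0) (hn : 13 ≤ n)
    {a c₁ c₂ : Fin n → F₀} (ha0 : a ≠ 0) (hsp₁ : SP Qz' a c₁) (hsp₂ : SP Qz' a c₂)
    (hc : QuadraticMap.polar Qz' c₂ c₁ = 1) {x z : ι → F} (hxz : SP ⇑Qf x z)
    (hm : sg hQ x z ∈ M') :
    ∃ w ∈ M', w ≠ 1 ∧ w * w = 1 ∧ sg hQ x z * w = w * sg hQ x z ∧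
      (∃ α : F, act w (E a) = α • E a) ∧
      ∀ v, act w v - v ∈ Submodule.span F {E a, E (c₁ + c₂), x, z} := by
  haveI : Fintype F₀ := Fintype.ofFinite F₀
  have hQz := nondeg_Qz hQ F₀ e hP
  have hsp₁E := SP_emb Qf hQ F₀ e hP hsp₁
  have hsp₂E := SP_emb Qf hQ F₀ e hP hsp₂
  have hcE : QuadraticMap.polar ⇑Qf (E c₂) (E c₁) = 1 := by
    rw [← coe_polar_Qz F₀ e hP, hc]; rfl
  have hcE' : QuadraticMap.polar ⇑Qf (E c₁) (E c₂) = 1 := by rw [B_comm]; exact hcE
  have haa : QuadraticMap.polar ⇑Qf (E a) (E a) = 0 := hsp₁E.self_left hQ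
  obtain ⟨s₁, hs₁⟩ : ∃ s₁, s₁ = sg hQ (E a) (E c₁) := ⟨_, rfl⟩
  obtain ⟨s₂, hs₂⟩ : ∃ s₂, s₂ = sg hQ (E a) (E c₂) := ⟨_, rfl⟩
  obtain ⟨t, ht⟩ : ∃ t, t = sg hQ x z := ⟨_, rfl⟩
  have hs₁M : s₁ ∈ M' := by
    rw [hs₁, ← tg_one hQ]
    exact tg_rat_mem Qf hQ F₀ e hP M' hHM (by omega) hsp₁ F₀.one_mem
  have hs₂M : s₂ ∈ M' := by
    rw [hs₂, ← tg_one hQ]
    exact tg_rat_mem Qf hQ F₀ e hP M' hHM (by omega) hsp₂ F₀.one_mem
  have htM : t ∈ M' := by rw [ht]; exact hm
  have hcomm : s₂ * s₁ = s₁ * s₂ := by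
    rw [hs₁, hs₂]; exact sg_commute_common hQ hsp₂E hsp₁E
  have hsq₁ : s₁ * s₁ = 1 := by rw [hs₁]; exact sg_sq hQ h2 hsp₁E
  have hsq₂ : s₂ * s₂ = 1 := by rw [hs₂]; exact sg_sq hQ h2 hsp₂E
  have ht2 : t * t = 1 := by rw [ht]; exact sg_sq hQ h2 hxz
  have hzc2 : (s₁ * s₂) * (s₁ * s₂) = 1 := by
    have h1 : (s₁ * s₂) * (s₁ * s₂) = s₁ * (s₂ * s₁) * s₂ := by group
    have h3 : s₁ * (s₁ * s₂) * s₂ = (s₁ * s₁) * (s₂ * s₂) := by group
    rw [h1, hcomm, h3, hsq₁, hsq₂, one_mul]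
  obtain ⟨U, hU⟩ : ∃ U : Submodule F (ι → F),
      U = Submodule.span F {E a, E (c₁ + c₂), x, z} := ⟨_, rfl⟩
  have haU : E a ∈ U := by rw [hU]; exact Submodule.subset_span (by simp)
  have hcU : E (c₁ + c₂) ∈ U := by rw [hU]; exact Submodule.subset_span (by simp)
  have hxU : x ∈ U := by rw [hU]; exact Submodule.subset_span (by simp)
  have hzU : z ∈ U := by rw [hU]; exact Submodule.subset_span (by simp)
  -- the action of `z_c`
  have act_zc : ∀ v, act (s₁ * s₂) v = v + QuadraticMap.polar ⇑Qf (E a) v • E (c₁ + c₂)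
      - (QuadraticMap.polar ⇑Qf (E c₁) v + QuadraticMap.polar ⇑Qf (E c₂) v
        + QuadraticMap.polar ⇑Qf (E a) v) • E a := by
    intro v
    rw [act_mul, hs₁, hs₂, act_sg hQ hsp₁E, act_sg hQ hsp₂E, emb_add]
    simp only [B_add_right hQ, B_sub_right hQ, B_smul_right hQ, hsp₂E.2.2, haa, hcE',
      hsp₁E.symm.2.2]
    module
  -- the invariant
  obtain ⟨a', ha'Q, haa'⟩ := exists_rat_partner Qf hQ F₀ e hP h2 (by omega) ha0
  have haa'E : QuadraticMap.polar ⇑Qf (E a) (E a') = 1 := by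
    rw [← coe_polar_Qz F₀ e hP, haa']; rfl
  have hinv : QuadraticMap.polar ⇑Qf (act (s₁ * s₂) (E a')) (E a') ≠ 0 := by
    rw [act_zc, emb_add]
    simp only [B_add_left hQ, B_sub_left hQ, B_smul_left hQ, haa'E, B_self hQ, h2]
    intro h0
    have : (1 : F) = 0 := by linear_combination -h0
    exact one_ne_zero this
  rcases Cfsg.Agent.Helper45.SubSL.dihedral_dichotomy (s₁ * s₂) t hzc2 ht2 with ⟨k, hk⟩ | ⟨k, hne, hsq, hc1, hc2⟩
  · exfalso
    obtain ⟨h, hh⟩ : ∃ h, h = (s₁ * s₂ * t) ^ k := ⟨_, rfl⟩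
    rw [← hh] at hk
    have h1 := B_sg_self hQ h2 hxz (act h (E a'))
    rw [← ht, ← hk, act_mul, act_mul, act_inv_act, B_act] at h1
    exact hinv h1
  · obtain ⟨w, hw⟩ : ∃ w, w = (s₁ * s₂ * t) ^ k := ⟨_, rfl⟩
    rw [← hw] at hne hsq hc1 hc2
    have hwM : w ∈ M' := by
      rw [hw]
      exact M'.pow_mem (M'.mul_mem (M'.mul_mem hs₁M hs₂M) htM) k
    refine ⟨w, hwM, hne, hsq, by rw [← ht]; exact hc2, ?_, ?_⟩
    · -- the fixed point
      have h1 : act (s₁ * s₂) (E c₂) = E c₂ - E a := by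
        rw [act_zc, hsp₂E.2.2, hcE', hsp₂E.self_right hQ]
        module
      have h3 : E a = E c₂ - act (s₁ * s₂) (E c₂) := by rw [h1]; abel
      obtain ⟨u, hu⟩ : ∃ u, u = act w (E c₂) := ⟨_, rfl⟩
      have h4 : act w (act (s₁ * s₂) (E c₂)) = act (s₁ * s₂) u := by
        rw [hu, ← act_mul, ← act_mul, hc1]
      have h5 : act w (E a) = (QuadraticMap.polar ⇑Qf (E c₁) u + QuadraticMap.polar ⇑Qf (E c₂) u
          + QuadraticMap.polar ⇑Qf (E a) u) • E a
          + (-QuadraticMap.polar ⇑Qf (E a) u) • E (c₁ + c₂) := by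
        conv_lhs => rw [h3]
        rw [act_sub, h4, ← hu, act_zc]
        module
      have hQc : Qf (E (c₁ + c₂)) = 1 := by
        rw [emb_add, Q_add (Q := ⇑Qf), hsp₁E.2.1, hsp₂E.2.1, hcE']
        ring
      have h6 : Qf (act w (E a)) = 0 := by rw [Q_act w (E a), hsp₁E.1]
      rw [h5, Q_add (Q := ⇑Qf), Q_smul hQ, Q_smul hQ, hsp₁E.1, hQc, B_smul_left hQ,
        B_smul_right hQ, emb_add, B_add_right hQ, hsp₁E.2.2, hsp₂E.2.2] at h6
      have h7 : QuadraticMap.polar ⇑Qf (E a) u = 0 := by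
        have : (QuadraticMap.polar ⇑Qf (E a) u) ^ 2 = 0 := by linear_combination h6
        exact pow_eq_zero_iff (two_ne_zero) |>.1 this
      rw [h7, neg_zero, zero_smul, add_zero] at h5
      exact ⟨_, h5⟩
    · -- the range
      have hP1 : ∀ v, act (s₁ * s₂) v - v ∈ U := by
        intro v
        rw [act_zc]
        have : v + QuadraticMap.polar ⇑Qf (E a) v • E (c₁ + c₂)
            - (QuadraticMap.polar ⇑Qf (E c₁) v + QuadraticMap.polar ⇑Qf (E c₂) v
              + QuadraticMap.polar ⇑Qf (E a) v) • E a - v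
            = QuadraticMap.polar ⇑Qf (E a) v • E (c₁ + c₂)
              - (QuadraticMap.polar ⇑Qf (E c₁) v + QuadraticMap.polar ⇑Qf (E c₂) v
                + QuadraticMap.polar ⇑Qf (E a) v) • E a := by abel
        rw [this]
        exact U.sub_mem (U.smul_mem _ hcU) (U.smul_mem _ haU)
      have hP2 : ∀ v, act t v - v ∈ U := by
        intro v
        rw [ht, act_sg hQ hxz]
        have : v + QuadraticMap.polar ⇑Qf x v • z - QuadraticMap.polar ⇑Qf z v • x - v
            = QuadraticMap.polar ⇑Qf x v • z - QuadraticMap.polar ⇑Qf z v • x := by abel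
        rw [this]
        exact U.sub_mem (U.smul_mem _ hzU) (U.smul_mem _ hxU)
      have hmul : ∀ g h : ↥(isometryGroup F ⇑Qf), (∀ v, act g v - v ∈ U) →
          (∀ v, act h v - v ∈ U) → ∀ v, act (g * h) v - v ∈ U := by
        intro g h hg hh v
        have : act (g * h) v - v = (act g (act h v) - act h v) + (act h v - v) := by
          rw [act_mul]; abel
        rw [this]
        exact U.add_mem (hg _) (hh _)
      have hpow : ∀ j : ℕ, ∀ v, act ((s₁ * s₂ * t) ^ j) v - v ∈ U := by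
        intro j
        induction j with
        | zero =>
          intro v
          rw [pow_zero, act_one, sub_self]
          exact U.zero_mem
        | succ j ih =>
          rw [pow_succ]
          exact hmul _ _ ih (hmul _ _ hP1 hP2)
      rw [← hU, hw]
      exact hpow k

end Fixed

end Cfsg.Agent.Helper45.SubOm
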