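import Mathlib
import Cfsg.Agent.Helper45.SubOmI

/-!
# The hard case: base change of dimension, involutions, and the range of a rational involution
-/

set_option autoImplicit false
set_option linter.unusedSectionVars false
set_option linter.unusedVariables false
set_option linter.unusedSimpArgs false
set_option linter.style.haveILetI false

namespace Cfsg.Agent.Helper45.SubOm

open Matrix Cfsg Cfsg.Geo Cfsg.Agent.Helper94 Cfsg.Agent.Helper94.ORoot Cfsg.Agent.Helper94.SubW

variable {ι : Type} [Fintype ι] [DecidableEq ι] {F : Type*} [Field F] {n : ℕ}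

theorem finrank_span_quad_le' (x y z w : ι → F) :
    Module.finrank F (Submodule.span F {x, y, z, w} : Submodule F (ι → F)) ≤ 4 := by
  classical
  have h := finrank_span_finset_le_card (R := F) ({x, y, z, w} : Finset (ι → F))
  have h2 := Finset.card_le_four (a := x) (b := y) (c := z) (d := w)
  have h3 : (({x, y, z, w} : Finset (ι → F)) : Set (ι → F)) = {x, y, z, w} := by
    push_cast
    rfl
  rw [Set.finrank, h3] at h
  omega

section Generic

variable {Q : (ι → F) → F} (hQ : IsNondegenerateQuadraticForm Q)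

include hQ in
/-- `w - 1` is self-adjoint for an involution `w` -/
theorem invol_adj {w : ↥(isometryGroup F Q)} (hw : w * w = 1) (p q : ι → F) :
    QuadraticMap.polar Q (act w p - p) q = QuadraticMap.polar Q p (act w q - q) := by
  have h1 : QuadraticMap.polar Q (act w p) q = QuadraticMap.polar Q p (act w q) := by
    have := B_act w (act w p) q
    rw [← act_mul, hw, act_one] at this
    exact this.symm
  rw [B_sub_left hQ, B_sub_right hQ, h1]

include hQ in
/-- the range of `w - 1` is totally isotropic for an involution `w` in characteristic two -/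
theorem invol_iso (h2 : (2 : F) = 0) {w : ↥(isometryGroup F Q)} (hw : w * w = 1) (p q : ι → F) :
    QuadraticMap.polar Q (act w p - p) (act w q - q) = 0 := by
  have h1 := invol_adj hQ hw p q
  rw [B_sub_left hQ, B_sub_right hQ, B_sub_right hQ, B_act]
  rw [B_sub_left hQ, B_sub_right hQ] at h1
  linear_combination (-1 : F) * h1
    + (QuadraticMap.polar Q p q - QuadraticMap.polar Q p (act w q)) * h2

end Generic

variable (Qf : QuadraticForm F (ι → F)) (hQ : IsNondegenerateQuadraticForm ⇑Qf)

section Fixed

variable (F₀ : Subfield F) {P : GL ι F} (e : ι ≃ Fin n)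
  (hP : Cfsg.Geo.IsQuadFormRationalStructure ⇑Qf F₀ P)
  (M' : Subgroup ↥(isometryGroup F ⇑Qf))

local notation "E" => emb F₀ P e
local notation "Qz'" => Qz F₀ e hP

include hQ hP in
/-- base change: a rational subspace whose image lies in an `F`-subspace has at most its
dimension -/
theorem finrank_le_of_emb_mem [Fintype F] (S : Submodule F₀ (Fin n → F₀))
    (U : Submodule F (ι → F)) (hSU : ∀ y ∈ S, E y ∈ U) :
    Module.finrank F₀ S ≤ Module.finrank F U := by
  haveI : Fintype F₀ := Fintype.ofFinite F₀
  have hQz := nondeg_Qz hQ F₀ e hP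
  obtain ⟨m, hm⟩ : ∃ m, m = Module.finrank F₀ S := ⟨_, rfl⟩
  let b : Module.Basis (Fin (Module.finrank F₀ S)) F₀ S := Module.finBasis F₀ S
  let v : Fin (Module.finrank F₀ S) → (Fin n → F₀) := fun i => (b i : Fin n → F₀)
  have hv : LinearIndependent F₀ v :=
    b.linearIndependent.map' S.subtype (Submodule.ker_subtype S)
  have hvS : ∀ i, v i ∈ S := fun i => (b i).2
  -- dual vectors
  have hdual : ∀ i, ∃ d : Fin n → F₀, (∀ j, j ≠ i → QuadraticMap.polar Qz' d (v j) = 0) ∧
      QuadraticMap.polar Qz' d (v i) = 1 := by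
    intro i
    have h1 : v i ∉ Submodule.span F₀ (v '' (Set.univ \ {i})) :=
      (linearIndependent_iff_notMem_span.1 hv) i
    obtain ⟨d, hdS, hdi⟩ := exists_dual_vec Qf hQ F₀ e hP _ h1
    refine ⟨d, ?_, hdi⟩
    intro j hj
    apply hdS
    apply Submodule.subset_span
    exact ⟨j, ⟨Set.mem_univ _, by simpa using hj⟩, rfl⟩
  choose d hd1 hd2 using hdual
  have hli : LinearIndependent F (fun i => E (v i)) := by
    rw [Fintype.linearIndependent_iff]
    intro g hg i
    have h1 := congrArg (fun y => QuadraticMap.polarBilin Qf (E (d i)) y) hg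
    simp only [map_sum, map_smul, map_zero, QuadraticMap.polarBilin_apply_apply,
      smul_eq_mul] at h1
    rw [Finset.sum_eq_single i] at h1
    · have h3 : QuadraticMap.polar ⇑Qf (E (d i)) (E (v i)) = 1 := by
        rw [← coe_polar_Qz F₀ e hP, hd2 i]; rfl
      rw [h3, mul_one] at h1
      exact h1
    · intro j _ hj
      have h3 : QuadraticMap.polar ⇑Qf (E (d i)) (E (v j)) = 0 := by
        rw [← coe_polar_Qz F₀ e hP, hd1 i j hj]; rfl
      rw [h3, mul_zero]
    · intro hi
      exact absurd (Finset.mem_univ i) hi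
  have hli' : LinearIndependent F (fun i => (⟨E (v i), hSU _ (hvS i)⟩ : U)) := by
    apply LinearIndependent.of_comp U.subtype
    exact hli
  have := hli'.fintype_card_le_finrank
  rwa [Fintype.card_fin] at this

include hQ hP in
/-- a non-trivial rational involution of `Ω` moves two rational vectors independently -/
theorem exists_rat_range_pair [Fintype F] (h2 : (2 : F) = 0) (hn : 5 ≤ n)
    {w : ↥(isometryGroup F ⇑Qf)} (hwΩ : w ∈ Cfsg.Omega F ⇑Qf) (hw1 : w ≠ 1)
    (hwr : RatEl Qf F₀ P e w) :
    ∃ u₁ u₂ r₁ r₂ : Fin n → F₀, E r₁ = act w (E u₁) - E u₁ ∧ E r₂ = act w (E u₂) - E u₂ ∧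
      r₁ ≠ 0 ∧ r₂ ∉ Submodule.span F₀ {r₁} := by
  haveI : CharP F 2 := CharTwo.of_one_ne_zero_of_two_eq_zero one_ne_zero h2
  have hnd := Cfsg.Agent.Helper45.OmegaParity.nondeg_of_geo Qf hQ
  choose f hf using hwr
  have hρ : ∀ u, E (f u - u) = act w (E u) - E u := by
    intro u
    rw [emb_sub, hf]
  -- some rational vector is moved
  obtain ⟨u₁, hu₁⟩ : ∃ u₁, f u₁ - u₁ ≠ 0 := by
    by_contra hcon
    push Not at hcon
    apply hw1
    apply iso_ext
    intro x
    rw [act_one]
    revert x
    apply emb_span_induction (F₀ := F₀) (P := P) (e := e)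
    · intro v v' hv hv'
      rw [act_add, hv, hv']
    · intro c v hv
      rw [act_smul, hv]
    · intro x
      have := hρ x
      rw [hcon x, emb_zero] at this
      exact (sub_eq_zero.1 this.symm)
  by_contra hcon
  push Not at hcon
  have hall : ∀ u, f u - u ∈ Submodule.span F₀ {f u₁ - u₁} := by
    intro u
    by_contra hu
    exact hu (hcon u₁ u (f u₁ - u₁) (f u - u) (hρ u₁) (hρ u) hu₁)
  have hrange : ∀ x, act w x - x ∈ Submodule.span F {E (f u₁ - u₁)} := by
    apply emb_span_induction (F₀ := F₀) (P := P) (e := e)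
    · intro v v' hv hv'
      have : act w (v + v') - (v + v') = (act w v - v) + (act w v' - v') := by
        rw [act_add]; abel
      rw [this]
      exact Submodule.add_mem _ hv hv'
    · intro c v hv
      have : act w (c • v) - c • v = c • (act w v - v) := by
        rw [act_smul, smul_sub]
      rw [this]
      exact Submodule.smul_mem _ _ hv
    · intro x
      obtain ⟨c, hc⟩ := Submodule.mem_span_singleton.1 (hall x)
      rw [← hρ, ← hc, emb_smul]
      exact Submodule.smul_mem _ _ (Submodule.subset_span (by simp))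
  have heven := (Cfsg.Agent.Helper45.OmegaParity.mem_Omega_iff_even_rank Qf hnd
    (Or.inr (by rw [card_eq e]; omega)) w).1 hwΩ
  have hle : LinearMap.range ((w.1 : Matrix ι ι F) - 1).mulVecLin
      ≤ Submodule.span F {E (f u₁ - u₁)} := by
    rintro y ⟨x, rfl⟩
    have : ((w.1 : Matrix ι ι F) - 1).mulVecLin x = act w x - x := by
      rw [Matrix.mulVecLin_apply, Matrix.sub_mulVec, Matrix.one_mulVec]
      rfl
    rw [this]
    exact hrange x
  have hrk : ((w.1 : Matrix ι ι F) - 1).rank ≤ 1 := by
    rw [Matrix.rank]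
    refine (Submodule.finrank_mono hle).trans ?_
    have h1 := finrank_span_le_card (R := F) ({E (f u₁ - u₁)} : Set (ι → F))
    simpa using h1
  have hrk0 : ((w.1 : Matrix ι ι F) - 1).rank = 0 := by
    rcases heven with ⟨j, hj⟩
    omega
  rw [Matrix.rank] at hrk0
  have hbot : LinearMap.range ((w.1 : Matrix ι ι F) - 1).mulVecLin = ⊥ :=
    Submodule.finrank_eq_zero.1 hrk0
  have hmem : act w (E u₁) - E u₁ ∈ LinearMap.range ((w.1 : Matrix ι ι F) - 1).mulVecLin := by
    refine ⟨E u₁, ?_⟩
    rw [Matrix.mulVecLin_apply, Matrix.sub_mulVec, Matrix.one_mulVec]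
    rfl
  rw [hbot, Submodule.mem_bot, ← hρ, emb_eq_zero_iff] at hmem
  exact hu₁ hmem

end Fixed

end Cfsg.Agent.Helper45.SubOm
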