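import Mathlib
import Cfsg.Agent.Helper45.SubOmJ

/-!
# The hard case is contradictory (characteristic two)
-/

set_option autoImplicit false
set_option linter.unusedSectionVars false
set_option linter.unusedVariables false
set_option linter.unusedSimpArgs false
set_option linter.style.haveILetI false
set_option maxHeartbeats 800000

namespace Cfsg.Agent.Helper45.SubOm

open Matrix Cfsg Cfsg.Geo Cfsg.Agent.Helper94 Cfsg.Agent.Helper94.ORoot Cfsg.Agent.Helper94.SubW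

variable {ι : Type} [Fintype ι] [DecidableEq ι] {F : Type*} [Field F] {n : ℕ}
variable (Qf : QuadraticForm F (ι → F)) (hQ : IsNondegenerateQuadraticForm ⇑Qf)

section Fixed

variable (F₀ : Subfield F) {P : GL ι F} (e : ι ≃ Fin n)
  (hP : Cfsg.Geo.IsQuadFormRationalStructure ⇑Qf F₀ P)
  (M' : Subgroup ↥(isometryGroup F ⇑Qf))
  (hHM : (Cfsg.Geo.subfieldSubgroup F₀ P ⊓ Cfsg.Geo.omegaGL ⇑Qf).comap
    (isometryGroup F ⇑Qf).subtype ≤ M')

local notation "E" => emb F₀ P e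
local notation "Qz'" => Qz F₀ e hP

include hHM hP in
/-- **the hard case does not occur** for a subgroup of `Ω` containing an irrational element -/
theorem hard_false [Fintype F] (h2 : (2 : F) = 0) (hn : 13 ≤ n)
    (hH : HardCase Qf hQ F₀ P e M') (hMΩ : M' ≤ Cfsg.Omega F ⇑Qf)
    {g₀ : ↥(isometryGroup F ⇑Qf)} (hg₀ : g₀ ∈ M') (hg₀r : ¬ RatEl Qf F₀ P e g₀) : False := by
  haveI : Fintype F₀ := Fintype.ofFinite F₀
  have hQz := nondeg_Qz hQ F₀ e hP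
  have h2' := two_eq_zero_sub (F₀ := F₀) h2
  have eE : ∀ x x' : Fin n → F₀, QuadraticMap.polar Qz' x x' = 0 →
      QuadraticMap.polar ⇑Qf (E x) (E x') = 0 := by
    intro x x' hxx'
    rw [← coe_polar_Qz F₀ e hP, hxx']; rfl
  obtain ⟨x, z, hxz, hm, hnr⟩ := exists_irrational_root Qf hQ F₀ e hP M' hHM h2 hn hH hg₀ hg₀r
  -- the rational flag
  obtain ⟨a, ha0, haQ⟩ := exists_rat_sing Qf hQ F₀ e hP h2 (by omega)
  obtain ⟨S₁, hS₁⟩ : ∃ S₁ : Submodule F₀ (Fin n → F₀), S₁ = Submodule.span F₀ {a} := ⟨_, rfl⟩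
  have hfr₁ : Module.finrank F₀ S₁ ≤ 1 := by
    rw [hS₁]; exact Cfsg.Agent.Helper45.OrInSL.finrank_span_singleton_le_one a
  have haS₁ : a ∈ S₁ := by rw [hS₁]; exact Submodule.subset_span (by simp)
  obtain ⟨c₁, hc₁S, hc₁Q, hc₁n⟩ := exists_singular_not_mem hQz h2' S₁ (by omega)
  obtain ⟨c₂, hc₂S, hc₂Q, hc₂c₁⟩ := exists_partner_perp hQz h2' S₁ (by omega) hc₁n
  have hac₁ : QuadraticMap.polar Qz' a c₁ = 0 := by
    rw [QuadraticMap.polar_comm]; exact hc₁S a haS₁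
  have hac₂ : QuadraticMap.polar Qz' a c₂ = 0 := by
    rw [QuadraticMap.polar_comm]; exact hc₂S a haS₁
  have hsp₁ : SP Qz' a c₁ := ⟨haQ, hc₁Q, hac₁⟩
  have hsp₂ : SP Qz' a c₂ := ⟨haQ, hc₂Q, hac₂⟩
  obtain ⟨w, hwM, hw1, hsq, hcomm, ⟨α, hα⟩, hrange⟩ :=
    exists_commuting_invol Qf hQ F₀ e hP M' hHM h2 hn ha0 hsp₁ hsp₂ hc₂c₁ hxz hm
  have hwr : RatEl Qf F₀ P e w := ratEl_of_fix Qf hQ F₀ e hP M' hHM h2 hn hH hwM ha0 haQ hα
  obtain ⟨t, ht⟩ : ∃ t, t = sg hQ x z := ⟨_, rfl⟩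
  rw [← ht] at hm hnr hcomm
  have htt : t * t = 1 := by rw [ht]; exact sg_sq hQ h2 hxz
  have htw : ∀ v, act t (act w v) = act w (act t v) := by
    intro v
    rw [← act_mul, ← act_mul, hcomm]
  have htadj : ∀ p q, QuadraticMap.polar ⇑Qf p (act t q) = QuadraticMap.polar ⇑Qf (act t p) q := by
    intro p q
    have := B_act t p (act t q)
    rw [← act_mul, htt, act_one] at this
    exact this.symm
  -- the range of `w - 1`
  let R : Submodule F (ι → F) :=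
    { carrier := {y | ∃ v, y = act w v - v}
      add_mem' := by
        rintro y y' ⟨v, rfl⟩ ⟨v', rfl⟩
        exact ⟨v + v', by rw [act_add]; abel⟩
      zero_mem' := ⟨0, by rw [act_zero, sub_zero]⟩
      smul_mem' := by
        rintro c y ⟨v, rfl⟩
        exact ⟨c • v, by rw [act_smul, smul_sub]⟩ }
  have hR : ∀ y, y ∈ R ↔ ∃ v, y = act w v - v := fun y => Iff.rfl
  have hRt : ∀ y ∈ R, act t y ∈ R := by
    rintro y ⟨v, rfl⟩
    exact ⟨act t v, by rw [act_sub, htw]⟩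
  have hRiso : ∀ y ∈ R, ∀ y' ∈ R, QuadraticMap.polar ⇑Qf y y' = 0 := by
    rintro y ⟨v, rfl⟩ y' ⟨v', rfl⟩
    exact invol_iso hQ h2 hsq v v'
  obtain ⟨U, hU⟩ : ∃ U : Submodule F (ι → F),
      U = Submodule.span F {E a, E (c₁ + c₂), x, z} := ⟨_, rfl⟩
  have hUfr : Module.finrank F U ≤ 4 := by
    rw [hU]; exact finrank_span_quad_le' _ _ _ _
  have hRU : ∀ y ∈ R, y ∈ U := by
    rintro y ⟨v, rfl⟩
    rw [hU]
    exact hrange v
  let S : Submodule F₀ (Fin n → F₀) :=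
    { carrier := {u | E u ∈ U}
      add_mem' := by
        intro u u' hu hu'
        show E (u + u') ∈ U
        rw [emb_add]
        exact U.add_mem hu hu'
      zero_mem' := by
        show E 0 ∈ U
        rw [emb_zero]
        exact U.zero_mem
      smul_mem' := by
        intro c u hu
        show E (c • u) ∈ U
        rw [emb_smul]
        exact U.smul_mem _ hu }
  have hS : ∀ u, u ∈ S ↔ E u ∈ U := fun u => Iff.rfl
  have hSfr : Module.finrank F₀ S ≤ 4 :=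
    (finrank_le_of_emb_mem Qf hQ F₀ e hP S U (fun y hy => hy)).trans hUfr
  have hRS : ∀ b : Fin n → F₀, E b ∈ R → b ∈ S := fun b hb => hRU _ hb
  -- two independent rational vectors of the range
  obtain ⟨u₁, u₂, r₁, r₂, hr₁, hr₂, hr₁0, hr₂n⟩ :=
    exists_rat_range_pair Qf hQ F₀ e hP h2 (by omega) (hMΩ hwM) hw1 hwr
  have hr₁R : E r₁ ∈ R := ⟨E u₁, hr₁⟩
  have hr₂R : E r₂ ∈ R := ⟨E u₂, hr₂⟩
  have hr₁r₂ : QuadraticMap.polar Qz' r₁ r₂ = 0 :=
    (polar_Qz_eq_zero_iff hQ F₀ e hP r₁ r₂).2 (hRiso _ hr₁R _ hr₂R)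
  obtain ⟨s, t', hst, hsing⟩ := exists_sing_comb hQz h2' r₁ r₂ hr₁r₂
  obtain ⟨a₁, ha₁⟩ : ∃ a₁ : Fin n → F₀, a₁ = s • r₁ + t' • r₂ := ⟨_, rfl⟩
  rw [← ha₁] at hsing
  have ha₁0 : a₁ ≠ 0 := by
    intro h0
    rw [ha₁] at h0
    by_cases ht' : t' = 0
    · rw [ht', zero_smul, add_zero] at h0
      rcases hst with h | h
      · rcases smul_eq_zero.1 h0 with h' | h'
        · exact h h'
        · exact hr₁0 h'
      · exact h ht'
    · apply hr₂n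
      rw [Submodule.mem_span_singleton]
      refine ⟨-(t'⁻¹ * s), ?_⟩
      have h3 : t' • r₂ = -(s • r₁) := eq_neg_of_add_eq_zero_right h0
      have h4 : r₂ = t'⁻¹ • (t' • r₂) := by rw [smul_smul, inv_mul_cancel₀ ht', one_smul]
      rw [h4, h3]
      module
  have ha₁R : E a₁ ∈ R := by
    rw [ha₁, emb_add, emb_smul, emb_smul]
    exact R.add_mem (R.smul_mem _ hr₁R) (R.smul_mem _ hr₂R)
  have ha₁Q : Qz' a₁ = 0 := hsing
  have ha₁E : Qf (E a₁) = 0 := (Qz_eq_zero_iff hQ F₀ e hP a₁).1 ha₁Q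
  -- two rational singular vectors fixed by `w`
  obtain ⟨c', hc'S, hc'Q, hc'n⟩ := exists_singular_not_mem hQz h2' S (by omega)
  obtain ⟨e', he'S, he'Q, he'c'⟩ := exists_partner_perp hQz h2' S (by omega) hc'n
  have hfix : ∀ c ∈ Cfsg.Agent.Helper45.OrInSL.perp hQz S, act w (E c) = E c := by
    intro c hc
    obtain ⟨y, hy⟩ := hwr c
    have h1 : E (y - c) = act w (E c) - E c := by rw [emb_sub, hy]
    have h3 : E (y - c) = 0 := by
      apply eq_zero_of_emb_perp hQ F₀ e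
      intro u
      obtain ⟨yu, hyu⟩ := hwr u
      have h4 : act w (E u) - E u = E (yu - u) := by rw [emb_sub, hyu]
      have h5 : yu - u ∈ S := hRS _ ⟨E u, h4.symm⟩
      rw [h1, B_comm, invol_adj hQ hsq, h4]
      exact eE c (yu - u) ((Cfsg.Agent.Helper45.OrInSL.mem_perp hQz).1 hc _ h5)
    rw [h1] at h3
    exact sub_eq_zero.1 h3
  have horth : ∀ y ∈ R, ∀ c ∈ Cfsg.Agent.Helper45.OrInSL.perp hQz S,
      QuadraticMap.polar ⇑Qf y (E c) = 0 := by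
    rintro y ⟨v, rfl⟩ c hc
    rw [invol_adj hQ hsq, hfix c hc, sub_self, B_zero_right hQ]
  -- the image of `a₁`
  obtain ⟨y, hy⟩ : ∃ y, y = act t (E a₁) := ⟨_, rfl⟩
  have hyR : y ∈ R := by rw [hy]; exact hRt _ ha₁R
  have hyQ : Qf y = 0 := by rw [hy, Q_act t (E a₁), ha₁E]
  by_cases hya : y = E a₁
  · apply hnr
    exact ratEl_of_fix Qf hQ F₀ e hP M' hHM h2 hn hH hm ha₁0 ha₁Q (a'' := a₁) (lam := 1)
      (by rw [one_smul, ← hy, hya])
  have hp : y - E a₁ = QuadraticMap.polar ⇑Qf x (E a₁) • z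
      - QuadraticMap.polar ⇑Qf z (E a₁) • x := by
    rw [hy, ht, act_sg hQ hxz]; abel
  have hpR : y - E a₁ ∈ R := R.sub_mem hyR ha₁R
  obtain ⟨X1, hX1⟩ : ∃ X1, X1 = QuadraticMap.polar ⇑Qf x (E a₁) := ⟨_, rfl⟩
  obtain ⟨Z1, hZ1⟩ : ∃ Z1, Z1 = QuadraticMap.polar ⇑Qf z (E a₁) := ⟨_, rfl⟩
  obtain ⟨Xc, hXc⟩ : ∃ Xc, Xc = QuadraticMap.polar ⇑Qf x (E c') := ⟨_, rfl⟩
  obtain ⟨Zc, hZc⟩ : ∃ Zc, Zc = QuadraticMap.polar ⇑Qf z (E c') := ⟨_, rfl⟩
  obtain ⟨Xe, hXe⟩ : ∃ Xe, Xe = QuadraticMap.polar ⇑Qf x (E e') := ⟨_, rfl⟩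
  obtain ⟨Ze, hZe⟩ : ∃ Ze, Ze = QuadraticMap.polar ⇑Qf z (E e') := ⟨_, rfl⟩
  rw [← hX1, ← hZ1] at hp
  have e1 : X1 * Zc - Z1 * Xc = 0 := by
    have := horth _ hpR c' hc'S
    rw [hp, B_sub_left hQ, B_smul_left hQ, B_smul_left hQ, ← hZc, ← hXc] at this
    exact this
  have e2 : X1 * Ze - Z1 * Xe = 0 := by
    have := horth _ hpR e' he'S
    rw [hp, B_sub_left hQ, B_smul_left hQ, B_smul_left hQ, ← hZe, ← hXe] at this
    exact this
  have hX : X1 ≠ 0 ∨ Z1 ≠ 0 := by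
    by_contra hcon
    push Not at hcon
    apply hya
    rw [hcon.1, hcon.2, zero_smul, zero_smul, sub_zero] at hp
    exact sub_eq_zero.1 hp
  have hD : Xc * Ze - Zc * Xe = 0 := by
    rcases hX with h | h
    · apply mul_left_cancel₀ h
      linear_combination Xc * e2 - Xe * e1
    · apply mul_left_cancel₀ h
      linear_combination Zc * e2 - Ze * e1
  have he'c'E : QuadraticMap.polar ⇑Qf (E e') (E c') = 1 := by
    rw [← coe_polar_Qz F₀ e hP, he'c']; rfl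
  have hκ : QuadraticMap.polar ⇑Qf (E e') (act t (E c')) = 1 := by
    rw [ht, act_sg hQ hxz, B_sub_right hQ, B_add_right hQ, B_smul_right hQ, B_smul_right hQ,
      he'c'E, B_comm (E e') z, B_comm (E e') x, ← hXc, ← hZc, ← hXe, ← hZe]
    linear_combination hD
  -- the conjugated root element
  have ha₁S : a₁ ∈ S := hRS a₁ ha₁R
  have hsp₀ : SP Qz' a₁ c' := ⟨ha₁Q, hc'Q, by
    rw [QuadraticMap.polar_comm]
    exact (Cfsg.Agent.Helper45.OrInSL.mem_perp hQz).1 hc'S a₁ ha₁S⟩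
  have hspE₀ := SP_emb Qf hQ F₀ e hP hsp₀
  have hk : sg hQ y (act t (E c')) ∈ M' := by
    rw [hy, ← sg_conj hQ t hspE₀]
    refine M'.mul_mem (M'.mul_mem hm ?_) (M'.inv_mem hm)
    rw [← tg_one hQ]
    exact tg_rat_mem Qf hQ F₀ e hP M' hHM (by omega) hsp₀ F₀.one_mem
  have hkSP : SP ⇑Qf y (act t (E c')) :=
    ⟨hyQ, by rw [Q_act t (E c'), hspE₀.2.1], by rw [hy, B_act, hspE₀.2.2]⟩
  have hPb : ∀ b : Fin n → F₀, b ≠ 0 → Qz' b = 0 → E b ∈ R →
      ∃ (y₀ : Fin n → F₀) (τ : F), y = E y₀ + τ • E b := by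
    intro b hb0 hbQ hbR
    have hbS : b ∈ S := hRS b hbR
    have hbe : SP Qz' b e' := ⟨hbQ, he'Q, by
      rw [QuadraticMap.polar_comm]
      exact (Cfsg.Agent.Helper45.OrInSL.mem_perp hQz).1 he'S b hbS⟩
    have h11 : QuadraticMap.polar ⇑Qf (E b) y = 0 := hRiso _ hbR _ hyR
    have h12 : QuadraticMap.polar ⇑Qf (E b) (act t (E c')) = 0 := by
      rw [htadj]
      exact horth _ (hRt _ hbR) c' hc'S
    have h21 : QuadraticMap.polar ⇑Qf (E e') y = 0 := by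
      rw [B_comm]
      exact horth _ hyR e' he'S
    obtain ⟨y₀, τ, h⟩ := hard_comm Qf hQ F₀ e hP M' hHM (by omega) hH hb0 hbe hkSP hk h11 h12 h21
    rw [hκ, one_smul] at h
    exact ⟨y₀, τ, h⟩
  obtain ⟨y₀, τ, hy₀⟩ := hPb a₁ ha₁0 ha₁Q ha₁R
  by_cases hy₀S : y₀ ∈ Submodule.span F₀ {a₁}
  · obtain ⟨β, rfl⟩ := Submodule.mem_span_singleton.1 hy₀S
    apply hnr
    refine ratEl_of_fix Qf hQ F₀ e hP M' hHM h2 hn hH hm ha₁0 ha₁Q (a'' := a₁)
      (lam := (β : F) + τ) ?_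
    rw [← hy, hy₀, emb_smul, add_smul]
  have hb'R : E y₀ ∈ R := by
    have : E y₀ = y - τ • E a₁ := by rw [hy₀]; abel
    rw [this]
    exact R.sub_mem hyR (R.smul_mem _ ha₁R)
  have hb'0 : y₀ ≠ 0 := by
    rintro rfl
    exact hy₀S (Submodule.zero_mem _)
  have hb'Q : Qz' y₀ = 0 := by
    rw [Qz_eq_zero_iff hQ F₀ e hP]
    have : E y₀ = y + (-τ) • E a₁ := by rw [hy₀]; module
    rw [this, Q_add (Q := ⇑Qf), Q_smul hQ, hyQ, ha₁E, B_smul_right hQ, hRiso _ hyR _ ha₁R]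
    ring
  obtain ⟨y₀', τ', hy₀'⟩ := hPb y₀ hb'0 hb'Q hb'R
  have ha₁n : a₁ ∉ Submodule.span F₀ {y₀} := by
    intro hmem
    obtain ⟨γ, hγ⟩ := Submodule.mem_span_singleton.1 hmem
    have hγ0 : γ ≠ 0 := by
      rintro rfl
      rw [zero_smul] at hγ
      exact ha₁0 hγ.symm
    apply hy₀S
    rw [Submodule.mem_span_singleton]
    exact ⟨γ⁻¹, by rw [← hγ, smul_smul, inv_mul_cancel₀ hγ0, one_smul]⟩
  obtain ⟨v, hvS, hva⟩ := exists_dual_vec Qf hQ F₀ e hP _ ha₁n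
  have hvb : QuadraticMap.polar Qz' v y₀ = 0 := hvS y₀ (Submodule.subset_span (by simp))
  have hvaE : QuadraticMap.polar ⇑Qf (E v) (E a₁) = 1 := by
    rw [← coe_polar_Qz F₀ e hP, hva]; rfl
  have h5 : E y₀ + τ • E a₁ = E y₀' + τ' • E y₀ := by rw [← hy₀, ← hy₀']
  have h6 := congrArg (fun u => QuadraticMap.polar ⇑Qf (E v) u) h5
  simp only [B_add_right hQ, B_smul_right hQ, eE v y₀ hvb, hvaE] at h6
  have hτ : τ ∈ F₀ := by
    have : τ = QuadraticMap.polar ⇑Qf (E v) (E y₀') := by linear_combination h6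
    rw [this]
    exact polar_emb_mem F₀ e hP v y₀'
  apply hnr
  refine ratEl_of_fix Qf hQ F₀ e hP M' hHM h2 hn hH hm ha₁0 ha₁Q
    (a'' := y₀ + (⟨τ, hτ⟩ : F₀) • a₁) (lam := 1) ?_
  rw [one_smul, ← hy, hy₀, emb_add, emb_smul]

end Fixed

end Cfsg.Agent.Helper45.SubOm
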