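import Mathlib
import Cfsg.Agent.Helper45.SubOmK
import Cfsg.Agent.Helper45.Isometry
import Cfsg.Agent.Helper94.SubW12

/-!
# Maximality of the subfield subgroup of `Ω` (characteristic two, and all characteristics)
-/

set_option autoImplicit false
set_option linter.unusedSectionVars false
set_option linter.unusedVariables false
set_option linter.unusedSimpArgs false
set_option linter.style.haveILetI false

namespace Cfsg.Agent.Helper45.SubOm

open Matrix Cfsg Cfsg.Geo Cfsg.Agent.Helper94 Cfsg.Agent.Helper94.ORoot Cfsg.Agent.Helper94.SubW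

variable {ι : Type} [Fintype ι] [DecidableEq ι] {F : Type*} [Field F] {n : ℕ}
variable (Qf : QuadraticForm F (ι → F)) (hQ : IsNondegenerateQuadraticForm ⇑Qf)

section Fixed

variable (F₀ : Subfield F) {P : GL ι F} (e : ι ≃ Fin n)
  (hP : Cfsg.Geo.IsQuadFormRationalStructure ⇑Qf F₀ P)

local notation "E" => emb F₀ P e
local notation "Qz'" => Qz F₀ e hP

include hQ hP in
/-- an independent rational singular pair (characteristic two) -/
theorem exists_rat_pair2 [Fintype F] (h2 : (2 : F) = 0) (hn : 7 ≤ n) :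
    ∃ a b : Fin n → F₀, SP Qz' a b ∧ LinearIndependent F₀ ![a, b] ∧ a ≠ 0 ∧ b ≠ 0 ∧
      a ∉ Submodule.span F₀ {b} := by
  haveI : Fintype F₀ := Fintype.ofFinite F₀
  have hQz := nondeg_Qz hQ F₀ e hP
  have h2' := two_eq_zero_sub (F₀ := F₀) h2
  obtain ⟨a, ha0, haQ⟩ := exists_rat_sing Qf hQ F₀ e hP h2 (by omega)
  obtain ⟨S₁, hS₁⟩ : ∃ S₁ : Submodule F₀ (Fin n → F₀), S₁ = Submodule.span F₀ {a} := ⟨_, rfl⟩
  have hfr₁ : Module.finrank F₀ S₁ ≤ 1 := by
    rw [hS₁]; exact Cfsg.Agent.Helper45.OrInSL.finrank_span_singleton_le_one a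
  have haS₁ : a ∈ S₁ := by rw [hS₁]; exact Submodule.subset_span (by simp)
  obtain ⟨b, hbS, hbQ, hbn⟩ := exists_singular_not_mem hQz h2' S₁ (by omega)
  have hab : QuadraticMap.polar Qz' a b = 0 := by
    rw [QuadraticMap.polar_comm]; exact hbS a haS₁
  have hb0 : b ≠ 0 := by
    rintro rfl
    exact hbn (Submodule.zero_mem _)
  rw [hS₁] at hbn
  refine ⟨a, b, ⟨haQ, hbQ, hab⟩, li_of_not_mem_span ha0 hbn, ha0, hb0, ?_⟩
  intro hmem
  obtain ⟨γ, hγ⟩ := Submodule.mem_span_singleton.1 hmem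
  have hγ0 : γ ≠ 0 := by
    rintro rfl
    rw [zero_smul] at hγ
    exact ha0 hγ.symm
  apply hbn
  rw [Submodule.mem_span_singleton]
  exact ⟨γ⁻¹, by rw [← hγ, smul_smul, inv_mul_cancel₀ hγ0, one_smul]⟩

include hQ hP in
/-- an irrational Siegel element does not lie in the subfield group (characteristic two) -/
theorem tg_not_mem_subfield2 [Fintype F] (h2 : (2 : F) = 0) (hn : 7 ≤ n) {a b : Fin n → F₀}
    (hab : SP Qz' a b) (ha0 : a ≠ 0) (hb0 : b ≠ 0) (hspan : a ∉ Submodule.span F₀ {b}) {θ : F}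
    (hθ : θ ∉ F₀) :
    ((tg hQ (E a) (E b) θ : ↥(isometryGroup F ⇑Qf)) : GL ι F)
      ∉ Cfsg.Geo.subfieldSubgroup F₀ P := by
  haveI : Fintype F₀ := Fintype.ofFinite F₀
  have hQz := nondeg_Qz hQ F₀ e hP
  have habE := SP_emb Qf hQ F₀ e hP hab
  intro hmem
  obtain ⟨lam, hlam, hr⟩ := emb_of_mem_subfieldSubgroup (e := e) _ hmem
  have hact : ∀ x : Fin n → F₀, ∃ y : Fin n → F₀,
      act (tg hQ (E a) (E b) θ) (E x) = lam • E y := hr
  -- the scalar is rational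
  have hlam₀ : lam ∈ F₀ := by
    obtain ⟨y, hy⟩ := hact a
    rw [act_tg hQ habE, habE.self_left hQ, B_comm (E b) (E a), habE.2.2] at hy
    simp only [mul_zero, zero_smul, add_zero, sub_zero] at hy
    exact scalar_mem ha0 hy
  obtain ⟨v, hvS, hva⟩ := exists_dual_vec Qf hQ F₀ e hP _ hspan
  have hvb : QuadraticMap.polar Qz' v b = 0 := hvS b (Submodule.subset_span (by simp))
  obtain ⟨y, hy⟩ := hact v
  rw [act_tg hQ habE, B_comm (E b) (E v), ← coe_polar_Qz F₀ e hP, ← coe_polar_Qz F₀ e hP, hvb] at hy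
  simp only [Subfield.coe_zero, mul_zero, zero_smul, sub_zero] at hy
  -- `θ β • E b` is rational
  obtain ⟨β, hβ⟩ : ∃ β : F₀, β = QuadraticMap.polar Qz' a v := ⟨_, rfl⟩
  rw [← hβ] at hy
  have hβ0 : (β : F) ≠ 0 := by
    intro h0
    have h1 : QuadraticMap.polar Qz' v a = 0 := by
      rw [QuadraticMap.polar_comm, ← hβ]
      exact Subtype.ext h0
    rw [h1] at hva
    exact zero_ne_one hva
  have hθ0 : θ ≠ 0 := by
    rintro rfl
    exact hθ F₀.zero_mem
  have h1 : E ((⟨lam, hlam₀⟩ : F₀) • y - v) = (θ * (β : F)) • E b := by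
    rw [emb_sub, emb_smul, ← hy]
    simp
  have hne : (⟨lam, hlam₀⟩ : F₀) • y - v ≠ 0 := by
    intro h0
    rw [h0, emb_zero] at h1
    rcases smul_eq_zero.1 h1.symm with h | h
    · exact mul_ne_zero hθ0 hβ0 h
    · exact emb_ne_zero hb0 h
  have h3 := scalar_mem hne h1
  apply hθ
  have : θ = θ * (β : F) / (β : F) := by field_simp
  rw [this]
  exact F₀.div_mem h3 β.2

include hQ hP e in
/-- **maximality of the subfield subgroup of `Ω`** in characteristic two (bundled form, index type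
equivalent to `Fin n`) -/
theorem isMaximalIn_subfield_even_aux [Fintype F] (h2 : (2 : F) = 0) (hn : 13 ≤ n) {r : ℕ}
    (hr : r.Prime) (hcard : Fintype.card F = Nat.card F₀ ^ r) :
    Cfsg.Geo.IsMaximalIn (Cfsg.Geo.omegaGL ⇑Qf)
      (Cfsg.Geo.subfieldSubgroup F₀ P ⊓ Cfsg.Geo.omegaGL ⇑Qf) := by
  haveI : Fintype F₀ := Fintype.ofFinite F₀
  obtain ⟨a₀, b₀, hab₀, hli₀, ha₀0, hb₀0, hspan₀⟩ := exists_rat_pair2 Qf hQ F₀ e hP h2 (by omega)
  refine ⟨lt_of_le_of_ne inf_le_right ?_, ?_⟩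
  · intro heq
    obtain ⟨θ, hθ⟩ : ∃ θ : F, θ ∉ F₀ := by
      by_contra hcon
      push Not at hcon
      have h1 : Nat.card F₀ = Fintype.card F := by
        rw [← Nat.card_eq_fintype_card]
        exact Nat.card_congr (Equiv.subtypeUnivEquiv hcon)
      rw [h1] at hcard
      have hq : 1 < Fintype.card F := Fintype.one_lt_card
      have h3 : Fintype.card F ^ 1 < Fintype.card F ^ r := Nat.pow_lt_pow_right hq hr.one_lt
      rw [pow_one] at h3
      omega
    have h1 : ((tg hQ (E a₀) (E b₀) θ : ↥(isometryGroup F ⇑Qf)) : GL ι F)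
        ∈ Cfsg.Geo.omegaGL ⇑Qf :=
      (mem_omegaGL_iff Qf _).2 (tg_mem_Omega Qf hQ (by rw [card_eq e]; omega) _ _ _)
    rw [← heq] at h1
    exact tg_not_mem_subfield2 Qf hQ F₀ e hP h2 (by omega) hab₀ ha₀0 hb₀0 hspan₀ hθ h1.1
  · intro M hHM hMΩ
    by_cases hle : M ≤ Cfsg.Geo.subfieldSubgroup F₀ P ⊓ Cfsg.Geo.omegaGL ⇑Qf
    · left
      exact le_antisymm hle hHM
    · right
      obtain ⟨g, hgM, hgH⟩ := SetLike.not_le_iff_exists.1 hle
      obtain ⟨g', hg'Ω, rfl⟩ := hMΩ hgM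
      obtain ⟨M', hM'def⟩ : ∃ M' : Subgroup ↥(isometryGroup F ⇑Qf),
          M' = M.comap (isometryGroup F ⇑Qf).subtype := ⟨_, rfl⟩
      have hHM' : (Cfsg.Geo.subfieldSubgroup F₀ P ⊓ Cfsg.Geo.omegaGL ⇑Qf).comap
          (isometryGroup F ⇑Qf).subtype ≤ M' := by
        rw [hM'def]
        exact Subgroup.comap_mono hHM
      have hg'M : g' ∈ M' := by
        rw [hM'def]
        exact hgM
      have hg'S : (g' : GL ι F) ∉ Cfsg.Geo.subfieldSubgroup F₀ P :=
        fun h => hgH ⟨h, ⟨g', hg'Ω, rfl⟩⟩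
      have hM'Ω : M' ≤ Cfsg.Omega F ⇑Qf := by
        intro m hm
        rw [hM'def] at hm
        exact (mem_omegaGL_iff Qf m).1 (hMΩ (Subgroup.mem_comap.1 hm))
      have hg'r : ¬ RatEl Qf F₀ P e g' := fun h => hg'S (mem_subfield_of_ratEl Qf F₀ e h)
      have hnh : ¬ HardCase Qf hQ F₀ P e M' := fun hH =>
        hard_false Qf hQ F₀ e hP M' hHM' h2 hn hH hM'Ω hg'M hg'r
      have hN := Cfsg.Agent.Helper45.SubSL.noInter_of_card F₀ r hr hcard
      have hΩ := Omega_le_of_not_hard Qf hQ F₀ e hP M' hHM' h2 hn hN hnh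
      apply le_antisymm hMΩ
      rintro _ ⟨ω, hω, rfl⟩
      have := hΩ hω
      rw [hM'def] at this
      exact Subgroup.mem_comap.1 this

end Fixed

/-- **Maximality of the subfield subgroup of `Ω`** for a quadratic form with non-degenerate polar
form over a finite field of characteristic two, in dimension at least 13. -/
theorem isMaximalIn_subfield_even [Fintype F] (Q₀ : (ι → F) → F)
    (hQ₀ : IsNondegenerateQuadraticForm Q₀) (h2 : (2 : F) = 0) (hn : 13 ≤ Fintype.card ι)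
    (F₀ : Subfield F) {r : ℕ} (hr : r.Prime) (hcard : Fintype.card F = Nat.card F₀ ^ r)
    (P : GL ι F) (hP : Cfsg.Geo.IsQuadFormRationalStructure Q₀ F₀ P) :
    Cfsg.Geo.IsMaximalIn (Cfsg.Geo.omegaGL Q₀)
      (Cfsg.Geo.subfieldSubgroup F₀ P ⊓ Cfsg.Geo.omegaGL Q₀) := by
  obtain ⟨Qf, hQcoe⟩ : ∃ Qf : QuadraticForm F (ι → F), ⇑Qf = Q₀ :=
    ⟨Cfsg.Agent.Helper45.OmegaParity.qfOfGeo Q₀ hQ₀, rfl⟩
  subst hQcoe
  exact isMaximalIn_subfield_even_aux Qf hQ₀ F₀ (Fintype.equivFin ι) hP h2 hn hr hcard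

/-- **Maximality of the subfield subgroup of `Ω`**, all characteristics, dimension at least 13. -/
theorem isMaximalIn_subfield_all [Fintype F] (Q₀ : (ι → F) → F)
    (hQ₀ : IsNondegenerateQuadraticForm Q₀) (hn : 13 ≤ Fintype.card ι)
    (F₀ : Subfield F) {r : ℕ} (hr : r.Prime) (hcard : Fintype.card F = Nat.card F₀ ^ r)
    (P : GL ι F) (hP : Cfsg.Geo.IsQuadFormRationalStructure Q₀ F₀ P) :
    Cfsg.Geo.IsMaximalIn (Cfsg.Geo.omegaGL Q₀)
      (Cfsg.Geo.subfieldSubgroup F₀ P ⊓ Cfsg.Geo.omegaGL Q₀) := by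
  by_cases h2 : (2 : F) = 0
  · exact isMaximalIn_subfield_even Q₀ hQ₀ h2 hn F₀ hr hcard P hP
  · exact Cfsg.Agent.Helper94.SubW.isMaximalIn_subfield Q₀ hQ₀ h2 hn F₀ hr hcard P hP

/-- scaling a quadratic form by a non-zero scalar does not change its isometry group -/
theorem isometryGroup_scale (Q₀ : (ι → F) → F) {ζ : F} (hζ : ζ ≠ 0) :
    isometryGroup F (fun v => ζ * Q₀ v) = isometryGroup F Q₀ := by
  ext g
  rw [Cfsg.Agent.Helper45.mem_isometryGroup_iff, Cfsg.Agent.Helper45.mem_isometryGroup_iff]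
  constructor
  · intro h u
    exact mul_left_cancel₀ hζ (h u)
  · intro h u
    show ζ * Q₀ _ = ζ * Q₀ u
    rw [h u]

theorem omegaGL_eq_commutator (Q₀ : (ι → F) → F) :
    Cfsg.Geo.omegaGL Q₀ = ⁅isometryGroup F Q₀, isometryGroup F Q₀⁆ := by
  unfold Cfsg.Geo.omegaGL Cfsg.Omega
  exact Subgroup.map_subtype_commutator _

/-- scaling a quadratic form by a non-zero scalar does not change `Ω` -/
theorem omegaGL_scale (Q₀ : (ι → F) → F) {ζ : F} (hζ : ζ ≠ 0) :
    Cfsg.Geo.omegaGL (fun v => ζ * Q₀ v) = Cfsg.Geo.omegaGL Q₀ := by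
  rw [omegaGL_eq_commutator, omegaGL_eq_commutator, isometryGroup_scale Q₀ hζ]

/-- scaling a non-degenerate quadratic form by a non-zero scalar -/
theorem nondeg_scale {Q₀ : (ι → F) → F} (hQ₀ : IsNondegenerateQuadraticForm Q₀) {ζ : F}
    (hζ : ζ ≠ 0) : IsNondegenerateQuadraticForm (fun v => ζ * Q₀ v) := by
  have hpol : ∀ x y, QuadraticMap.polar (fun v => ζ * Q₀ v) x y
      = ζ * QuadraticMap.polar Q₀ x y := by
    intro x y
    unfold QuadraticMap.polar
    ring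
  refine ⟨?_, ⟨?_, ?_, ?_, ?_⟩, ?_⟩
  · intro c v
    show ζ * Q₀ (c • v) = c ^ 2 * (ζ * Q₀ v)
    rw [hQ₀.smul]
    ring
  · intro x y v
    rw [hpol, hpol, hpol, hQ₀.polar_bilinear.add_left]
    ring
  · intro c x v
    rw [hpol, hpol, hQ₀.polar_bilinear.smul_left]
    ring
  · intro v x y
    rw [hpol, hpol, hpol, hQ₀.polar_bilinear.add_right]
    ring
  · intro c v x
    rw [hpol, hpol, hQ₀.polar_bilinear.smul_right]
    ring
  · intro x hx
    obtain ⟨⟨v, hv⟩, ⟨v', hv'⟩⟩ := hQ₀.nondegenerate x hx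
    refine ⟨⟨v, ?_⟩, ⟨v', ?_⟩⟩
    · rw [hpol]
      exact mul_ne_zero hζ hv
    · rw [hpol]
      exact mul_ne_zero hζ hv'

end Cfsg.Agent.Helper45.SubOm
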