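import Mathlib
import Cfsg.Agent.Helper45.SubSLF

/-!
# Subfield subgroups of `SL_n`: embedding `SL_2` along a pair of transvections
-/

set_option autoImplicit false
set_option linter.style.haveILetI false
set_option linter.unusedSimpArgs false

namespace Cfsg.Agent.Helper45.SubSL

open Cfsg.Geo Matrix Module Cfsg.Agent.Helper93

variable {F : Type*} [Field F] {n : ℕ}

/-- the `n × 2` matrix with columns `u`, `v` -/
def colM (u v : Fin n → F) : Matrix (Fin n) (Fin 2) F :=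
  Matrix.of fun a j => if j = 0 then u a else v a

/-- the `2 × n` matrix with rows `ψ`, `φ` -/
def rowM (ψ φ : Module.Dual F (Fin n → F)) : Matrix (Fin 2) (Fin n) F :=
  Matrix.of fun j b => if j = 0 then ψ (ee b) else φ (ee b)

theorem colM_mulVec (u v : Fin n → F) (w : Fin 2 → F) :
    (colM u v).mulVec w = w 0 • u + w 1 • v := by
  funext a
  simp [colM, Matrix.mulVec, dotProduct, Fin.sum_univ_two, mul_comm]

theorem rowM_mulVec (ψ φ : Module.Dual F (Fin n → F)) (y : Fin n → F) :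
    (rowM ψ φ).mulVec y = ![ψ y, φ y] := by
  funext j
  fin_cases j
  · simp only [rowM, Matrix.mulVec, dotProduct, Matrix.of_apply, if_pos, Fin.zero_eta,
      Matrix.cons_val_zero]
    rw [dual_apply_eq_sum ψ y]
    exact Finset.sum_congr rfl fun b _ => mul_comm _ _
  · simp only [rowM, Matrix.mulVec, dotProduct, Matrix.of_apply, Fin.mk_one, Matrix.cons_val_one,
      Matrix.cons_val_zero]
    rw [dual_apply_eq_sum φ y]
    exact Finset.sum_congr rfl fun b _ => by
      rw [if_neg (by decide), mul_comm]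

theorem rowM_mul_colM {u v : Fin n → F} {ψ φ : Module.Dual F (Fin n → F)} (h1 : ψ u = 1)
    (h2 : ψ v = 0) (h3 : φ u = 0) (h4 : φ v = 1) : rowM ψ φ * colM u v = 1 := by
  apply Matrix.ext_iff_mulVec.mpr
  intro w
  rw [← Matrix.mulVec_mulVec, colM_mulVec, rowM_mulVec, Matrix.one_mulVec]
  funext j
  fin_cases j
  · simp [h1, h2]
  · simp [h3, h4]

/-- the matrix acting as `A` on the plane spanned by `u`, `v` and trivially on the common kernel of `ψ`, `φ` -/
def rho0 (u v : Fin n → F) (ψ φ : Module.Dual F (Fin n → F)) (A : Matrix (Fin 2) (Fin 2) F) :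
    Matrix (Fin n) (Fin n) F :=
  1 + colM u v * (A - 1) * rowM ψ φ

theorem rho0_one (u v : Fin n → F) (ψ φ : Module.Dual F (Fin n → F)) : rho0 u v ψ φ 1 = 1 := by
  unfold rho0
  rw [sub_self, Matrix.mul_zero, Matrix.zero_mul, add_zero]

theorem rho0_mul {u v : Fin n → F} {ψ φ : Module.Dual F (Fin n → F)} (h1 : ψ u = 1)
    (h2 : ψ v = 0) (h3 : φ u = 0) (h4 : φ v = 1) (A A' : Matrix (Fin 2) (Fin 2) F) :
    rho0 u v ψ φ (A * A') = rho0 u v ψ φ A * rho0 u v ψ φ A' := by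
  unfold rho0
  have hCB := rowM_mul_colM h1 h2 h3 h4
  have e1 : A * A' - 1 = (A - 1) + (A' - 1) + (A - 1) * (A' - 1) := by noncomm_ring
  have e2 : colM u v * (A - 1) * rowM ψ φ * (colM u v * (A' - 1) * rowM ψ φ)
      = colM u v * ((A - 1) * (A' - 1)) * rowM ψ φ := by
    calc colM u v * (A - 1) * rowM ψ φ * (colM u v * (A' - 1) * rowM ψ φ)
        = colM u v * (A - 1) * (rowM ψ φ * colM u v) * (A' - 1) * rowM ψ φ := by
          simp only [Matrix.mul_assoc]
      _ = colM u v * ((A - 1) * (A' - 1)) * rowM ψ φ := by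
          rw [hCB, Matrix.mul_one]; simp only [Matrix.mul_assoc]
  have e3 : colM u v * (A * A' - 1) * rowM ψ φ
      = colM u v * (A - 1) * rowM ψ φ + colM u v * (A' - 1) * rowM ψ φ
        + colM u v * ((A - 1) * (A' - 1)) * rowM ψ φ := by
    rw [e1, Matrix.mul_add, Matrix.mul_add, Matrix.add_mul, Matrix.add_mul]
  rw [e3, ← e2]
  noncomm_ring

theorem rho0_mulVec (u v : Fin n → F) (ψ φ : Module.Dual F (Fin n → F))
    (A : Matrix (Fin 2) (Fin 2) F) (y : Fin n → F) :
    (rho0 u v ψ φ A).mulVec y = y + ((A 0 0 - 1) * ψ y + A 0 1 * φ y) • u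
      + (A 1 0 * ψ y + (A 1 1 - 1) * φ y) • v := by
  unfold rho0
  rw [Matrix.add_mulVec, Matrix.one_mulVec, ← Matrix.mulVec_mulVec, ← Matrix.mulVec_mulVec,
    rowM_mulVec, colM_mulVec, add_assoc]
  congr 2
  · congr 1
    simp [Matrix.mulVec, dotProduct, Fin.sum_univ_two]
  · congr 1
    simp [Matrix.mulVec, dotProduct, Fin.sum_univ_two]

/-- the monoid homomorphism `M_2(F) → M_n(F)` -/
def rhoM {u v : Fin n → F} {ψ φ : Module.Dual F (Fin n → F)} (h1 : ψ u = 1)
    (h2 : ψ v = 0) (h3 : φ u = 0) (h4 : φ v = 1) :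
    Matrix (Fin 2) (Fin 2) F →* Matrix (Fin n) (Fin n) F where
  toFun := rho0 u v ψ φ
  map_one' := rho0_one u v ψ φ
  map_mul' := rho0_mul h1 h2 h3 h4

/-- the homomorphism `SL_2(F) → GL_n(F)` -/
noncomputable def rho {u v : Fin n → F} {ψ φ : Module.Dual F (Fin n → F)} (h1 : ψ u = 1)
    (h2 : ψ v = 0) (h3 : φ u = 0) (h4 : φ v = 1) :
    Matrix.SpecialLinearGroup (Fin 2) F →* GL (Fin n) F :=
  (Units.map (rhoM h1 h2 h3 h4)).comp Matrix.SpecialLinearGroup.toGL

theorem rho_mulVec {u v : Fin n → F} {ψ φ : Module.Dual F (Fin n → F)} (h1 : ψ u = 1)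
    (h2 : ψ v = 0) (h3 : φ u = 0) (h4 : φ v = 1) (g : Matrix.SpecialLinearGroup (Fin 2) F)
    (y : Fin n → F) :
    (rho h1 h2 h3 h4 g : Matrix (Fin n) (Fin n) F).mulVec y
      = y + ((g.1 0 0 - 1) * ψ y + g.1 0 1 * φ y) • u
        + (g.1 1 0 * ψ y + (g.1 1 1 - 1) * φ y) • v := by
  have : (rho h1 h2 h3 h4 g : Matrix (Fin n) (Fin n) F) = rho0 u v ψ φ g.1 := rfl
  rw [this, rho0_mulVec]

end Cfsg.Agent.Helper45.SubSL
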