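import Mathlib
import Cfsg.Agent.Helper45.SubSLH
import Cfsg.Agent.Helper46.SL2SubfieldGen

/-!
# Subfield subgroups of `SL_n`: the hard case in odd characteristic
A conjugate of a rational root group and a rational root group generate `SL_2` over the big field.
-/

set_option autoImplicit false
set_option linter.style.haveILetI false
set_option linter.unusedSimpArgs false

namespace Cfsg.Agent.Helper45.SubSL

open Cfsg.Geo Matrix Module Cfsg.Agent.Helper93 Cfsg.Agent.Helper46.Dk

variable {F : Type*} [Field F] {n : ℕ}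
variable {F₀ : Subfield F} {H : Subgroup (GL (Fin n) F)}

/-- a full vector is killed by no non-zero rational functional -/
theorem apply_ne_zero_of_not_nonFull {a : Fin n → F} (ha : ¬ NonFull F₀ a)
    {ψ : Module.Dual F (Fin n → F)} (hψ : RatD F₀ ψ) (hψ0 : ψ ≠ 0) : ψ a ≠ 0 :=
  fun h => ha ⟨ψ, hψ, hψ0, h⟩

/-- choice of a good parameter -/
theorem exists_good_theta (h2 : (2 : F) ≠ 0) {a : Fin n → F} (ha : ¬ NonFull F₀ a) {f : F}
    (hf : f ≠ 0) {i l l' : Fin n} (hli : l ≠ i) (hl'i : l' ≠ i) (hll' : l ≠ l') :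
    ∃ ψ : Module.Dual F (Fin n → F), RatD F₀ ψ ∧ ψ (ee i) = 0 ∧ f * ψ a ∉ F₀ ∧
      (f * ψ a) ^ 2 ≠ -1 := by
  have hpl : (pr l : Module.Dual F (Fin n → F)) (ee i) = 0 := by rw [pr_apply, ee_of_ne hli]
  have hpl' : (pr l' : Module.Dual F (Fin n → F)) (ee i) = 0 := by rw [pr_apply, ee_of_ne hl'i]
  have hal : a l ≠ 0 := by
    have := apply_ne_zero_of_not_nonFull ha (RatD.pr l) (pr_ne_zero l)
    rwa [pr_apply] at this
  have hal' : a l' ≠ 0 := by
    have := apply_ne_zero_of_not_nonFull ha (RatD.pr l') (pr_ne_zero l')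
    rwa [pr_apply] at this
  -- general non-vanishing
  have hcomb : ∀ α β : F, α ∈ F₀ → β ∈ F₀ → (α ≠ 0 ∨ β ≠ 0) → α * a l + β * a l' ≠ 0 := by
    intro α β hα hβ hαβ
    have hR : RatD F₀ (α • pr l + β • pr l' : Module.Dual F (Fin n → F)) :=
      ((RatD.pr l).smul hα).add ((RatD.pr l').smul hβ)
    have h0 : (α • pr l + β • pr l' : Module.Dual F (Fin n → F)) ≠ 0 := by
      intro h
      have e1 := LinearMap.congr_fun h (ee l)
      have e2 := LinearMap.congr_fun h (ee l')
      rw [LinearMap.add_apply, LinearMap.smul_apply, LinearMap.smul_apply, pr_apply, pr_apply,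
        ee_same, ee_of_ne hll'.symm, smul_zero, add_zero, smul_eq_mul, mul_one,
        LinearMap.zero_apply] at e1
      rw [LinearMap.add_apply, LinearMap.smul_apply, LinearMap.smul_apply, pr_apply, pr_apply,
        ee_same, ee_of_ne hll', smul_zero, zero_add, smul_eq_mul, mul_one,
        LinearMap.zero_apply] at e2
      rcases hαβ with h' | h'
      · exact h' e1
      · exact h' e2
    have := apply_ne_zero_of_not_nonFull ha hR h0
    rwa [LinearMap.add_apply, LinearMap.smul_apply, LinearMap.smul_apply, pr_apply, pr_apply,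
      smul_eq_mul, smul_eq_mul] at this
  obtain ⟨c1, hc1⟩ : ∃ c1 : F, c1 = f * a l := ⟨_, rfl⟩
  obtain ⟨c2, hc2⟩ : ∃ c2 : F, c2 = f * a l' := ⟨_, rfl⟩
  -- not both rational
  have F1 : ¬ (c1 ∈ F₀ ∧ c2 ∈ F₀) := by
    rintro ⟨h1, h2'⟩
    have hc10 : c1 ≠ 0 := by rw [hc1]; exact mul_ne_zero hf hal
    have := hcomb c2 (-c1) h2' (F₀.neg_mem h1) (Or.inr (neg_ne_zero.mpr hc10))
    apply this
    rw [hc1, hc2]; ring
  -- not equal up to sign
  have F2 : c1 ≠ c2 ∧ c1 ≠ -c2 := by
    constructor
    · intro h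
      have := hcomb 1 (-1) F₀.one_mem (F₀.neg_mem F₀.one_mem) (Or.inl one_ne_zero)
      apply this
      have h' : f * (a l - a l') = 0 := by rw [mul_sub, ← hc1, ← hc2, h, sub_self]
      rcases mul_eq_zero.mp h' with h'' | h''
      · exact absurd h'' hf
      · linear_combination h''
    · intro h
      have := hcomb 1 1 F₀.one_mem F₀.one_mem (Or.inl one_ne_zero)
      apply this
      have h' : f * (a l + a l') = 0 := by rw [mul_add, ← hc1, ← hc2, h]; ring
      rcases mul_eq_zero.mp h' with h'' | h''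
      · exact absurd h'' hf
      · linear_combination h''
  have hc10 : c1 ≠ 0 := by rw [hc1]; exact mul_ne_zero hf hal
  have hc20 : c2 ≠ 0 := by rw [hc2]; exact mul_ne_zero hf hal'
  by_cases g1 : c1 ∉ F₀ ∧ c1 ^ 2 ≠ -1
  · refine ⟨pr l, RatD.pr l, hpl, ?_, ?_⟩
    · rw [pr_apply, ← hc1]; exact g1.1
    · rw [pr_apply, ← hc1]; exact g1.2
  by_cases g2 : c2 ∉ F₀ ∧ c2 ^ 2 ≠ -1
  · refine ⟨pr l', RatD.pr l', hpl', ?_, ?_⟩
    · rw [pr_apply, ← hc2]; exact g2.1
    · rw [pr_apply, ← hc2]; exact g2.2
  have e3 : f * (pr l + pr l' : Module.Dual F (Fin n → F)) a = c1 + c2 := by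
    rw [LinearMap.add_apply, pr_apply, pr_apply, mul_add, ← hc1, ← hc2]
  refine ⟨pr l + pr l', (RatD.pr l).add (RatD.pr l'), by
    rw [LinearMap.add_apply, hpl, hpl', add_zero], ?_, ?_⟩
  · rw [e3]
    intro h3
    by_cases k1 : c1 ∈ F₀
    · exact F1 ⟨k1, by
        have : c2 = (c1 + c2) - c1 := by ring
        rw [this]; exact F₀.sub_mem h3 k1⟩
    · by_cases k2 : c2 ∈ F₀
      · exact k1 (by
          have : c1 = (c1 + c2) - c2 := by ring
          rw [this]; exact F₀.sub_mem h3 k2)
      · -- both squares are `-1`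
        have s1 : c1 ^ 2 = -1 := by
          by_contra hne
          exact g1 ⟨k1, hne⟩
        have s2 : c2 ^ 2 = -1 := by
          by_contra hne
          exact g2 ⟨k2, hne⟩
        have : (c1 - c2) * (c1 + c2) = 0 := by linear_combination s1 - s2
        rcases mul_eq_zero.mp this with h' | h'
        · exact F2.1 (sub_eq_zero.mp h')
        · exact F2.2 (eq_neg_of_add_eq_zero_left h')
  · rw [e3]
    intro h3
    by_cases k1 : c1 ∈ F₀
    · have k2 : c2 ∉ F₀ := fun k2 => F1 ⟨k1, k2⟩
      have s2 : c2 ^ 2 = -1 := by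
        by_contra hne
        exact g2 ⟨k2, hne⟩
      have h4 : c1 * (c1 + 2 * c2) = 0 := by linear_combination h3 - s2
      rcases mul_eq_zero.mp h4 with h' | h'
      · exact hc10 h'
      · apply k2
        have : c2 = -c1 * (2 : F)⁻¹ := by
          field_simp
          linear_combination h'
        rw [this]
        exact F₀.mul_mem (F₀.neg_mem k1)
          (F₀.inv_mem (by
            have : (2 : F) = 1 + 1 := by norm_num
            rw [this]; exact F₀.add_mem F₀.one_mem F₀.one_mem))
    · have s1 : c1 ^ 2 = -1 := by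
        by_contra hne
        exact g1 ⟨k1, hne⟩
      by_cases k2 : c2 ∈ F₀
      · have h4 : c2 * (c2 + 2 * c1) = 0 := by linear_combination h3 - s1
        rcases mul_eq_zero.mp h4 with h' | h'
        · exact hc20 h'
        · apply k1
          have : c1 = -c2 * (2 : F)⁻¹ := by
            field_simp
            linear_combination h'
          rw [this]
          exact F₀.mul_mem (F₀.neg_mem k2)
            (F₀.inv_mem (by
              have : (2 : F) = 1 + 1 := by norm_num
              rw [this]; exact F₀.add_mem F₀.one_mem F₀.one_mem))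
      · have s2 : c2 ^ 2 = -1 := by
          by_contra hne
          exact g2 ⟨k2, hne⟩
        have : (c1 - c2) * (c1 + c2) = 0 := by linear_combination s1 - s2
        rcases mul_eq_zero.mp this with h' | h'
        · exact F2.1 (sub_eq_zero.mp h')
        · exact F2.2 (eq_neg_of_add_eq_zero_left h')

end Cfsg.Agent.Helper45.SubSL
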