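import Mathlib
import Cfsg.Agent.Helper45.SubSLI

/-!
# Subfield subgroups of `SL_n`: the hard case in odd characteristic gives `SL_n`
-/

set_option autoImplicit false
set_option linter.style.haveILetI false
set_option linter.unusedSimpArgs false

namespace Cfsg.Agent.Helper45.SubSL

open Cfsg.Geo Matrix Module Cfsg.Agent.Helper93 Cfsg.Agent.Helper46.Dk

variable {F : Type*} [Field F] {n : ℕ}
variable {F₀ : Subfield F} {H : Subgroup (GL (Fin n) F)}

/-- **the hard case in odd characteristic** -/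
theorem sl_le_of_hardCase_odd [Fintype F] (hn : 3 ≤ n) (h2 : (2 : F) ≠ 0) (hN : NoInter F₀)
    (hrat : HasRat F₀ H) (hHC : HardCase F₀ H) {g0 : GL (Fin n) F} (hg0 : g0 ∈ H)
    (hg0' : g0 ∉ hat (n := n) F₀) : specialLinear (Fin n) F ≤ H := by
  obtain ⟨i0, hi0⟩ : ∃ i0 : Fin n, i0 = ⟨0, by omega⟩ := ⟨_, rfl⟩
  obtain ⟨i1, hi1⟩ : ∃ i1 : Fin n, i1 = ⟨1, by omega⟩ := ⟨_, rfl⟩
  have h01 : i0 ≠ i1 := by rw [hi0, hi1]; intro h; simp [Fin.ext_iff] at h
  obtain ⟨a, hadef⟩ : ∃ a : Fin n → F, a = (g0 : Matrix (Fin n) (Fin n) F).mulVec (ee i0) :=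
    ⟨_, rfl⟩
  obtain ⟨φ, hφdef⟩ : ∃ φ : Module.Dual F (Fin n → F), φ = dualPull (pr i1) g0⁻¹ := ⟨_, rfl⟩
  have e1 : (pr i1 : Module.Dual F (Fin n → F)) (ee i0) = 0 := by rw [pr_apply, ee_of_ne h01.symm]
  have hφa : φ a = 0 := by rw [hφdef, hadef, dualPull_inv_mulVec]; exact e1
  have hφ0 : φ ≠ 0 := by rw [hφdef]; exact dualPull_ne_zero (pr_ne_zero i1) g0⁻¹
  -- the conjugated root group
  have hX : ∀ s ∈ F₀, ∀ h' : (s • φ) a = 0, tv (s • φ) a h' ∈ H := by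
    intro s hs h'
    have e2 : (s • pr i1 : Module.Dual F (Fin n → F)) (ee i0) = 0 := by
      rw [LinearMap.smul_apply, e1, smul_zero]
    have e3 : dualPull (s • pr i1) g0⁻¹ ((g0 : Matrix (Fin n) (Fin n) F).mulVec (ee i0)) = 0 := by
      rw [dualPull_inv_mulVec]; exact e2
    have := tv_conj_mem hg0 e2 (hrat _ _ e2 ((RatD.pr i1).smul hs) (RatV.ee i0)) e3
    rw [tv_congr (by rw [hφdef, dualPull_smul]) hadef h' e3]
    exact this
  -- the centre is full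
  have hfull : ¬ NonFull F₀ a := by
    intro hnf
    apply hg0'
    rw [hadef] at hnf
    exact mem_hat_of_nonfull_image hn hrat hHC hg0 (RatV.ee i0) (ee_ne_zero i0) hnf
  obtain ⟨i, hi⟩ := exists_ee_ne_zero hφ0
  obtain ⟨f, hf⟩ : ∃ f : F, f = φ (ee i) := ⟨_, rfl⟩
  rw [← hf] at hi
  obtain ⟨l, hli⟩ := exists_ne1 (by omega : 2 ≤ n) i
  obtain ⟨l', hl'i, hl'l⟩ := exists_ne2 hn i l
  obtain ⟨ψ, hψR, hψi, hθ, hθ2⟩ := exists_good_theta h2 hfull hi hli hl'i hl'l.symm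
  obtain ⟨θ, hθdef⟩ : ∃ θ : F, θ = f * ψ a := ⟨_, rfl⟩
  rw [← hθdef] at hθ hθ2
  have hθ0 : θ ≠ 0 := fun h0 => hθ (h0 ▸ F₀.zero_mem)
  have hψ0 : ψ ≠ 0 := by
    intro h0
    apply hθ0
    rw [hθdef, h0, LinearMap.zero_apply, mul_zero]
  -- the embedding of `SL_2`
  have k1 : (θ⁻¹ • ψ) (f • a) = 1 := by
    rw [LinearMap.smul_apply, map_smul, smul_eq_mul, smul_eq_mul, ← hθdef, inv_mul_cancel₀ hθ0]
  have k2 : (θ⁻¹ • ψ) (ee i) = 0 := by rw [LinearMap.smul_apply, hψi, smul_zero]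
  have k3 : (f⁻¹ • φ) (f • a) = 0 := by
    rw [LinearMap.smul_apply, map_smul, hφa, smul_zero, smul_zero]
  have k4 : (f⁻¹ • φ) (ee i) = 1 := by
    rw [LinearMap.smul_apply, ← hf, smul_eq_mul, inv_mul_cancel₀ hi]
  have hu : ∀ s ∈ F₀, rho k1 k2 k3 k4 (uU s) ∈ H := by
    intro s hs
    have h' : (s • φ) a = 0 := by rw [LinearMap.smul_apply, hφa, smul_zero]
    have : rho k1 k2 k3 k4 (uU s) = tv (s • φ) a h' := by
      apply gl_ext
      intro y
      rw [rho_mulVec, tv_mulVec]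
      simp only [uU, mk4_00, mk4_01, mk4_10, mk4_11, sub_self, zero_mul, zero_add, add_zero,
        zero_smul, LinearMap.smul_apply, smul_eq_mul]
      rw [smul_smul]
      congr 2
      field_simp
    rw [this]
    exact hX s hs h'
  have hv : ∀ t : F, ∀ h' : ((t * θ⁻¹) • ψ) (ee i) = 0,
      rho k1 k2 k3 k4 (vV t) = tv ((t * θ⁻¹) • ψ) (ee i) h' := by
    intro t h'
    apply gl_ext
    intro y
    rw [rho_mulVec, tv_mulVec]
    simp only [vV, mk4_00, mk4_01, mk4_10, mk4_11, sub_self, zero_mul, zero_add, add_zero,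
      zero_smul, LinearMap.smul_apply, smul_eq_mul]
    congr 2
    ring
  have hv' : ∀ s ∈ F₀, rho k1 k2 k3 k4 (vV (θ * s)) ∈ H := by
    intro s hs
    have h' : ((θ * s * θ⁻¹) • ψ) (ee i) = 0 := by rw [LinearMap.smul_apply, hψi, smul_zero]
    rw [hv (θ * s) h']
    have e4 : θ * s * θ⁻¹ = s := by field_simp
    have h'' : (s • ψ) (ee i) = 0 := by rw [LinearMap.smul_apply, hψi, smul_zero]
    rw [tv_congr (by rw [e4]) rfl h' h'']
    exact hrat _ _ h'' (hψR.smul hs) (RatV.ee i)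
  have hcl : Subgroup.closure ({g : Matrix.SpecialLinearGroup (Fin 2) F | ∃ c ∈ F₀, g = uU c} ∪
      {g : Matrix.SpecialLinearGroup (Fin 2) F | ∃ c ∈ F₀, g = vV (θ * c)})
      ≤ H.comap (rho k1 k2 k3 k4) := by
    rw [Subgroup.closure_le]
    rintro g (⟨c, hc, rfl⟩ | ⟨c, hc, rfl⟩)
    · exact hu c hc
    · exact hv' c hc
  have htop : Subfield.closure ((F₀ : Set F) ∪ {θ}) = ⊤ := by
    rcases hN (Subfield.closure ((F₀ : Set F) ∪ {θ}))
      (fun x hx => Subfield.subset_closure (Or.inl hx)) with h | h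
    · exfalso
      apply hθ
      have : θ ∈ Subfield.closure ((F₀ : Set F) ∪ {θ}) :=
        Subfield.subset_closure (Or.inr rfl)
      rw [h] at this
      exact this
    · exact h
  have hmem := vV_mem_closure_of_mem F₀ θ hθ0 (fun h => absurd h h2)
    (fun h => hθ2 h.2) (t := θ * θ) (by rw [htop]; exact Subfield.mem_top _)
  have h5 := hcl hmem
  have h' : ((θ * θ * θ⁻¹) • ψ) (ee i) = 0 := by rw [LinearMap.smul_apply, hψi, smul_zero]
  have h6 : rho k1 k2 k3 k4 (vV (θ * θ)) ∈ H := h5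
  rw [hv (θ * θ) h'] at h6
  have e4 : θ * θ * θ⁻¹ = θ := by field_simp
  have h'' : (θ • ψ) (ee i) = 0 := by rw [LinearMap.smul_apply, hψi, smul_zero]
  rw [tv_congr (by rw [e4]) rfl h' h''] at h6
  exact sl_le_of_rat_tv hn hN hrat (RatV.ee i) (ee_ne_zero i) hψR hψ0 hθ h'' h6

end Cfsg.Agent.Helper45.SubSL
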