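import Mathlib
import Cfsg.Agent.Helper45.SubSLG
import Cfsg.Agent.Helper45.SubSLJ

/-!
# Subfield subgroups of `SL_n` are maximal
-/

set_option autoImplicit false
set_option linter.style.haveILetI false
set_option linter.unusedSimpArgs false

namespace Cfsg.Agent.Helper45.SubSL

open Cfsg.Geo Matrix Module Cfsg.Agent.Helper93

variable {F : Type*} [Field F] {n : ℕ}

/-- maximality is transported by conjugation when the big group is normal -/
theorem isMaximalIn_map_conj {G : Type*} [Group G] (P : G) {K X : Subgroup G} (hK : K.Normal)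
    (h : IsMaximalIn K (X ⊓ K)) : IsMaximalIn K (X.map (MulAut.conj P).toMonoidHom ⊓ K) := by
  have hinj : Function.Injective (MulAut.conj P).toMonoidHom := (MulAut.conj P).injective
  have hsurj : Function.Surjective (MulAut.conj P).toMonoidHom := (MulAut.conj P).surjective
  have hKmap : K.map (MulAut.conj P).toMonoidHom = K := by
    ext x
    rw [Subgroup.mem_map]
    constructor
    · rintro ⟨y, hy, rfl⟩
      exact hK.conj_mem y hy P
    · intro hx
      refine ⟨P⁻¹ * x * P, ?_, ?_⟩
      · have := hK.conj_mem x hx P⁻¹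
        rwa [inv_inv] at this
      · show P * (P⁻¹ * x * P) * P⁻¹ = x
        group
  have hmap : X.map (MulAut.conj P).toMonoidHom ⊓ K
      = (X ⊓ K).map (MulAut.conj P).toMonoidHom := by
    rw [Subgroup.map_inf _ _ _ hinj, hKmap]
  rw [hmap]
  obtain ⟨hlt, hmax⟩ := h
  constructor
  · have := (Subgroup.map_lt_map_iff_of_injective hinj).mpr hlt
    rwa [hKmap] at this
  · intro M hM1 hM2
    have h1 : X ⊓ K ≤ M.comap (MulAut.conj P).toMonoidHom := Subgroup.map_le_iff_le_comap.mp hM1
    have h2 : M.comap (MulAut.conj P).toMonoidHom ≤ K := by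
      have hM2' : M ≤ K.map (MulAut.conj P).toMonoidHom := by rw [hKmap]; exact hM2
      have := Subgroup.comap_mono (f := (MulAut.conj P).toMonoidHom) hM2'
      rwa [Subgroup.comap_map_eq_self_of_injective hinj] at this
    have h3 : (M.comap (MulAut.conj P).toMonoidHom).map (MulAut.conj P).toMonoidHom = M :=
      Subgroup.map_comap_eq_self_of_surjective hsurj M
    rcases hmax _ h1 h2 with h | h
    · left; rw [← h3, h]
    · right; rw [← h3, h, hKmap]

theorem specialLinear_normal : (specialLinear (Fin n) F).Normal := by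
  unfold specialLinear
  infer_instance

variable {F₀ : Subfield F}

theorem hasRat_of_le {H : Subgroup (GL (Fin n) F)}
    (hH : hat (n := n) F₀ ⊓ specialLinear (Fin n) F ≤ H) : HasRat F₀ H := by
  intro φ u h hφ hu
  exact hH (Subgroup.mem_inf.mpr ⟨ratGL_le_hat (tv_mem_ratGL h hφ hu), tv_mem_sl φ u h⟩)

/-- **the subfield group (trivial change of basis) is maximal in `SL_n`** -/
theorem hat_isMaximalIn [Fintype F] (hn : 4 ≤ n) (hN : NoInter F₀) (hne : F₀ ≠ ⊤) :
    IsMaximalIn (specialLinear (Fin n) F) (hat (n := n) F₀ ⊓ specialLinear (Fin n) F) := by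
  have hn3 : 3 ≤ n := by omega
  constructor
  · refine lt_of_le_of_ne inf_le_right ?_
    intro heq
    obtain ⟨lam, hlam⟩ : ∃ lam : F, lam ∉ F₀ := by
      by_contra hcon
      push Not at hcon
      exact hne (eq_top_iff.mpr fun x _ => hcon x)
    obtain ⟨i0, hi0⟩ : ∃ i0 : Fin n, i0 = ⟨0, by omega⟩ := ⟨_, rfl⟩
    obtain ⟨i1, hi1⟩ : ∃ i1 : Fin n, i1 = ⟨1, by omega⟩ := ⟨_, rfl⟩
    have h01 : i0 ≠ i1 := by rw [hi0, hi1]; intro h; simp [Fin.ext_iff] at h
    have h1 : xe i0 i1 h01 lam ∈ specialLinear (Fin n) F := tv_mem_sl _ _ _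
    rw [← heq] at h1
    obtain ⟨s, hs, hS⟩ := (mem_hat_iff _).mp (Subgroup.mem_inf.mp h1).1
    have h2 := hS i0 i0
    have h3 := hS i0 i1
    unfold xe at h2 h3
    rw [tv_entry, if_pos rfl, LinearMap.smul_apply, pr_apply, ee_of_ne h01.symm, smul_zero,
      zero_mul, add_zero, mul_one] at h2
    rw [tv_entry, if_neg h01, LinearMap.smul_apply, pr_apply, ee_same, ee_same, smul_eq_mul,
      mul_one, mul_one, zero_add] at h3
    apply hlam
    have : lam = s⁻¹ * (s * lam) := by rw [← mul_assoc, inv_mul_cancel₀ hs, one_mul]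
    rw [this]
    exact F₀.mul_mem (F₀.inv_mem h2) h3
  · intro H hH1 hH2
    by_cases hHeq : H = hat (n := n) F₀ ⊓ specialLinear (Fin n) F
    · exact Or.inl hHeq
    right
    apply le_antisymm hH2
    have hrat : HasRat F₀ H := hasRat_of_le hH1
    obtain ⟨g0, hg0, hg0'⟩ : ∃ g0 ∈ H, g0 ∉ hat (n := n) F₀ := by
      by_contra hcon
      push Not at hcon
      exact hHeq (le_antisymm (fun g hg => Subgroup.mem_inf.mpr ⟨hcon g hg, hH2 hg⟩) hH1)
    by_cases hHC : HardCase F₀ H
    · by_cases h2 : (2 : F) = 0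
      · exact (false_of_hardCase_char_two hn h2 hrat hHC hg0 hg0').elim
      · exact sl_le_of_hardCase_odd hn3 h2 hN hrat hHC hg0 hg0'
    · unfold HardCase at hHC
      push Not at hHC
      obtain ⟨φ, u, h, hmem, ⟨ψ, hψ, hψ0, hψu⟩, hnot⟩ := hHC
      exact sl_le_of_nonfull hn3 hN hrat h hmem hnot hψ hψ0 hψu

theorem subfieldSubgroup_eq_map (F₀ : Subfield F) (P : GL (Fin n) F) :
    subfieldSubgroup F₀ P = (hat (n := n) F₀).map (MulAut.conj P).toMonoidHom := rfl

/-- **the subfield group is maximal in `SL_n`** -/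
theorem subfield_isMaximalIn [Fintype F] (hn : 4 ≤ n) (F₀ : Subfield F) (r : ℕ) (hr : r.Prime)
    (hcard : Fintype.card F = Nat.card F₀ ^ r) (P : GL (Fin n) F) :
    IsMaximalIn (specialLinear (Fin n) F) (subfieldSubgroup F₀ P ⊓ specialLinear (Fin n) F) := by
  have hN := noInter_of_card F₀ r hr hcard
  have hne : F₀ ≠ ⊤ := by
    intro h
    have h1 : Nat.card F₀ = Fintype.card F := by
      rw [h, ← Nat.card_eq_fintype_card]
      exact Nat.card_congr (Subfield.topEquiv (K := F)).toEquiv
    have h2 : 2 ≤ Fintype.card F := Fintype.one_lt_card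
    rw [h1] at hcard
    have h3 : Fintype.card F ^ 1 < Fintype.card F ^ r :=
      Nat.pow_lt_pow_right h2 hr.one_lt
    rw [pow_one] at h3
    omega
  rw [subfieldSubgroup_eq_map]
  exact isMaximalIn_map_conj P specialLinear_normal (hat_isMaximalIn hn hN hne)

end Cfsg.Agent.Helper45.SubSL
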