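import Mathlib
import Cfsg.Prelude.Def_ClassicalGeometry
import Cfsg.Agent.Helper45.TsMax2

/-!
# Pairs of complementary totally singular subspaces

`IsTsPair Q U W`: `U`, `W` totally singular with `U ⊔ W = ⊤`.  The Eichler transformations `E(u,w)`,
`u ∈ U`, `w ∈ W`, `B(u,w) = 0`, stabilise both `U` and `W` (they are the transvections of `GL(U)`).
This file: the polar form pairs `U` and `W` perfectly; existence lemmas.
-/

set_option autoImplicit false

namespace Cfsg.Agent.Helper45.TsPair

open Matrix QuadraticMap Module Cfsg.Agent.Helper44 Cfsg.Agent.Helper45.OmegaParity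

variable {F : Type*} [Field F] {ι : Type} [Fintype ι] [DecidableEq ι]
variable (Q : QuadraticForm F (ι → F))

/-- a vector outside a subspace is separated from it by the polar form -/
theorem exists_orth_not_orth (hQ : (QuadraticMap.polarBilin Q).Nondegenerate)
    (S : Submodule F (ι → F)) {x : ι → F} (hx : x ∉ S) :
    ∃ y : ι → F, (∀ s ∈ S, polar ⇑Q s y = 0) ∧ polar ⇑Q x y ≠ 0 := by
  by_contra hcon
  push Not at hcon
  apply hx
  rw [← LinearMap.BilinForm.orthogonal_orthogonal hQ (OmegaParity.polarBilin_isRefl Q) S,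
    LinearMap.BilinForm.mem_orthogonal_iff]
  intro y hy
  rw [LinearMap.BilinForm.mem_orthogonal_iff] at hy
  show QuadraticMap.polarBilin Q y x = 0
  rw [QuadraticMap.polarBilin_apply_apply, QuadraticMap.polar_comm]
  apply hcon
  intro s hs
  have := hy s hs
  rwa [QuadraticMap.polarBilin_apply_apply] at this

/-- a vector of a large subspace orthogonal to a small one and outside another small one -/
theorem exists_mem_orth_not_mem (hQ : (QuadraticMap.polarBilin Q).Nondegenerate)
    (A S T : Submodule F (ι → F)) (h : finrank F S + finrank F T < finrank F A) :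
    ∃ x ∈ A, (∀ s ∈ S, polar ⇑Q s x = 0) ∧ x ∉ T := by
  set P := LinearMap.BilinForm.orthogonal (QuadraticMap.polarBilin Q) S with hP
  have h1 := LinearMap.BilinForm.finrank_orthogonal hQ S
  rw [← hP] at h1
  have h2 := Submodule.finrank_sup_add_finrank_inf_eq A P
  have h3 := Submodule.finrank_le (A ⊔ P)
  have h4 := Submodule.finrank_le S
  have h5 : ¬ (A ⊓ P ≤ T) := by
    intro hle
    have := Submodule.finrank_mono hle
    omega
  obtain ⟨x, hx, hxT⟩ := SetLike.not_le_iff_exists.1 h5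
  refine ⟨x, hx.1, ?_, hxT⟩
  intro s hs
  have h6 : x ∈ LinearMap.BilinForm.orthogonal (QuadraticMap.polarBilin Q) S := hx.2
  rw [LinearMap.BilinForm.mem_orthogonal_iff] at h6
  have := h6 s hs
  rwa [QuadraticMap.polarBilin_apply_apply] at this

/-- a pair of totally singular subspaces spanning the space -/
structure IsTsPair (U W : Submodule F (ι → F)) : Prop where
  tsU : ∀ u ∈ U, Q u = 0
  tsW : ∀ w ∈ W, Q w = 0
  sup : U ⊔ W = ⊤

variable {Q}

theorem IsTsPair.symm {U W : Submodule F (ι → F)} (h : IsTsPair Q U W) : IsTsPair Q W U :=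
  ⟨h.tsW, h.tsU, by rw [sup_comm]; exact h.sup⟩

theorem IsTsPair.decomp {U W : Submodule F (ι → F)} (h : IsTsPair Q U W) (x : ι → F) :
    ∃ xu ∈ U, ∃ xw ∈ W, xu + xw = x := by
  have hx : x ∈ U ⊔ W := by rw [h.sup]; exact Submodule.mem_top
  exact Submodule.mem_sup.1 hx

theorem IsTsPair.polarU {U W : Submodule F (ι → F)} (h : IsTsPair Q U W) {x y : ι → F}
    (hx : x ∈ U) (hy : y ∈ U) : polar ⇑Q x y = 0 := polar_eq_zero_of_ts h.tsU hx hy

theorem IsTsPair.polarW {U W : Submodule F (ι → F)} (h : IsTsPair Q U W) {x y : ι → F}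
    (hx : x ∈ W) (hy : y ∈ W) : polar ⇑Q x y = 0 := polar_eq_zero_of_ts h.tsW hx hy

/-- the pairing of `U` with `W` is non-degenerate on the `U` side -/
theorem IsTsPair.eq_zero_of_orth {U W : Submodule F (ι → F)} (h : IsTsPair Q U W)
    (hQ : (QuadraticMap.polarBilin Q).Nondegenerate) {u : ι → F} (hu : u ∈ U)
    (hor : ∀ w ∈ W, polar ⇑Q u w = 0) : u = 0 := by
  apply hQ.1 u
  intro y
  obtain ⟨yu, hyu, yw, hyw, rfl⟩ := h.decomp y
  rw [QuadraticMap.polarBilin_apply_apply, QuadraticMap.polar_add_right, h.polarU hu hyu,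
    hor yw hyw, add_zero]

theorem IsTsPair.inf_eq_bot {U W : Submodule F (ι → F)} (h : IsTsPair Q U W)
    (hQ : (QuadraticMap.polarBilin Q).Nondegenerate) : U ⊓ W = ⊥ := by
  rw [eq_bot_iff]
  rintro x ⟨hxU, hxW⟩
  rw [Submodule.mem_bot]
  exact h.eq_zero_of_orth hQ hxU (fun w hw => h.polarW hxW hw)

/-- **dual vectors**: for `x ∈ U` outside a subspace `S ≤ U`, some `w ∈ W` is orthogonal to `S`
with `B(x,w) = 1` -/
theorem IsTsPair.exists_dual {U W : Submodule F (ι → F)} (h : IsTsPair Q U W)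
    (hQ : (QuadraticMap.polarBilin Q).Nondegenerate) (S : Submodule F (ι → F)) (hS : S ≤ U)
    {x : ι → F} (hxU : x ∈ U) (hx : x ∉ S) :
    ∃ w ∈ W, (∀ s ∈ S, polar ⇑Q s w = 0) ∧ polar ⇑Q x w = 1 := by
  obtain ⟨y, hy1, hy2⟩ := exists_orth_not_orth Q hQ S hx
  obtain ⟨yu, hyu, yw, hyw, rfl⟩ := h.decomp y
  rw [QuadraticMap.polar_add_right, h.polarU hxU hyu, zero_add] at hy2
  refine ⟨(polar ⇑Q x yw)⁻¹ • yw, W.smul_mem _ hyw, ?_, ?_⟩
  · intro s hs
    have := hy1 s hs
    rw [QuadraticMap.polar_add_right, h.polarU (hS hs) hyu, zero_add] at this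
    rw [QuadraticMap.polar_smul_right, this, smul_zero]
  · rw [QuadraticMap.polar_smul_right, smul_eq_mul, inv_mul_cancel₀ hy2]

/-- the two members of the pair have the same dimension, half the dimension of the space -/
theorem IsTsPair.finrank_eq {U W : Submodule F (ι → F)} (h : IsTsPair Q U W)
    (hQ : (QuadraticMap.polarBilin Q).Nondegenerate) :
    2 * finrank F U = Fintype.card ι ∧ 2 * finrank F W = Fintype.card ι := by
  have h1 := ts_two_mul_finrank_le Q hQ U h.tsU
  have h2 := ts_two_mul_finrank_le Q hQ W h.tsW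
  have h3 := Submodule.finrank_sup_add_finrank_inf_eq U W
  rw [h.sup, h.inf_eq_bot hQ, finrank_bot, finrank_top, Module.finrank_fintype_fun_eq_card] at h3
  omega

/-- `E(w,u) = E(u,w)⁻¹` for singular `u, w` -/
theorem eichlerO_swap {u w : ι → F} (hu : Q u = 0) (hw : Q w = 0) (huw : polar ⇑Q u w = 0) :
    Helper5.eichlerO Q w u = (Helper5.eichlerO Q u w)⁻¹ := by
  have hwu : polar ⇑Q w u = 0 := by rw [QuadraticMap.polar_comm]; exact huw
  rw [Helper5.eichlerO_inv Q hu huw]
  have h2 : polar ⇑Q u (-w) = 0 := by rw [QuadraticMap.polar_neg_right, huw, neg_zero]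
  apply Helper5.isom_ext
  intro x
  rw [Helper5.lin_eichlerO Q hw hwu, Helper5.lin_eichlerO Q hu h2, hu, QuadraticMap.map_neg, hw,
    QuadraticMap.polar_neg_left]
  module

/-- the Eichler transformations `E(u,w)`, `u ∈ U`, `w ∈ W` stabilise `U` and `W` -/
theorem IsTsPair.eichlerO_mem_stab {U W : Submodule F (ι → F)} (h : IsTsPair Q U W)
    {u w : ι → F} (hu : u ∈ U) (hw : w ∈ W) (huw : polar ⇑Q u w = 0) :
    Helper5.eichlerO Q u w ∈ stab Q U ∧ Helper5.eichlerO Q u w ∈ stab Q W := by
  constructor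
  · apply mem_stab_of_forall
    intro x hx
    rw [Helper5.lin_eichlerO Q (h.tsU u hu) huw, h.polarU hu hx, h.tsW w hw]
    simp only [zero_smul, mul_zero, sub_zero]
    exact U.add_mem hx (U.smul_mem _ hu)
  · apply mem_stab_of_forall
    intro x hx
    rw [Helper5.lin_eichlerO Q (h.tsU u hu) huw, h.polarW hw hx, h.tsW w hw]
    simp only [zero_smul, zero_mul, add_zero, sub_zero]
    exact W.sub_mem hx (W.smul_mem _ hw)

end Cfsg.Agent.Helper45.TsPair
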