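import Mathlib
import Cfsg.Prelude.Def_ClassicalGeometry
import Cfsg.Agent.Helper45.TsPair

/-!
# Overgroups of the stabiliser of a pair of complementary totally singular subspaces

`M` contains all `E(u,w)`, `u ∈ U`, `w ∈ W`, `B(u,w) = 0` (hypothesis `hH`).
* `eichlerO_move`: conjugating `E(u₁,u₂)` inside `U`.
* `eichlerO_mem_of_indep`: from one non-trivial `E(u₁,u₂) ∈ M` all `E(u₁,u')`, `u' ∈ U`.
* `mem_eDir_of_root`: then `u₁ ∈ eDir Q M`.
* `exists_root_of_mixed`: from `E(a,b) ∈ M` with independent `U`-components, a non-trivial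
  `E(u₁,u₂) ∈ M` with `u₁, u₂ ∈ U`.
-/

set_option autoImplicit false

namespace Cfsg.Agent.Helper45.TsPair

open Matrix QuadraticMap Module Cfsg.Agent.Helper44 Cfsg.Agent.Helper45.OmegaParity

variable {F : Type*} [Field F] {ι : Type} [Fintype ι] [DecidableEq ι]
variable {Q : QuadraticForm F (ι → F)}

/-- conjugating `E(u₁,u₂)` to `E(u₁,u₃)` by an element `E(u₃ - u₂, w)` of the pair stabiliser -/
theorem IsTsPair.eichlerO_move {U W : Submodule F (ι → F)} (h : IsTsPair Q U W)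
    (hQ : (QuadraticMap.polarBilin Q).Nondegenerate)
    {M : Subgroup (Cfsg.isometryGroup F ⇑Q)}
    (hH : ∀ u ∈ U, ∀ w ∈ W, polar ⇑Q u w = 0 → Helper5.eichlerO Q u w ∈ M)
    {u₁ u₂ u₃ : ι → F} (h₁ : u₁ ∈ U) (h₂ : u₂ ∈ U) (h₃ : u₃ ∈ U)
    (hli : u₂ ∉ Submodule.span F {u₁, u₃ - u₂}) (hM : Helper5.eichlerO Q u₁ u₂ ∈ M) :
    Helper5.eichlerO Q u₁ u₃ ∈ M := by
  have hS : Submodule.span F {u₁, u₃ - u₂} ≤ U := by
    rw [Submodule.span_le]
    rintro x hx
    rcases hx with rfl | hx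
    · exact h₁
    · rw [Set.mem_singleton_iff] at hx
      rw [hx]
      exact U.sub_mem h₃ h₂
  obtain ⟨w, hwW, hw1, hw2⟩ := h.exists_dual hQ _ hS h₂ hli
  have e1 : polar ⇑Q u₁ w = 0 := hw1 u₁ (Submodule.subset_span (by simp))
  have e2 : polar ⇑Q (u₃ - u₂) w = 0 := hw1 _ (Submodule.subset_span (by simp))
  have h32 : u₃ - u₂ ∈ U := U.sub_mem h₃ h₂
  have hg := hH _ h32 w hwW e2
  have hu32 : Q (u₃ - u₂) = 0 := h.tsU _ h32
  have c1 : lin Q (Helper5.eichlerO Q (u₃ - u₂) w) u₁ = u₁ := by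
    rw [Helper5.lin_eichlerO Q hu32 e2, QuadraticMap.polar_comm ⇑Q w u₁, e1, h.polarU h32 h₁]
    simp
  have c2 : lin Q (Helper5.eichlerO Q (u₃ - u₂) w) u₂ = u₃ := by
    rw [Helper5.lin_eichlerO Q hu32 e2, QuadraticMap.polar_comm ⇑Q w u₂, hw2, h.polarU h32 h₂]
    simp
  have h5 := Helper5.eichlerO_conj Q (Helper5.eichlerO Q (u₃ - u₂) w) (h.tsU u₁ h₁)
    (h.polarU h₁ h₂)
  rw [c1, c2] at h5
  rw [← h5]
  exact M.mul_mem (M.mul_mem hg hM) (M.inv_mem hg)

/-- from one non-trivial `E(u₁,u₂) ∈ M` (`u₁, u₂ ∈ U`) all `E(u₁,u')`, `u' ∈ U`, lie in `M` -/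
theorem IsTsPair.eichlerO_mem_of_indep {U W : Submodule F (ι → F)} (h : IsTsPair Q U W)
    (hQ : (QuadraticMap.polarBilin Q).Nondegenerate) (hdim : 3 ≤ finrank F U)
    {M : Subgroup (Cfsg.isometryGroup F ⇑Q)}
    (hH : ∀ u ∈ U, ∀ w ∈ W, polar ⇑Q u w = 0 → Helper5.eichlerO Q u w ∈ M)
    {u₁ u₂ : ι → F} (h₁ : u₁ ∈ U) (h₂ : u₂ ∈ U) (hli : u₂ ∉ Submodule.span F {u₁})
    (hM : Helper5.eichlerO Q u₁ u₂ ∈ M) {u' : ι → F} (hu' : u' ∈ U) :
    Helper5.eichlerO Q u₁ u' ∈ M := by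
  -- first the vectors outside `⟨u₁, u₂⟩`
  have key : ∀ u₃ ∈ U, u₃ ∉ Submodule.span F {u₁, u₂} → Helper5.eichlerO Q u₁ u₃ ∈ M := by
    intro u₃ h₃ hn
    apply h.eichlerO_move hQ hH h₁ h₂ h₃ _ hM
    intro hmem
    obtain ⟨α, β, hαβ⟩ := Submodule.mem_span_pair.1 hmem
    by_cases hβ : β = 0
    · apply hli
      rw [hβ, zero_smul, add_zero] at hαβ
      rw [← hαβ]
      exact Submodule.smul_mem _ _ (Submodule.mem_span_singleton_self u₁)
    · apply hn
      have e : u₃ = u₂ + β⁻¹ • u₂ - (β⁻¹ * α) • u₁ := by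
        have e1 : β⁻¹ • (α • u₁ + β • (u₃ - u₂)) = β⁻¹ • u₂ := by rw [hαβ]
        rw [smul_add, smul_smul, smul_smul, inv_mul_cancel₀ hβ, one_smul] at e1
        rw [← e1]
        module
      rw [e]
      exact Submodule.mem_span_pair.2 ⟨-(β⁻¹ * α), 1 + β⁻¹, by module⟩
  -- a third vector
  obtain ⟨u₃, h₃, hn₃⟩ : ∃ u₃ ∈ U, u₃ ∉ Submodule.span F {u₁, u₂} := by
    have h5 : ¬ (U ≤ Submodule.span F {u₁, u₂}) := by
      intro hle
      have h6 := Submodule.finrank_mono hle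
      have h7 : finrank F (Submodule.span F {u₁, u₂}) ≤ 2 := by
        classical
        have := finrank_span_le_card (R := F) ({u₁, u₂} : Set (ι → F))
        have hc : ({u₁, u₂} : Set (ι → F)).toFinset.card ≤ 2 := by
          rw [Set.toFinset_insert, Set.toFinset_singleton]
          exact Finset.card_le_two
        omega
      omega
    exact SetLike.not_le_iff_exists.1 h5
  by_cases hcase : u' ∈ Submodule.span F {u₁, u₂}
  · have hd : u' - u₃ ∉ Submodule.span F {u₁, u₂} := by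
      intro hmem
      apply hn₃
      have : u₃ = u' - (u' - u₃) := by abel
      rw [this]
      exact Submodule.sub_mem _ hcase hmem
    have k1 := key u₃ h₃ hn₃
    have k2 := key (u' - u₃) (U.sub_mem hu' h₃) hd
    have k3 := M.mul_mem k1 k2
    rw [Helper5.eichlerO_mul Q (h.tsU u₁ h₁) (h.polarU h₁ h₃)
      (h.polarU h₁ (U.sub_mem hu' h₃))] at k3
    have : u₃ + (u' - u₃) = u' := by abel
    rwa [this] at k3
  · exact key u' hu' hcase

/-- a non-trivial `E(u₁,u₂) ∈ M` makes `u₁` an Eichler direction of `M` -/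
theorem IsTsPair.mem_eDir_of_root {U W : Submodule F (ι → F)} (h : IsTsPair Q U W)
    (hQ : (QuadraticMap.polarBilin Q).Nondegenerate) (hdim : 3 ≤ finrank F U)
    {M : Subgroup (Cfsg.isometryGroup F ⇑Q)}
    (hH : ∀ u ∈ U, ∀ w ∈ W, polar ⇑Q u w = 0 → Helper5.eichlerO Q u w ∈ M)
    {u₁ u₂ : ι → F} (h₁ : u₁ ∈ U) (h₂ : u₂ ∈ U) (hli : u₂ ∉ Submodule.span F {u₁})
    (hM : Helper5.eichlerO Q u₁ u₂ ∈ M) : u₁ ∈ eDir Q M := by
  refine ⟨h.tsU u₁ h₁, fun y hy => ?_⟩
  obtain ⟨yu, hyu, yw, hyw, rfl⟩ := h.decomp y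
  have e1 : polar ⇑Q u₁ yu = 0 := h.polarU h₁ hyu
  have e2 : polar ⇑Q u₁ yw = 0 := by
    rw [QuadraticMap.polar_add_right, e1, zero_add] at hy
    exact hy
  rw [← Helper5.eichlerO_mul Q (h.tsU u₁ h₁) e1 e2]
  exact M.mul_mem (h.eichlerO_mem_of_indep hQ hdim hH h₁ h₂ hli hM hyu) (hH u₁ h₁ yw hyw e2)

/-- from `E(a,b) ∈ M` whose `U`-components are independent, a non-trivial `E(u₁,u₂) ∈ M` with
`u₁, u₂ ∈ U` -/
theorem IsTsPair.exists_root_of_mixed {U W : Submodule F (ι → F)} (h : IsTsPair Q U W)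
    (hQ : (QuadraticMap.polarBilin Q).Nondegenerate) (hdim : 5 ≤ finrank F U)
    {M : Subgroup (Cfsg.isometryGroup F ⇑Q)}
    (hH : ∀ u ∈ U, ∀ w ∈ W, polar ⇑Q u w = 0 → Helper5.eichlerO Q u w ∈ M)
    {aU aW bU bW : ι → F} (haU : aU ∈ U) (haW : aW ∈ W) (hbU : bU ∈ U) (hbW : bW ∈ W)
    (ha : Q (aU + aW) = 0) (hab : polar ⇑Q (aU + aW) (bU + bW) = 0)
    (haU0 : aU ≠ 0) (hli : bU ∉ Submodule.span F {aU})
    (hM : Helper5.eichlerO Q (aU + aW) (bU + bW) ∈ M) :
    ∃ u₁ ∈ U, ∃ u₂ ∈ U, u₁ ≠ 0 ∧ u₂ ∉ Submodule.span F {u₁} ∧ Helper5.eichlerO Q u₁ u₂ ∈ M := by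
  classical
  -- `u ∈ U` orthogonal to `aW, bW`, outside `⟨aU, bU⟩`
  obtain ⟨u, huU, hu1, hu2⟩ := exists_mem_orth_not_mem Q hQ U (Submodule.span F {aW, bW})
    (Submodule.span F {aU, bU}) (by
      have h7 : ∀ x y : ι → F, finrank F (Submodule.span F {x, y}) ≤ 2 := by
        intro x y
        have := finrank_span_le_card (R := F) ({x, y} : Set (ι → F))
        have hc : ({x, y} : Set (ι → F)).toFinset.card ≤ 2 := by
          rw [Set.toFinset_insert, Set.toFinset_singleton]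
          exact Finset.card_le_two
        omega
      have := h7 aW bW
      have := h7 aU bU
      omega)
  have huaW : polar ⇑Q u aW = 0 := by
    rw [QuadraticMap.polar_comm]; exact hu1 aW (Submodule.subset_span (by simp))
  have hubW : polar ⇑Q u bW = 0 := by
    rw [QuadraticMap.polar_comm]; exact hu1 bW (Submodule.subset_span (by simp))
  -- `w ∈ W` orthogonal to `aU, u` with `B(bU, w) = 1`
  have hS : Submodule.span F {aU, u} ≤ U := by
    rw [Submodule.span_le]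
    rintro x hx
    rcases hx with rfl | hx
    · exact haU
    · rw [Set.mem_singleton_iff] at hx
      rw [hx]
      exact huU
  have hbn : bU ∉ Submodule.span F {aU, u} := by
    intro hmem
    obtain ⟨α, β, hαβ⟩ := Submodule.mem_span_pair.1 hmem
    by_cases hβ : β = 0
    · apply hli
      rw [hβ, zero_smul, add_zero] at hαβ
      rw [← hαβ]
      exact Submodule.smul_mem _ _ (Submodule.mem_span_singleton_self aU)
    · apply hu2
      have e : u = (-(β⁻¹ * α)) • aU + β⁻¹ • bU := by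
        rw [← hαβ, smul_add, smul_smul, smul_smul, inv_mul_cancel₀ hβ]
        module
      rw [e]
      exact Submodule.mem_span_pair.2 ⟨_, _, rfl⟩
  obtain ⟨w, hwW, hw1, hw2⟩ := h.exists_dual hQ _ hS hbU hbn
  have haUw : polar ⇑Q aU w = 0 := hw1 aU (Submodule.subset_span (by simp))
  have huw : polar ⇑Q u w = 0 := hw1 u (Submodule.subset_span (by simp))
  set a := aU + aW with hadef
  set b := bU + bW with hbdef
  have hau : polar ⇑Q a u = 0 := by
    rw [hadef, QuadraticMap.polar_add_left, h.polarU haU huU, QuadraticMap.polar_comm ⇑Q aW u,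
      huaW, add_zero]
  have hbu : polar ⇑Q b u = 0 := by
    rw [hbdef, QuadraticMap.polar_add_left, h.polarU hbU huU, QuadraticMap.polar_comm ⇑Q bW u,
      hubW, add_zero]
  have haw : polar ⇑Q a w = 0 := by
    rw [hadef, QuadraticMap.polar_add_left, haUw, h.polarW haW hwW, add_zero]
  have hbw : polar ⇑Q b w = 1 := by
    rw [hbdef, QuadraticMap.polar_add_left, hw2, h.polarW hbW hwW, add_zero]
  have huQ : Q u = 0 := h.tsU u huU
  have c1 : lin Q (Helper5.eichlerO Q a b) u = u := by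
    rw [Helper5.lin_eichlerO Q ha hab, hbu, hau]
    simp
  have c2 : lin Q (Helper5.eichlerO Q a b) w = w + a := by
    rw [Helper5.lin_eichlerO Q ha hab, hbw, haw]
    simp
  have hEuw := hH u huU w hwW huw
  have h5 := Helper5.eichlerO_conj Q (Helper5.eichlerO Q a b) huQ huw
  rw [c1, c2] at h5
  have hua : polar ⇑Q u a = 0 := by rw [QuadraticMap.polar_comm]; exact hau
  rw [← Helper5.eichlerO_mul Q huQ huw hua] at h5
  have h6 : Helper5.eichlerO Q u a ∈ M := by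
    have h7 : Helper5.eichlerO Q u a = (Helper5.eichlerO Q u w)⁻¹ *
        (Helper5.eichlerO Q a b * Helper5.eichlerO Q u w * (Helper5.eichlerO Q a b)⁻¹) := by
      rw [h5, inv_mul_cancel_left]
    rw [h7]
    exact M.mul_mem (M.inv_mem hEuw) (M.mul_mem (M.mul_mem hM hEuw) (M.inv_mem hM))
  have huaU : polar ⇑Q u aU = 0 := h.polarU huU haU
  rw [hadef, ← Helper5.eichlerO_mul Q huQ huaU huaW] at h6
  have h8 : Helper5.eichlerO Q u aU ∈ M := by
    have h9 := M.mul_mem h6 (M.inv_mem (hH u huU aW haW huaW))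
    rwa [mul_inv_cancel_right] at h9
  refine ⟨u, huU, aU, haU, ?_, ?_, h8⟩
  · rintro rfl
    exact hu2 (Submodule.zero_mem _)
  intro hmem
  obtain ⟨c, hc⟩ := Submodule.mem_span_singleton.1 hmem
  have hc0 : c ≠ 0 := by
    rintro rfl
    rw [zero_smul] at hc
    exact haU0 hc.symm
  apply hu2
  have e : u = c⁻¹ • aU + (0 : F) • bU := by
    rw [← hc, smul_smul, inv_mul_cancel₀ hc0]
    module
  rw [e]
  exact Submodule.mem_span_pair.2 ⟨_, _, rfl⟩

end Cfsg.Agent.Helper45.TsPair
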