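import Mathlib
import Cfsg.Prelude.Def_ClassicalGeometry
import Cfsg.Agent.Helper45.TsPair2

/-!
# Pairs of complementary totally singular subspaces: mixed vectors, the swap, the finish
-/

set_option autoImplicit false

namespace Cfsg.Agent.Helper45.TsPair

open Matrix QuadraticMap Module Cfsg.Agent.Helper44 Cfsg.Agent.Helper45.OmegaParity

variable {F : Type*} [Field F] {ι : Type} [Fintype ι] [DecidableEq ι]
variable {Q : QuadraticForm F (ι → F)}

/-- a subspace contained in neither member of the pair has a vector with both components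
non-zero -/
theorem IsTsPair.exists_mixed {U W : Submodule F (ι → F)} (h : IsTsPair Q U W)
    (X : Submodule F (ι → F)) (hXU : ¬ X ≤ U) (hXW : ¬ X ≤ W) :
    ∃ aU ∈ U, ∃ aW ∈ W, aU ≠ 0 ∧ aW ≠ 0 ∧ aU + aW ∈ X := by
  obtain ⟨x₁, hx₁, hx₁U⟩ := SetLike.not_le_iff_exists.1 hXU
  obtain ⟨x₂, hx₂, hx₂W⟩ := SetLike.not_le_iff_exists.1 hXW
  obtain ⟨p, hp, q, hq, hpq⟩ := h.decomp x₁
  obtain ⟨r, hr, t, ht, hrt⟩ := h.decomp x₂
  have hq0 : q ≠ 0 := by
    rintro rfl
    rw [add_zero] at hpq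
    exact hx₁U (hpq ▸ hp)
  have hr0 : r ≠ 0 := by
    rintro rfl
    rw [zero_add] at hrt
    exact hx₂W (hrt ▸ ht)
  by_cases hp0 : p = 0
  · by_cases ht0 : t = 0
    · refine ⟨r, hr, q, hq, hr0, hq0, ?_⟩
      rw [hp0, zero_add] at hpq
      rw [ht0, add_zero] at hrt
      rw [hpq, hrt]
      exact X.add_mem hx₂ hx₁
    · exact ⟨r, hr, t, ht, hr0, ht0, hrt ▸ hx₂⟩
  · exact ⟨p, hp, q, hq, hp0, hq0, hpq ▸ hx₁⟩

theorem finrank_span_pair_le_two (x y : ι → F) : finrank F (Submodule.span F {x, y}) ≤ 2 := by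
  classical
  have := finrank_span_le_card (R := F) ({x, y} : Set (ι → F))
  have hc : ({x, y} : Set (ι → F)).toFinset.card ≤ 2 := by
    rw [Set.toFinset_insert, Set.toFinset_singleton]
    exact Finset.card_le_two
  omega

/-- for `X` in neither member of the pair and `Y` of dimension at least four there are orthogonal
`a ∈ X`, `b ∈ Y` whose `U`-components or whose `W`-components are independent -/
theorem IsTsPair.exists_indep_parts {U W : Submodule F (ι → F)} (h : IsTsPair Q U W)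
    (hQ : (QuadraticMap.polarBilin Q).Nondegenerate)
    (X Y : Submodule F (ι → F)) (hY : 4 ≤ finrank F Y) (hXU : ¬ X ≤ U) (hXW : ¬ X ≤ W) :
    ∃ aU ∈ U, ∃ aW ∈ W, ∃ bU ∈ U, ∃ bW ∈ W, aU + aW ∈ X ∧ bU + bW ∈ Y ∧
      polar ⇑Q (aU + aW) (bU + bW) = 0 ∧
      ((aU ≠ 0 ∧ bU ∉ Submodule.span F {aU}) ∨ (aW ≠ 0 ∧ bW ∉ Submodule.span F {aW})) := by
  obtain ⟨aU, haU, aW, haW, haU0, haW0, haX⟩ := h.exists_mixed X hXU hXW
  obtain ⟨b, hbY, hb1, hb2⟩ := exists_mem_orth_not_mem Q hQ Y (Submodule.span F {aU + aW})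
    (Submodule.span F {aU, aW}) (by
      have h1 := finrank_span_pair_le_two (F := F) aU aW
      have h2 : finrank F (Submodule.span F {aU + aW}) ≤ 1 := by
        have h3 := finrank_span_le_card (R := F) ({aU + aW} : Set (ι → F))
        simpa using h3
      omega)
  obtain ⟨bU, hbU, bW, hbW, rfl⟩ := h.decomp b
  refine ⟨aU, haU, aW, haW, bU, hbU, bW, hbW, haX, hbY,
    hb1 _ (Submodule.mem_span_singleton_self _), ?_⟩
  by_contra hcon
  push Not at hcon
  obtain ⟨c, hc⟩ := Submodule.mem_span_singleton.1 (hcon.1 haU0)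
  obtain ⟨d, hd⟩ := Submodule.mem_span_singleton.1 (hcon.2 haW0)
  apply hb2
  rw [← hc, ← hd]
  exact Submodule.mem_span_pair.2 ⟨c, d, rfl⟩

/-- the hypothesis `hH` with the roles of `U` and `W` exchanged -/
theorem IsTsPair.hH_symm {U W : Submodule F (ι → F)} (h : IsTsPair Q U W)
    {M : Subgroup (Cfsg.isometryGroup F ⇑Q)}
    (hH : ∀ u ∈ U, ∀ w ∈ W, polar ⇑Q u w = 0 → Helper5.eichlerO Q u w ∈ M) :
    ∀ w ∈ W, ∀ u ∈ U, polar ⇑Q w u = 0 → Helper5.eichlerO Q w u ∈ M := by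
  intro w hw u hu hwu
  have huw : polar ⇑Q u w = 0 := by rw [QuadraticMap.polar_comm]; exact hwu
  rw [eichlerO_swap (h.tsU u hu) (h.tsW w hw) huw]
  exact M.inv_mem (hH u hu w hw huw)

/-- **the finish**: a non-zero Eichler direction in `U` and an element of `M` mapping `U` into
`W` force `Ω ≤ M` -/
theorem IsTsPair.Omega_le_of_eDir [Fintype F] {U W : Submodule F (ι → F)} (h : IsTsPair Q U W)
    (hQ : (QuadraticMap.polarBilin Q).Nondegenerate) (hn : 6 ≤ Fintype.card ι)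
    {M : Subgroup (Cfsg.isometryGroup F ⇑Q)}
    (hH : ∀ u ∈ U, ∀ w ∈ W, polar ⇑Q u w = 0 → Helper5.eichlerO Q u w ∈ M)
    (s : Cfsg.isometryGroup F ⇑Q) (hsM : s ∈ M) (hsU : ∀ x ∈ U, lin Q s x ∈ W)
    {u₁ : ι → F} (h₁ : u₁ ∈ U) (h0 : u₁ ≠ 0) (hE : u₁ ∈ eDir Q M) : Cfsg.Omega F ⇑Q ≤ M := by
  have hw₁E : lin Q s u₁ ∈ eDir Q M := eDir_map hE hsM
  set w₁ := lin Q s u₁ with hw₁def
  have hw₁W : w₁ ∈ W := hsU u₁ h₁
  have hw₁0 : w₁ ≠ 0 := by
    intro hz
    apply h0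
    apply lin_injective Q s
    rw [← hw₁def, hz, map_zero]
  by_cases hb : polar ⇑Q u₁ w₁ ≠ 0
  · exact Omega_le_of_eDir_all hQ hn (eDir_all hQ hE hw₁E hb)
  push Not at hb
  -- `u' ∈ U` with `B(w₁,u') = 1`
  obtain ⟨u', hu'U, -, hu'1⟩ := h.symm.exists_dual hQ ⊥ bot_le hw₁W (by
    rw [Submodule.mem_bot]; exact hw₁0)
  have hu'n : u₁ ∉ Submodule.span F {u'} := by
    intro hmem
    obtain ⟨c, hc⟩ := Submodule.mem_span_singleton.1 hmem
    have h5 : polar ⇑Q w₁ u₁ = c := by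
      rw [← hc, QuadraticMap.polar_smul_right, hu'1, smul_eq_mul, mul_one]
    rw [QuadraticMap.polar_comm, hb] at h5
    rw [← h5, zero_smul] at hc
    exact h0 hc.symm
  have hS : Submodule.span F {u'} ≤ U := by
    rw [Submodule.span_le, Set.singleton_subset_iff]
    exact hu'U
  obtain ⟨w', hw'W, hw'1, hw'2⟩ := h.exists_dual hQ _ hS h₁ hu'n
  have hu'w' : polar ⇑Q u' w' = 0 := hw'1 u' (Submodule.mem_span_singleton_self u')
  have hgM := hH u' hu'U w' hw'W hu'w'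
  have hz := eDir_map hw₁E hgM
  have c1 : lin Q (Helper5.eichlerO Q u' w') w₁ = w₁ - w' := by
    rw [Helper5.lin_eichlerO Q (h.tsU u' hu'U) hu'w', h.polarW hw'W hw₁W,
      QuadraticMap.polar_comm ⇑Q u' w₁, hu'1, h.tsW w' hw'W]
    simp
  rw [c1] at hz
  have hb' : polar ⇑Q u₁ (w₁ - w') ≠ 0 := by
    rw [QuadraticMap.polar_sub_right, hb, hw'2, zero_sub]
    exact neg_ne_zero.2 one_ne_zero
  exact Omega_le_of_eDir_all hQ hn (eDir_all hQ hE hz hb')

/-- a product of reflections in pairwise orthogonal vectors of norm `-1` -/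
theorem lin_prod_reflT_ofFn : ∀ (m : ℕ) (v : Fin m → ι → F), (∀ i, Q (v i) = -1) →
    (∀ i j, i ≠ j → polar ⇑Q (v i) (v j) = 0) → ∀ x : ι → F,
    lin Q (((List.ofFn v).map (reflT Q)).prod) x = x + ∑ i, polar ⇑Q (v i) x • v i := by
  intro m
  induction m with
  | zero =>
    intro v _ _ x
    rw [List.ofFn_zero, List.map_nil, List.prod_nil, lin_one]
    simp
  | succ m ih =>
    intro v hv hp x
    rw [List.ofFn_succ, List.map_cons, List.prod_cons, lin_mul, Module.End.mul_apply,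
      ih (fun i => v i.succ) (fun i => hv i.succ)
        (fun i j hij => hp i.succ j.succ (fun hh => hij (Fin.succ_injective _ hh))) x]
    have hv0 : Q (v 0) ≠ 0 := by rw [hv 0]; exact neg_ne_zero.2 one_ne_zero
    rw [lin_reflT_apply Q (v 0) hv0, hv 0]
    have e1 : polar ⇑Q (v 0) (x + ∑ i : Fin m, polar ⇑Q (v i.succ) x • v i.succ)
        = polar ⇑Q (v 0) x := by
      rw [QuadraticMap.polar_add_right]
      have e2 : polar ⇑Q (v 0) (∑ i : Fin m, polar ⇑Q (v i.succ) x • v i.succ) = 0 := by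
        rw [← QuadraticMap.polarBilin_apply_apply, map_sum]
        apply Finset.sum_eq_zero
        intro i _
        rw [map_smul, QuadraticMap.polarBilin_apply_apply,
          hp 0 i.succ (fun hh => Fin.succ_ne_zero i hh.symm), smul_zero]
      rw [e2, add_zero]
    rw [e1, Fin.sum_univ_succ]
    have e3 : ((-1 : F))⁻¹ = -1 := by rw [inv_neg, inv_one]
    rw [e3]
    module

end Cfsg.Agent.Helper45.TsPair
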