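import Mathlib
import Cfsg.Prelude.Def_ClassicalGeometry
import Cfsg.Agent.Helper45.TsPair3

/-!
# Dual bases of a pair of complementary totally singular subspaces; the swap in `Ω`
-/

set_option autoImplicit false

namespace Cfsg.Agent.Helper45.TsPair

open Matrix QuadraticMap Module Cfsg.Agent.Helper44 Cfsg.Agent.Helper45.OmegaParity

variable {F : Type*} [Field F] {ι : Type} [Fintype ι] [DecidableEq ι]
variable {Q : QuadraticForm F (ι → F)}

/-- dual bases `e` of `U` and `f` of `W` -/
theorem IsTsPair.exists_dualBasis {U W : Submodule F (ι → F)} (h : IsTsPair Q U W)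
    (hQ : (QuadraticMap.polarBilin Q).Nondegenerate) :
    ∃ (e f : Fin (finrank F U) → ι → F), (∀ i, e i ∈ U) ∧ (∀ i, f i ∈ W) ∧
      (∀ i j, polar ⇑Q (f i) (e j) = if j = i then 1 else 0) ∧
      (∀ x ∈ U, x = ∑ i, polar ⇑Q (f i) x • e i) ∧
      (∀ x ∈ W, x = ∑ i, polar ⇑Q (e i) x • f i) := by
  classical
  set b : Basis (Fin (finrank F U)) F U := Module.finBasisOfFinrankEq F U rfl with hb
  set T : W →ₗ[F] Module.Dual F U := (QuadraticMap.polarBilin Q).domRestrict₁₂ W U with hT
  have hTapp : ∀ (w : W) (u : U), T w u = polar ⇑Q (w : ι → F) (u : ι → F) := by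
    intro w u
    rw [hT, LinearMap.domRestrict₁₂_apply, QuadraticMap.polarBilin_apply_apply]
  have hinj : Function.Injective T := by
    rw [← LinearMap.ker_eq_bot, LinearMap.ker_eq_bot']
    intro w hw
    apply Subtype.ext
    apply h.symm.eq_zero_of_orth hQ w.2
    intro u hu
    have := hTapp w ⟨u, hu⟩
    rw [hw] at this
    exact this.symm
  have hfr : finrank F W = finrank F (Module.Dual F U) := by
    rw [Subspace.dual_finrank_eq]
    have := h.finrank_eq hQ
    omega
  set E := LinearMap.linearEquivOfInjective T hinj hfr with hE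
  have hEapp : ∀ φ : Module.Dual F U, T (E.symm φ) = φ := by
    intro φ
    have := E.apply_symm_apply φ
    rwa [hE, LinearMap.linearEquivOfInjective_apply] at this
  refine ⟨fun i => (b i : ι → F), fun i => (E.symm (b.dualBasis i) : ι → F), fun i => (b i).2,
    fun i => (E.symm (b.dualBasis i)).2, ?_, ?_, ?_⟩
  · intro i j
    show polar ⇑Q ((E.symm (b.dualBasis i) : W) : ι → F) ((b j : U) : ι → F) = _
    rw [← hTapp, hEapp, Module.Basis.dualBasis_apply_self]
  · intro x hx
    have h1 : ∀ i, polar ⇑Q ((E.symm (b.dualBasis i) : W) : ι → F) x = b.repr ⟨x, hx⟩ i := by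
      intro i
      have := hTapp (E.symm (b.dualBasis i)) ⟨x, hx⟩
      rw [hEapp, Module.Basis.dualBasis_apply] at this
      exact this.symm
    have h2 := congrArg (Subtype.val) (b.sum_repr ⟨x, hx⟩)
    simp only at h2
    conv_lhs => rw [← h2]
    rw [AddSubmonoidClass.coe_finset_sum]
    apply Finset.sum_congr rfl
    intro i _
    show ((b.repr ⟨x, hx⟩ i • b i : U) : ι → F) = _
    rw [Submodule.coe_smul, ← h1 i]
  · intro x hx
    set y := x - ∑ i, polar ⇑Q ((b i : U) : ι → F) x • ((E.symm (b.dualBasis i) : W) : ι → F)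
      with hy
    have hyW : y ∈ W := by
      apply W.sub_mem hx
      apply Submodule.sum_mem
      intro i _
      exact W.smul_mem _ (E.symm (b.dualBasis i)).2
    have hyb : ∀ j, polar ⇑Q y ((b j : U) : ι → F) = 0 := by
      intro j
      rw [hy, QuadraticMap.polar_sub_left]
      have e2 : polar ⇑Q (∑ i, polar ⇑Q ((b i : U) : ι → F) x •
          ((E.symm (b.dualBasis i) : W) : ι → F)) ((b j : U) : ι → F)
          = polar ⇑Q ((b j : U) : ι → F) x := by
        rw [QuadraticMap.polar_comm, ← QuadraticMap.polarBilin_apply_apply, map_sum]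
        rw [Finset.sum_eq_single j]
        · rw [map_smul, QuadraticMap.polarBilin_apply_apply, QuadraticMap.polar_comm ⇑Q _
            ((E.symm (b.dualBasis j) : W) : ι → F), ← hTapp, hEapp,
            Module.Basis.dualBasis_apply_self, if_pos rfl, smul_eq_mul, mul_one]
        · intro i _ hij
          rw [map_smul, QuadraticMap.polarBilin_apply_apply, QuadraticMap.polar_comm ⇑Q _
            ((E.symm (b.dualBasis i) : W) : ι → F), ← hTapp, hEapp,
            Module.Basis.dualBasis_apply_self, if_neg (fun hh => hij hh.symm), smul_zero]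
        · intro hj
          exact absurd (Finset.mem_univ j) hj
      rw [e2, QuadraticMap.polar_comm, sub_self]
    have hy0 : y = 0 := by
      apply h.symm.eq_zero_of_orth hQ hyW
      intro u hu
      have h2 := congrArg (Subtype.val) (b.sum_repr ⟨u, hu⟩)
      simp only at h2
      rw [← h2, AddSubmonoidClass.coe_finset_sum, ← QuadraticMap.polarBilin_apply_apply, map_sum]
      apply Finset.sum_eq_zero
      intro i _
      rw [Submodule.coe_smul, map_smul, QuadraticMap.polarBilin_apply_apply, hyb i, smul_zero]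
    rw [hy, sub_eq_zero] at hy0
    exact hy0

/-- **the swap**: when `dim U` is even some element of `Ω` interchanges `U` and `W` -/
theorem IsTsPair.exists_swap [Fintype F] {U W : Submodule F (ι → F)} (h : IsTsPair Q U W)
    (hQ : (QuadraticMap.polarBilin Q).Nondegenerate)
    (hc : Fintype.card F ≠ 2 ∨ Fintype.card ι ≠ 4) (heven : Even (finrank F U)) :
    ∃ s : Cfsg.isometryGroup F ⇑Q, s ∈ Cfsg.Omega F ⇑Q ∧ (∀ x ∈ U, lin Q s x ∈ W) ∧
      (∀ x ∈ W, lin Q s x ∈ U) := by
  classical
  obtain ⟨e, f, heU, hfW, hfe, hexpU, hexpW⟩ := h.exists_dualBasis hQ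
  set v : Fin (finrank F U) → ι → F := fun i => e i - f i with hv
  have hvQ : ∀ i, Q (v i) = -1 := by
    intro i
    have h1 : e i - f i = e i + (-1 : F) • f i := by module
    rw [hv]
    show Q (e i - f i) = -1
    rw [h1, QuadraticMap.map_add ⇑Q, QuadraticMap.map_smul, h.tsU _ (heU i), h.tsW _ (hfW i),
      QuadraticMap.polar_smul_right, QuadraticMap.polar_comm, hfe i i, if_pos rfl]
    simp
  have hvp : ∀ i j, i ≠ j → polar ⇑Q (v i) (v j) = 0 := by
    intro i j hij
    show polar ⇑Q (e i - f i) (e j - f j) = 0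
    rw [QuadraticMap.polar_sub_left, QuadraticMap.polar_sub_right, QuadraticMap.polar_sub_right,
      h.polarU (heU i) (heU j), h.polarW (hfW i) (hfW j), hfe i j, if_neg (fun hh => hij hh.symm),
      QuadraticMap.polar_comm ⇑Q (e i) (f j), hfe j i, if_neg hij]
    simp
  have hvs : ∀ x ∈ List.ofFn v, Q x ≠ 0 := by
    intro x hx
    obtain ⟨i, rfl⟩ := (List.mem_ofFn' v x).1 hx
    rw [hvQ i]
    exact neg_ne_zero.2 one_ne_zero
  refine ⟨((List.ofFn v).map (reflT Q)).prod, ?_, ?_, ?_⟩
  · by_cases h2 : (2 : F) = 0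
    · have : CharP F 2 := CharTwo.of_one_ne_zero_of_two_eq_zero one_ne_zero h2
      rw [mem_Omega_iff_parityHom Q hQ hc, parityHom_prod Q hQ hc _ hvs, List.length_ofFn]
      have : ((finrank F U : ℕ) : ZMod 2) = 0 := (ZMod.natCast_eq_zero_iff_even).2 heven
      rw [this]
      rfl
    · rw [prod_reflT_mem_Omega_iff Q h2 _ hvs, List.length_ofFn]
      refine ⟨heven, ?_⟩
      have e1 : (List.ofFn v).map (fun v => Q v) = List.ofFn (fun _ : Fin (finrank F U) => (-1 : F)) := by
        rw [List.map_ofFn]
        congr 1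
        funext i
        exact hvQ i
      rw [e1, List.prod_ofFn, Finset.prod_const, Finset.card_univ, Fintype.card_fin,
        heven.neg_one_pow]
      exact IsSquare.one
  · intro x hx
    rw [lin_prod_reflT_ofFn _ v hvQ hvp x]
    have e1 : ∀ i, polar ⇑Q (v i) x • v i = polar ⇑Q (f i) x • f i - polar ⇑Q (f i) x • e i := by
      intro i
      show polar ⇑Q (e i - f i) x • (e i - f i) = _
      rw [QuadraticMap.polar_sub_left, h.polarU (heU i) hx]
      module
    rw [Finset.sum_congr rfl (fun i _ => e1 i), Finset.sum_sub_distrib, ← hexpU x hx]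
    have : x + (∑ i, polar ⇑Q (f i) x • f i - x) = ∑ i, polar ⇑Q (f i) x • f i := by abel
    rw [this]
    apply Submodule.sum_mem
    intro i _
    exact W.smul_mem _ (hfW i)
  · intro x hx
    rw [lin_prod_reflT_ofFn _ v hvQ hvp x]
    have e1 : ∀ i, polar ⇑Q (v i) x • v i = polar ⇑Q (e i) x • e i - polar ⇑Q (e i) x • f i := by
      intro i
      show polar ⇑Q (e i - f i) x • (e i - f i) = _
      rw [QuadraticMap.polar_sub_left, h.polarW (hfW i) hx]
      module
    rw [Finset.sum_congr rfl (fun i _ => e1 i), Finset.sum_sub_distrib, ← hexpW x hx]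
    have : x + (∑ i, polar ⇑Q (e i) x • e i - x) = ∑ i, polar ⇑Q (e i) x • e i := by abel
    rw [this]
    apply Submodule.sum_mem
    intro i _
    exact U.smul_mem _ (heU i)

end Cfsg.Agent.Helper45.TsPair
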