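import Mathlib
import Cfsg.Prelude.Def_ClassicalGeometry
import Cfsg.Prelude.Def_GeometricClasses
import Cfsg.Agent.Helper45.TsPair4

/-!
# Maximality of the stabiliser of a pair of complementary totally singular subspaces in `Ω`
-/

set_option autoImplicit false

namespace Cfsg.Agent.Helper45.TsPair

open Matrix QuadraticMap Module Cfsg.Agent.Helper44 Cfsg.Agent.Helper45.OmegaParity

variable {F : Type*} [Field F] {ι : Type} [Fintype ι] [DecidableEq ι]
variable {Q : QuadraticForm F (ι → F)}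

/-- `g` preserves or interchanges `U` and `W` -/
def IsPairStab (Q : QuadraticForm F (ι → F)) (U W : Submodule F (ι → F))
    (g : Cfsg.isometryGroup F ⇑Q) : Prop :=
  (U.map (lin Q g) = U ∧ W.map (lin Q g) = W) ∨ (U.map (lin Q g) = W ∧ W.map (lin Q g) = U)

/-- **core**: a subgroup containing the stabiliser in `Ω` of the pair and an element not
stabilising the pair contains `Ω` -/
theorem IsTsPair.Omega_le_of_not_pairStab [Fintype F] {U W : Submodule F (ι → F)}
    (h : IsTsPair Q U W) (hQ : (QuadraticMap.polarBilin Q).Nondegenerate)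
    (hdim : 5 ≤ finrank F U) (heven : Even (finrank F U))
    {M : Subgroup (Cfsg.isometryGroup F ⇑Q)}
    (hHM : ∀ g ∈ Cfsg.Omega F ⇑Q, IsPairStab Q U W g → g ∈ M)
    (g₀ : Cfsg.isometryGroup F ⇑Q) (hg₀M : g₀ ∈ M) (hg₀ : ¬ IsPairStab Q U W g₀) :
    Cfsg.Omega F ⇑Q ≤ M := by
  have hfr := h.finrank_eq hQ
  have hn : 10 ≤ Fintype.card ι := by omega
  have hUW : finrank F U = finrank F W := by omega
  -- root elements of the stabiliser
  have hH : ∀ u ∈ U, ∀ w ∈ W, polar ⇑Q u w = 0 → Helper5.eichlerO Q u w ∈ M := by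
    intro u hu w hw huw
    apply hHM _ (eichlerO_mem_Omega Q hQ (by omega) u w)
    left
    exact h.eichlerO_mem_stab hu hw huw
  -- the swap
  obtain ⟨s, hsΩ, hsU, hsW⟩ := h.exists_swap hQ (Or.inr (by omega)) heven
  have hsM : s ∈ M := by
    apply hHM s hsΩ
    right
    constructor
    · apply Submodule.eq_of_le_of_finrank_eq
      · rintro _ ⟨x, hx, rfl⟩
        exact hsU x hx
      · rw [finrank_map_lin, hUW]
    · apply Submodule.eq_of_le_of_finrank_eq
      · rintro _ ⟨x, hx, rfl⟩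
        exact hsW x hx
      · rw [finrank_map_lin, hUW]
  -- a root element of `M` with independent components
  obtain ⟨aU, haU, aW, haW, bU, hbU, bW, hbW, ha, hab, hM, halt⟩ :
      ∃ aU ∈ U, ∃ aW ∈ W, ∃ bU ∈ U, ∃ bW ∈ W, Q (aU + aW) = 0 ∧
        polar ⇑Q (aU + aW) (bU + bW) = 0 ∧ Helper5.eichlerO Q (aU + aW) (bU + bW) ∈ M ∧
        ((aU ≠ 0 ∧ bU ∉ Submodule.span F {aU}) ∨ (aW ≠ 0 ∧ bW ∉ Submodule.span F {aW})) := by
    set X := U.map (lin Q g₀) with hX
    set Y := W.map (lin Q g₀) with hY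
    have hXfr : finrank F X = finrank F U := finrank_map_lin Q g₀ U
    have hYfr : finrank F Y = finrank F W := finrank_map_lin Q g₀ W
    by_cases c1 : (X ≤ U ∨ X ≤ W) ∧ (Y ≤ U ∨ Y ≤ W)
    · exfalso
      have hXeq : X = U ∨ X = W := by
        rcases c1.1 with hle | hle
        · left; exact Submodule.eq_of_le_of_finrank_eq hle hXfr
        · right; exact Submodule.eq_of_le_of_finrank_eq hle (by omega)
      have hYeq : Y = U ∨ Y = W := by
        rcases c1.2 with hle | hle
        · left; exact Submodule.eq_of_le_of_finrank_eq hle (by omega)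
        · right; exact Submodule.eq_of_le_of_finrank_eq hle hYfr
      have hne : X ≠ Y := by
        intro heq
        have h1 : U = W := Submodule.map_injective_of_injective (lin_injective Q g₀) heq
        have h2 := h.inf_eq_bot hQ
        rw [← h1, inf_idem] at h2
        rw [h2, finrank_bot] at hdim
        omega
      rcases hXeq with hx | hx <;> rcases hYeq with hy | hy
      · exact hne (hx.trans hy.symm)
      · exact hg₀ (Or.inl ⟨hx, hy⟩)
      · exact hg₀ (Or.inr ⟨hx, hy⟩)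
      · exact hne (hx.trans hy.symm)
    · rw [not_and_or] at c1
      rcases c1 with c1 | c1
      · push Not at c1
        obtain ⟨aU, haU, aW, haW, bU, hbU, bW, hbW, haX, hbY, hab, halt⟩ :=
          h.exists_indep_parts hQ X Y (by omega) c1.1 c1.2
        obtain ⟨u₀, hu₀, hu₀a⟩ := haX
        obtain ⟨w₀, hw₀, hw₀b⟩ := hbY
        have e1 : polar ⇑Q u₀ w₀ = 0 := by
          rw [← polar_lin Q g₀, hu₀a, hw₀b]
          exact hab
        refine ⟨aU, haU, aW, haW, bU, hbU, bW, hbW, ?_, hab, ?_, halt⟩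
        · rw [← hu₀a, lin_isometry]
          exact h.tsU u₀ hu₀
        · rw [← hu₀a, ← hw₀b, ← Helper5.eichlerO_conj Q g₀ (h.tsU u₀ hu₀) e1]
          exact M.mul_mem (M.mul_mem hg₀M (hH u₀ hu₀ w₀ hw₀ e1)) (M.inv_mem hg₀M)
      · push Not at c1
        obtain ⟨aU, haU, aW, haW, bU, hbU, bW, hbW, haY, hbX, hab, halt⟩ :=
          h.exists_indep_parts hQ Y X (by omega) c1.1 c1.2
        obtain ⟨w₀, hw₀, hw₀a⟩ := haY
        obtain ⟨u₀, hu₀, hu₀b⟩ := hbX
        have e1 : polar ⇑Q w₀ u₀ = 0 := by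
          rw [← polar_lin Q g₀, hw₀a, hu₀b]
          exact hab
        refine ⟨aU, haU, aW, haW, bU, hbU, bW, hbW, ?_, hab, ?_, halt⟩
        · rw [← hw₀a, lin_isometry]
          exact h.tsW w₀ hw₀
        · rw [← hw₀a, ← hu₀b, ← Helper5.eichlerO_conj Q g₀ (h.tsW w₀ hw₀) e1]
          exact M.mul_mem (M.mul_mem hg₀M (h.hH_symm hH w₀ hw₀ u₀ hu₀ e1)) (M.inv_mem hg₀M)
  rcases halt with ⟨haU0, hli⟩ | ⟨haW0, hli⟩
  · obtain ⟨u₁, h₁, u₂, h₂, hu₁0, hli', hM'⟩ :=
      h.exists_root_of_mixed hQ hdim hH haU haW hbU hbW ha hab haU0 hli hM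
    have hE := h.mem_eDir_of_root hQ (by omega) hH h₁ h₂ hli' hM'
    exact h.Omega_le_of_eDir hQ (by omega) hH s hsM hsU h₁ hu₁0 hE
  · have ha' : Q (aW + aU) = 0 := by rw [add_comm]; exact ha
    have hab' : polar ⇑Q (aW + aU) (bW + bU) = 0 := by
      rw [add_comm aW aU, add_comm bW bU]; exact hab
    have hM₂ : Helper5.eichlerO Q (aW + aU) (bW + bU) ∈ M := by
      rw [add_comm aW aU, add_comm bW bU]; exact hM
    obtain ⟨w₁, h₁, w₂, h₂, hw₁0, hli', hM'⟩ :=
      h.symm.exists_root_of_mixed hQ (by omega) (h.hH_symm hH) haW haU hbW hbU ha' hab' haW0 hli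
        hM₂
    have hE := h.symm.mem_eDir_of_root hQ (by omega) (h.hH_symm hH) h₁ h₂ hli' hM'
    exact h.symm.Omega_le_of_eDir hQ (by omega) (h.hH_symm hH) s hsM hsW h₁ hw₁0 hE

end Cfsg.Agent.Helper45.TsPair
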