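import Mathlib
import Cfsg.Prelude.Def_ClassicalGeometry
import Cfsg.Prelude.Def_GeometricClasses
import Cfsg.Agent.Helper45.TsPair5

/-!
# Maximality of the stabiliser of a pair of complementary totally singular subspaces in `Ω`:
`Cfsg.Geo` vocabulary
-/

set_option autoImplicit false

namespace Cfsg.Agent.Helper45.TsPair

open Matrix QuadraticMap Module Cfsg.Agent.Helper44 Cfsg.Agent.Helper45.OmegaParity

variable {F : Type*} [Field F] {ι : Type} [Fintype ι] [DecidableEq ι]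
variable {Q : QuadraticForm F (ι → F)}

/-- some element of `Ω` does not stabilise the pair -/
theorem IsTsPair.exists_Omega_not_pairStab [Fintype F] {U W : Submodule F (ι → F)}
    (h : IsTsPair Q U W) (hQ : (QuadraticMap.polarBilin Q).Nondegenerate)
    (hdim : 2 ≤ finrank F U) (hn : 5 ≤ Fintype.card ι) :
    ∃ g ∈ Cfsg.Omega F ⇑Q, ¬ IsPairStab Q U W g := by
  have hU0 : U ≠ ⊥ := by
    intro hb
    rw [hb, finrank_bot] at hdim
    omega
  obtain ⟨u₁, h₁, hu₁0⟩ := Submodule.exists_mem_ne_zero_of_ne_bot hU0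
  obtain ⟨u₂, h₂, hu₂⟩ : ∃ u₂ ∈ U, u₂ ∉ Submodule.span F {u₁} := by
    have h5 : ¬ (U ≤ Submodule.span F {u₁}) := by
      intro hle
      have h6 := Submodule.finrank_mono hle
      have h7 : finrank F (Submodule.span F {u₁}) ≤ 1 := by
        have h3 := finrank_span_le_card (R := F) ({u₁} : Set (ι → F))
        simpa using h3
      omega
    exact SetLike.not_le_iff_exists.1 h5
  have hS : Submodule.span F {u₁} ≤ U := by
    rw [Submodule.span_le, Set.singleton_subset_iff]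
    exact h₁
  obtain ⟨x, hxW, hx1, hx2⟩ := h.exists_dual hQ _ hS h₂ hu₂
  have hu₁x : polar ⇑Q u₁ x = 0 := hx1 u₁ (Submodule.mem_span_singleton_self u₁)
  have c1 : lin Q (Helper5.eichlerO Q u₁ u₂) x = x + u₁ := by
    rw [Helper5.lin_eichlerO Q (h.tsU u₁ h₁) (h.polarU h₁ h₂), hx2, hu₁x]
    simp
  have hinf := h.inf_eq_bot hQ
  refine ⟨Helper5.eichlerO Q u₁ u₂, eichlerO_mem_Omega Q hQ hn u₁ u₂, ?_⟩
  have hmem : ∀ Z : Submodule F (ι → F), W.map (lin Q (Helper5.eichlerO Q u₁ u₂)) = Z →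
      x + u₁ ∈ Z := by
    intro Z hZ
    rw [← hZ, ← c1]
    exact Submodule.mem_map_of_mem hxW
  rintro (⟨-, hW⟩ | ⟨-, hW⟩)
  · have h3 := hmem W hW
    have h4 : u₁ ∈ W := by
      have := W.sub_mem h3 hxW
      rwa [add_sub_cancel_left] at this
    have h5 : u₁ ∈ U ⊓ W := ⟨h₁, h4⟩
    rw [hinf, Submodule.mem_bot] at h5
    exact hu₁0 h5
  · have h3 := hmem U hW
    have h4 : x ∈ U := by
      have := U.sub_mem h3 h₁
      rwa [add_sub_cancel_right] at this
    have h5 : x ∈ U ⊓ W := ⟨h4, hxW⟩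
    rw [hinf, Submodule.mem_bot] at h5
    rw [h5, QuadraticMap.polar_zero_right] at hx2
    exact zero_ne_one hx2

/-- membership in the `Geo` decomposition stabiliser versus `IsPairStab` -/
theorem mem_decompositionStabilizer_iff_pairStab (D : Fin 2 → Submodule F (ι → F))
    (g : Cfsg.isometryGroup F ⇑Q) :
    (g : Matrix.GeneralLinearGroup ι F) ∈ Cfsg.Geo.decompositionStabilizer D
      ↔ IsPairStab Q (D 0) (D 1) g := by
  have hlin : Matrix.toLin' ((g : Matrix.GeneralLinearGroup ι F) : Matrix ι ι F) = lin Q g := rfl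
  constructor
  · rintro ⟨σ, hσ⟩
    have h0 := hσ 0
    have h1 := hσ 1
    rw [hlin] at h0 h1
    have hne : σ 0 ≠ σ 1 := fun hh => absurd (σ.injective hh) (by decide)
    rcases Fin.exists_fin_two.1 ⟨σ 0, rfl⟩ with e0 | e0 <;>
      rcases Fin.exists_fin_two.1 ⟨σ 1, rfl⟩ with e1 | e1
    · exact absurd (e0.trans e1.symm) hne
    · left
      rw [e0] at h0
      rw [e1] at h1
      exact ⟨h0, h1⟩
    · right
      rw [e0] at h0
      rw [e1] at h1
      exact ⟨h0, h1⟩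
    · exact absurd (e0.trans e1.symm) hne
  · rintro (⟨h0, h1⟩ | ⟨h0, h1⟩)
    · refine ⟨1, ?_⟩
      rw [Fin.forall_fin_two]
      exact ⟨by rw [hlin]; exact h0, by rw [hlin]; exact h1⟩
    · refine ⟨Equiv.swap 0 1, ?_⟩
      rw [Fin.forall_fin_two]
      refine ⟨by rw [hlin, Equiv.swap_apply_left]; exact h0,
        by rw [hlin, Equiv.swap_apply_right]; exact h1⟩

/-- **Maximality of the stabiliser of a pair of complementary totally singular subspaces**,
`Cfsg.Geo` vocabulary, for a Mathlib quadratic form. -/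
theorem ts_pair_isMaximalIn_aux [Fintype F] (Q : QuadraticForm F (ι → F))
    (hQ : (QuadraticMap.polarBilin Q).Nondegenerate) (k : ℕ) (hk5 : 5 ≤ k) (hke : Even k)
    (D : Fin 2 → Submodule F (ι → F)) (hD : Cfsg.Geo.IsMDecomposition k D)
    (hts : ∀ i, ∀ w ∈ D i, Q w = 0) :
    Cfsg.Geo.IsMaximalIn (Cfsg.Geo.omegaGL ⇑Q)
      (Cfsg.Geo.decompositionStabilizer D ⊓ Cfsg.Geo.omegaGL ⇑Q) := by
  have h : IsTsPair Q (D 0) (D 1) := by
    refine ⟨hts 0, hts 1, ?_⟩
    rw [eq_top_iff, ← hD.iSup_eq_top]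
    apply iSup_le
    rw [Fin.forall_fin_two]
    exact ⟨le_sup_left, le_sup_right⟩
  have hfrU : finrank F (D 0) = k := hD.finrank_eq 0
  have hfr := h.finrank_eq hQ
  refine ⟨lt_of_le_of_ne inf_le_right ?_, ?_⟩
  · intro heq
    obtain ⟨g, hg, hgW⟩ := h.exists_Omega_not_pairStab hQ (by omega) (by omega)
    have h1 : (g : Matrix.GeneralLinearGroup ι F) ∈ Cfsg.Geo.omegaGL ⇑Q := ⟨g, hg, rfl⟩
    rw [← heq] at h1
    exact hgW ((mem_decompositionStabilizer_iff_pairStab D g).1 h1.1)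
  · intro M' hHM hMΩ
    by_cases hle : M' ≤ Cfsg.Geo.decompositionStabilizer D ⊓ Cfsg.Geo.omegaGL ⇑Q
    · left
      exact le_antisymm hle hHM
    · right
      obtain ⟨g, hgM, hgH⟩ := SetLike.not_le_iff_exists.1 hle
      obtain ⟨g', hg'Ω, rfl⟩ := hMΩ hgM
      have hP : ∀ ω ∈ Cfsg.Omega F ⇑Q, IsPairStab Q (D 0) (D 1) ω →
          ω ∈ M'.comap (Cfsg.isometryGroup F ⇑Q).subtype := by
        intro ω hω hst
        exact Subgroup.mem_comap.2
          (hHM ⟨(mem_decompositionStabilizer_iff_pairStab D ω).2 hst, ⟨ω, hω, rfl⟩⟩)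
      have hg'W : ¬ IsPairStab Q (D 0) (D 1) g' := by
        intro hh
        exact hgH ⟨(mem_decompositionStabilizer_iff_pairStab D g').2 hh, ⟨g', hg'Ω, rfl⟩⟩
      have hfin := h.Omega_le_of_not_pairStab hQ (by omega) (by rw [hfrU]; exact hke) hP g'
        (Subgroup.mem_comap.2 hgM) hg'W
      apply le_antisymm hMΩ
      rintro _ ⟨ω, hω, rfl⟩
      exact Subgroup.mem_comap.1 (hfin hω)

/-- the same, for a functional quadratic form -/
theorem ts_pair_isMaximalIn [Fintype F] (Qf : (ι → F) → F)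
    (hQf : Cfsg.Geo.IsNondegenerateQuadraticForm Qf) (k : ℕ) (hk5 : 5 ≤ k) (hke : Even k)
    (D : Fin 2 → Submodule F (ι → F)) (hD : Cfsg.Geo.IsMDecomposition k D)
    (hts : ∀ i, Cfsg.Geo.IsTotallySingularQuad Qf (D i)) :
    Cfsg.Geo.IsMaximalIn (Cfsg.Geo.omegaGL Qf)
      (Cfsg.Geo.decompositionStabilizer D ⊓ Cfsg.Geo.omegaGL Qf) := by
  obtain ⟨Q, hQcoe⟩ : ∃ Q : QuadraticForm F (ι → F), ⇑Q = Qf := ⟨qfOfGeo Qf hQf, rfl⟩
  subst hQcoe
  exact ts_pair_isMaximalIn_aux Q (nondeg_of_geo Q hQf) k hk5 hke D hD hts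

end Cfsg.Agent.Helper45.TsPair
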