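import Mathlib
import Cfsg.Agent.Helper44.TensDefs
import Cfsg.Agent.Helper94.TensorLin

/-!
# Tensor product subgroups `GL_a ⊗ GL_b` on an arbitrary index type: vocabulary for S5980 (helper45)

`tconj e S k` (helper94) transports `k : GL (Fin a × Fin b) F` to `GL ι F`; `kronGL A B` (helper44)
is the Kronecker product.  An element with a conjugate in `tensorProductSubgroup a b e P` is a
`tconj e S (kronGL A B)`; ranks of `x - c`, characteristic polynomials and powers transfer.
-/

set_option autoImplicit false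

namespace Cfsg.Agent.Helper45.Tsp

open Matrix Cfsg.Geo Cfsg.Agent.Helper44.Tens Cfsg.Agent.Helper94
open scoped Kronecker

universe u

variable {F : Type u} [Field F] {ι : Type} [Fintype ι] [DecidableEq ι] {a b : ℕ}

theorem tconj_eq (e : ι ≃ Fin a × Fin b) (S : GL ι F) (k : GL (Fin a × Fin b) F) :
    tconj e S k = S * glReindex e.symm k * S⁻¹ := rfl

theorem coe_tconj (e : ι ≃ Fin a × Fin b) (S : GL ι F) (k : GL (Fin a × Fin b) F) :
    ((tconj e S k : GL ι F) : Matrix ι ι F)
      = (S : Matrix ι ι F) * Matrix.reindex e.symm e.symm (k : Matrix (Fin a × Fin b) (Fin a × Fin b) F)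
        * ((S⁻¹ : GL ι F) : Matrix ι ι F) := rfl

/-- every element of the tensor product subgroup is a transported Kronecker product -/
theorem exists_tconj_of_mem (e : ι ≃ Fin a × Fin b) (P : GL ι F) (y : GL ι F)
    (hy : y ∈ tensorProductSubgroup a b e P) :
    ∃ (A : GL (Fin a) F) (B : GL (Fin b) F), y = tconj e P (kronGL A B) := by
  unfold tensorProductSubgroup at hy
  obtain ⟨y', hy', rfl⟩ := Subgroup.mem_map.mp hy
  obtain ⟨k, hk, rfl⟩ := Subgroup.mem_map.mp hy'
  obtain ⟨A, B, hAB⟩ := hk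
  refine ⟨A, B, ?_⟩
  have : k = kronGL A B := Units.ext hAB
  rw [this]
  rfl

theorem tconj_kronGL_mem (e : ι ≃ Fin a × Fin b) (P : GL ι F) (A : GL (Fin a) F)
    (B : GL (Fin b) F) : tconj e P (kronGL A B) ∈ tensorProductSubgroup a b e P :=
  mem_tensorProductSubgroup_of_kron e P (kronGL_mem A B)

/-- an element with a conjugate in the tensor product subgroup is a transported Kronecker
product -/
theorem exists_tconj_of_conj_mem (e : ι ≃ Fin a × Fin b) (P : GL ι F) (x g : GL ι F)
    (h : g⁻¹ * x * g ∈ tensorProductSubgroup a b e P) :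
    ∃ (A : GL (Fin a) F) (B : GL (Fin b) F), x = tconj e (g * P) (kronGL A B) := by
  obtain ⟨A, B, hAB⟩ := exists_tconj_of_mem e P _ h
  refine ⟨A, B, ?_⟩
  have : x = g * (g⁻¹ * x * g) * g⁻¹ := by group
  rw [this, hAB, tconj_eq, tconj_eq]
  group

theorem coe_mul_inv' (S : GL ι F) :
    (S : Matrix ι ι F) * ((S⁻¹ : GL ι F) : Matrix ι ι F) = 1 := by
  rw [← Units.val_mul, mul_inv_cancel, Units.val_one]

theorem coe_inv_mul' (S : GL ι F) :
    ((S⁻¹ : GL ι F) : Matrix ι ι F) * (S : Matrix ι ι F) = 1 := by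
  rw [← Units.val_mul, inv_mul_cancel, Units.val_one]

theorem rank_conj' (S : GL ι F) (M : Matrix ι ι F) :
    ((S : Matrix ι ι F) * M * ((S⁻¹ : GL ι F) : Matrix ι ι F)).rank = M.rank := by
  have h1 : IsUnit (S : Matrix ι ι F).det := by
    have := (Matrix.isUnit_iff_isUnit_det (S : Matrix ι ι F)).mp ⟨S, rfl⟩
    exact this
  have h2 : IsUnit ((S⁻¹ : GL ι F) : Matrix ι ι F).det := by
    have := (Matrix.isUnit_iff_isUnit_det ((S⁻¹ : GL ι F) : Matrix ι ι F)).mp ⟨S⁻¹, rfl⟩
    exact this
  rw [Matrix.rank_mul_eq_left_of_isUnit_det _ _ h2, Matrix.rank_mul_eq_right_of_isUnit_det _ _ h1]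

/-- ranks of `x - c` transfer -/
theorem tconj_rank (e : ι ≃ Fin a × Fin b) (S : GL ι F) (k : GL (Fin a × Fin b) F) (c : F) :
    (((tconj e S k : GL ι F) : Matrix ι ι F) - c • (1 : Matrix ι ι F)).rank
      = ((k : Matrix (Fin a × Fin b) (Fin a × Fin b) F)
          - c • (1 : Matrix (Fin a × Fin b) (Fin a × Fin b) F)).rank := by
  set R : Matrix ι ι F := Matrix.reindex e.symm e.symm
    (k : Matrix (Fin a × Fin b) (Fin a × Fin b) F) with hR
  have h1 : ((tconj e S k : GL ι F) : Matrix ι ι F) - c • (1 : Matrix ι ι F)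
      = (S : Matrix ι ι F) * (R - c • (1 : Matrix ι ι F)) * ((S⁻¹ : GL ι F) : Matrix ι ι F) := by
    rw [coe_tconj, Matrix.mul_sub, Matrix.sub_mul, Matrix.mul_smul, Matrix.mul_one,
      Matrix.smul_mul, coe_mul_inv']
  have h2 : R - c • (1 : Matrix ι ι F)
      = Matrix.reindex e.symm e.symm ((k : Matrix (Fin a × Fin b) (Fin a × Fin b) F)
          - c • (1 : Matrix (Fin a × Fin b) (Fin a × Fin b) F)) := by
    rw [hR]
    ext i j
    simp [Matrix.one_apply]
  rw [h1, rank_conj', h2, Matrix.rank_reindex]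

/-- characteristic polynomials transfer -/
theorem tconj_charpoly (e : ι ≃ Fin a × Fin b) (S : GL ι F) (k : GL (Fin a × Fin b) F) :
    ((tconj e S k : GL ι F) : Matrix ι ι F).charpoly
      = (k : Matrix (Fin a × Fin b) (Fin a × Fin b) F).charpoly := by
  rw [coe_tconj, Matrix.coe_units_inv, Matrix.charpoly_units_conj, Matrix.charpoly_reindex]

theorem tconj_injective (e : ι ≃ Fin a × Fin b) (S : GL ι F) :
    Function.Injective (tconj (F := F) e S) := by
  intro k k' h
  rw [tconj_eq, tconj_eq] at h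
  have h1 : glReindex e.symm k = glReindex e.symm k' := by
    have := congrArg (fun y => S⁻¹ * y * S) h
    simpa [mul_assoc] using this
  exact (glReindex e.symm).injective h1

theorem orderOf_tconj (e : ι ≃ Fin a × Fin b) (S : GL ι F) (k : GL (Fin a × Fin b) F) :
    orderOf (tconj e S k) = orderOf k :=
  orderOf_injective (tconj e S) (tconj_injective e S) k

theorem kronGL_pow (A : GL (Fin a) F) (B : GL (Fin b) F) (n : ℕ) :
    (kronGL A B) ^ n = kronGL (A ^ n) (B ^ n) := by
  apply Units.ext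
  rw [Units.val_pow_eq_pow_val, coe_kronGL, coe_kronGL, kronecker_pow', Units.val_pow_eq_pow_val,
    Units.val_pow_eq_pow_val]

end Cfsg.Agent.Helper45.Tsp
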