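import Mathlib
import Cfsg.Agent.Helper85.EFSTD1
import Cfsg.Agent.Helper13.SpMax1

/-!
# (INV1) for S5980: the normal form of the involutions of `Sp_{2d}`, odd characteristic (helper45)

From helper85's `exists_conj_diag` (conjugate to `diag(E, E)`, `E` diagonal) by sorting the signs
with a permutation matrix `diag(P_σ, P_σ)`.
-/

set_option autoImplicit false
open scoped MatrixGroups

namespace Cfsg.Agent.Helper45.TspINV

open Matrix Cfsg.Agent.Helper13

universe u

variable {F : Type u} [Field F] {d : ℕ}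

/-- the permutation matrix of `Sum.map σ σ` -/
def permQ (F : Type u) [Field F] {d : ℕ} (σ : Equiv.Perm (Fin d)) :
    Matrix (Fin d ⊕ Fin d) (Fin d ⊕ Fin d) F :=
  (1 : Matrix (Fin d ⊕ Fin d) (Fin d ⊕ Fin d) F).submatrix (Sum.map σ σ) id

theorem permQ_apply (σ : Equiv.Perm (Fin d)) (i j : Fin d ⊕ Fin d) :
    permQ F σ i j = if Sum.map σ σ i = j then 1 else 0 := by
  simp [permQ, Matrix.one_apply]

theorem permQ_mulVec (σ : Equiv.Perm (Fin d)) (v : Fin d ⊕ Fin d → F) :
    permQ F σ *ᵥ v = v ∘ Sum.map σ σ := by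
  funext i
  simp [permQ, Matrix.mulVec, dotProduct, Matrix.one_apply]

theorem permQ_mul_symm (σ : Equiv.Perm (Fin d)) : permQ F σ * permQ F σ.symm = 1 := by
  apply Cfsg.Agent.Helper13.matrix_eq_of_mulVec
  intro v
  rw [← Matrix.mulVec_mulVec, permQ_mulVec, permQ_mulVec, Matrix.one_mulVec]
  funext i
  rcases i with i | i <;> simp

/-- the permutation matrix as an element of `GL` -/
def permGL (F : Type u) [Field F] {d : ℕ} (σ : Equiv.Perm (Fin d)) : GL (Fin d ⊕ Fin d) F :=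
  ⟨permQ F σ, permQ F σ.symm, permQ_mul_symm σ, by
    have := permQ_mul_symm (F := F) σ.symm
    rwa [Equiv.symm_symm] at this⟩

theorem coe_permGL (σ : Equiv.Perm (Fin d)) :
    ((permGL F σ : GL (Fin d ⊕ Fin d) F) : Matrix (Fin d ⊕ Fin d) (Fin d ⊕ Fin d) F)
      = permQ F σ := rfl

theorem permGL_mem_spGL (σ : Equiv.Perm (Fin d)) : permGL F σ ∈ Cfsg.spGL d F := by
  rw [mem_spGL_iff]
  intro u v
  rw [coe_permGL, permQ_mulVec, permQ_mulVec, sympForm_eq_sum, sympForm_eq_sum]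
  exact Equiv.sum_comp σ
    (fun i => u (Sum.inr i) * v (Sum.inl i) - u (Sum.inl i) * v (Sum.inr i))

/-- sorting: a sign vector is `δ_t ∘ σ` for a permutation `σ` -/
theorem exists_sort (ε : Fin d → F) (hε : ∀ i, ε i = 1 ∨ ε i = -1) (h2 : (2 : F) ≠ 0) :
    ∃ (t : ℕ) (σ : Equiv.Perm (Fin d)), t ≤ d ∧
      ∀ i, ε i = if ((σ i : Fin d) : ℕ) < t then (1 : F) else -1 := by
  classical
  set t := Fintype.card {i : Fin d // ε i = 1} with ht
  have htd : t ≤ d := by
    have := Fintype.card_subtype_le (fun i : Fin d => ε i = 1)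
    rwa [Fintype.card_fin] at this
  have hcard : Fintype.card {i : Fin d // ε i = 1} = Fintype.card {j : Fin d // (j : ℕ) < t} := by
    rw [Fintype.card_subtype (fun j : Fin d => (j : ℕ) < t), Fin.card_filter_val_lt,
      min_eq_right htd]
  set e0 : {i : Fin d // ε i = 1} ≃ {j : Fin d // (j : ℕ) < t} := Fintype.equivOfCardEq hcard
  refine ⟨t, e0.extendSubtype, htd, ?_⟩
  intro i
  have h11 : (1 : F) ≠ -1 := by
    intro h
    apply h2
    have : (2 : F) = 1 + 1 := by norm_num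
    rw [this]
    nth_rewrite 2 [h]
    exact add_neg_cancel 1
  by_cases hi : ε i = 1
  · rw [if_pos (e0.extendSubtype_mem i hi), hi]
  · rw [if_neg (e0.extendSubtype_not_mem i hi)]
    exact (hε i).resolve_left hi

/-- (INV1) normal form of the involutions of `Sp_{2d}`, odd characteristic -/
theorem exists_conj_std (h2 : (2 : F) ≠ 0) (x : GL (Fin d ⊕ Fin d) F) (hx : x ∈ Cfsg.spGL d F)
    (hxx : x * x = 1) :
    ∃ g ∈ Cfsg.spGL d F, ∃ t : ℕ, t ≤ d ∧
      ((g⁻¹ * x * g : GL (Fin d ⊕ Fin d) F) : Matrix (Fin d ⊕ Fin d) (Fin d ⊕ Fin d) F)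
        = Matrix.diagonal (fun i => if Sum.elim (fun j : Fin d => (j : ℕ))
            (fun j : Fin d => (j : ℕ)) i < t then (1 : F) else -1) := by
  classical
  have hx2 : (x : Matrix (Fin d ⊕ Fin d) (Fin d ⊕ Fin d) F)
      * (x : Matrix (Fin d ⊕ Fin d) (Fin d ⊕ Fin d) F) = 1 := by
    rw [← Units.val_mul, hxx, Units.val_one]
  obtain ⟨g, hg, ε, hgε⟩ := Cfsg.Agent.Helper85.EF.exists_conj_diag h2 hx hx2
  -- the conjugate as a diagonal matrix
  have hD : ((g⁻¹ * x * g : GL (Fin d ⊕ Fin d) F) : Matrix (Fin d ⊕ Fin d) (Fin d ⊕ Fin d) F)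
      = Matrix.diagonal (Sum.elim ε ε) := by
    rw [Units.val_mul, Units.val_mul, hgε, Matrix.fromBlocks_diagonal]
  -- the signs
  have hsq : (g⁻¹ * x * g) * (g⁻¹ * x * g) = 1 := by
    have : (g⁻¹ * x * g) * (g⁻¹ * x * g) = g⁻¹ * (x * x) * g := by group
    rw [this, hxx]; group
  have hε : ∀ i, ε i = 1 ∨ ε i = -1 := by
    intro i
    have h1 := congrArg (fun z : GL (Fin d ⊕ Fin d) F =>
      ((z : GL (Fin d ⊕ Fin d) F) : Matrix (Fin d ⊕ Fin d) (Fin d ⊕ Fin d) F)) hsq
    simp only [Units.val_mul, Units.val_one] at h1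
    rw [← Units.val_mul, ← Units.val_mul, hD, Matrix.diagonal_mul_diagonal] at h1
    have h3 := congrFun (congrFun h1 (Sum.inl i)) (Sum.inl i)
    rw [Matrix.diagonal_apply_eq, Matrix.one_apply_eq, Sum.elim_inl] at h3
    have : (ε i - 1) * (ε i + 1) = 0 := by linear_combination h3
    rcases mul_eq_zero.mp this with h | h
    · left; exact sub_eq_zero.mp h
    · right; exact eq_neg_of_add_eq_zero_left h
  obtain ⟨t, σ, htd, hσ⟩ := exists_sort ε hε h2
  refine ⟨g * permGL F σ, (Cfsg.spGL d F).mul_mem hg (permGL_mem_spGL σ), t, htd, ?_⟩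
  have h4 : (g * permGL F σ)⁻¹ * x * (g * permGL F σ)
      = (permGL F σ)⁻¹ * (g⁻¹ * x * g) * permGL F σ := by group
  rw [h4]
  -- `D_ε Q = Q D_δ`
  set δ' : Fin d ⊕ Fin d → F := fun i => if Sum.elim (fun j : Fin d => (j : ℕ))
            (fun j : Fin d => (j : ℕ)) i < t then (1 : F) else -1 with hδ'
  have h5 : Matrix.diagonal (Sum.elim ε ε) * permQ F σ = permQ F σ * Matrix.diagonal δ' := by
    ext i j
    rw [Matrix.diagonal_mul, Matrix.mul_diagonal, permQ_apply]
    split_ifs with hij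
    · rw [mul_one, one_mul, ← hij, hδ']
      rcases i with i | i
      · simp only [Sum.elim_inl, Sum.map_inl]; exact hσ i
      · simp only [Sum.elim_inr, Sum.map_inr]; exact hσ i
    · rw [mul_zero, zero_mul]
  rw [Units.val_mul, Units.val_mul, hD, coe_permGL, Matrix.mul_assoc, h5, ← Matrix.mul_assoc,
    ← coe_permGL, ← Units.val_mul, inv_mul_cancel, Units.val_one, Matrix.one_mul]

end Cfsg.Agent.Helper45.TspINV
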