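import Mathlib
import Cfsg.Agent.Helper45.TspDefs
import Cfsg.Agent.Helper44.TensT
import Cfsg.Agent.Helper12.TensT1
import Cfsg.Agent.Helper12.TensT2
import Cfsg.Agent.Helper99.SpElt
import Cfsg.Agent.Helper43.SpOrthA
import Cfsg.Agent.Helper13.SpMax1
import Cfsg.Agent.Helper13.SpDec4
import Cfsg.Agent.Helper10.TspHPI
import Cfsg.Agent.Helper10.TspKS
import Cfsg.Agent.Helper10.TspTVR
import Cfsg.Agent.Helper12.TspAR
import Cfsg.Agent.Helper12.TspJ2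
import Cfsg.Agent.Helper12.TspKC
import Cfsg.Agent.Helper12.TspKTop
import Cfsg.Agent.Helper55.TspCJ2
import Cfsg.Agent.Helper45.TspINV1
import Cfsg.Agent.Helper63.TspKEf
import Cfsg.Agent.Helper81.TspCP
import Cfsg.Agent.Helper81.TspKD
import Cfsg.Agent.Helper81.TspSD
import Cfsg.Agent.Helper87.TspMEM
import Cfsg.Agent.Helper87.TspOI

set_option autoImplicit false
open scoped MatrixGroups

/-!
# S5980: the pieces of WANTED #8070, collected under one namespace (helper45).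
Proved by helper10, helper12, helper55, helper63, helper81, helper87 ((INV1): helper45 from
helper85's `exists_conj_diag`).
-/

namespace Cfsg.Agent.Helper45.TspSkel

open Matrix Polynomial Cfsg.Geo
open Cfsg.Agent.Helper44.Tens Cfsg.Agent.Helper94 Cfsg.Agent.Helper45.Tsp
open Cfsg.Agent.Helper99.SpStruct Cfsg.Agent.Helper13
open scoped Kronecker

universe u

variable {F : Type u} [Field F] {a b d : ℕ}

/-- the standard involution of `Sp_{2d}`: `+1` on the first `t` hyperbolic planes, `-1` on the others -/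
def dstd (F : Type u) [Field F] (d t : ℕ) : Matrix (Fin d ⊕ Fin d) (Fin d ⊕ Fin d) F :=
  Matrix.diagonal (fun i => if Sum.elim (fun j : Fin d => (j : ℕ)) (fun j : Fin d => (j : ℕ)) i < t
    then (1 : F) else -1)

/-! ## WANTED pieces -/

/-- (KTop) mirror of helper44's (T) `scalar_of_rank_kron_lt` -/
theorem scalar_right_of_rank_kron_lt (A : GL (Fin a) F) (B : GL (Fin b) F) (c : F)
    (h : ((A : Matrix (Fin a) (Fin a) F) ⊗ₖ (B : Matrix (Fin b) (Fin b) F)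
      - c • (1 : Matrix (Fin a × Fin b) (Fin a × Fin b) F)).rank < a) :
    ∃ β : F, (B : Matrix (Fin b) (Fin b) F) = β • (1 : Matrix (Fin b) (Fin b) F) := by
  exact Cfsg.Agent.Helper12.Tsp.scalar_right_of_rank_kron_lt A B c h

/-- (KS) a Kronecker product equal to `1` has scalar factors -/
theorem scalar_of_kronecker_eq_one (ha : 0 < a) (hb : 0 < b) (A : Matrix (Fin a) (Fin a) F)
    (B : Matrix (Fin b) (Fin b) F)
    (h : A ⊗ₖ B = (1 : Matrix (Fin a × Fin b) (Fin a × Fin b) F)) :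
    ∃ s t : F, A = s • (1 : Matrix (Fin a) (Fin a) F) ∧ B = t • (1 : Matrix (Fin b) (Fin b) F) ∧
      s * t = 1 := by
  exact Cfsg.Agent.Helper10.Tsp.scalar_of_kronecker_eq_one ha hb A B h

/-- (KC) mirror of helper12's (T2) `charpoly_one_kronecker` -/
theorem charpoly_kronecker_one (M : Matrix (Fin a) (Fin a) F) :
    (M ⊗ₖ (1 : Matrix (Fin b) (Fin b) F)).charpoly = M.charpoly ^ b := by
  exact Cfsg.Agent.Helper12.Tsp.charpoly_kronecker_one M

/-- (CP) `G (X - 1)^e` with `G` squarefree, nonconstant, `G(1) ≠ 0` is not a proper power -/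
theorem mul_pow_ne_pow_of_squarefree {G : F[X]} (hG : Squarefree G) (hG1 : G.eval 1 ≠ 0)
    (hGd : 0 < G.natDegree) (e k : ℕ) (hk : 2 ≤ k) (g : F[X]) : G * (X - 1) ^ e ≠ g ^ k := by
  exact Cfsg.Agent.Helper81.Tsp.mul_pow_ne_pow_of_squarefree hG hG1 hGd e k hk g

/-- (KD) over an algebraically closed field a matrix with `A ^ r` a nonzero scalar, `r ≠ 0` in the
field, is diagonalizable -/
theorem exists_diagonal_of_pow_eq_smul {K : Type*} [Field K] [IsAlgClosed K]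
    (A : Matrix (Fin a) (Fin a) K) (r : ℕ) (hr : (r : K) ≠ 0) {s : K} (hs : s ≠ 0)
    (hA : A ^ r = s • (1 : Matrix (Fin a) (Fin a) K)) :
    ∃ (P : GL (Fin a) K) (α : Fin a → K), A = (P : Matrix (Fin a) (Fin a) K) * Matrix.diagonal α
      * ((P⁻¹ : GL (Fin a) K) : Matrix (Fin a) (Fin a) K) := by
  exact Cfsg.Agent.Helper81.Tsp.exists_diagonal_of_pow_eq_smul A r hr hs hA

/-- (KE) the eigenvalue bound: if all eigenvalues `≠ 1` of `A ⊗ B` are simple and `A`, `B` are not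
scalar, the eigenvalue `1` has multiplicity at most `min a b` -/
theorem fix_le_of_kronecker (A : Matrix (Fin a) (Fin a) F) (B : Matrix (Fin b) (Fin b) F) (r : ℕ)
    (hr : (r : F) ≠ 0) {s t : F} (hs : s ≠ 0) (ht : t ≠ 0)
    (hA : A ^ r = s • (1 : Matrix (Fin a) (Fin a) F))
    (hB : B ^ r = t • (1 : Matrix (Fin b) (Fin b) F))
    (hAns : ∀ α : F, A ≠ α • (1 : Matrix (Fin a) (Fin a) F))
    (hBns : ∀ β : F, B ≠ β • (1 : Matrix (Fin b) (Fin b) F))
    {G : F[X]} (hG : G.Separable) (hG1 : G.eval 1 ≠ 0) (e : ℕ)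
    (hch : (A ⊗ₖ B).charpoly = G * (X - 1) ^ e) : e ≤ a ∧ e ≤ b := by
  exact Cfsg.Agent.Helper63.Tsp.fix_le_of_kronecker A B r hr hs ht hA hB hAns hBns hG hG1 e hch

/-- (SD) for `i` odd an irreducible factor of `X ^ r - 1` other than `X - 1` is not self-reciprocal -/
theorem star_ne_self_of_odd [Fintype F] {r : ℕ} (hr : r.Prime) (hr2 : r ≠ 2)
    (hrq : ¬ r ∣ Fintype.card F) {P : F[X]} (hPm : P.Monic) (hPi : Irreducible P)
    (hPd : P ∣ (X ^ r - 1 : F[X])) (hP1 : P.eval 1 ≠ 0)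
    (hodd : Odd (orderOf ((Fintype.card F : ℕ) : ZMod r))) :
    Cfsg.Agent.Helper43.SpPrime.star P ≠ P := by
  exact Cfsg.Agent.Helper81.Tsp.star_ne_self_of_odd hr hr2 hrq hPm hPi hPd hP1 hodd

/-- (HPI) `-1` on a hyperbolic plane -/
theorem exists_plane_invol (h2 : (2 : F) ≠ 0) (hd : 2 ≤ d) :
    ∃ x : GL (Fin d ⊕ Fin d) F, x ∈ Cfsg.spGL d F ∧ x * x = 1 ∧
      ((x : Matrix (Fin d ⊕ Fin d) (Fin d ⊕ Fin d) F) - 1).rank = 2 := by
  exact Cfsg.Agent.Helper10.Tsp.exists_plane_invol h2 hd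

/-- (TVR) a symplectic transvection has `rank (t - 1) = 1` -/
theorem rank_tvGL_sub_one {v : Fin d ⊕ Fin d → F} (hv : v ≠ 0) :
    (((tvGL v (1 : F) : GL (Fin d ⊕ Fin d) F) : Matrix (Fin d ⊕ Fin d) (Fin d ⊕ Fin d) F)
      - 1).rank = 1 := by
  exact Cfsg.Agent.Helper10.Tsp.rank_tvGL_sub_one hv

/-- (INV1) normal form of the involutions of `Sp_{2d}`, odd characteristic -/
theorem exists_conj_dstd (h2 : (2 : F) ≠ 0) (x : GL (Fin d ⊕ Fin d) F) (hx : x ∈ Cfsg.spGL d F)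
    (hxx : x * x = 1) :
    ∃ g ∈ Cfsg.spGL d F, ∃ t : ℕ, t ≤ d ∧
      ((g⁻¹ * x * g : GL (Fin d ⊕ Fin d) F) : Matrix (Fin d ⊕ Fin d) (Fin d ⊕ Fin d) F)
        = dstd F d t := by
  exact Cfsg.Agent.Helper45.TspINV.exists_conj_std h2 x hx hxx

/-- (CJ2) the elements of `Sp_{2d}(q)`, `q` odd, with square `-1` form one conjugacy class -/
theorem conj_of_sq_neg_one [Fintype F] (h2 : (2 : F) ≠ 0) (x y : GL (Fin d ⊕ Fin d) F)
    (hx : x ∈ Cfsg.spGL d F) (hy : y ∈ Cfsg.spGL d F)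
    (hxx : (x : Matrix (Fin d ⊕ Fin d) (Fin d ⊕ Fin d) F)
      * (x : Matrix (Fin d ⊕ Fin d) (Fin d ⊕ Fin d) F) = -1)
    (hyy : (y : Matrix (Fin d ⊕ Fin d) (Fin d ⊕ Fin d) F)
      * (y : Matrix (Fin d ⊕ Fin d) (Fin d ⊕ Fin d) F) = -1) :
    ∃ g ∈ Cfsg.spGL d F, g⁻¹ * x * g = y := by
  exact Cfsg.Agent.Helper55.Tsp.conj_of_sq_neg_one h2 x y hx hy hxx hyy

/-- (OI) orthogonal involutions with a `(-1)`-eigenspace of any dimension -/
theorem exists_orth_invol (h2 : (2 : F) ≠ 0) {f₂ : (Fin b → F) → (Fin b → F) → F}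
    (hf₂ : Cfsg.Geo.IsSymmetricForm f₂) (t : ℕ) (ht : t ≤ b) :
    ∃ B : GL (Fin b) F,
      (∀ u v : Fin b → F, f₂ ((B : Matrix (Fin b) (Fin b) F) *ᵥ u)
        ((B : Matrix (Fin b) (Fin b) F) *ᵥ v) = f₂ u v) ∧ B * B = 1 ∧
      ((B : Matrix (Fin b) (Fin b) F) + 1).rank = t := by
  exact Cfsg.Agent.Helper87.Tsp.exists_orth_invol h2 hf₂ t ht

/-- (MEM) a Kronecker product of isometries of `f₁` and `f₂` is symplectic -/
theorem tconj_mem_spGL {f₁ : (Fin a → F) → (Fin a → F) → F} {f₂ : (Fin b → F) → (Fin b → F) → F}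
    (hf₁ : Cfsg.Geo.IsSymplecticForm f₁) (hf₂ : Cfsg.Geo.IsSymmetricForm f₂)
    (e : (Fin d ⊕ Fin d) ≃ Fin a × Fin b) (P : GL (Fin d ⊕ Fin d) F)
    (hS : Cfsg.Geo.IsTensorFormStructure id (Cfsg.sympForm d F) f₁ f₂ e P)
    (A : GL (Fin a) F) (B : GL (Fin b) F)
    (hA : ∀ u v : Fin a → F, f₁ ((A : Matrix (Fin a) (Fin a) F) *ᵥ u)
      ((A : Matrix (Fin a) (Fin a) F) *ᵥ v) = f₁ u v)
    (hB : ∀ u v : Fin b → F, f₂ ((B : Matrix (Fin b) (Fin b) F) *ᵥ u)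
      ((B : Matrix (Fin b) (Fin b) F) *ᵥ v) = f₂ u v) :
    tconj e P (kronGL A B) ∈ Cfsg.spGL d F := by
  exact Cfsg.Agent.Helper87.Tsp.tconj_mem_spGL hf₁ hf₂ e P hS A B hA hB

/-- (J2) the rotation `!![0, 1; -1, 0]` preserves every alternating form on `F²` -/
theorem rot_preserves {f₁ : (Fin 2 → F) → (Fin 2 → F) → F} (hf₁ : Cfsg.Geo.IsSymplecticForm f₁) :
    ∃ A : GL (Fin 2) F, (A : Matrix (Fin 2) (Fin 2) F) * (A : Matrix (Fin 2) (Fin 2) F) = -1 ∧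
      ∀ u v : Fin 2 → F, f₁ ((A : Matrix (Fin 2) (Fin 2) F) *ᵥ u)
        ((A : Matrix (Fin 2) (Fin 2) F) *ᵥ v) = f₁ u v := by
  exact Cfsg.Agent.Helper12.Tsp.rot_preserves hf₁

/-- (AR1) a prime `r ≠ p` dividing `|Sp_{2d}(q)|` has block size at most `2d` -/
theorem blockSize_le_of_dvd_card_sp [Fintype F] {r : ℕ} (hr : r.Prime)
    (hrq : ¬ r ∣ Fintype.card F) (hdvd : r ∣ Nat.card ↥(Cfsg.spGL d F)) :
    blockSize (orderOf ((Fintype.card F : ℕ) : ZMod r)) ≤ 2 * d := by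
  exact Cfsg.Agent.Helper12.Tsp.blockSize_le_of_dvd_card_sp hr hrq hdvd

/-- (AR2) a prime `r ≠ p` dividing `|GL_a(q)|` has `i ≤ a` -/
theorem orderOf_le_of_dvd_card_gl [Fintype F] {r : ℕ} (hr : r.Prime)
    (hrq : ¬ r ∣ Fintype.card F) (hdvd : r ∣ Nat.card (GL (Fin a) F)) :
    orderOf ((Fintype.card F : ℕ) : ZMod r) ≤ a := by
  exact Cfsg.Agent.Helper12.Tsp.orderOf_le_of_dvd_card_gl hr hrq hdvd

end Cfsg.Agent.Helper45.TspSkel
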