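import Mathlib
import Cfsg.Agent.Helper45.TspPieces

set_option autoImplicit false
open scoped MatrixGroups

namespace Cfsg.Agent.Helper45.TspAsm

open Matrix Polynomial Cfsg.Geo
open Cfsg.Agent.Helper44.Tens Cfsg.Agent.Helper94 Cfsg.Agent.Helper45.Tsp
open Cfsg.Agent.Helper99.SpStruct Cfsg.Agent.Helper13
open Cfsg.Agent.Helper45.TspSkel
open scoped Kronecker

universe u

variable {F : Type u} [Field F] {a b d : ℕ}

theorem rank_smul_one' {n : Type*} [Fintype n] [DecidableEq n] (c : F) (hc : c ≠ 0) :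
    (c • (1 : Matrix n n F)).rank = Fintype.card n := by
  have h : IsUnit (c • (1 : Matrix n n F)).det := by
    rw [Matrix.det_smul, Matrix.det_one, mul_one]
    exact (pow_ne_zero _ hc).isUnit
  rw [Matrix.rank_of_isUnit _ ((Matrix.isUnit_iff_isUnit_det _).mpr h)]

/-- (D1) an element with `0 < rank (x - 1) < min a b` has no conjugate in the tensor product
subgroup -/
theorem no_conj_of_small_rank {ι : Type} [Fintype ι] [DecidableEq ι] (ha : 0 < a) (hb : 0 < b)
    (e : ι ≃ Fin a × Fin b) (P x g : GL ι F)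
    (h : g⁻¹ * x * g ∈ tensorProductSubgroup a b e P)
    (h0 : 0 < ((x : Matrix ι ι F) - 1).rank) (h1 : ((x : Matrix ι ι F) - 1).rank < a)
    (h2 : ((x : Matrix ι ι F) - 1).rank < b) : False := by
  obtain ⟨A, B, hAB⟩ := exists_tconj_of_conj_mem e P x g h
  have hr : ((x : Matrix ι ι F) - 1).rank
      = ((A : Matrix (Fin a) (Fin a) F) ⊗ₖ (B : Matrix (Fin b) (Fin b) F)
          - (1 : F) • (1 : Matrix (Fin a × Fin b) (Fin a × Fin b) F)).rank := by
    have := tconj_rank e (g * P) (kronGL A B) (1 : F)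
    rw [one_smul, coe_kronGL] at this
    rw [hAB, this, one_smul]
  rw [hr] at h0 h1 h2
  obtain ⟨α, hα⟩ := scalar_of_rank_kron_lt A B 1 h2
  obtain ⟨β, hβ⟩ := scalar_right_of_rank_kron_lt A B 1 h1
  have hk : (A : Matrix (Fin a) (Fin a) F) ⊗ₖ (B : Matrix (Fin b) (Fin b) F)
      - (1 : F) • (1 : Matrix (Fin a × Fin b) (Fin a × Fin b) F)
      = (α * β - 1) • (1 : Matrix (Fin a × Fin b) (Fin a × Fin b) F) := by
    rw [hα, hβ, Matrix.smul_kronecker, Matrix.kronecker_smul, Matrix.one_kronecker_one, smul_smul,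
      sub_smul]
  rw [hk] at h0 h1
  by_cases hz : α * β - 1 = 0
  · rw [hz, zero_smul, Matrix.rank_zero] at h0
    exact lt_irrefl _ h0
  · rw [rank_smul_one' _ hz, Fintype.card_prod, Fintype.card_fin, Fintype.card_fin] at h1
    have : a * 1 ≤ a * b := Nat.mul_le_mul_left a hb
    omega

end Cfsg.Agent.Helper45.TspAsm
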