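import Mathlib
import Cfsg.Agent.Helper45.TspAsmA

set_option autoImplicit false
open scoped MatrixGroups

namespace Cfsg.Agent.Helper45.TspAsm

open Matrix Polynomial Cfsg.Geo
open Cfsg.Agent.Helper44.Tens Cfsg.Agent.Helper94 Cfsg.Agent.Helper45.Tsp
open Cfsg.Agent.Helper99.SpStruct Cfsg.Agent.Helper13
open Cfsg.Agent.Helper45.TspSkel
open scoped Kronecker

universe u

variable {F : Type u} [Field F] {a b d : ℕ}

/-- a scalar matrix in `Sp` is `± 1` -/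
theorem sq_eq_one_of_scalar_mem (hd : 0 < d) (y : GL (Fin d ⊕ Fin d) F) (hy : y ∈ Cfsg.spGL d F)
    (z : F) (hz : (y : Matrix (Fin d ⊕ Fin d) (Fin d ⊕ Fin d) F)
      = z • (1 : Matrix (Fin d ⊕ Fin d) (Fin d ⊕ Fin d) F)) : z * z = 1 := by
  classical
  have h := (mem_spGL_iff y).mp hy (Pi.single (Sum.inr ⟨0, hd⟩) 1) (Pi.single (Sum.inl ⟨0, hd⟩) 1)
  rw [hz, Matrix.smul_mulVec, Matrix.one_mulVec, Matrix.smul_mulVec, Matrix.one_mulVec,
    sympForm_smul_left, sympForm_smul_right] at h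
  have h1 : Cfsg.sympForm d F (Pi.single (Sum.inr ⟨0, hd⟩) 1) (Pi.single (Sum.inl ⟨0, hd⟩) 1)
      = 1 := by
    rw [sympForm_eq_sum]
    simp [Pi.single_apply]
  rw [h1, mul_one] at h
  exact h

/-- an element with `0 < rank (x - c) < n` is not scalar -/
theorem not_scalar_of_rank {n : Type*} [Fintype n] [DecidableEq n] (x : Matrix n n F) (c : F)
    (h0 : 0 < (x - c • (1 : Matrix n n F)).rank)
    (h1 : (x - c • (1 : Matrix n n F)).rank < Fintype.card n) (z : F) :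
    x ≠ z • (1 : Matrix n n F) := by
  intro h
  have h2 : x - c • (1 : Matrix n n F) = (z - c) • (1 : Matrix n n F) := by
    rw [h, sub_smul]
  rw [h2] at h0 h1
  by_cases hz : z - c = 0
  · rw [hz, zero_smul, Matrix.rank_zero] at h0
    exact lt_irrefl _ h0
  · rw [rank_smul_one' _ hz] at h1
    exact lt_irrefl _ h1

theorem tvGL_pow' (v : Fin d ⊕ Fin d → F) (c : F) (n : ℕ) :
    (tvGL v c) ^ n = tvGL v (n * c) := by
  induction n with
  | zero =>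
    rw [pow_zero, Nat.cast_zero, zero_mul]
    apply Units.ext
    rw [tvGL_coe, sympTransvection_zero, Units.val_one]
  | succ n ih =>
    rw [pow_succ, ih, tvGL_mul, Nat.cast_succ, add_mul, one_mul]

/-- the case `r = p`: a transvection has no conjugate in the tensor product subgroup -/
theorem case_p {p : ℕ} [CharP F p] (hd : 2 ≤ d) (ha2 : 2 ≤ a) (hb : 3 ≤ b)
    (e : (Fin d ⊕ Fin d) ≃ Fin a × Fin b) (P : GL (Fin d ⊕ Fin d) F)
    (H : ∀ x ∈ Cfsg.spGL d F, (∃ z : F, ((x ^ p : GL (Fin d ⊕ Fin d) F) :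
        Matrix (Fin d ⊕ Fin d) (Fin d ⊕ Fin d) F)
          = z • (1 : Matrix (Fin d ⊕ Fin d) (Fin d ⊕ Fin d) F)) →
      (∀ z : F, (x : Matrix (Fin d ⊕ Fin d) (Fin d ⊕ Fin d) F)
        ≠ z • (1 : Matrix (Fin d ⊕ Fin d) (Fin d ⊕ Fin d) F)) →
      ∃ g ∈ Cfsg.spGL d F, g⁻¹ * x * g ∈ Cfsg.Geo.tensorProductSubgroup a b e P) : False := by
  classical
  set v : Fin d ⊕ Fin d → F := Pi.single (Sum.inl ⟨0, by omega⟩) 1 with hv
  have hv0 : v ≠ 0 := by
    intro h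
    have := congrFun h (Sum.inl ⟨0, by omega⟩)
    simp [hv] at this
  have hrk := rank_tvGL_sub_one (d := d) hv0
  have hone : ((tvGL v (1 : F) : GL (Fin d ⊕ Fin d) F) :
      Matrix (Fin d ⊕ Fin d) (Fin d ⊕ Fin d) F) - (1 : F) • 1
      = ((tvGL v (1 : F) : GL (Fin d ⊕ Fin d) F) :
      Matrix (Fin d ⊕ Fin d) (Fin d ⊕ Fin d) F) - 1 := by rw [one_smul]
  obtain ⟨g, -, hg⟩ := H (tvGL v 1) (tvGL_mem_spGL v 1) ⟨1, by
      rw [tvGL_pow', CharP.cast_eq_zero, zero_mul, one_smul, tvGL_coe, sympTransvection_zero]⟩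
    (fun z => not_scalar_of_rank _ 1 (by rw [hone, hrk]; exact Nat.one_pos)
      (by rw [hone, hrk, Fintype.card_sum, Fintype.card_fin]; omega) z)
  exact no_conj_of_small_rank (by omega) (by omega) e P _ g hg (by rw [hrk]; exact Nat.one_pos)
    (by rw [hrk]; omega) (by rw [hrk]; omega)

/-- the case `r = 2`, `a ≥ 4` -/
theorem case_two (h2 : (2 : F) ≠ 0) (hd : 2 ≤ d) (ha4 : 4 ≤ a) (hb : 3 ≤ b)
    (e : (Fin d ⊕ Fin d) ≃ Fin a × Fin b) (P : GL (Fin d ⊕ Fin d) F)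
    (H : ∀ x ∈ Cfsg.spGL d F, (∃ z : F, ((x ^ 2 : GL (Fin d ⊕ Fin d) F) :
        Matrix (Fin d ⊕ Fin d) (Fin d ⊕ Fin d) F)
          = z • (1 : Matrix (Fin d ⊕ Fin d) (Fin d ⊕ Fin d) F)) →
      (∀ z : F, (x : Matrix (Fin d ⊕ Fin d) (Fin d ⊕ Fin d) F)
        ≠ z • (1 : Matrix (Fin d ⊕ Fin d) (Fin d ⊕ Fin d) F)) →
      ∃ g ∈ Cfsg.spGL d F, g⁻¹ * x * g ∈ Cfsg.Geo.tensorProductSubgroup a b e P) : False := by
  classical
  obtain ⟨x, hx, hxx, hrk⟩ := exists_plane_invol (F := F) h2 hd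
  have hone : (x : Matrix (Fin d ⊕ Fin d) (Fin d ⊕ Fin d) F) - (1 : F) • 1
      = (x : Matrix (Fin d ⊕ Fin d) (Fin d ⊕ Fin d) F) - 1 := by rw [one_smul]
  obtain ⟨g, -, hg⟩ := H x hx ⟨1, by rw [pow_two, hxx, Units.val_one, one_smul]⟩
    (fun z => not_scalar_of_rank _ 1 (by rw [hone, hrk]; norm_num)
      (by rw [hone, hrk, Fintype.card_sum, Fintype.card_fin]; omega) z)
  exact no_conj_of_small_rank (by omega) (by omega) e P _ g hg (by rw [hrk]; norm_num)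
    (by rw [hrk]; omega) (by rw [hrk]; omega)

end Cfsg.Agent.Helper45.TspAsm
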