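import Mathlib
import Cfsg.Agent.Helper45.TspAsmB

set_option autoImplicit false
open scoped MatrixGroups

namespace Cfsg.Agent.Helper45.TspAsm

open Matrix Polynomial Cfsg.Geo
open Cfsg.Agent.Helper44.Tens Cfsg.Agent.Helper94 Cfsg.Agent.Helper45.Tsp
open Cfsg.Agent.Helper99.SpStruct Cfsg.Agent.Helper13
open Cfsg.Agent.Helper45.TspSkel
open scoped Kronecker

universe u

variable {F : Type u} [Field F] {a b d : ℕ}

theorem rank_dstd_add_one (h2 : (2 : F) ≠ 0) {t : ℕ} (ht : t ≤ d) :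
    (dstd F d t + 1).rank = 2 * t := by
  classical
  have h1 : dstd F d t + 1 = Matrix.diagonal (fun i : Fin d ⊕ Fin d =>
      if Sum.elim (fun j : Fin d => (j : ℕ)) (fun j : Fin d => (j : ℕ)) i < t then (2 : F) else 0) := by
    unfold dstd
    rw [← Matrix.diagonal_one, Matrix.diagonal_add]
    congr 1
    funext i
    split_ifs
    · norm_num
    · simp
  rw [h1, Matrix.rank_diagonal]
  have h3 : ∀ i : Fin d ⊕ Fin d, ((if Sum.elim (fun j : Fin d => (j : ℕ)) (fun j : Fin d => (j : ℕ)) i < t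
      then (2 : F) else 0) ≠ 0) ↔ Sum.elim (fun j : Fin d => (j : ℕ)) (fun j : Fin d => (j : ℕ)) i < t := by
    intro i
    split_ifs with h
    · simp [h, h2]
    · simp [h]
  rw [Fintype.card_congr (Equiv.subtypeEquivRight h3), Fintype.card_congr Equiv.subtypeSum,
    Fintype.card_sum]
  have h4 : Nat.card {j : Fin d // (j : ℕ) < t} = t := by
    rw [Nat.card_eq_fintype_card, Fintype.card_subtype, Fin.card_filter_val_lt, min_eq_right ht]
  rw [← Nat.card_eq_fintype_card, ← Nat.card_eq_fintype_card]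
  simp only [Sum.elim_inl, Sum.elim_inr]
  rw [h4, two_mul]

theorem rank_conj_add_one (g x : GL (Fin d ⊕ Fin d) F) :
    (((g⁻¹ * x * g : GL (Fin d ⊕ Fin d) F) : Matrix (Fin d ⊕ Fin d) (Fin d ⊕ Fin d) F) + 1).rank
      = ((x : Matrix (Fin d ⊕ Fin d) (Fin d ⊕ Fin d) F) + 1).rank := by
  have h1 : ((g⁻¹ * x * g : GL (Fin d ⊕ Fin d) F) : Matrix (Fin d ⊕ Fin d) (Fin d ⊕ Fin d) F) + 1
      = ((g⁻¹ : GL (Fin d ⊕ Fin d) F) : Matrix (Fin d ⊕ Fin d) (Fin d ⊕ Fin d) F)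
        * ((x : Matrix (Fin d ⊕ Fin d) (Fin d ⊕ Fin d) F) + 1)
        * (((g⁻¹)⁻¹ : GL (Fin d ⊕ Fin d) F) : Matrix (Fin d ⊕ Fin d) (Fin d ⊕ Fin d) F) := by
    rw [inv_inv, Matrix.mul_add, Matrix.add_mul, Matrix.mul_one, coe_inv_mul', Units.val_mul,
      Units.val_mul]
  rw [h1, rank_conj']

/-- two involutions of `Sp` with the same `rank (x + 1)` are conjugate -/
theorem conj_of_invol (h2 : (2 : F) ≠ 0) (x y : GL (Fin d ⊕ Fin d) F) (hx : x ∈ Cfsg.spGL d F)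
    (hy : y ∈ Cfsg.spGL d F) (hxx : x * x = 1) (hyy : y * y = 1)
    (hrk : ((x : Matrix (Fin d ⊕ Fin d) (Fin d ⊕ Fin d) F) + 1).rank
      = ((y : Matrix (Fin d ⊕ Fin d) (Fin d ⊕ Fin d) F) + 1).rank) :
    ∃ g ∈ Cfsg.spGL d F, g⁻¹ * x * g = y := by
  obtain ⟨g₁, hg₁, t, ht, h1⟩ := exists_conj_dstd h2 x hx hxx
  obtain ⟨g₂, hg₂, t', ht', h1'⟩ := exists_conj_dstd h2 y hy hyy
  have e1 := rank_conj_add_one g₁ x
  have e2 := rank_conj_add_one g₂ y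
  rw [h1, rank_dstd_add_one h2 ht] at e1
  rw [h1', rank_dstd_add_one h2 ht'] at e2
  have htt : t = t' := by omega
  subst htt
  refine ⟨g₁ * g₂⁻¹, (Cfsg.spGL d F).mul_mem hg₁ ((Cfsg.spGL d F).inv_mem hg₂), ?_⟩
  have h3 : g₁⁻¹ * x * g₁ = g₂⁻¹ * y * g₂ := Units.ext (by rw [h1, h1'])
  have h4 : (g₁ * g₂⁻¹)⁻¹ * x * (g₁ * g₂⁻¹) = g₂ * (g₁⁻¹ * x * g₁) * g₂⁻¹ := by group
  rw [h4, h3]
  group

end Cfsg.Agent.Helper45.TspAsm
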