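import Mathlib
import Cfsg.Agent.Helper45.TspAsmC

set_option autoImplicit false
open scoped MatrixGroups

namespace Cfsg.Agent.Helper45.TspAsm

open Matrix Polynomial Cfsg.Geo
open Cfsg.Agent.Helper44.Tens Cfsg.Agent.Helper94 Cfsg.Agent.Helper45.Tsp
open Cfsg.Agent.Helper99.SpStruct Cfsg.Agent.Helper13
open Cfsg.Agent.Helper45.TspSkel
open scoped Kronecker

universe u

variable {F : Type u} [Field F] {a b d : ℕ}

theorem kronGL_one_one : kronGL (1 : GL (Fin a) F) (1 : GL (Fin b) F) = 1 := by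
  apply Units.ext
  rw [coe_kronGL, Units.val_one, Units.val_one, Units.val_one, Matrix.one_kronecker_one]

theorem kronGL_mul (A A' : GL (Fin a) F) (B B' : GL (Fin b) F) :
    kronGL A B * kronGL A' B' = kronGL (A * A') (B * B') := by
  apply Units.ext
  rw [Units.val_mul, coe_kronGL, coe_kronGL, coe_kronGL, Units.val_mul, Units.val_mul,
    Matrix.mul_kronecker_mul]

/-- `tconj` of an element with matrix `-1` has matrix `-1` -/
theorem coe_tconj_neg_one {ι : Type} [Fintype ι] [DecidableEq ι] (e : ι ≃ Fin a × Fin b)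
    (S : GL ι F) (k : GL (Fin a × Fin b) F)
    (hk : (k : Matrix (Fin a × Fin b) (Fin a × Fin b) F) = -1) :
    ((tconj e S k : GL ι F) : Matrix ι ι F) = -1 := by
  rw [coe_tconj, hk]
  have : Matrix.reindex e.symm e.symm (-1 : Matrix (Fin a × Fin b) (Fin a × Fin b) F) = -1 := by
    ext i j
    simp [Matrix.one_apply]
  rw [this, Matrix.mul_neg, Matrix.mul_one, Matrix.neg_mul, coe_mul_inv']

/-- the direction (⇐): for `a = 2` every element of order `2` of `PSp` has a conjugate in the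
tensor product subgroup -/
theorem case_conv [Fintype F] (h2 : (2 : F) ≠ 0) (hd : 2 ≤ d) (hbd : d ≤ b)
    (e : (Fin d ⊕ Fin d) ≃ Fin 2 × Fin b) (P : GL (Fin d ⊕ Fin d) F)
    (f₁ : (Fin 2 → F) → (Fin 2 → F) → F) (f₂ : (Fin b → F) → (Fin b → F) → F)
    (hf₁ : Cfsg.Geo.IsSymplecticForm f₁) (hf₂ : Cfsg.Geo.IsSymmetricForm f₂)
    (hS : Cfsg.Geo.IsTensorFormStructure id (Cfsg.sympForm d F) f₁ f₂ e P)
    (x : GL (Fin d ⊕ Fin d) F) (hx : x ∈ Cfsg.spGL d F) (z : F)
    (hz : ((x ^ 2 : GL (Fin d ⊕ Fin d) F) : Matrix (Fin d ⊕ Fin d) (Fin d ⊕ Fin d) F)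
      = z • (1 : Matrix (Fin d ⊕ Fin d) (Fin d ⊕ Fin d) F)) :
    ∃ g ∈ Cfsg.spGL d F, g⁻¹ * x * g ∈ Cfsg.Geo.tensorProductSubgroup 2 b e P := by
  classical
  have hzz : z * z = 1 :=
    sq_eq_one_of_scalar_mem (by omega) (x ^ 2) ((Cfsg.spGL d F).pow_mem hx 2) z hz
  have hz1 : z = 1 ∨ z = -1 := by
    have : (z - 1) * (z + 1) = 0 := by linear_combination hzz
    rcases mul_eq_zero.mp this with h | h
    · left; exact sub_eq_zero.mp h
    · right; exact eq_neg_of_add_eq_zero_left h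
  rcases hz1 with rfl | rfl
  · -- involutions
    have hxx : x * x = 1 := by
      apply Units.ext
      rw [← pow_two, hz, one_smul, Units.val_one]
    obtain ⟨g₁, hg₁, t, ht, h1⟩ := exists_conj_dstd h2 x hx hxx
    have hrx : ((x : Matrix (Fin d ⊕ Fin d) (Fin d ⊕ Fin d) F) + 1).rank = 2 * t := by
      rw [← rank_conj_add_one g₁ x, h1, rank_dstd_add_one h2 ht]
    obtain ⟨B, hB, hBB, hBr⟩ := exists_orth_invol h2 hf₂ t (ht.trans hbd)
    set y := tconj e P (kronGL (1 : GL (Fin 2) F) B) with hy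
    have hyS : y ∈ Cfsg.spGL d F :=
      tconj_mem_spGL hf₁ hf₂ e P hS 1 B (fun u v => by rw [Units.val_one, Matrix.one_mulVec,
        Matrix.one_mulVec]) hB
    have hyT : y ∈ Cfsg.Geo.tensorProductSubgroup 2 b e P := tconj_kronGL_mem e P 1 B
    have hyy : y * y = 1 := by
      rw [hy, ← map_mul, kronGL_mul, one_mul, hBB, kronGL_one_one, map_one]
    have hry : ((y : Matrix (Fin d ⊕ Fin d) (Fin d ⊕ Fin d) F) + 1).rank = 2 * t := by
      have h3 := tconj_rank e P (kronGL (1 : GL (Fin 2) F) B) (-1 : F)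
      have h4 : ((kronGL (1 : GL (Fin 2) F) B : GL (Fin 2 × Fin b) F) :
          Matrix (Fin 2 × Fin b) (Fin 2 × Fin b) F) - (-1 : F) • 1
          = (1 : Matrix (Fin 2) (Fin 2) F) ⊗ₖ ((B : Matrix (Fin b) (Fin b) F) + 1) := by
        rw [coe_kronGL, Units.val_one, Matrix.kronecker_add, Matrix.one_kronecker_one, neg_smul,
          one_smul, sub_neg_eq_add]
      rw [h4, Cfsg.Agent.Helper12.Tens.rank_one_kronecker, hBr, neg_smul, one_smul,
        sub_neg_eq_add] at h3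
      exact h3
    obtain ⟨g, hg, hgx⟩ := conj_of_invol h2 x y hx hyS hxx hyy (by rw [hrx, hry])
    exact ⟨g, hg, by rw [hgx]; exact hyT⟩
  · -- square `-1`
    have hxx : (x : Matrix (Fin d ⊕ Fin d) (Fin d ⊕ Fin d) F)
        * (x : Matrix (Fin d ⊕ Fin d) (Fin d ⊕ Fin d) F) = -1 := by
      rw [← Units.val_mul, ← pow_two, hz, neg_smul, one_smul]
    obtain ⟨A₀, hAA, hA⟩ := rot_preserves hf₁
    set y := tconj e P (kronGL A₀ (1 : GL (Fin b) F)) with hy
    have hyS : y ∈ Cfsg.spGL d F :=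
      tconj_mem_spGL hf₁ hf₂ e P hS A₀ 1 hA (fun u v => by rw [Units.val_one, Matrix.one_mulVec,
        Matrix.one_mulVec])
    have hyT : y ∈ Cfsg.Geo.tensorProductSubgroup 2 b e P := tconj_kronGL_mem e P A₀ 1
    have hyy : (y : Matrix (Fin d ⊕ Fin d) (Fin d ⊕ Fin d) F)
        * (y : Matrix (Fin d ⊕ Fin d) (Fin d ⊕ Fin d) F) = -1 := by
      rw [← Units.val_mul, hy, ← map_mul, kronGL_mul, one_mul]
      apply coe_tconj_neg_one
      have hneg : (-1 : Matrix (Fin 2) (Fin 2) F) = (-1 : F) • 1 := by rw [neg_smul, one_smul]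
      rw [coe_kronGL, Units.val_mul, hAA, Units.val_one, hneg, Matrix.smul_kronecker,
        Matrix.one_kronecker_one, neg_smul, one_smul]
    obtain ⟨g, hg, hgx⟩ := conj_of_sq_neg_one h2 x y hx hyS hxx hyy
    exact ⟨g, hg, by rw [hgx]; exact hyT⟩

end Cfsg.Agent.Helper45.TspAsm
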