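import Mathlib
import Cfsg.Agent.Helper45.TspAsmD

set_option autoImplicit false
open scoped MatrixGroups

namespace Cfsg.Agent.Helper45.TspAsm

open Matrix Polynomial Cfsg.Geo
open Cfsg.Agent.Helper44.Tens Cfsg.Agent.Helper94 Cfsg.Agent.Helper45.Tsp
open Cfsg.Agent.Helper99.SpStruct Cfsg.Agent.Helper13
open Cfsg.Agent.Helper45.TspSkel
open scoped Kronecker

universe u

variable {F : Type u} [Field F] {a b d : ℕ}

/-- the power trick: an element of prime order `r` is a power of itself with exponent a multiple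
of any `N` prime to `r` -/
theorem exists_pow_eq_self {G : Type*} [Group G] (k : G) {r : ℕ} (hr : r.Prime) (hk : k ^ r = 1)
    (N : ℕ) (hN : ¬ r ∣ N) : ∃ m : ℕ, k ^ (N * m) = k := by
  have hcop : Nat.Coprime N r := ((Nat.Prime.coprime_iff_not_dvd hr).mpr hN).symm
  obtain ⟨m, -, hm⟩ := Nat.exists_mul_mod_eq_one_of_coprime hcop hr.one_lt
  refine ⟨m, ?_⟩
  have h1 : N * m = r * (N * m / r) + 1 := by
    have := Nat.div_add_mod (N * m) r
    omega
  rw [h1, pow_succ, pow_mul, hk, one_pow, one_mul]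

/-- `1 ⊗ M` does not have characteristic polynomial `G (X - 1)^e` -/
theorem charpoly_one_kron_ne (ha2 : 2 ≤ a) {G : F[X]} (hG : G.Separable) (hG1 : G.eval 1 ≠ 0)
    (hGd : 0 < G.natDegree) (e : ℕ) (M : Matrix (Fin b) (Fin b) F) :
    ((1 : Matrix (Fin a) (Fin a) F) ⊗ₖ M).charpoly ≠ G * (X - 1) ^ e := by
  rw [Cfsg.Agent.Helper12.Tens.charpoly_one_kronecker]
  exact (mul_pow_ne_pow_of_squarefree hG.squarefree hG1 hGd e a ha2 M.charpoly).symm

theorem charpoly_kron_one_ne (hb2 : 2 ≤ b) {G : F[X]} (hG : G.Separable) (hG1 : G.eval 1 ≠ 0)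
    (hGd : 0 < G.natDegree) (e : ℕ) (M : Matrix (Fin a) (Fin a) F) :
    (M ⊗ₖ (1 : Matrix (Fin b) (Fin b) F)).charpoly ≠ G * (X - 1) ^ e := by
  rw [charpoly_kronecker_one]
  exact (mul_pow_ne_pow_of_squarefree hG.squarefree hG1 hGd e b hb2 M.charpoly).symm

/-- the numerics of the odd case -/
theorem numerics_odd {a b i c : ℕ} (ha : Even a) (ha2 : 2 ≤ a) (hb : 3 ≤ b) (hi0 : 0 < i)
    (hia : i ≤ a) (hib : i ≤ b) (hc : c = blockSize i) (h1 : a * b - c ≤ a) (h2 : a * b - c ≤ b) :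
    False := by
  have hc2 : c ≤ 2 * i := by
    rw [hc]; unfold blockSize; split_ifs <;> omega
  have h3 : a * b ≤ 3 * a := by omega
  have h4 : a * b ≤ 3 * b := by omega
  have hb3 : b ≤ 3 := by
    have : a * b ≤ a * 3 := by rw [mul_comm a 3]; exact h3
    exact Nat.le_of_mul_le_mul_left this (by omega)
  have ha3 : a ≤ 3 := by
    have : a * b ≤ 3 * b := h4
    exact Nat.le_of_mul_le_mul_right this (by omega)
  have hb' : b = 3 := by omega
  have ha' : a = 2 := by
    obtain ⟨k, hk⟩ := ha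
    omega
  subst hb' ha'
  have hi : i = 1 ∨ i = 2 := by omega
  rcases hi with rfl | rfl
  · have : blockSize 1 = 2 := by unfold blockSize; simp
    omega
  · have : blockSize 2 = 2 := by unfold blockSize; simp
    omega

end Cfsg.Agent.Helper45.TspAsm
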