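import Mathlib
import Cfsg.Agent.Helper99.SpElt
import Cfsg.Agent.Helper13.SpMax1
import Cfsg.Agent.Helper13.SpDec4
import Cfsg.Agent.Helper45.TspPieces

set_option autoImplicit false
set_option linter.unusedSectionVars false
open scoped MatrixGroups

namespace Cfsg.Agent.Helper45.TspEL

open Matrix Polynomial
open Cfsg.Agent.Helper59.InvChain Cfsg.Agent.Helper59.Elusive
open Cfsg.Agent.Helper99.RDecomp Cfsg.Agent.Helper99.SpStruct Cfsg.Agent.Helper99.SpElt
open Cfsg.Agent.Helper43.SpPrime Cfsg.Agent.Helper13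
open Cfsg.Agent.Helper45.TspSkel

universe u

variable {F : Type u} [Field F]

/-- (EL) the test element of odd prime order `r ≠ p` of `Sp_{2d}(F)` with minimal support -/
theorem exists_sp_test_elt [Fintype F] {p : ℕ} [Fact p.Prime] [CharP F p] (d r : ℕ)
    [Fact r.Prime] (hr2 : r ≠ 2) (hrp : r ≠ p)
    (hc : blockSize (orderOf ((Fintype.card F : ℕ) : ZMod r)) ≤ 2 * d) :
    ∃ (x : GL (Fin d ⊕ Fin d) F) (G : F[X]), x ∈ Cfsg.spGL d F ∧ orderOf x = r ∧ G.Separable ∧
      G.eval 1 ≠ 0 ∧ G.natDegree = blockSize (orderOf ((Fintype.card F : ℕ) : ZMod r)) ∧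
      (x : Matrix (Fin d ⊕ Fin d) (Fin d ⊕ Fin d) F).charpoly
        = G * (X - 1) ^ (2 * d - blockSize (orderOf ((Fintype.card F : ℕ) : ZMod r))) := by
  classical
  have hr : r.Prime := Fact.out
  have hp : p.Prime := Fact.out
  have hrF : (r : F) ≠ 0 := natCast_ne_zero_of_ne r hrp
  have hrq : ¬ r ∣ Fintype.card F := by
    intro h
    obtain ⟨n, hpn, hn⟩ := FiniteField.card F p
    rw [hn] at h
    exact hrp ((Nat.prime_dvd_prime_iff_eq hr hp).mp (hr.dvd_of_dvd_pow h))
  set i := orderOf ((Fintype.card F : ℕ) : ZMod r) with hidef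
  have hipos : 0 < i := orderOf_card_pos r hrp
  have hsepX : (X ^ r - 1 : F[X]).Separable := by
    have := Polynomial.separable_X_pow_sub_C (1 : F) hrF one_ne_zero
    simpa using this
  have hnu : ¬ IsUnit (cyclotomic r F) := by
    apply not_isUnit_of_natDegree_pos
    rw [natDegree_cyclotomic, Nat.totient_prime hr]
    have := hr.two_le
    omega
  obtain ⟨P, hPm, hPi, hPd⟩ := exists_monic_irreducible_factor _ hnu
  have hPdeg : P.natDegree = i := (HP_cyclotomic r hrp).2 P hPi hPd
  have hP1 : P.eval 1 ≠ 0 := eval_one_ne_zero_of_dvd_cyclotomic r hrF hPd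
  have hPdvd : P ∣ (X ^ r - 1 : F[X]) := hPd.trans (cyclotomic.dvd_X_pow_sub_one r F)
  have hP0 : P.coeff 0 ≠ 0 := coeff_zero_ne_of_dvd_X_pow_sub_one hr.pos hPdvd
  set e := 2 * d - 1 * blockSize i with he
  -- the block polynomial
  obtain ⟨G, hGm, hGd, hGfac, hG1, hGdvd, hrev⟩ : ∃ G : F[X], G.Monic ∧ G.natDegree = blockSize i ∧
      (∀ Q : F[X], Q.Monic → Irreducible Q → Q ∣ G → Q ∣ (X ^ r - 1 : F[X])) ∧ G.eval 1 ≠ 0 ∧
      G ∣ (X ^ r - 1 : F[X]) ∧
      (Cfsg.Agent.Helper43.SS.PrimePred (2 * d) r (G ^ 1 * (X - 1) ^ e) →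
        (G ^ 1 * (X - 1) ^ e).reverse = G ^ 1 * (X - 1) ^ e) := by
    by_cases hi : Even i
    · refine ⟨P, hPm, by rw [blockSize_even hi, hPdeg], fun Q _ _ hQ => hQ.trans hPdvd, hP1,
        hPdvd, ?_⟩
      intro hpp
      exact reverse_eq_of_even p rfl d r i hr hrp hidef hi hipos hpp
    · have hSm : (star P).Monic := star_monic hP0
      have hSd : (star P).natDegree = i := by rw [natDegree_star hP0, hPdeg]
      have hSS : star (star P) = P := star_star hPm hP0
      have hSdvd : star P ∣ (X ^ r - 1 : F[X]) := by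
        have := star_dvd hPdvd
        rwa [star_X_pow_sub_one hr.pos] at this
      have hS1 : (star P).eval 1 ≠ 0 := by
        intro h0
        have h1 : (X - C 1 : F[X]) ∣ star P := dvd_iff_isRoot.mpr h0
        rw [← X_sub_one_eq] at h1
        have h2 := star_dvd h1
        rw [star_X_sub_one, hSS, X_sub_one_eq, dvd_iff_isRoot] at h2
        exact hP1 h2
      have hne : star P ≠ P :=
        star_ne_self_of_odd hr hr2 hrq hPm hPi hPdvd hP1 (Nat.not_even_iff_odd.mp hi)
      have hSi : Irreducible (star P) := star_irreducible hPm hPi hP0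
      have hcop : IsCoprime P (star P) := by
        rw [hPi.coprime_iff_not_dvd]
        intro hdvd
        exact hne (eq_of_monic_of_associated hSm hPm
          ((hPi.associated_of_dvd hSi hdvd).symm))
      refine ⟨P * star P, hPm.mul hSm, ?_, ?_, ?_, hcop.mul_dvd hPdvd hSdvd, ?_⟩
      · rw [hPm.natDegree_mul hSm, hPdeg, hSd, blockSize_odd hi]; ring
      · intro Q _ hQi hQ
        rcases hQi.prime.dvd_or_dvd hQ with h | h
        · exact h.trans hPdvd
        · exact h.trans hSdvd
      · rw [eval_mul]; exact mul_ne_zero hP1 hS1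
      · intro _
        apply reverse_eq_self_of_star
        · rw [coeff_zero_eq_eval_zero, eval_mul, eval_pow, eval_pow, eval_mul, eval_sub, eval_X,
            eval_one, ← coeff_zero_eq_eval_zero, ← coeff_zero_eq_eval_zero, coeff_zero_star,
            hPm.leadingCoeff, mul_one, mul_inv_cancel₀ hP0, one_pow, one_mul, zero_sub]
          have heven : Even e := by
            rw [he, blockSize_odd hi]
            have h1 : Even (2 * d) := even_two_mul d
            have h2 : Even (1 * (2 * i)) := by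
              rw [mul_left_comm]; exact even_two_mul _
            exact (Nat.even_sub (by rw [← blockSize_odd hi, one_mul]; exact hc)).mpr
              ⟨fun _ => h2, fun _ => h1⟩
          exact heven.neg_one_pow
        · rw [Cfsg.Agent.Helper43.SpPrime.star_mul, Cfsg.Agent.Helper43.SpPrime.star_pow,
            Cfsg.Agent.Helper43.SpPrime.star_pow, Cfsg.Agent.Helper43.SpPrime.star_mul, hSS,
            star_X_sub_one, mul_comm (star P) P]
  have hcpos : 0 < blockSize i := blockSize_pos hipos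
  have hpp : Cfsg.Agent.Helper43.SS.PrimePred (2 * d) r (G ^ 1 * (X - 1) ^ e) :=
    primePred_model r G hGm (blockSize i) hGd hGfac hG1 1 e (2 * d) Nat.one_pos hcpos (by omega)
  have hfrev := hrev hpp
  obtain ⟨hfm, hfd, hfac, hfne⟩ := hpp
  have hsp : SpPrimePred d r (G ^ 1 * (X - 1) ^ e) := ⟨hfm, hfd, hfrev, hfac, hfne⟩
  obtain ⟨x, hxord, hxch⟩ := Cfsg.Agent.Helper43.Lagr.exists_prime_order_charpoly p d r hr hrp _ hsp
  refine ⟨spToGL d F x, G, spToGL_mem_spGL x, ?_, hsepX.of_dvd hGdvd, hG1, hGd, ?_⟩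
  · rw [← hxord]
    apply orderOf_injective (spToGL d F)
    intro u v huv
    apply Subtype.ext
    have := congrArg (fun z : GL (Fin d ⊕ Fin d) F =>
      ((z : GL (Fin d ⊕ Fin d) F) : Matrix (Fin d ⊕ Fin d) (Fin d ⊕ Fin d) F)) huv
    simpa [spToGL_coe] using this
  · rw [spToGL_coe, hxch, pow_one, he, one_mul]

end Cfsg.Agent.Helper45.TspEL
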