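import Mathlib
import Cfsg.Agent.Helper45.TspAsmE
import Cfsg.Agent.Helper45.TspEL

set_option autoImplicit false
open scoped MatrixGroups

namespace Cfsg.Agent.Helper45.TspAsm

open Matrix Polynomial Cfsg.Geo
open Cfsg.Agent.Helper44.Tens Cfsg.Agent.Helper94 Cfsg.Agent.Helper45.Tsp
open Cfsg.Agent.Helper99.SpStruct Cfsg.Agent.Helper13
open Cfsg.Agent.Helper45.TspSkel Cfsg.Agent.Helper45.TspEL
open scoped Kronecker

universe u

variable {F : Type u} [Field F] {a b d : ℕ}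

/-- the case `r` odd, `r ≠ p` -/
theorem case_odd [Fintype F] {p : ℕ} [Fact p.Prime] [CharP F p] (hd : 2 ≤ d)
    (hab : 2 * d = a * b) (ha : Even a) (ha2 : 2 ≤ a) (hb : 3 ≤ b)
    (e : (Fin d ⊕ Fin d) ≃ Fin a × Fin b) (P : GL (Fin d ⊕ Fin d) F)
    (r : ℕ) [Fact r.Prime] (hr2 : r ≠ 2) (hrp : r ≠ p)
    (hdvd : r ∣ Nat.card ↥(Cfsg.spGL d F))
    (H : ∀ x ∈ Cfsg.spGL d F, (∃ z : F, ((x ^ r : GL (Fin d ⊕ Fin d) F) :
        Matrix (Fin d ⊕ Fin d) (Fin d ⊕ Fin d) F)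
          = z • (1 : Matrix (Fin d ⊕ Fin d) (Fin d ⊕ Fin d) F)) →
      (∀ z : F, (x : Matrix (Fin d ⊕ Fin d) (Fin d ⊕ Fin d) F)
        ≠ z • (1 : Matrix (Fin d ⊕ Fin d) (Fin d ⊕ Fin d) F)) →
      ∃ g ∈ Cfsg.spGL d F, g⁻¹ * x * g ∈ Cfsg.Geo.tensorProductSubgroup a b e P) : False := by
  classical
  have hr : r.Prime := Fact.out
  have hp : p.Prime := Fact.out
  have hrF : (r : F) ≠ 0 := by
    intro h0
    rw [CharP.cast_eq_zero_iff F p r] at h0
    exact hrp ((Nat.prime_dvd_prime_iff_eq hp hr).mp h0).symm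
  have hrq : ¬ r ∣ Fintype.card F := by
    intro h
    obtain ⟨n, hpn, hn⟩ := FiniteField.card F p
    rw [hn] at h
    exact hrp ((Nat.prime_dvd_prime_iff_eq hr hp).mp (hr.dvd_of_dvd_pow h))
  set i := orderOf ((Fintype.card F : ℕ) : ZMod r) with hidef
  have hi0 : 0 < i := Cfsg.Agent.Helper99.RDecomp.orderOf_card_pos r hrp
  have hc2d : blockSize i ≤ 2 * d := blockSize_le_of_dvd_card_sp hr hrq hdvd
  obtain ⟨x, G, hx, hxo, hGs, hG1, hGd, hxch⟩ := exists_sp_test_elt (F := F) d r hr2 hrp hc2d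
  have hGd0 : 0 < G.natDegree := by rw [hGd]; exact blockSize_pos hi0
  have hxr : x ^ r = 1 := by rw [← hxo]; exact pow_orderOf_eq_one x
  -- `x` is not scalar
  have hxns : ∀ z : F, (x : Matrix (Fin d ⊕ Fin d) (Fin d ⊕ Fin d) F)
      ≠ z • (1 : Matrix (Fin d ⊕ Fin d) (Fin d ⊕ Fin d) F) := by
    intro z hz
    have hzz := sq_eq_one_of_scalar_mem (by omega) x hx z hz
    have hxx : x ^ 2 = 1 := by
      apply Units.ext
      rw [pow_two, Units.val_mul, hz, Matrix.smul_mul, Matrix.one_mul, smul_smul, hzz, one_smul,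
        Units.val_one]
    have h1 : r ∣ 2 := by rw [← hxo]; exact orderOf_dvd_of_pow_eq_one hxx
    exact hr2 ((Nat.prime_dvd_prime_iff_eq hr Nat.prime_two).mp h1)
  obtain ⟨g, -, hg⟩ := H x hx ⟨1, by rw [hxr, Units.val_one, one_smul]⟩ hxns
  obtain ⟨A, B, hAB⟩ := exists_tconj_of_conj_mem e P x g hg
  set k := kronGL A B with hk
  have hko : orderOf k = r := by rw [← hxo, hAB, orderOf_tconj]
  have hkr : k ^ r = 1 := by rw [← hko]; exact pow_orderOf_eq_one k
  set ee := 2 * d - blockSize i with hee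
  have hkch : ((A : Matrix (Fin a) (Fin a) F) ⊗ₖ (B : Matrix (Fin b) (Fin b) F)).charpoly
      = G * (X - 1) ^ ee := by
    rw [← hxch, hAB, tconj_charpoly, coe_kronGL]
  -- `A ^ r`, `B ^ r` scalar
  have hkr' : ((A ^ r : GL (Fin a) F) : Matrix (Fin a) (Fin a) F)
      ⊗ₖ ((B ^ r : GL (Fin b) F) : Matrix (Fin b) (Fin b) F) = 1 := by
    have := congrArg (fun z : GL (Fin a × Fin b) F =>
      ((z : GL (Fin a × Fin b) F) : Matrix (Fin a × Fin b) (Fin a × Fin b) F)) hkr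
    simp only [hk, kronGL_pow, coe_kronGL, Units.val_one] at this
    exact this
  obtain ⟨s, t, hAs, hBt, hst⟩ := scalar_of_kronecker_eq_one (by omega) (by omega) _ _ hkr'
  rw [Units.val_pow_eq_pow_val] at hAs hBt
  have hs0 : s ≠ 0 := left_ne_zero_of_mul_eq_one hst
  have ht0 : t ≠ 0 := right_ne_zero_of_mul_eq_one hst
  -- `r` divides `|GL_a|`
  have hra : r ∣ Nat.card (GL (Fin a) F) := by
    by_contra hN
    obtain ⟨m, hm⟩ := exists_pow_eq_self k hr hkr _ hN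
    have hA1 : A ^ (Nat.card (GL (Fin a) F) * m) = 1 := by
      rw [pow_mul, pow_card_eq_one', one_pow]
    have h1 : k = kronGL 1 (B ^ (Nat.card (GL (Fin a) F) * m)) := by
      rw [← hA1, ← kronGL_pow, hm]
    have h2 := congrArg (fun z : GL (Fin a × Fin b) F =>
      ((z : GL (Fin a × Fin b) F) : Matrix (Fin a × Fin b) (Fin a × Fin b) F)) h1
    simp only [hk, coe_kronGL, Units.val_one] at h2
    rw [h2] at hkch
    exact charpoly_one_kron_ne ha2 hGs hG1 hGd0 ee _ hkch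
  have hrb : r ∣ Nat.card (GL (Fin b) F) := by
    by_contra hN
    obtain ⟨m, hm⟩ := exists_pow_eq_self k hr hkr _ hN
    have hB1 : B ^ (Nat.card (GL (Fin b) F) * m) = 1 := by
      rw [pow_mul, pow_card_eq_one', one_pow]
    have h1 : k = kronGL (A ^ (Nat.card (GL (Fin b) F) * m)) 1 := by
      rw [← hB1, ← kronGL_pow, hm]
    have h2 := congrArg (fun z : GL (Fin a × Fin b) F =>
      ((z : GL (Fin a × Fin b) F) : Matrix (Fin a × Fin b) (Fin a × Fin b) F)) h1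
    simp only [hk, coe_kronGL, Units.val_one] at h2
    rw [h2] at hkch
    exact charpoly_kron_one_ne (by omega) hGs hG1 hGd0 ee _ hkch
  have hia : i ≤ a := orderOf_le_of_dvd_card_gl hr hrq hra
  have hib : i ≤ b := orderOf_le_of_dvd_card_gl hr hrq hrb
  -- `A`, `B` are not scalar
  have hAns : ∀ α : F, (A : Matrix (Fin a) (Fin a) F) ≠ α • (1 : Matrix (Fin a) (Fin a) F) := by
    intro α hα
    rw [hα, Matrix.smul_kronecker, ← Matrix.kronecker_smul] at hkch
    exact charpoly_one_kron_ne ha2 hGs hG1 hGd0 ee _ hkch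
  have hBns : ∀ β : F, (B : Matrix (Fin b) (Fin b) F) ≠ β • (1 : Matrix (Fin b) (Fin b) F) := by
    intro β hβ
    rw [hβ, Matrix.kronecker_smul, ← Matrix.smul_kronecker] at hkch
    exact charpoly_kron_one_ne (by omega) hGs hG1 hGd0 ee _ hkch
  obtain ⟨h1, h2⟩ := fix_le_of_kronecker (A : Matrix (Fin a) (Fin a) F)
    (B : Matrix (Fin b) (Fin b) F) r hrF hs0 ht0 hAs hBt hAns hBns hGs hG1 ee hkch
  rw [hee, hab] at h1 h2
  exact numerics_odd ha ha2 hb hi0 hia hib rfl h1 h2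

end Cfsg.Agent.Helper45.TspAsm
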