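import Mathlib
import Cfsg.Prelude.Def_GeometricClasses
import Cfsg.Agent.Helper45.UnInSL

/-!
# `GU_n ∩ SL_n` is maximal in `SL_n`: the dichotomy and the assembly
-/

set_option autoImplicit false

namespace Cfsg.Agent.Helper45.UnInSL

open Cfsg.Geo Matrix Module Cfsg.Agent.Helper93

variable {F : Type*} [Field F] [Fintype F] {n : ℕ} {σ : F ≃+* F}
variable {f : (Fin n → F) → (Fin n → F) → F} (hf : IsUnitaryForm σ f)

include hf

/-- first half, step 1 -/
theorem perp_le_eSub (hn : 13 ≤ n) {M : Subgroup (Matrix.GeneralLinearGroup (Fin n) F)}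
    (hM : similarityGroup f ⊓ specialLinear (Fin n) F ≤ M) {v w₀ : Fin n → F}
    (hw₀ : w₀ ∈ eSet hf M v) (hw₀v : w₀ ∉ Submodule.span F {v}) :
    perp hf (Submodule.span F {v, w₀}) ≤ eSub hf M v := by
  have hd := finrank_span_pair_le v w₀
  apply perp_le_of_isotropic hf _ (by omega)
  intro y hyS hyy hynS
  rw [mem_perp_span] at hyS
  have hyv : f y v = 0 := hyS v (by simp)
  have hyw₀ : f y w₀ = 0 := hyS w₀ (by simp)
  have hw₀' : w₀ ∉ Submodule.span F {v, y} := by
    intro hmem
    obtain ⟨α, β, h⟩ := Submodule.mem_span_pair.1 hmem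
    by_cases hβ : β = 0
    · apply hw₀v
      rw [← h, hβ, zero_smul, add_zero]
      exact Submodule.smul_mem _ _ (Submodule.mem_span_singleton_self v)
    · apply hynS
      have : y = β⁻¹ • (w₀ - α • v) := by
        rw [← h, add_sub_cancel_left, smul_smul, inv_mul_cancel₀ hβ, one_smul]
      rw [this]
      apply Submodule.smul_mem
      apply Submodule.sub_mem
      · exact Submodule.subset_span (by simp)
      · exact Submodule.smul_mem _ _ (Submodule.subset_span (by simp))
  have hd' := finrank_span_pair_le v y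
  obtain ⟨w, hwS, hww, hww₀⟩ := exists_isotropic hf (Submodule.span F {v, y}) (by omega) hw₀'
  rw [mem_perp_span] at hwS
  have hwv : f w v = 0 := hwS v (by simp)
  have hwy : f w y = 0 := hwS y (by simp)
  exact sg_move hf hM hw₀ hyy hww (f_eq_zero_symm hf hwy) (f_eq_zero_symm hf hyv)
    (f_eq_zero_symm hf hwv) (f_eq_zero_symm hf hyw₀)
    (fun h => hww₀ (f_eq_zero_symm hf h))

/-- first half, step 2 -/
theorem mem_eSub_of_orth (hn : 13 ≤ n) {M : Subgroup (Matrix.GeneralLinearGroup (Fin n) F)}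
    (hM : similarityGroup f ⊓ specialLinear (Fin n) F ≤ M) {v w₀ : Fin n → F}
    (hw₀ : w₀ ∈ eSet hf M v) (hw₀v : w₀ ∉ Submodule.span F {v}) {x : Fin n → F}
    (hx : f x v = 0) : x ∈ eSub hf M v := by
  by_cases hxw : f x w₀ = 0
  · apply perp_le_eSub hf hn hM hw₀ hw₀v
    rw [mem_perp_span]
    intro y hy
    rcases hy with rfl | rfl
    · exact hx
    · exact hxw
  · have hd1 := finrank_span_triple_le v w₀ x
    have hd2 := finrank_span_pair_le v w₀
    obtain ⟨w₁, hw₁S, hw₁n⟩ := exists_mem_perp_not_mem hf (Submodule.span F {v, w₀, x})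
      (Submodule.span F {v, w₀}) (by omega)
    rw [mem_perp_span] at hw₁S
    have h1 : f w₁ v = 0 := hw₁S v (by simp)
    have h2 : f w₁ w₀ = 0 := hw₁S w₀ (by simp)
    have h3 : f w₁ x = 0 := hw₁S x (by simp)
    have hw₁E : w₁ ∈ eSub hf M v := by
      apply perp_le_eSub hf hn hM hw₀ hw₀v
      rw [mem_perp_span]
      intro y hy
      rcases hy with rfl | rfl
      · exact h1
      · exact h2
    have hw₁v : w₁ ∉ Submodule.span F {v} := by
      intro hmem
      apply hw₁n
      exact Submodule.span_mono (by simp) hmem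
    apply perp_le_eSub hf hn hM (mem_eSet_of_mem_eSub hf hw₁E) hw₁v
    rw [mem_perp_span]
    intro y hy
    rcases hy with rfl | rfl
    · exact hx
    · exact f_eq_zero_symm hf h3

/-- first half, step 3: a non-trivial `eSet` puts `v` in `dirSub M` -/
theorem mem_dirSub_of_eSet (hn : 13 ≤ n) {M : Subgroup (Matrix.GeneralLinearGroup (Fin n) F)}
    (hM : similarityGroup f ⊓ specialLinear (Fin n) F ≤ M) {v w₀ : Fin n → F}
    (hw₀ : w₀ ∈ eSet hf M v) (hw₀v : w₀ ∉ Submodule.span F {v}) : v ∈ dirSub M := by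
  rw [mem_dirSub]
  intro φ h
  obtain ⟨w, rfl⟩ := exists_fd_eq hf φ
  have hwv : f w v = 0 := f_eq_zero_symm hf h
  obtain ⟨h', hm⟩ := mem_eSet_of_mem_eSub hf (mem_eSub_of_orth hf hn hM hw₀ hw₀v hwv)
  exact hm

/-- first half, step 4: `dirSub M` is everything once it is non-zero -/
theorem dirSub_eq_top_of_ne_bot (hn : 13 ≤ n)
    {M : Subgroup (Matrix.GeneralLinearGroup (Fin n) F)}
    (hM : similarityGroup f ⊓ specialLinear (Fin n) F ≤ M) {v : Fin n → F} (hv : v ≠ 0)
    (hvD : v ∈ dirSub M) : dirSub M = ⊤ := by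
  have step : ∀ v : Fin n → F, v ≠ 0 → v ∈ dirSub M →
      perp hf (Submodule.span F {v}) ≤ dirSub M := by
    intro v hv hvD
    have hd := finrank_span_singleton_le_one v
    apply perp_le_of_isotropic hf _ (by omega)
    intro y hyS hyy hynS
    rw [mem_perp_span] at hyS
    have hyv : f y v = 0 := hyS v (by simp)
    have hvy : v ∉ Submodule.span F {y} := by
      intro hmem
      obtain ⟨c, hc⟩ := Submodule.mem_span_singleton.1 hmem
      have hc0 : c ≠ 0 := by
        rintro rfl
        rw [zero_smul] at hc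
        exact hv hc.symm
      apply hynS
      have : y = c⁻¹ • v := by rw [← hc, smul_smul, inv_mul_cancel₀ hc0, one_smul]
      rw [this]
      exact Submodule.smul_mem _ _ (Submodule.mem_span_singleton_self v)
    have hd' := finrank_span_singleton_le_one y
    obtain ⟨w, hwS, hww, hwv⟩ := exists_isotropic hf (Submodule.span F {y}) (by omega) hvy
    rw [mem_perp_span] at hwS
    have hwy : f w y = 0 := hwS y (by simp)
    have hvw : f v w ≠ 0 := fun h => hwv (f_eq_zero_symm hf h)
    have hyw : f y w = 0 := f_eq_zero_symm hf hwy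
    have hmem := dirSet_map hvD (hM (sg_mem hf y w (1 / f v w) hyw hyy hww))
    rw [sg_mulVec, f_eq_zero_symm hf hyv, div_mul_cancel₀ _ hvw, mul_zero, zero_smul, sub_zero,
      one_smul] at hmem
    have := (dirSub M).sub_mem hmem hvD
    rwa [add_sub_cancel_left] at this
  rw [eq_top_iff]
  intro x _
  have hd := finrank_span_pair_le v x
  obtain ⟨y, hyS, hy0⟩ := exists_mem_perp_not_mem hf (Submodule.span F {v, x}) ⊥
    (by rw [finrank_bot]; omega)
  rw [mem_perp_span] at hyS
  have hyv : f y v = 0 := hyS v (by simp)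
  have hyx : f y x = 0 := hyS x (by simp)
  have hy0' : y ≠ 0 := by simpa using hy0
  have hyD : y ∈ dirSub M := by
    apply step v hv hvD
    rw [mem_perp_span]
    intro z hz
    rw [Set.mem_singleton_iff] at hz
    rw [hz]
    exact hyv
  apply step y hy0' hyD
  rw [mem_perp_span]
  intro z hz
  rw [Set.mem_singleton_iff] at hz
  rw [hz]
  exact f_eq_zero_symm hf hyx

/-- **dichotomy, second half**: if every `eSet M v` is contained in `F v` then `M` consists of
similarities -/
theorem le_similarityGroup (hn : 13 ≤ n) {M : Subgroup (Matrix.GeneralLinearGroup (Fin n) F)}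
    (hM : similarityGroup f ⊓ specialLinear (Fin n) F ≤ M)
    (htriv : ∀ v : Fin n → F, v ≠ 0 → ∀ w ∈ eSet hf M v, w ∈ Submodule.span F {v}) :
    M ≤ similarityGroup f := by
  intro g hgM
  obtain ⟨c₀, hc₀, hσc₀⟩ := exists_skew hf
  -- E1
  have E1 : ∀ v : Fin n → F, v ≠ 0 → f v v = 0 → ∃ l : F, ∀ y : Fin n → F,
      f y v = l * f ((g : Matrix (Fin n) (Fin n) F).mulVec y)
        ((g : Matrix (Fin n) (Fin n) F).mulVec v) := by
    intro v hv hvv
    obtain ⟨w, hw⟩ := exists_fd_eq hf (dualPull (fd hf (σ c₀ • v)) g⁻¹)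
    have hgv : (g : Matrix (Fin n) (Fin n) F).mulVec v ≠ 0 := by
      intro h0
      apply hv
      rw [← gl_inv_mulVec' g v, h0, Matrix.mulVec_zero]
    have hwx : ∀ x : Fin n → F, f ((g : Matrix (Fin n) (Fin n) F).mulVec x) w = c₀ * f x v := by
      intro x
      have h3 : dualPull (fd hf (σ c₀ • v)) g⁻¹ ((g : Matrix (Fin n) (Fin n) F).mulVec x)
          = fd hf w ((g : Matrix (Fin n) (Fin n) F).mulVec x) := by rw [hw]
      rw [dualPull_apply, gl_inv_mulVec', fd_apply, fd_apply, f_smul_right hf,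
        sigma_sigma hf] at h3
      exact h3.symm
    have hwE : w ∈ eSet hf M ((g : Matrix (Fin n) (Fin n) F).mulVec v) := by
      have h : fd hf w ((g : Matrix (Fin n) (Fin n) F).mulVec v) = 0 := by
        rw [fd_apply, hwx, hvv, mul_zero]
      refine ⟨h, ?_⟩
      rw [tv_conj g (fd hf w) v h]
      have e : dualPull (fd hf w) g = fd hf (σ c₀ • v) := by
        apply LinearMap.ext
        intro x
        rw [dualPull_apply, fd_apply, hwx, fd_apply, f_smul_right hf, sigma_sigma hf]
      have h2 : tv (dualPull (fd hf w) g) v (by rw [dualPull_apply]; exact h) = ut hf v c₀ hvv :=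
        tv_congr' e v _ _
      rw [h2]
      exact M.mul_mem (M.mul_mem hgM (hM (ut_mem hf v c₀ hvv hσc₀))) (M.inv_mem hgM)
    obtain ⟨l, hl⟩ := Submodule.mem_span_singleton.1 (htriv _ hgv w hwE)
    refine ⟨c₀⁻¹ * σ l, fun y => ?_⟩
    have h4 := hwx y
    rw [← hl, f_smul_right hf] at h4
    rw [mul_assoc, h4, ← mul_assoc, inv_mul_cancel₀ hc₀, one_mul]
  choose! lam hlam using E1
  have hlam0 : ∀ v : Fin n → F, v ≠ 0 → f v v = 0 → lam v ≠ 0 := by
    intro v hv hvv h0
    obtain ⟨⟨x, hx⟩, -⟩ := hf.nondegenerate v hv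
    apply hx
    rw [hlam v hv hvv x, h0, zero_mul]
  have E2 : ∀ u v : Fin n → F, u ≠ 0 → v ≠ 0 → f u u = 0 → f v v = 0 → f u v ≠ 0 →
      lam v = σ (lam u) := by
    intro u v hu hv huu hvv huv
    have h1 := hlam v hv hvv u
    have h2 := hlam u hu huu v
    have h2' : f u v = σ (lam u) * f ((g : Matrix (Fin n) (Fin n) F).mulVec u)
        ((g : Matrix (Fin n) (Fin n) F).mulVec v) := by
      rw [f_herm hf u v, h2, map_mul, ← f_herm hf]
    have h3 : f ((g : Matrix (Fin n) (Fin n) F).mulVec u)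
        ((g : Matrix (Fin n) (Fin n) F).mulVec v) ≠ 0 := by
      intro h0
      apply huv
      rw [h1, h0, mul_zero]
    have h4 : (lam v - σ (lam u)) * f ((g : Matrix (Fin n) (Fin n) F).mulVec u)
        ((g : Matrix (Fin n) (Fin n) F).mulVec v) = 0 := by linear_combination h2' - h1
    exact sub_eq_zero.1 ((mul_eq_zero.1 h4).resolve_right h3)
  have E3 : ∀ u v : Fin n → F, u ≠ 0 → v ≠ 0 → f u u = 0 → f v v = 0 → lam u = lam v := by
    intro u v hu hv huu hvv
    obtain ⟨y, hyy, hyu, hyv⟩ := exists_isotropic_both hf (by omega) hu hv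
    have hy0 : y ≠ 0 := by
      rintro rfl
      exact hyu (f_zero_left hf u)
    rw [E2 y u hy0 hu hyy huu hyu, E2 y v hy0 hv hyy hvv hyv]
  -- a non-zero isotropic vector
  obtain ⟨v₀, hv₀, hv₀v₀⟩ : ∃ v₀ : Fin n → F, v₀ ≠ 0 ∧ f v₀ v₀ = 0 := by
    have he : (Pi.single (⟨0, by omega⟩ : Fin n) (1 : F) : Fin n → F) ≠ 0 := by
      intro h
      have := congrFun h ⟨0, by omega⟩
      rw [Pi.single_eq_same, Pi.zero_apply] at this
      exact one_ne_zero this
    obtain ⟨u, -, huu, hu⟩ := exists_isotropic hf ⊥ (by rw [finrank_bot]; omega)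
      (w₀ := Pi.single (⟨0, by omega⟩ : Fin n) (1 : F)) (by simpa using he)
    refine ⟨u, ?_, huu⟩
    rintro rfl
    exact hu (f_zero_left hf _)
  -- the subspace of good `v`
  let W : Submodule F (Fin n → F) :=
    { carrier := {v | ∀ y : Fin n → F, f y v = lam v₀ * f ((g : Matrix (Fin n) (Fin n) F).mulVec y)
        ((g : Matrix (Fin n) (Fin n) F).mulVec v)}
      zero_mem' := fun y => by
        show f y 0 = _
        rw [Matrix.mulVec_zero, f_zero_right hf, f_zero_right hf, mul_zero]
      add_mem' := fun {a b} ha hb y => by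
        show f y (a + b) = _
        rw [Matrix.mulVec_add, f_add_right hf, f_add_right hf, ha y, hb y, mul_add]
      smul_mem' := fun c a ha y => by
        show f y (c • a) = _
        rw [Matrix.mulVec_smul, f_smul_right hf, f_smul_right hf, ha y]
        ring }
  have hW : perp hf ⊥ ≤ W := by
    apply perp_le_of_isotropic hf ⊥ (by rw [finrank_bot]; omega)
    intro y _ hyy hy0 z
    have hy0' : y ≠ 0 := by simpa using hy0
    rw [hlam y hy0' hyy z, E3 y v₀ hy0' hv₀ hyy hv₀v₀]
  refine ⟨Units.mk0 (lam v₀)⁻¹ (inv_ne_zero (hlam0 _ hv₀ hv₀v₀)), fun u v => ?_⟩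
  rw [Units.val_mk0]
  have hv : v ∈ W := hW (by
    rw [mem_perp]
    intro s hs
    rw [Submodule.mem_bot] at hs
    rw [hs, f_zero_right hf])
  rw [hv u, ← mul_assoc, inv_mul_cancel₀ (hlam0 _ hv₀ hv₀v₀), one_mul]

/-- some transvection is not a similarity -/
theorem exists_sl_not_similarity (hn : 3 ≤ n) :
    ∃ g ∈ specialLinear (Fin n) F, g ∉ similarityGroup f := by
  have hv₀ : (Pi.single (⟨0, by omega⟩ : Fin n) (1 : F) : Fin n → F) ≠ 0 := by
    intro h
    have := congrFun h ⟨0, by omega⟩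
    rw [Pi.single_eq_same, Pi.zero_apply] at this
    exact one_ne_zero this
  set v : Fin n → F := Pi.single (⟨0, by omega⟩ : Fin n) (1 : F) with hvdef
  have hd := finrank_span_singleton_le_one v
  obtain ⟨w, hwS, hwn⟩ := exists_mem_perp_not_mem hf (Submodule.span F {v})
    (Submodule.span F {v}) (by omega)
  rw [mem_perp_span] at hwS
  have hwv : f w v = 0 := hwS v (by simp)
  have h : fd hf w v = 0 := f_eq_zero_symm hf hwv
  refine ⟨tv (fd hf w) v h, tv_mem_sl _ _ _, ?_⟩
  rintro ⟨μ, hμ⟩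
  have hvw : v ∉ Submodule.span F {w} := by
    intro hmem
    obtain ⟨c, hc⟩ := Submodule.mem_span_singleton.1 hmem
    have hc0 : c ≠ 0 := by
      rintro rfl
      rw [zero_smul] at hc
      exact hv₀ hc.symm
    apply hwn
    have : w = c⁻¹ • v := by rw [← hc, smul_smul, inv_mul_cancel₀ hc0, one_smul]
    rw [this]
    exact Submodule.smul_mem _ _ (Submodule.mem_span_singleton_self v)
  obtain ⟨x, hxS, hxv⟩ := exists_mem_perp_ne hf (Submodule.span F {w}) hvw
  rw [mem_perp_span] at hxS
  have hxw : f x w = 0 := hxS w (by simp)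
  have key : ∀ y : Fin n → F, f (((μ : F) - 1) • x - f x v • w) y = 0 := by
    intro y
    have h1 := hμ x y
    rw [tv_mulVec, tv_mulVec, fd_apply, fd_apply, hxw, zero_smul, add_zero, f_add_right hf,
      f_smul_right hf, ← f_herm hf w y] at h1
    rw [f_sub_left hf, f_smul_left hf, f_smul_left hf]
    linear_combination (-1 : F) * h1
  have h0 : ((μ : F) - 1) • x - f x v • w = 0 := by
    by_contra hne
    obtain ⟨-, ⟨y, hy⟩⟩ := hf.nondegenerate _ hne
    exact hy (key y)
  have h2 : f (((μ : F) - 1) • x - f x v • w) v = 0 := by rw [h0, f_zero_left hf]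
  rw [f_sub_left hf, f_smul_left hf, f_smul_left hf, hwv, mul_zero, sub_zero] at h2
  have hμ1 : (μ : F) - 1 = 0 := (mul_eq_zero.1 h2).resolve_right hxv
  rw [hμ1, zero_smul, zero_sub, neg_eq_zero] at h0
  apply hwn
  have hw0 : w = 0 := (smul_eq_zero.1 h0).resolve_left hxv
  rw [hw0]
  exact Submodule.zero_mem _

/-- **`GU_n(F) ∩ SL_n(F)` (similarities of a unitary form) is a maximal subgroup of `SL_n(F)`.** -/
theorem un_isMaximalIn_sl (hn : 13 ≤ n) :
    IsMaximalIn (specialLinear (Fin n) F) (similarityGroup f ⊓ specialLinear (Fin n) F) := by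
  have : Nontrivial (Fin n) := Fin.nontrivial_iff_two_le.mpr (by omega)
  refine ⟨lt_of_le_of_ne inf_le_right fun heq => ?_, fun M hPM hMS => ?_⟩
  · obtain ⟨g, hg, hgs⟩ := exists_sl_not_similarity hf (by omega)
    rw [← heq] at hg
    exact hgs hg.1
  · by_cases hE : ∃ v : Fin n → F, v ≠ 0 ∧ ∃ w ∈ eSet hf M v, w ∉ Submodule.span F {v}
    · right
      obtain ⟨v, hv, w, hw, hwv⟩ := hE
      exact le_antisymm hMS
        (sl_le_of_dirSub_eq_top (dirSub_eq_top_of_ne_bot hf hn hPM hv
          (mem_dirSub_of_eSet hf hn hPM hw hwv)))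
    · left
      push Not at hE
      exact le_antisymm
        (le_inf (le_similarityGroup hf hn hPM (fun v hv w hw => hE v hv w hw)) hMS) hPM

end Cfsg.Agent.Helper45.UnInSL
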